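import Cfsg.Agent.StdLThreeFour.Base
import Cfsg.Agent.StdL34.PslCent

/-!
# Standard components `L3(4)`: the Sylow 2-subgroup of `PSL(3,4)`
-/

set_option autoImplicit false
set_option linter.constructorNameAsVariable false
set_option linter.unusedVariables false

namespace Cfsg.Agent.StdLThreeFour.Facts1

open Subgroup
open Cfsg.Agent.SporadicA.FieldFour
open Cfsg.Agent.ONType.Psl
open Cfsg.Agent.ONType.PslCard
open Cfsg.Agent.StdL34.PslCent
open Cfsg.Agent.StdLThreeFour.Base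

theorem e_inj {a b c a' b' c' : F4} (h : e a b c = e a' b' c') : a = a' ∧ b = b' ∧ c = c' := t_inj h

theorem e_mem (a b c : F4) : e a b c ∈ S0 := ⟨a, b, c, rfl⟩

theorem eA_false (u c : F4) : e u 0 c ∈ A false := ⟨u, c, rfl⟩

theorem eA_true (u c : F4) : e 0 u c ∈ A true := ⟨u, c, rfl⟩

theorem e_one {a b c : F4} (h : e a b c = 1) : a = 0 ∧ b = 0 ∧ c = 0 := by
  rw [← e_zero] at h
  exact e_inj h

theorem card_F4 : Nat.card F4 = 4 := by
  rw [Nat.card_eq_fintype_card]; rfl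

theorem card_S0 : Nat.card S0 = 64 := by
  have h : Nat.card (F4 × F4 × F4) = Nat.card S0 := by
    refine Nat.card_congr (Equiv.ofBijective
      (fun x : F4 × F4 × F4 => (⟨e x.1 x.2.1 x.2.2, e_mem _ _ _⟩ : S0)) ⟨?_, ?_⟩)
    · rintro ⟨a, b, c⟩ ⟨a', b', c'⟩ h
      obtain ⟨rfl, rfl, rfl⟩ := e_inj (congrArg Subtype.val h)
      rfl
    · rintro ⟨_, a, b, c, rfl⟩
      exact ⟨(a, b, c), rfl⟩
  rw [← h, Nat.card_prod, Nat.card_prod, card_F4]

theorem card_Z0 : Nat.card Z0 = 4 := by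
  have h : Nat.card F4 = Nat.card Z0 := by
    refine Nat.card_congr (Equiv.ofBijective
      (fun x : F4 => (⟨e 0 0 x, x, rfl⟩ : Z0)) ⟨?_, ?_⟩)
    · intro c c' h
      exact (e_inj (congrArg Subtype.val h)).2.2
    · rintro ⟨_, c, rfl⟩
      exact ⟨c, rfl⟩
  rw [← h, card_F4]

theorem card_A (j : Bool) : Nat.card (A j) = 16 := by
  have h : Nat.card (F4 × F4) = Nat.card (A j) := by
    refine Nat.card_congr (Equiv.ofBijective
      (fun x : F4 × F4 => (⟨if j then e 0 x.1 x.2 else e x.1 0 x.2, x.1, x.2, rfl⟩ : A j)) ⟨?_, ?_⟩)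
    · rintro ⟨u, c⟩ ⟨u', c'⟩ h
      have h1 := congrArg Subtype.val h
      cases j
      · obtain ⟨h2, -, h3⟩ := e_inj (show e u 0 c = e u' 0 c' from h1)
        rw [h2, h3]
      · obtain ⟨-, h2, h3⟩ := e_inj (show e 0 u c = e 0 u' c' from h1)
        rw [h2, h3]
    · rintro ⟨_, u, c, rfl⟩
      exact ⟨(u, c), rfl⟩
  rw [← h, Nat.card_prod, card_F4]

theorem index_S0 : S0.index = 315 := by
  have h := Subgroup.card_mul_index S0
  rw [card_S0, card_PSL3] at h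
  omega

theorem Z0_le (j : Bool) : Z0 ≤ A j := by
  rintro _ ⟨c, rfl⟩
  cases j
  · exact eA_false 0 c
  · exact eA_true 0 c

theorem A_le (j : Bool) : A j ≤ S0 := by
  rintro _ ⟨u, c, rfl⟩
  cases j
  · exact e_mem u 0 c
  · exact e_mem 0 u c

theorem Z0_le_S0 : Z0 ≤ S0 := (Z0_le false).trans (A_le false)

theorem mem_A_iff {j : Bool} {a b c : F4} : e a b c ∈ A j ↔ (if j then a = 0 else b = 0) := by
  cases j
  · constructor
    · rintro ⟨u, c', h⟩
      exact (e_inj (show e a b c = e u 0 c' from h)).2.1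
    · intro h
      have : b = 0 := h
      subst this
      exact eA_false a c
  · constructor
    · rintro ⟨u, c', h⟩
      exact (e_inj (show e a b c = e 0 u c' from h)).1
    · intro h
      have : a = 0 := h
      subst this
      exact eA_true b c

theorem mem_Z0_iff {a b c : F4} : e a b c ∈ Z0 ↔ a = 0 ∧ b = 0 := by
  constructor
  · rintro ⟨c', h⟩
    exact ⟨(e_inj h).1, (e_inj h).2.1⟩
  · rintro ⟨rfl, rfl⟩
    exact ⟨c, rfl⟩

theorem A_inf : A false ⊓ A true = Z0 := by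
  apply le_antisymm
  · rintro g ⟨⟨u, c, hg⟩, h2⟩
    have hg : g = e u 0 c := hg
    subst hg
    have h3 : u = 0 := mem_A_iff.1 h2
    exact mem_Z0_iff.2 ⟨h3, rfl⟩
  · exact le_inf (Z0_le false) (Z0_le true)

theorem e_split (a b c : F4) : e a b c = e a 0 c * e 0 b 0 := by
  rw [e_mul]
  have h : ∀ a b c : F4, a = a + 0 ∧ b = 0 + b ∧ c = 0 * 0 + c + 0 := by decide
  rw [← (h a b c).1, ← (h a b c).2.1, ← (h a b c).2.2]

theorem A_sup : A false ⊔ A true = S0 := by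
  apply le_antisymm
  · exact sup_le (A_le false) (A_le true)
  · rintro _ ⟨a, b, c, rfl⟩
    rw [e_split]
    exact mul_mem (le_sup_left (a := A false) (eA_false a c)) (le_sup_right (a := A false) (eA_true b 0))

theorem e_sq (a b c : F4) : e a b c * e a b c = e 0 0 (a * b) := by
  rw [e_mul]
  have h : ∀ a b c : F4, a + a = 0 ∧ b + b = 0 ∧ a * b + c + c = a * b := by decide
  rw [(h a b c).1, (h a b c).2.1, (h a b c).2.2]

theorem e_comm (a b c a' b' c' : F4) :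
    e a b c * e a' b' c' * (e a b c)⁻¹ * (e a' b' c')⁻¹ = e 0 0 (a' * b + a * b') := by
  rw [e_inv, e_inv, e_mul, e_mul, e_mul]
  have h : ∀ a b c a' b' c' : F4, a + a' + a + a' = 0 ∧ b + b' + b + b' = 0 := by decide
  have h1 : a + a' + a + a' = 0 := (h a b c a' b' c').1
  have h2 : b + b' + b + b' = 0 := (h a b c a' b' c').2
  rw [h1, h2]
  congr 1
  have h3 : ∀ u : F4, u + u = 0 := by decide
  have : a' * (b + b' + b) + (a * (b + b') + (a' * b + c + c') + (c + a * b)) + (c' + a' * b') =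
    a' * b + a * b' + (a' * b' + a' * b') + (a' * b + a' * b) + (a * b + a * b) + (c + c) + (c' + c') := by
    ring
  rw [this, h3, h3, h3, h3, h3]
  ring

theorem sq_of_mem_A {j : Bool} {g : L0} (h : g ∈ A j) : g * g = 1 := by
  obtain ⟨u, c, rfl⟩ := h
  cases j
  · show e u 0 c * e u 0 c = 1
    rw [e_sq, mul_zero, e_zero]
  · show e 0 u c * e 0 u c = 1
    rw [e_sq, zero_mul, e_zero]

theorem mem_A_of_sq {g : L0} (h : g ∈ S0) (h2 : g * g = 1) : ∃ j, g ∈ A j := by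
  obtain ⟨a, b, c, rfl⟩ := h
  rw [e_sq] at h2
  have h3 := (e_one h2).2.2
  rcases mul_eq_zero.1 h3 with h4 | h4
  · subst h4
    exact ⟨true, eA_true b c⟩
  · subst h4
    exact ⟨false, eA_false a c⟩

theorem sq_mem_Z0 {g : L0} (h : g ∈ S0) : g * g ∈ Z0 := by
  obtain ⟨a, b, c, rfl⟩ := h
  rw [e_sq]
  exact ⟨_, rfl⟩

theorem comm_mem_Z0 {g h : L0} (hg : g ∈ S0) (hh : h ∈ S0) : g * h * g⁻¹ * h⁻¹ ∈ Z0 := by
  obtain ⟨a, b, c, rfl⟩ := hg
  obtain ⟨a', b', c', rfl⟩ := hh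
  rw [e_comm]
  exact ⟨_, rfl⟩

theorem Z0_comm {z g : L0} (hz : z ∈ Z0) (hg : g ∈ S0) : g * z = z * g := by
  obtain ⟨c, rfl⟩ := hz
  obtain ⟨a', b', c', rfl⟩ := hg
  rw [e_mul, e_mul]
  congr 1
  · ring
  · ring
  · ring

theorem A_comm {j : Bool} {g h : L0} (hg : g ∈ A j) (hh : h ∈ A j) : g * h = h * g := by
  obtain ⟨u, c, rfl⟩ := hg
  obtain ⟨u', c', rfl⟩ := hh
  cases j
  · show e u 0 c * e u' 0 c' = e u' 0 c' * e u 0 c
    rw [e_mul, e_mul]
    congr 1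
    · ring
    · ring
  · show e 0 u c * e 0 u' c' = e 0 u' c' * e 0 u c
    rw [e_mul, e_mul]
    congr 1
    · ring
    · ring

theorem exists_comm_aux : ∀ a b c : F4, ¬ (a = 0 ∧ b = 0) → ∃ a' b' : F4, a * b' + a' * b = c := by
  decide

theorem exists_comm {g : L0} (hg : g ∈ S0) (hg' : g ∉ Z0) {z : L0} (hz : z ∈ Z0) :
    ∃ s ∈ S0, s * g * s⁻¹ * g⁻¹ = z := by
  obtain ⟨a, b, c, rfl⟩ := hg
  obtain ⟨d, rfl⟩ := hz
  rw [mem_Z0_iff] at hg'
  obtain ⟨a', b', h⟩ := exists_comm_aux a b d hg'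
  refine ⟨e a' b' 0, e_mem _ _ _, ?_⟩
  rw [e_comm, h]

theorem exists_comm_A_aux : ∀ a c : F4, ¬ a = 0 → ∃ a' : F4, a * a' = c := by
  decide

theorem exists_comm_A {j : Bool} {g : L0} (hg : g ∈ A j) (hg' : g ∉ Z0) {z : L0} (hz : z ∈ Z0) :
    ∃ s ∈ A (!j), s * g * s⁻¹ * g⁻¹ = z := by
  obtain ⟨u, c, rfl⟩ := hg
  obtain ⟨d, rfl⟩ := hz
  cases j
  · have hu : u ≠ 0 := by
      rintro rfl
      exact hg' ⟨c, rfl⟩
    obtain ⟨a', h⟩ := exists_comm_A_aux u d hu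
    refine ⟨e 0 a' 0, eA_true _ _, ?_⟩
    show e 0 a' 0 * e u 0 c * (e 0 a' 0)⁻¹ * (e u 0 c)⁻¹ = e 0 0 d
    rw [e_comm, ← h, zero_mul, add_zero]
  · have hu : u ≠ 0 := by
      rintro rfl
      exact hg' ⟨c, rfl⟩
    obtain ⟨a', h⟩ := exists_comm_A_aux u d hu
    refine ⟨e a' 0 0, eA_false _ _, ?_⟩
    show e a' 0 0 * e 0 u c * (e a' 0 0)⁻¹ * (e 0 u c)⁻¹ = e 0 0 d
    rw [e_comm, ← h, zero_mul, zero_add, mul_comm]

theorem comm_iff (a b c a' b' c' : F4) :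
    e a b c * e a' b' c' = e a' b' c' * e a b c ↔ a' * b + a * b' = 0 := by
  have h := e_comm a b c a' b' c'
  constructor
  · intro h1
    rw [h1, mul_inv_cancel_right, mul_inv_cancel] at h
    exact (e_one h.symm).2.2
  · intro h1
    rw [h1, e_zero] at h
    have h2 := mul_inv_eq_one.1 h
    exact mul_inv_eq_iff_eq_mul.1 h2

theorem mem_A_of_comm {j : Bool} {a g : L0} (ha : a ∈ A j) (ha' : a ∉ Z0) (hg : g ∈ S0)
    (h : g * a = a * g) : g ∈ A j := by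
  obtain ⟨u, c, rfl⟩ := ha
  obtain ⟨a', b', c', rfl⟩ := hg
  cases j
  · have hu : u ≠ 0 := by
      rintro rfl
      exact ha' ⟨c, rfl⟩
    have h1 := (comm_iff a' b' c' u 0 c).1 h
    rw [mul_zero, add_zero] at h1
    exact mem_A_iff.2 ((mul_eq_zero.1 h1).resolve_left hu)
  · have hu : u ≠ 0 := by
      rintro rfl
      exact ha' ⟨c, rfl⟩
    have h1 := (comm_iff a' b' c' 0 u c).1 h
    rw [zero_mul, zero_add] at h1
    exact mem_A_iff.2 ((mul_eq_zero.1 h1).resolve_right hu)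

/-- an elementary abelian subgroup of `S0` lies in some `A j` -/
theorem le_A_of_sq {V : Subgroup L0} (hV : V ≤ S0) (h2 : ∀ v ∈ V, v * v = 1) : ∃ j, V ≤ A j := by
  by_cases h : V ≤ A false
  · exact ⟨false, h⟩
  · refine ⟨true, ?_⟩
    obtain ⟨v, hv, hv'⟩ := SetLike.not_le_iff_exists.1 h
    have hvt : v ∈ A true := by
      obtain ⟨j, hj⟩ := mem_A_of_sq (hV hv) (h2 v hv)
      cases j
      · exact absurd hj hv'
      · exact hj
    intro w hw
    obtain ⟨j, hj⟩ := mem_A_of_sq (hV hw) (h2 w hw)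
    cases j
    · obtain ⟨k, hk⟩ := mem_A_of_sq (hV (mul_mem hv hw)) (h2 _ (mul_mem hv hw))
      cases k
      · exfalso
        apply hv'
        have := mul_mem hk (inv_mem hj)
        rwa [mul_inv_cancel_right] at this
      · have := mul_mem (inv_mem hvt) hk
        rwa [inv_mul_cancel_left] at this
    · exact hj

theorem eq_A_of_card {V : Subgroup L0} (hV : V ≤ S0) (h2 : ∀ v ∈ V, v * v = 1)
    (hc : 16 ≤ Nat.card V) : ∃ j, V = A j := by
  obtain ⟨j, hj⟩ := le_A_of_sq hV h2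
  exact ⟨j, Subgroup.eq_of_le_of_card_ge hj (by rw [card_A]; exact hc)⟩

/-! ### in `L0` -/

theorem hh_conj (i j : Fin 3) (u : F4) (h : i ≠ j) : hh⁻¹ * t i j u * hh = t i j (kap i j * u) := by
  have := t_h i j u h
  rw [mul_assoc, this]; group

theorem hh_e (a b c : F4) : hh⁻¹ * e a b c * hh = e (ω * a) (ω * b) (ω2 * c) := by
  have h1 := hh_conj 0 1 a (by decide)
  have h2 := hh_conj 1 2 b (by decide)
  have h3 := hh_conj 0 2 c (by decide)
  have e1 : kap 0 1 = ω := rfl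
  have e2 : kap 1 2 = ω := rfl
  have e3 : kap 0 2 = ω2 := rfl
  rw [e1] at h1
  rw [e2] at h2
  rw [e3] at h3
  unfold e
  rw [← h1, ← h2, ← h3]
  group

theorem hh_mem' {g : L0} (h : g ∈ S0) : hh⁻¹ * g * hh ∈ S0 := by
  obtain ⟨a, b, c, rfl⟩ := h
  rw [hh_e]
  exact e_mem _ _ _

theorem hh_inv_eq : hh * hh = (hh⁻¹ : L0) := by
  have h := hh_pow
  rw [pow_succ, pow_two] at h
  exact eq_inv_of_mul_eq_one_left h

theorem hh_mem {g : L0} (h : g ∈ S0) : hh * g * hh⁻¹ ∈ S0 := by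
  have h1 := hh_mem' (hh_mem' h)
  have h2 : hh⁻¹ * (hh⁻¹ * g * hh) * hh = hh * g * hh⁻¹ := by
    have h3 : hh⁻¹ * hh⁻¹ = (hh : L0) := by rw [← mul_inv_rev, hh_inv_eq, inv_inv]
    calc hh⁻¹ * (hh⁻¹ * g * hh) * hh = hh⁻¹ * hh⁻¹ * g * (hh * hh) := by group
      _ = _ := by rw [h3, hh_inv_eq]
  rwa [h2] at h1

theorem of_hh_mem {g : L0} (h : hh⁻¹ * g * hh ∈ S0) : g ∈ S0 := by
  have h1 := hh_mem h
  have h2 : hh * (hh⁻¹ * g * hh) * hh⁻¹ = g := by group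
  rwa [h2] at h1

/-- the torus acts transitively on the non-trivial elements `x₀₂(c)` -/
theorem exists_torus (c : F4) (hc : c ≠ 0) : ∃ n : ℕ,
    (∀ g, g ∈ S0 ↔ (hh ^ n)⁻¹ * g * hh ^ n ∈ S0) ∧ (hh ^ n)⁻¹ * t 0 2 c * hh ^ n = t 0 2 1 := by
  cases c
  · exact absurd rfl hc
  · refine ⟨0, fun g => ?_, ?_⟩
    · rw [pow_zero, inv_one, one_mul, mul_one]
    · rw [pow_zero, inv_one, one_mul, mul_one]; rfl
  · refine ⟨1, fun g => ?_, ?_⟩
    · rw [pow_one]; exact ⟨hh_mem', of_hh_mem⟩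
    · rw [pow_one, hh_conj 0 2 _ (by decide)]; rfl
  · refine ⟨2, fun g => ?_, ?_⟩
    · have : (hh ^ 2)⁻¹ * g * hh ^ 2 = hh⁻¹ * (hh⁻¹ * g * hh) * hh := by
        rw [pow_two, mul_inv_rev]; simp only [mul_assoc]
      rw [this]
      exact ⟨fun h => hh_mem' (hh_mem' h), fun h => of_hh_mem (of_hh_mem h)⟩
    · have : (hh ^ 2)⁻¹ * t 0 2 F4.v * hh ^ 2 = hh⁻¹ * (hh⁻¹ * t 0 2 F4.v * hh) * hh := by
        rw [pow_two, mul_inv_rev]; simp only [mul_assoc]
      rw [this, hh_conj 0 2 _ (by decide), hh_conj 0 2 _ (by decide)]; rfl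

/-- an element commuting with `x₀₂(c)`, `c ≠ 0`, is unitriangular -/
theorem cent_t02' {g : L0} {c : F4} (hc : c ≠ 0) (h : g * t 0 2 c = t 0 2 c * g) : g ∈ S0 := by
  obtain ⟨n, h1, h2⟩ := exists_torus c hc
  rw [h1]
  apply (cent_t02 _).1
  rw [← h2]
  calc (hh ^ n)⁻¹ * g * hh ^ n * ((hh ^ n)⁻¹ * t 0 2 c * hh ^ n) =
        (hh ^ n)⁻¹ * (g * t 0 2 c) * hh ^ n := by group
    _ = _ := by rw [h]; group

theorem cent_Z0 {z g : L0} (hz : z ∈ Z0) (hz1 : z ≠ 1) (h : g * z = z * g) : g ∈ S0 := by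
  obtain ⟨c, rfl⟩ := hz
  have hc : c ≠ 0 := by
    rintro rfl
    exact hz1 e_zero
  rw [e_02] at h
  exact cent_t02' hc h

theorem isPGroup_S0 : IsPGroup 2 S0 := IsPGroup.of_card (n := 6) (by rw [card_S0]; norm_num)

theorem index_odd : ¬ 2 ∣ S0.index := by rw [index_S0]; norm_num

/-- `S0` as a Sylow subgroup -/
noncomputable def syl : Sylow 2 L0 := isPGroup_S0.toSylow index_odd

theorem coe_syl : (syl : Subgroup L0) = S0 := rfl

theorem isPGroup_zpowers {G : Type*} [Group G] {x : G} {n : ℕ} (h : x ^ (2 ^ n) = 1) :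
    IsPGroup 2 (Subgroup.zpowers x) := by
  intro y
  obtain ⟨y, hy⟩ := y
  obtain ⟨k, rfl⟩ := Subgroup.mem_zpowers_iff.mp hy
  refine ⟨n, ?_⟩
  apply Subtype.ext
  show (x ^ k) ^ (2 ^ n) = 1
  rw [← zpow_natCast, ← zpow_mul, mul_comm, zpow_mul, zpow_natCast, h, one_zpow]

theorem exists_conj_S0 {P : Subgroup L0} (hP : IsPGroup 2 P) : ∃ l, ∀ x ∈ P, l * x * l⁻¹ ∈ S0 := by
  have hodd : ¬ 2 ∣ Nat.card (L0 ⧸ S0) := index_odd
  obtain ⟨x, hx⟩ := hP.nonempty_fixed_point_of_prime_not_dvd_card (L0 ⧸ S0) hodd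
  obtain ⟨g, rfl⟩ := QuotientGroup.mk_surjective x
  refine ⟨g⁻¹, fun y hy => ?_⟩
  have h2 := hx ⟨y, hy⟩
  have h3 : ((y * g : L0) : L0 ⧸ S0) = (g : L0 ⧸ S0) := h2
  rw [eq_comm, QuotientGroup.eq] at h3
  rw [inv_inv, mul_assoc]
  exact h3

theorem conj_t02_one {c : F4} (hc : c ≠ 0) : ∃ l, l * t 0 2 c * l⁻¹ = t 0 2 1 := by
  obtain ⟨n, -, h⟩ := exists_torus c hc
  exact ⟨(hh ^ n)⁻¹, by rw [inv_inv]; exact h⟩

theorem conj_t01 (u : F4) : (nn 1 2)⁻¹ * t 0 1 u * nn 1 2 = t 0 2 u := by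
  have := t_n 1 2 0 1 u (by decide) (by decide)
  have e1 : Equiv.swap (1 : Fin 3) 2 0 = 0 := by decide
  have e2 : Equiv.swap (1 : Fin 3) 2 1 = 2 := by decide
  rw [e1, e2] at this
  rw [mul_assoc, this]; group

theorem conj_t12 (u : F4) : (nn 0 1)⁻¹ * t 1 2 u * nn 0 1 = t 0 2 u := by
  have := t_n 0 1 1 2 u (by decide) (by decide)
  have e1 : Equiv.swap (0 : Fin 3) 1 1 = 0 := by decide
  have e2 : Equiv.swap (0 : Fin 3) 1 2 = 2 := by decide
  rw [e1, e2] at this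
  rw [mul_assoc, this]; group

theorem e_conj (a b c a' b' c' : F4) :
    e a b c * e a' b' c' * (e a b c)⁻¹ = e a' b' (c' + (a' * b + a * b')) := by
  have h := e_comm a b c a' b' c'
  rw [mul_inv_eq_iff_eq_mul] at h
  rw [h, e_mul]
  have h0 : 0 + a' = a' := zero_add _
  have h1 : 0 + b' = b' := zero_add _
  have h2 : a' * 0 + (a' * b + a * b') + c' = c' + (a' * b + a * b') := by ring
  rw [h0, h1, h2]

theorem inv_conj {x : L0} (h1 : x ≠ 1) (h2 : x * x = 1) : ∃ l, l * x * l⁻¹ = t 0 2 1 := by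
  have hx : IsPGroup 2 (Subgroup.zpowers x) := isPGroup_zpowers (n := 1) (by rw [pow_one, pow_two, h2])
  obtain ⟨l, hl⟩ := exists_conj_S0 hx
  have hl := hl x (Subgroup.mem_zpowers x)
  have h3 : (l * x * l⁻¹) * (l * x * l⁻¹) = 1 := by
    calc (l * x * l⁻¹) * (l * x * l⁻¹) = l * (x * x) * l⁻¹ := by group
      _ = 1 := by rw [h2]; group
  have h4 : l * x * l⁻¹ ≠ 1 := by
    intro h
    apply h1
    have : x = l⁻¹ * (l * x * l⁻¹) * l := by group
    rw [this, h]; group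
  set y := l * x * l⁻¹ with hy
  suffices h : ∃ m, m * y * m⁻¹ = t 0 2 1 by
    obtain ⟨m, hm⟩ := h
    refine ⟨m * l, ?_⟩
    rw [← hm, hy]; group
  obtain ⟨j, hj⟩ := mem_A_of_sq hl h3
  obtain ⟨u, c, hyy⟩ := hj
  by_cases hu : u = 0
  · subst hu
    have h5 : y = t 0 2 c := by
      rw [hyy, ← e_02]
      cases j <;> rfl
    have hc : c ≠ 0 := by
      rintro rfl
      exact h4 (by rw [h5, t_zero])
    rw [h5]
    exact conj_t02_one hc
  · obtain ⟨b, hb⟩ := exists_comm_A_aux u c hu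
    obtain ⟨m, hm⟩ := conj_t02_one hu
    cases j
    · have h5 : y = e u 0 c := hyy
      refine ⟨m * (nn 1 2)⁻¹ * e 0 b 0, ?_⟩
      have h6 : e 0 b 0 * y * (e 0 b 0)⁻¹ = t 0 1 u := by
        rw [h5, e_conj, ← hb, zero_mul, add_zero, add_self, e_01]
      rw [← hm, ← conj_t01, ← h6]; group
    · have h5 : y = e 0 u c := hyy
      refine ⟨m * (nn 0 1)⁻¹ * e b 0 0, ?_⟩
      have h6 : e b 0 0 * y * (e b 0 0)⁻¹ = t 1 2 u := by
        rw [h5, e_conj, ← hb, zero_mul, zero_add, mul_comm b u, add_self, e_12]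
      rw [← hm, ← conj_t12, ← h6]; group

theorem mem_S0_of_norm {l : L0} {n : ℕ} (h : ∀ s, s ∈ S0 ↔ l * s * l⁻¹ ∈ S0)
    (h2 : l ^ (2 ^ n) = 1) : l ∈ S0 := by
  have h3 : l ∈ Subgroup.normalizer (S0 : Set L0) := by
    rw [Subgroup.mem_normalizer_iff]
    exact h
  have h4 := (isPGroup_zpowers h2).inf_normalizer_sylow syl
  have h5 : l ∈ Subgroup.zpowers l ⊓ Subgroup.normalizer (syl : Set L0) :=
    ⟨Subgroup.mem_zpowers l, h3⟩
  rw [h4] at h5
  exact h5.2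

theorem center_trivial {l : L0} (h : ∀ g, l * g = g * l) : l = 1 := by
  obtain ⟨a, b, c, rfl⟩ := (cent_t02 l).1 (h _)
  have h1 := h (e 0 1 0)
  have h2 := h (e 1 0 0)
  have h1' := (comm_iff a b c 0 1 0).1 h1
  have h2' := (comm_iff a b c 1 0 0).1 h2
  rw [zero_mul, zero_add, mul_one] at h1'
  rw [one_mul, mul_zero, add_zero] at h2'
  subst h1' h2'
  have h3 : t 0 1 (0 : F4) * t 1 2 0 * t 0 2 c = t 0 2 c := by rw [t_zero, t_zero]; simp
  rw [h3] at h ⊢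
  have h4 := h (nn 1 2)
  have h5 := conj_t01 c
  have h6 : t 0 1 c = t 0 2 c := by
    have h7 : t 0 1 c = nn 1 2 * t 0 2 c * (nn 1 2)⁻¹ := by rw [← h5]; group
    rw [h7, ← h4]; group
  rw [← e_01, ← e_02] at h6
  have h8 := (e_inj h6).1
  rw [h8, t_zero]

theorem conj_inj {l : L0} (h : MulAut.conj l = 1) : l = 1 := by
  apply center_trivial
  intro g
  have h1 := DFunLike.congr_fun h g
  rw [MulAut.conj_apply, MulAut.one_apply] at h1
  exact mul_inv_eq_iff_eq_mul.1 h1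

theorem conj_injective : Function.Injective (MulAut.conj : L0 →* MulAut L0) := by
  rw [injective_iff_map_eq_one]
  intro l h
  exact conj_inj h

end Cfsg.Agent.StdLThreeFour.Facts1
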