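import Cfsg.Agent.Blocks.SylowIn

/-!
# Sylow 2-subgroups of subgroups: a small calculus
-/

set_option autoImplicit false

namespace Cfsg.Agent.StdLThreeFour.Syl

variable {G : Type*} [Group G]

/-- `P` is a Sylow 2-subgroup of the subgroup `H` -/
def IsSyl (P H : Subgroup G) : Prop :=
  P ≤ H ∧ IsPGroup 2 P ∧ ∀ Q : Subgroup G, Q ≤ H → IsPGroup 2 Q → P ≤ Q → Q = P

theorem isSyl_iff {P H : Subgroup G} :
    IsSyl P H ↔ ∃ S : Sylow 2 H, (S : Subgroup H).map H.subtype = P :=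
  (Cfsg.Agent.Blocks.SylowIn.exists_sylow_map_eq_iff).symm

theorem IsSyl.le {P H : Subgroup G} (h : IsSyl P H) : P ≤ H := h.1

theorem IsSyl.two {P H : Subgroup G} (h : IsSyl P H) : IsPGroup 2 P := h.2.1

theorem IsSyl.mono {P H H' : Subgroup G} (h : IsSyl P H) (h1 : P ≤ H') (h2 : H' ≤ H) :
    IsSyl P H' :=
  ⟨h1, h.2.1, fun Q hQ h2' hPQ => h.2.2 Q (hQ.trans h2) h2' hPQ⟩

theorem exists_isSyl [Finite G] {Q H : Subgroup G} (hQ : Q ≤ H) (h2 : IsPGroup 2 Q) :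
    ∃ P, IsSyl P H ∧ Q ≤ P := by
  have h3 : IsPGroup 2 (Q.subgroupOf H) := h2.of_equiv (Subgroup.subgroupOfEquivOfLe hQ).symm
  obtain ⟨S, hS⟩ := h3.exists_le_sylow
  refine ⟨(S : Subgroup H).map H.subtype, isSyl_iff.mpr ⟨S, rfl⟩, ?_⟩
  intro x hx
  exact ⟨⟨x, hQ hx⟩, hS (Subgroup.mem_subgroupOf.mpr hx), rfl⟩

theorem IsSyl.exists_conj [Finite G] {P Q H : Subgroup G} (hP : IsSyl P H) (hQ : IsSyl Q H) :
    ∃ h ∈ H, ∀ x, x ∈ Q ↔ h * x * h⁻¹ ∈ P := by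
  obtain ⟨h, hh, he⟩ := Cfsg.Agent.Blocks.SylowIn.exists_conj_of_sylow_map_eq (p := 2)
    (isSyl_iff.mp hQ) (isSyl_iff.mp hP)
  refine ⟨h, hh, fun x => ?_⟩
  rw [← he]
  constructor
  · intro hx; exact ⟨x, hx, by simp⟩
  · rintro ⟨y, hy, hyx⟩
    simp only [MulEquiv.toMonoidHom_eq_coe, MonoidHom.coe_coe, MulAut.conj_apply,
      mul_left_inj, mul_right_inj] at hyx
    rwa [← hyx]

theorem IsSyl.exists_conj_mem [Finite G] {P Q H : Subgroup G} (hP : IsSyl P H) (hQ : Q ≤ H)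
    (h2 : IsPGroup 2 Q) : ∃ h ∈ H, ∀ x ∈ Q, h * x * h⁻¹ ∈ P := by
  obtain ⟨Q', hQ', hle⟩ := exists_isSyl hQ h2
  obtain ⟨h, hh, he⟩ := hP.exists_conj hQ'
  exact ⟨h, hh, fun x hx => (he x).mp (hle hx)⟩

theorem IsSyl.card_eq [Finite G] {P H : Subgroup G} (h : IsSyl P H) :
    Nat.card P = 2 ^ (Nat.card H).factorization 2 :=
  Cfsg.Agent.Blocks.SylowIn.card_of_sylow_map_eq (isSyl_iff.mp h)

theorem isSyl_of_card [Finite G] {P H : Subgroup G} (h : P ≤ H)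
    (hc : Nat.card P = 2 ^ (Nat.card H).factorization 2) : IsSyl P H :=
  isSyl_iff.mpr (Cfsg.Agent.Blocks.SylowIn.exists_sylow_map_eq_of_card h hc)

theorem card_conj (H : Subgroup G) (g : G) :
    Nat.card (H.map (MulAut.conj g).toMonoidHom) = Nat.card H :=
  (Nat.card_congr (H.equivMapOfInjective _ (MulAut.conj g).injective).toEquiv).symm

/-- a 2-subgroup that contains a conjugate... comparison of orders -/
theorem eq_of_le_of_conj_le [Finite G] {P Q : Subgroup G} (hPQ : P ≤ Q) {h : G}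
    (hh : ∀ x ∈ Q, h * x * h⁻¹ ∈ P) : Q = P := by
  have h1 : Q.map (MulAut.conj h).toMonoidHom ≤ P := by
    rintro _ ⟨x, hx, rfl⟩
    simpa using hh x hx
  have h2 := Subgroup.card_le_of_le h1
  rw [card_conj] at h2
  exact (Subgroup.eq_of_le_of_card_ge hPQ h2).symm

theorem IsSyl.inf_normal [Finite G] {P H N : Subgroup G} (hP : IsSyl P H) (hN : N ≤ H)
    (hn : ∀ h ∈ H, ∀ n ∈ N, h * n * h⁻¹ ∈ N) : IsSyl (P ⊓ N) N := by
  refine ⟨inf_le_right, hP.two.to_le inf_le_left, ?_⟩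
  intro Q hQ h2 hPQ
  obtain ⟨h, hh, he⟩ := hP.exists_conj_mem (hQ.trans hN) h2
  exact eq_of_le_of_conj_le hPQ (fun x hx => ⟨he x hx, hn h hh x (hQ hx)⟩)

theorem isPGroup_of_two {P : Subgroup G} (h : ∀ x ∈ P, ∃ n : ℕ, x ^ 2 ^ n = 1) : IsPGroup 2 P := by
  intro x
  obtain ⟨n, hn⟩ := h x x.2
  exact ⟨n, Subtype.ext (by simpa using hn)⟩

theorem two_of_isPGroup {P : Subgroup G} (h : IsPGroup 2 P) {x : G} (hx : x ∈ P) :
    ∃ n : ℕ, x ^ 2 ^ n = 1 := by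
  obtain ⟨n, hn⟩ := h ⟨x, hx⟩
  exact ⟨n, by simpa using congrArg Subtype.val hn⟩

theorem isSyl_of_norm [Finite G] {P H : Subgroup G} (hPH : P ≤ H) (h2 : IsPGroup 2 P)
    (h : ∀ x ∈ H, (∃ n : ℕ, x ^ 2 ^ n = 1) → (∀ y, y ∈ P ↔ x * y * x⁻¹ ∈ P) → x ∈ P) :
    IsSyl P H := by
  refine ⟨hPH, h2, fun Q hQ h2' hPQ => ?_⟩
  apply Cfsg.Agent.Blocks.SylowIn.eq_of_normalizer_inf_le h2' hPQ
  rintro x ⟨hx1, hx2⟩
  exact h x (hQ hx2) (two_of_isPGroup h2' hx2) (fun y => Subgroup.mem_normalizer_iff.mp hx1 y)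

/-- involutions in groups of even order -/
theorem exists_invol [Finite G] {H : Subgroup G} (h : 2 ∣ Nat.card H) :
    ∃ x ∈ H, x ≠ 1 ∧ x * x = 1 := by
  obtain ⟨x, hx⟩ := exists_prime_orderOf_dvd_card' 2 h
  refine ⟨x, x.2, ?_, ?_⟩
  · intro h1
    have : x = 1 := Subtype.ext h1
    rw [this, orderOf_one] at hx
    omega
  · have := pow_orderOf_eq_one x
    rw [hx, pow_two] at this
    exact congrArg Subtype.val this

theorem two_dvd_card_of_invol [Finite G] {H : Subgroup G} {x : G} (hx : x ∈ H) (h1 : x ≠ 1)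
    (h2 : x * x = 1) : 2 ∣ Nat.card H := by
  have h3 : orderOf (⟨x, hx⟩ : H) = 2 := by
    apply orderOf_eq_prime
    · rw [pow_two]; exact Subtype.ext h2
    · intro h; exact h1 (congrArg Subtype.val h)
  rw [← h3]
  exact orderOf_dvd_natCard _

/-- a nontrivial 2-element has an involution among its powers -/
theorem exists_pow_invol {x : G} (h1 : x ≠ 1) {n : ℕ} (h : x ^ 2 ^ n = 1) :
    ∃ m : ℕ, x ^ m ≠ 1 ∧ x ^ m * x ^ m = 1 := by
  induction n with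
  | zero => exact absurd (by simpa using h) h1
  | succ n ih =>
    by_cases hn : x ^ 2 ^ n = 1
    · exact ih hn
    · refine ⟨2 ^ n, hn, ?_⟩
      rw [← pow_add, ← two_mul, ← pow_succ']
      exact h

theorem exists_invol_of_two {P : Subgroup G} (h2 : IsPGroup 2 P) (h : P ≠ ⊥) :
    ∃ x ∈ P, x ≠ 1 ∧ x * x = 1 := by
  obtain ⟨⟨x, hx⟩, hx0⟩ := Subgroup.ne_bot_iff_exists_ne_one.mp h
  have hx1 : x ≠ 1 := fun h => hx0 (Subtype.ext h)
  obtain ⟨n, hn⟩ := two_of_isPGroup h2 hx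
  obtain ⟨m, hm1, hm2⟩ := exists_pow_invol hx1 hn
  exact ⟨x ^ m, P.pow_mem hx m, hm1, hm2⟩

/-- **Fixed involutions.** A 2-group `Q` normalising a group `H` of even order centralises an
involution of `H`. -/
theorem exists_invol_commute [Finite G] {Q H : Subgroup G} (hQ : IsPGroup 2 Q)
    (hn : ∀ q ∈ Q, ∀ x ∈ H, q * x * q⁻¹ ∈ H) (h2 : 2 ∣ Nat.card H) :
    ∃ x ∈ H, x ≠ 1 ∧ x * x = 1 ∧ ∀ q ∈ Q, Commute q x := by
  classical
  let act : MulAction Q H :=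
    { smul := fun q x => ⟨q * x * (q : G)⁻¹, hn q q.2 x x.2⟩
      one_smul := fun x => Subtype.ext (by
        show ((1 : Q) : G) * x * ((1 : Q) : G)⁻¹ = x
        simp)
      mul_smul := fun p q x => Subtype.ext (by
        show ((p * q : Q) : G) * x * ((p * q : Q) : G)⁻¹ = p * (q * x * (q : G)⁻¹) * (p : G)⁻¹
        rw [Subgroup.coe_mul]; group) }
  have hsm : ∀ (q : Q) (x : H), ((q • x : H) : G) = q * x * (q : G)⁻¹ := fun _ _ => rfl
  have h3 := hQ.card_modEq_card_fixedPoints (α := H)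
  set C : Subgroup G := H ⊓ Subgroup.centralizer (Q : Set G) with hC
  have e : Nat.card (MulAction.fixedPoints Q H) = Nat.card C := by
    apply Nat.card_congr
    refine ⟨fun x => ⟨x.1.1, x.1.2, ?_⟩, fun x => ⟨⟨x.1, x.2.1⟩, ?_⟩, fun x => ?_, fun x => ?_⟩
    · show (x.1.1 : G) ∈ Subgroup.centralizer (Q : Set G)
      rw [Subgroup.mem_centralizer_iff]
      intro q hq
      have := congrArg Subtype.val (x.2 ⟨q, hq⟩)
      rw [hsm] at this
      exact mul_inv_eq_iff_eq_mul.mp this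
    · intro q
      apply Subtype.ext
      rw [hsm]
      have := Subgroup.mem_centralizer_iff.mp x.2.2 q q.2
      exact mul_inv_eq_iff_eq_mul.mpr this
    · rfl
    · rfl
  rw [e] at h3
  have h4 : 2 ∣ Nat.card C := by
    have h5 := h3.symm
    exact (Nat.modEq_zero_iff_dvd).mp (h5.trans ((Nat.modEq_zero_iff_dvd).mpr h2))
  obtain ⟨x, hx, hx1, hx2⟩ := exists_invol h4
  refine ⟨x, hx.1, hx1, hx2, fun q hq => ?_⟩
  exact Subgroup.mem_centralizer_iff.mp hx.2 q hq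

theorem isPGroup_zpowers {x : G} {n : ℕ} (h : x ^ 2 ^ n = 1) : IsPGroup 2 (Subgroup.zpowers x) := by
  apply isPGroup_of_two
  intro y hy
  obtain ⟨k, rfl⟩ := Subgroup.mem_zpowers_iff.mp hy
  refine ⟨n, ?_⟩
  rw [← zpow_natCast, ← zpow_mul, mul_comm, zpow_mul, zpow_natCast, h, one_zpow]

end Cfsg.Agent.StdLThreeFour.Syl
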