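import Cfsg.Agent.StdLThreeFour.Facts1
import Cfsg.Agent.LThreeFour.Outer
import Cfsg.Agent.LThreeFour.Exists

/-!
# Standard components `L3(4)`: facts on automorphisms (block III)
-/

set_option autoImplicit false
set_option linter.constructorNameAsVariable false
set_option linter.unusedVariables false

namespace Cfsg.Agent.StdLThreeFour.Facts3

open Cfsg.Agent.SporadicA.FieldFour
open Cfsg.Agent.ONType.Psl
open Cfsg.Agent.StdLThreeFour.Base
open Cfsg.Agent.LThreeFour
open scoped commutatorElement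

theorem el_eq (a b c : F4) : datPSL.el ⟨a, b, c⟩ = e a b c := rfl

theorem T_eq : datPSL.T = S0 := by
  ext g
  rw [Dat.mem_T, mem_S0]
  constructor
  · rintro ⟨p, rfl⟩; exact ⟨p.a, p.b, p.c, rfl⟩
  · rintro ⟨a, b, c, rfl⟩; exact ⟨⟨a, b, c⟩, rfl⟩

theorem Z_eq : datPSL.Z = Z0 := by
  ext g
  rw [Dat.mem_Z, mem_Z0]
  constructor
  · rintro ⟨c, rfl⟩; exact ⟨c, (e_02 c).symm⟩
  · rintro ⟨c, rfl⟩; exact ⟨c, e_02 c⟩

theorem A1_eq : datPSL.A1 = A false := by
  ext g
  rw [Dat.mem_A1, mem_A_false]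
  rfl

theorem A2_eq : datPSL.A2 = A true := by
  ext g
  rw [Dat.mem_A2, mem_A_true]
  rfl

theorem isInn_iff {α : MulAut L0} : IsInn α ↔ datPSL.tyHom α = 1 := (Dat.inner_iff).symm

theorem aut_cent_S0 {α : MulAut L0} (h : ∀ s ∈ S0, α s = s) : ∃ z ∈ Z0, α = MulAut.conj z := by
  rw [← Z_eq]
  apply Dat.aut_T
  rwa [T_eq]

theorem aut_cent_A {α : MulAut L0} {j : Bool} (h : ∀ s ∈ A j, α s = s) :
    ∃ z ∈ A j, α = MulAut.conj z := by
  cases j
  · rw [← A1_eq] at h ⊢
    exact Dat.aut_A1 h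
  · rw [← A2_eq] at h ⊢
    exact Dat.aut_A2 h

theorem aut_odd {α : MulAut L0} {n : ℕ} (hn : ¬ 2 ∣ n) (hα : α ^ n = 1) {T : Subgroup L0}
    (hT : T ≤ S0) (h32 : 32 ≤ Nat.card T) (h : ∀ s ∈ T, α s = s) : α = 1 := by
  rw [← T_eq] at hT
  have h1 : Nat.card T * T.relIndex datPSL.T = 64 := by
    rw [← Dat.card_T datPSL, ← Subgroup.relIndex_bot_left, ← Subgroup.relIndex_bot_left,
      Subgroup.relIndex_mul_relIndex _ _ _ bot_le hT]
  have h2 : T.relIndex datPSL.T ≠ 0 := by
    intro h3; rw [h3, mul_zero] at h1; omega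
  have h3 : T.relIndex datPSL.T ≤ 2 := by
    by_contra hcon
    push Not at hcon
    have := Nat.mul_le_mul h32 (Nat.succ_le_of_lt hcon)
    rw [h1] at this
    omega
  obtain ⟨k, hk, rfl⟩ := Dat.aut_index_two hT h3 h2 h
  have hfin : Finite datPSL.T := Nat.finite_of_card_ne_zero (by rw [Dat.card_T]; norm_num)
  have h4 : orderOf k ∣ 64 := by
    rw [← Dat.card_T datPSL]
    have := orderOf_dvd_natCard (⟨k, hk⟩ : datPSL.T)
    rwa [Subgroup.orderOf_mk] at this
  have h5 : k ^ n = 1 := by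
    apply Dat.conj_injective datPSL
    rw [map_pow, hα, map_one]
  have h6 : orderOf k ∣ n := orderOf_dvd_of_pow_eq_one h5
  have h7 : Nat.Coprime n 64 := by
    have : Nat.Coprime n 2 := by
      rw [Nat.coprime_comm, Nat.coprime_two_left]
      exact Nat.odd_iff.mpr (by omega)
    exact Nat.Coprime.pow_right 6 this
  have h8 : orderOf k = 1 := Nat.eq_one_of_dvd_coprimes h7 h6 h4
  rw [orderOf_eq_one_iff.mp h8, map_one]

theorem aut_elem_inner {Q : Subgroup (MulAut L0)} (h2 : ∀ α ∈ Q, α * α = 1)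
    (h16 : 16 ≤ Nat.card Q) : ∀ α ∈ Q, IsInn α := by
  intro α hα
  rw [isInn_iff]
  by_contra hne
  have h8 := Dat.card_le_eight (A := datPSL) Q h2 ⟨α, hα, hne⟩
  exact absurd (h16.trans h8) (by norm_num)

theorem aut_elem_card {Q : Subgroup (MulAut L0)} (h2 : ∀ α ∈ Q, α * α = 1) :
    Nat.card Q ≤ 16 := by
  by_contra hcon
  push Not at hcon
  have hin := aut_elem_inner h2 hcon.le
  have hQ2 : IsPGroup 2 Q := by
    rintro ⟨x, hx⟩
    refine ⟨1, Subtype.ext ?_⟩
    show x ^ (2 ^ 1) = 1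
    rw [pow_one, pow_two, h2 x hx]
  obtain ⟨l, hl⟩ := Dat.exists_conj_MT (A := datPSL) Q hQ2
  -- the subgroup of `L0` whose conjugations give the conjugate of `Q`
  let E : Subgroup L0 := (Q.map (MulAut.conj (MulAut.conj l)).toMonoidHom).comap MulAut.conj
  have hE : ∀ x ∈ E, x ∈ datPSL.T ∧ x * x = 1 := by
    rintro x ⟨α, hα, hx⟩
    have hx' : MulAut.conj l * α * (MulAut.conj l)⁻¹ = MulAut.conj x := hx
    constructor
    · obtain ⟨p, hp⟩ := Dat.mem_MT_inner (hl α hα) (by rw [hx', Dat.tyHom_conj])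
      rw [hx'] at hp
      rw [Dat.conj_injective datPSL hp]
      exact datPSL.el_mem p
    · apply Dat.conj_injective datPSL
      rw [map_mul, ← hx', map_one]
      calc MulAut.conj l * α * (MulAut.conj l)⁻¹ * (MulAut.conj l * α * (MulAut.conj l)⁻¹)
          = MulAut.conj l * (α * α) * (MulAut.conj l)⁻¹ := by group
        _ = 1 := by rw [h2 α hα]; group
  have hcard : Nat.card Q ≤ Nat.card E := by
    have hfin : Finite L0 := Dat.finite datPSL
    have key : ∀ α : Q, ∃ x : E, MulAut.conj l * (α : MulAut L0) * (MulAut.conj l)⁻¹ =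
        MulAut.conj (x : L0) := by
      rintro ⟨α, hα⟩
      obtain ⟨y, rfl⟩ := hin α hα
      refine ⟨⟨l * y * l⁻¹, MulAut.conj y, hα, ?_⟩, ?_⟩
      · show MulAut.conj l * MulAut.conj y * (MulAut.conj l)⁻¹ = MulAut.conj (l * y * l⁻¹)
        rw [map_mul, map_mul, map_inv]
      · show MulAut.conj l * MulAut.conj y * (MulAut.conj l)⁻¹ = MulAut.conj (l * y * l⁻¹)
        rw [map_mul, map_mul, map_inv]
    choose f hf using key
    apply Nat.card_le_card_of_injective f
    intro α β hαβ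
    have h3 := hf α
    rw [hαβ, ← hf β] at h3
    exact Subtype.ext (mul_left_cancel (mul_right_cancel h3))
  have h16 : Nat.card E ≤ 16 := by
    rcases Dat.elab_T E (fun x hx => (hE x hx).1) (fun x hx => (hE x hx).2) with h3 | h3
    · rw [← Dat.card_A1 (A := datPSL)]
      have hfin : Finite datPSL.A1 := Nat.finite_of_card_ne_zero (by rw [Dat.card_A1]; norm_num)
      exact Subgroup.card_le_of_le h3
    · rw [← Dat.card_A2 (A := datPSL)]
      have hfin : Finite datPSL.A2 := Nat.finite_of_card_ne_zero (by rw [Dat.card_A2]; norm_num)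
      exact Subgroup.card_le_of_le h3
  exact absurd (hcon.trans_le (hcard.trans h16)) (by norm_num)

theorem aut_derived {α : MulAut L0} {n : ℕ} (h : α ∈ commutator (MulAut L0))
    (h2 : α ^ (2 ^ n) = 1) : IsInn α := Dat.inner_of_comm datPSL h h2

theorem aut_outer_inv {α : MulAut L0} (h2 : α * α = 1) (h : ¬ IsInn α) :
    ∃ l z : L0, z ≠ 1 ∧ z * z = 1 ∧ α z = z ∧ l * z = z * l ∧ α (l * l) = l * l ∧
      MulAut.conj l⁻¹ * α * MulAut.conj l = α * MulAut.conj z ∧
      ∀ C : Subgroup L0, (∀ y, α y = y → y ∈ C) → z ∈ ⁅C, C⁆ := by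
  rw [isInn_iff] at h
  obtain ⟨l, z, c₁, c₂, g1, g2, g3, g4, g5, g6, g7, g8⟩ := Dat.outer_inv datPSL h2 h
  refine ⟨l, z, g1, g2, g3, g4, ?_, ?_, ?_⟩
  · rw [map_mul, g5]
    calc l * z * (l * z) = l * (z * l) * z := by group
      _ = l * (l * z) * z := by rw [g4]
      _ = l * l * (z * z) := by group
      _ = l * l := by rw [g2, mul_one]
  · apply MulEquiv.ext
    intro y
    rw [MulAut.mul_apply, MulAut.mul_apply, MulAut.mul_apply, MulAut.conj_apply, MulAut.conj_apply,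
      MulAut.conj_apply, map_mul, map_mul, map_mul, map_mul, map_inv, map_inv, g5, g3]
    group
  · intro C hC
    rw [g8]
    exact Subgroup.commutator_mem_commutator (hC _ g6) (hC _ g7)

end Cfsg.Agent.StdLThreeFour.Facts3
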