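import Cfsg.Agent.StdLThreeFour.Red1
import Cfsg.Agent.Lib.Cores
import Cfsg.Prelude.Def_CaseTheorems

/-!
# Standard `L3(4)`: the strongly closed case does not occur in a simple group

The commutator part of Goldschmidt's product theorem (`TwoFusion.ClosedCommutator.commutator_le`) is taken
as the hypothesis `ProductThm`.
-/

set_option autoImplicit false

namespace Cfsg.Agent.StdLThreeFour.NotClosed

open Cfsg.Agent.StdLThreeFour.Base Cfsg.Agent.StdLThreeFour.Syl Cfsg.Agent.StdLThreeFour.Emb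
open Cfsg.Agent.StdLThreeFour.Emb.SEmb Cfsg.Agent.StdLThreeFour.Red1
open Subgroup

/-- the statement of `TwoFusion.ClosedCommutator.commutator_le` for the group `G` -/
def ProductThm (G : Type*) [Group G] : Prop :=
  ∀ (P : Sylow 2 G) (A B : Subgroup G), A ⊓ B = ⊥ → Cfsg.IsStronglyClosed A (P : Subgroup G) →
    Cfsg.IsStronglyClosed B (P : Subgroup G) →
    ⁅normalClosure (A : Set G), normalClosure (B : Set G)⁆ ≤ Cfsg.oddCore G

theorem not_SC {G : Type*} [Group G] [Finite G] [IsSimpleGroup G] (hG : ¬ IsMulCommutative G)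
    (hP : ProductThm G) {E : SEmb G} (hK : 2 ∣ Nat.card E.K) : ¬ SC E := by
  intro h
  obtain ⟨P, A, B, hAB, hA, hB, hA1, hB1⟩ := h.exists_closed hK
  have key : ∀ X : Subgroup G, X ≠ ⊥ → normalClosure (X : Set G) = ⊤ := by
    intro X hX
    rcases IsSimpleGroup.eq_bot_or_eq_top_of_normal _ (normalClosure_normal (s := (X : Set G))) with h1 | h1
    · exact (hX (le_bot_iff.mp (h1 ▸ subset_normalClosure))).elim
    · exact h1
  have h1 := hP P A B hAB hA hB
  rw [key A hA1, key B hB1] at h1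
  have h2 : ⁅(⊤ : Subgroup G), (⊤ : Subgroup G)⁆ = ⊤ := by
    rcases IsSimpleGroup.eq_bot_or_eq_top_of_normal _
      (inferInstance : (⁅(⊤ : Subgroup G), (⊤ : Subgroup G)⁆).Normal) with h3 | h3
    · exfalso
      apply hG
      rw [commutator_eq_bot_iff_le_centralizer] at h3
      exact ⟨⟨fun a b => (mem_centralizer_iff.mp (h3 (mem_top a)) b (mem_top b)).symm⟩⟩
    · exact h3
  rw [h2, top_le_iff] at h1
  have h3 : (Nat.card (Cfsg.oddCore G)).Coprime 2 := Cfsg.Agent.Lib.Cores.pPrimeCore_coprime 2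
  rw [h1, card_top] at h3
  have h4 : 2 ∣ Nat.card G := hK.trans (card_subgroup_dvd_card _)
  exact absurd (Nat.dvd_gcd h4 (dvd_refl 2)) (by rw [Nat.Coprime] at h3; rw [h3]; decide)

end Cfsg.Agent.StdLThreeFour.NotClosed
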