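import Cfsg.Agent.StdLThreeFour.RFour0

/-!
# Standard `L3(4)`: no conjugate of an involution of `R` lies in the component
-/

set_option autoImplicit false
set_option linter.constructorNameAsVariable false

namespace Cfsg.Agent.StdLThreeFour.RFourA

open Cfsg.Agent.StdLThreeFour.Base Cfsg.Agent.StdLThreeFour.Syl Cfsg.Agent.StdLThreeFour.Emb
open Cfsg.Agent.StdLThreeFour.Emb.SEmb Cfsg.Agent.StdLThreeFour.Red1 Cfsg.Agent.StdLThreeFour.Red2a
open Cfsg.Agent.StdLThreeFour.Red2b Cfsg.Agent.StdLThreeFour.Red2c Cfsg.Agent.StdLThreeFour.Red2d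
open Cfsg.Agent.StdLThreeFour.Red2e Cfsg.Agent.StdLThreeFour.Red3 Cfsg.Agent.StdLThreeFour.RFour0
open Cfsg.Agent.SporadicA.FieldFour
open Cfsg.Agent.ONType.Psl

variable {G : Type*} [Group G] {E : SEmb G} {R P : Subgroup G}

/-- `P` is a Sylow 2-subgroup of `M` containing `T0` -/
structure PInp (E : SEmb G) (R P : Subgroup G) : Prop where
  bs : Bs E R
  syl : IsSyl P E.M
  le : T0 E R ≤ P

theorem T0_isPGroup [Finite G] (hB : Bs E R) : IsPGroup 2 (T0 E R) := by
  rcases hB.card with h | h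
  · apply IsPGroup.of_card (n := 7)
    unfold T0
    rw [card_prod hB.le, h, Facts1.card_S0]; norm_num
  · apply IsPGroup.of_card (n := 8)
    unfold T0
    rw [card_prod hB.le, h, Facts1.card_S0]; norm_num

theorem exists_pinp [Finite G] (hB : Bs E R) : ∃ P, PInp E R P := by
  obtain ⟨P, h1, h2⟩ := exists_isSyl (T0_le_M hB) (T0_isPGroup hB)
  exact ⟨P, hB, h1, h2⟩

namespace PInp

theorem inf_K (h : PInp E R P) : P ⊓ E.K = R := by
  apply h.bs.syl.2.2 _ inf_le_right (h.syl.two.to_le inf_le_left)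
  exact le_inf (R_le_T0.trans h.le) h.bs.le

theorem ι_mem (h : PInp E R P) {s : L0} (hs : s ∈ S0) : E.ι s ∈ P := h.le (ι_mem_T0 hs)

theorem mem_S0 (h : PInp E R P) {s : L0} (hs : E.ι s ∈ P) : s ∈ S0 := by
  have h1 : IsPGroup 2 (P.comap E.ι) := by
    apply isPGroup_of_two
    intro x hx
    obtain ⟨n, hn⟩ := two_of_isPGroup h.syl.two (show E.ι x ∈ P from hx)
    exact ⟨n, E.inj (by rw [map_pow, hn, map_one])⟩
  have h2 := isSyl_S0.2.2 (P.comap E.ι) le_top h1 (fun s hs => h.ι_mem hs)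
  rw [← h2]
  exact hs

theorem ι_conj (h : PInp E R P) {x : G} (hx : x ∈ P) {α : MulAut L0} (hα : E.Act x α)
    {s : L0} (hs : s ∈ S0) : α s ∈ S0 := by
  apply h.mem_S0
  rw [← hα]
  exact P.mul_mem (P.mul_mem hx (h.ι_mem hs)) (P.inv_mem hx)

/-- elements of `P` inducing inner automorphisms lie in `T0` -/
theorem of_inner (h : PInp E R P) {x : G} (hx : x ∈ P) {l : L0}
    (hl : E.Act x (MulAut.conj l)) : l ∈ S0 ∧ x * (E.ι l)⁻¹ ∈ R := by
  obtain ⟨n, hn⟩ := two_of_isPGroup h.syl.two hx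
  have h1 : l ∈ S0 := by
    apply Facts1.mem_S0_of_norm (n := n)
    · intro s
      constructor
      · intro hs
        have := h.ι_conj hx hl hs
        rwa [MulAut.conj_apply] at this
      · intro hs
        have := h.ι_conj (P.inv_mem hx) hl.inv hs
        rw [← map_inv, MulAut.conj_apply] at this
        simpa [mul_assoc] using this
    · apply Facts1.conj_inj
      rw [map_pow]
      exact (hl.pow (2 ^ n)).unique (by rw [hn]; exact Act.one)
  refine ⟨h1, ?_⟩
  rw [← h.inf_K]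
  refine ⟨P.mul_mem hx (P.inv_mem (h.ι_mem h1)), ?_⟩
  show x * (E.ι l)⁻¹ ∈ E.K
  rw [← act_one_iff]
  have := hl.mul (act_ι (E := E) l).inv
  rwa [mul_inv_cancel] at this

/-- large elementary abelian subgroups of `P` lie in `T0` -/
theorem le_T0 [Finite G] (h : PInp E R P) {F : Subgroup G} (hF : F ≤ P) (hel : El F)
    (hc : Nat.card R * 16 ≤ Nat.card F) : F ≤ T0 E R := by
  obtain ⟨Q, hQ, hcard⟩ := exists_image (E := E) (hF.trans h.syl.le)
  have hQ2 : ∀ α ∈ Q, α * α = 1 := by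
    intro α hα
    obtain ⟨x, hx, hxα⟩ := (hQ α).mp hα
    exact (hxα.mul hxα).unique (by rw [hel x hx]; exact Act.one)
  have hFK : Nat.card (F ⊓ E.K : Subgroup G) ≤ Nat.card R := by
    refine Subgroup.card_le_of_le ?_
    rw [← h.inf_K]
    exact inf_le_inf_right _ hF
  have hQ16 := Facts3.aut_elem_card hQ2
  have hpos : 0 < Nat.card R := Nat.card_pos
  have hQc : 16 ≤ Nat.card Q := by
    by_contra hne
    have h5 : Nat.card Q ≤ 15 := by omega
    have h6 := Nat.mul_le_mul hFK h5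
    omega
  have hinn := Facts3.aut_elem_inner hQ2 hQc
  intro x hx
  obtain ⟨α, hα⟩ := h.syl.le (hF hx)
  obtain ⟨l, rfl⟩ := hinn α ((hQ α).mpr ⟨x, hx, hα⟩)
  obtain ⟨h1, h2⟩ := h.of_inner (hF hx) hα
  have e : x = x * (E.ι l)⁻¹ * E.ι l := by group
  rw [e]
  exact (T0 E R).mul_mem (R_le_T0 h2) (ι_mem_T0 h1)

/-- `N(P)` normalises `T0` -/
theorem conj_T0 [Finite G] (h : PInp E R P) {g : G} (hg : ∀ x ∈ P, g * x * g⁻¹ ∈ P) :
    ∀ x ∈ T0 E R, g * x * g⁻¹ ∈ T0 E R := by
  have key : ∀ i, R ⊔ (A i).map E.ι ≤ (T0 E R).comap (MulAut.conj g).toMonoidHom := by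
    intro i
    have h1 : (R ⊔ (A i).map E.ι).map (MulAut.conj g).toMonoidHom ≤ T0 E R := by
      apply h.le_T0
      · rintro _ ⟨x, hx, rfl⟩
        have : g * x * g⁻¹ ∈ P := hg x (h.le (by
          have h2 : R ⊔ (A i).map E.ι ≤ T0 E R :=
            sup_le_sup_left (Subgroup.map_mono (Facts1.A_le i)) R
          exact h2 hx))
        simpa using this
      · rintro _ ⟨x, hx, rfl⟩
        rw [← map_mul, el_prod h.bs.le h.bs.el (el_A i) x hx, map_one]
      · rw [card_conj, card_prod h.bs.le, Facts1.card_A]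
    intro x hx
    exact h1 ⟨x, hx, rfl⟩
  have h2 : T0 E R ≤ (T0 E R).comap (MulAut.conj g).toMonoidHom := by
    have e : T0 E R = (R ⊔ (A false).map E.ι) ⊔ (R ⊔ (A true).map E.ι) := by
      have e1 : S0.map E.ι = (A false).map E.ι ⊔ (A true).map E.ι := by
        rw [← Subgroup.map_sup, Facts1.A_sup]
      show R ⊔ S0.map E.ι = _
      rw [e1]
      apply le_antisymm
      · refine sup_le (le_sup_left.trans le_sup_left) (sup_le ?_ ?_)
        · exact le_sup_right.trans le_sup_left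
        · exact le_sup_right.trans le_sup_right
      · refine sup_le (sup_le le_sup_left ?_) (sup_le le_sup_left ?_)
        · exact le_sup_left.trans le_sup_right
        · exact le_sup_right.trans le_sup_right
    have e2 : T0 E R ≤ (R ⊔ (A false).map E.ι) ⊔ (R ⊔ (A true).map E.ι) := e.le
    exact e2.trans (sup_le (key false) (key true))
  intro x hx
  have := h2 hx
  simpa using this

end PInp

theorem card_conj_M (g : G) : Nat.card (E.conj g).M = Nat.card E.M := by
  have h : (E.conj g).M = E.M.map (MulAut.conj g).toMonoidHom := by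
    ext k
    rw [mem_conj_M]
    constructor
    · intro h
      exact ⟨_, h, by simp [mul_assoc]⟩
    · rintro ⟨x, hx, rfl⟩
      have e : g⁻¹ * ((MulAut.conj g).toMonoidHom x) * g = x := by simp [mul_assoc]
      rw [e]
      exact hx
  rw [h, card_conj]

theorem inv_conj2 {x y : L0} (hx : x ≠ 1) (hx2 : x * x = 1) (hy : y ≠ 1) (hy2 : y * y = 1) :
    ∃ l, l * x * l⁻¹ = y := by
  obtain ⟨l, hl⟩ := Facts1.inv_conj hx hx2
  obtain ⟨m, hm⟩ := Facts1.inv_conj hy hy2
  refine ⟨m⁻¹ * l, ?_⟩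
  have : y = m⁻¹ * (m * y * m⁻¹) * m := by group
  rw [this, hm, ← hl]; group

/-- **No conjugate of an involution of `R` lies in the component.** -/
theorem not_conj_L [Finite G] (hB : Bs E R) {r : G} (hr : r ∈ R) (hr1 : r ≠ 1) (y : L0) :
    ¬ IsConj r (E.ι y) := by
  intro hc
  obtain ⟨P, hP⟩ := exists_pinp hB
  -- an involution of `Z` centralised by `P`
  obtain ⟨x, ⟨z, hz, rfl⟩, hx1, hx2, hxc⟩ := exists_invol_commute (Q := P) (H := Z0.map E.ι)
    hP.syl.two (by
    rintro q hq _ ⟨z, hz, rfl⟩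
    obtain ⟨α, hα⟩ := hP.syl.le hq
    rw [hα]
    refine ⟨α z, ?_, rfl⟩
    apply mem_Z0_of_central (hP.ι_conj hq hα (Z0_le_S0 hz))
    intro s hs
    have h1 : α⁻¹ s ∈ S0 := hP.ι_conj (P.inv_mem hq) hα.inv hs
    have h2 := Facts1.Z0_comm hz h1
    have h3 := congrArg α h2
    rw [map_mul, map_mul, MulAut.apply_inv_self] at h3
    exact h3) (by
      have : Nat.card (Z0.map E.ι) = Nat.card Z0 :=
        (Nat.card_congr (Z0.equivMapOfInjective E.ι E.inj).toEquiv).symm
      rw [this, Facts1.card_Z0]; decide)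
  have hy1 : y ≠ 1 := by
    rintro rfl
    rw [map_one, isConj_one_left] at hc
    exact hr1 hc
  have hy2 : y * y = 1 := by
    obtain ⟨g, hg⟩ := isConj_iff.mp hc
    apply E.inj
    rw [map_mul, map_one, ← hg]
    calc g * r * g⁻¹ * (g * r * g⁻¹) = g * (r * r) * g⁻¹ := by group
      _ = 1 := by rw [hB.el r hr]; group
  have hz1 : z ≠ 1 := by rintro rfl; exact hx1 (map_one _)
  obtain ⟨l, hl⟩ := inv_conj2 hy1 hy2 hz1 (E.inj (by rw [map_mul, hx2, map_one]))
  have hc2 : IsConj r (E.ι z) := by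
    refine hc.trans (isConj_iff.mpr ⟨E.ι l, ?_⟩)
    rw [← hl]; simp only [map_mul, map_inv]
  obtain ⟨g, hg⟩ := isConj_iff.mp hc2
  have hzK : E.ι z ∈ (E.conj g).K := by rw [← hg]; exact conj_conj_mem_K.mpr (hB.le hr)
  have hPg : P ≤ (E.conj g).M := fun q hq => mem_M_of_commute hx1 hx2 hzK (hxc q hq)
  have hP1 : IsSyl P (E.conj g).M := by
    apply isSyl_of_card hPg
    rw [card_conj_M]; exact hP.syl.card_eq
  have hP2 : IsSyl (P.map (MulAut.conj g).toMonoidHom) (E.conj g).M := by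
    apply isSyl_of_card
    · rintro _ ⟨x, hx, rfl⟩
      have : g * x * g⁻¹ ∈ (E.conj g).M := conj_conj_mem_M.mpr (hP.syl.le hx)
      simpa using this
    · rw [card_conj, card_conj_M]; exact hP.syl.card_eq
  obtain ⟨c, hcM, hcc⟩ := hP1.exists_conj hP2
  have hg' : ∀ x, x ∈ P ↔ (c * g) * x * (c * g)⁻¹ ∈ P := by
    intro x
    have h1 : g * x * g⁻¹ ∈ P.map (MulAut.conj g).toMonoidHom ↔ x ∈ P := by
      constructor
      · rintro ⟨y, hy, he⟩
        have h2 : g * y * g⁻¹ = g * x * g⁻¹ := by simpa using he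
        have h3 : y = x := mul_left_cancel (mul_right_cancel h2)
        rwa [← h3]
      · intro hx
        exact ⟨x, hx, by simp⟩
    rw [← h1, hcc]
    have e : c * (g * x * g⁻¹) * c⁻¹ = c * g * x * (c * g)⁻¹ := by group
    rw [e]
  have hgi : ∀ x ∈ P, (c * g)⁻¹ * x * (c * g)⁻¹⁻¹ ∈ P := by
    intro x hx
    rw [hg']
    have e : c * g * ((c * g)⁻¹ * x * (c * g)⁻¹⁻¹) * (c * g)⁻¹ = x := by group
    rwa [e]
  have hNT : NT E R (c * g)⁻¹ := by
    intro x
    constructor
    · exact hP.conj_T0 hgi x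
    · intro hx
      have := hP.conj_T0 (fun x hx => (hg' x).mp hx) _ hx
      have e : c * g * ((c * g)⁻¹ * x * (c * g)⁻¹⁻¹) * (c * g)⁻¹ = x := by group
      rwa [e] at this
  obtain ⟨z', -, he⟩ := conj_Z0 hB hNT hz
  have h1 : (c * g)⁻¹ * E.ι z * (c * g)⁻¹⁻¹ ∈ E.K := by
    have h2 : E.ι z ∈ (E.conj (c * g)).K := by
      rw [← conj_conj, conj_K hcM]; exact hzK
    rw [mem_conj_K] at h2
    rwa [inv_inv]
  have h2 := K_L_eq_one h1 ⟨z', he.symm⟩
  apply hx1
  have e : E.ι z = (c * g) * ((c * g)⁻¹ * E.ι z * (c * g)⁻¹⁻¹) * (c * g)⁻¹ := by group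
  rw [e, h2]; group

/-- the configuration with the additional property that no conjugate of `r ∈ R#` lies in the component -/
structure FourN (X : Type*) [Group X] extends Four X where
  noL : ∀ r ∈ R, r ≠ 1 → ∀ y, ¬ IsConj r (ι y)

/-- **The configuration in `X = N_G(W) / W`.** -/
def fourN [Finite G] {n : G} (h : FInp E R n) : FourN (XX E R) where
  toFour := four h
  noL := by
    intro r hr hr1 y hc
    obtain ⟨v, hv, rfl⟩ := mem_img.mp hr
    obtain ⟨x, hx⟩ := isConj_iff.mp hc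
    obtain ⟨x, rfl⟩ := qq_surj x
    have hx' : qq E R x * qq E R v * (qq E R x)⁻¹ = qq E R ⟨E.ι y, ι_mem_HH y⟩ := hx
    rw [← map_mul, ← map_inv, ← map_mul] at hx'
    have h1 := qq_eq.mp hx'
    have hv2 : (v : G) * v = 1 := h.bs.el v hv
    have hv1 : (v : G) ≠ 1 := fun h1 => hr1 (by
      have : v = 1 := Subtype.ext h1
      rw [this, map_one])
    have hxx : (x : G) * v * (x : G)⁻¹ * (x * v * (x : G)⁻¹) = 1 := by
      calc (x : G) * v * (x : G)⁻¹ * (x * v * (x : G)⁻¹) = x * (v * v) * (x : G)⁻¹ := by group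
        _ = 1 := by rw [hv2]; group
    have hy2 : E.ι y * E.ι y = 1 := by
      have h3 : ιX E R y * ιX E R y = 1 := by
        rw [ιX_apply, ← hx', ← map_mul]
        have : (x * v * x⁻¹) * (x * v * x⁻¹) = 1 := Subtype.ext hxx
        rw [this, map_one]
      rw [← map_mul] at h3 ⊢
      have h4 : y * y = 1 := ιX_inj (by rw [h3, map_one])
      rw [h4, map_one]
    have h2 : ((x : G) * v * (x : G)⁻¹) * E.ι y ∈ W E R := by
      have e : ((x * v * x⁻¹ : HH E R) : G)⁻¹ = (x : G) * v * (x : G)⁻¹ :=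
        inv_eq_of_mul_eq_one_right hxx
      rw [e] at h1
      exact h1
    obtain ⟨w, -, he⟩ := exists_conj_of_odd (W_odd h.bs h.nt h.nm) hxx hy2 h2
    refine not_conj_L h.bs hv hv1 y (isConj_iff.mpr ⟨w * x, ?_⟩)
    rw [← he]; group

end Cfsg.Agent.StdLThreeFour.RFourA
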