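import Cfsg.Agent.StdLThreeFour.OfStandard
import Cfsg.Agent.StdLThreeFour.NotClosed
import Cfsg.Agent.StdLThreeFour.RFourA
import Cfsg.Prelude.Def_Spor_Suz

/-!
# Standard `L3(4)`: assembly of the reduction

`isoSuz_of`: S1748 from the product theorem, the exclusion of `|R| = 2` and the identification in the case
`|R| = 4`.
-/

set_option autoImplicit false

namespace Cfsg.Agent.StdLThreeFour.Assembly

open Cfsg.Agent.StdLThreeFour.Base Cfsg.Agent.StdLThreeFour.Syl Cfsg.Agent.StdLThreeFour.Emb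
open Cfsg.Agent.StdLThreeFour.Emb.SEmb Cfsg.Agent.StdLThreeFour.Red1 Cfsg.Agent.StdLThreeFour.Red2e
open Cfsg.Agent.StdLThreeFour.Red3 Cfsg.Agent.StdLThreeFour.RFour0

/-- the case `|R| = 2` does not occur -/
def NoTwo (G : Type*) [Group G] : Prop :=
  ∀ (E : SEmb G) (R : Subgroup G) (h : G), Out E R h → Nat.card R = 2 → False

/-- in the case `|R| = 4` the group is `Suz` -/
def ToSuz (G : Type*) [Group G] : Prop :=
  ∀ (E : SEmb G) (R : Subgroup G) (n : G), FInp E R n → Cfsg.Spor.IsoSuz G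

theorem finp_of_out {G : Type*} [Group G] {E : SEmb G} {R : Subgroup G} {h : G} (ho : Out E R h)
    (h4 : Nat.card R = 4) : FInp E R h := ⟨bs_of_out ho, ho.norm, ho.nm, h4⟩

theorem isoSuz_of {G : Type*} [Group G] [Finite G] [IsSimpleGroup G] (hG : ¬ IsMulCommutative G)
    (hP : NotClosed.ProductThm G) (h2 : NoTwo G) (h4 : ToSuz G) (L : Subgroup G)
    (hL : Cfsg.IsStandardSubgroup L) {F : Type*} [Field F] [Fintype F] (hF : Fintype.card F = 4)
    (hLX : Nonempty (L ≃* Matrix.ProjectiveSpecialLinearGroup (Fin 3) F)) : Cfsg.Spor.IsoSuz G := by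
  obtain ⟨E, -, -, -, hK⟩ := OfStandard.exists_semb L hL hF hLX
  obtain ⟨R, h, ho⟩ := exists_out E hK (NotClosed.not_SC hG hP hK)
  rcases ho.card with hc | hc
  · exact (h2 E R h ho hc).elim
  · exact h4 E R h (finp_of_out ho hc)

end Cfsg.Agent.StdLThreeFour.Assembly
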