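import Cfsg.Agent.StdLThreeFour.Facts3
import Cfsg.Agent.LThreeFour.Norm

/-!
# Standard components `L3(4)`: facts (O1), (O2) on outer 2-automorphisms
-/

set_option autoImplicit false
set_option linter.constructorNameAsVariable false
set_option linter.unusedVariables false

namespace Cfsg.Agent.StdLThreeFour.Facts4

open Cfsg.Agent.SporadicA.FieldFour
open Cfsg.Agent.ONType.Psl
open Cfsg.Agent.StdLThreeFour.Base
open Cfsg.Agent.StdLThreeFour.Facts3
open Cfsg.Agent.LThreeFour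

/-- **(O1)** an outer 2-automorphism normalising `S0`: a subgroup of `S0` centralised modulo `Z0` has order
at most 16 -/
theorem aut_fix_mod {α : MulAut L0} {n : ℕ} (h2 : α ^ (2 ^ n) = 1) (hS : ∀ s ∈ S0, α s ∈ S0)
    (ho : ¬ IsInn α) (F : Subgroup L0) (hF : F ≤ S0) (h : ∀ x ∈ F, x⁻¹ * α x ∈ Z0) :
    Nat.card F ≤ 16 := by
  rw [isInn_iff] at ho
  rw [← T_eq] at hS hF
  rw [← Z_eq] at h
  exact Dat.card_le_of_outer datPSL h2 hS ho F hF h

/-- **(O2)** -/
theorem aut_two_outer {Q : Subgroup (MulAut L0)} (hQ : IsPGroup 2 Q) {α β : MulAut L0}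
    (hα : α ∈ Q) (hβ : β ∈ Q) (hαZ : ∀ z ∈ Z0, α z = z) (hβZ : ∀ z ∈ Z0, β z = z)
    (hoα : ¬ IsInn α) (hoβ : ¬ IsInn β) : IsInn (α * β) := by
  rw [isInn_iff] at hoα hoβ ⊢
  rw [← Z_eq] at hαZ hβZ
  exact Dat.inner_mul_of_outer datPSL hQ hα hβ hαZ hβZ hoα hoβ

/-- an automorphism of 2-power order modulo inner automorphisms has outer square trivial -/
theorem aut_sq_inner {α : MulAut L0} {n : ℕ} (h2 : α ^ (2 ^ n) = 1) : IsInn (α * α) := by
  rw [isInn_iff, map_mul]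
  exact Dat.tyHom_sq h2

end Cfsg.Agent.StdLThreeFour.Facts4
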