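import Cfsg.Agent.StdLThreeFour.Red3
import Cfsg.Agent.StdLThreeFour.Facts4
import Cfsg.Agent.StdL3.ExtLoc

/-!
# Standard `L3(4)`: the case `|R| = 2`, local structure at the involution `t` of `R`
-/

set_option autoImplicit false
set_option linter.constructorNameAsVariable false

namespace Cfsg.Agent.StdLThreeFour.RTwo

open Cfsg.Agent.StdLThreeFour.Base Cfsg.Agent.StdLThreeFour.Syl Cfsg.Agent.StdLThreeFour.Emb
open Cfsg.Agent.StdLThreeFour.Emb.SEmb Cfsg.Agent.StdLThreeFour.Red1 Cfsg.Agent.StdLThreeFour.Red2a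
open Cfsg.Agent.StdLThreeFour.Red2b Cfsg.Agent.StdLThreeFour.Red2c Cfsg.Agent.StdLThreeFour.Red2d
open Cfsg.Agent.StdLThreeFour.Red2e Cfsg.Agent.StdLThreeFour.Red3
open Cfsg.Agent.SporadicA.FieldFour
open Cfsg.Agent.ONType.Psl
open Cfsg.Agent.StdL3.ExtLoc

variable {G : Type*} [Group G] {E : SEmb G} {R : Subgroup G} {t : G} {That : Subgroup G}

/-- `R = {1, t}` -/
structure TInp (E : SEmb G) (R : Subgroup G) (t : G) (That : Subgroup G) : Prop where
  bs : Bs E R
  t1 : t ≠ 1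
  mem_R : ∀ x, x ∈ R ↔ x = 1 ∨ x = t
  that : IsSyl That (Subgroup.centralizer ({t} : Set G))
  T0_le : T0 E R ≤ That

theorem exists_t [Finite G] (hB : Bs E R) (h2 : Nat.card R = 2) : ∃ t That, TInp E R t That := by
  obtain ⟨x, y, hxy, huniv⟩ := (Nat.card_eq_two_iff (α := R)).mp h2
  have hone : (1 : R) = x ∨ (1 : R) = y := by
    have : (1 : R) ∈ ({x, y} : Set R) := by rw [huniv]; exact Set.mem_univ _
    simpa using this
  obtain ⟨t, ht1, ht⟩ : ∃ t : R, t ≠ 1 ∧ ∀ r : R, r = 1 ∨ r = t := by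
    have hall : ∀ r : R, r = x ∨ r = y := by
      intro r
      have : r ∈ ({x, y} : Set R) := by rw [huniv]; exact Set.mem_univ _
      simpa using this
    rcases hone with h | h
    · refine ⟨y, fun h' => hxy (h.symm.trans h'.symm), fun r => ?_⟩
      rw [h]; exact hall r
    · refine ⟨x, fun h' => hxy (h'.trans h), fun r => ?_⟩
      rw [h]; exact (hall r).symm
  have hmem : ∀ x, x ∈ R ↔ x = 1 ∨ x = (t : G) := by
    intro x
    constructor
    · intro hx
      rcases ht ⟨x, hx⟩ with h | h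
      · exact Or.inl (congrArg Subtype.val h)
      · exact Or.inr (congrArg Subtype.val h)
    · rintro (h | h)
      · rw [h]; exact R.one_mem
      · rw [h]; exact t.2
  have hT0 : IsPGroup 2 (T0 E R) := by
    apply IsPGroup.of_card (n := 7)
    unfold T0
    rw [card_prod hB.le, h2, Facts1.card_S0]; norm_num
  have hle : T0 E R ≤ Subgroup.centralizer ({(t : G)} : Set G) := by
    intro x hx
    exact Subgroup.mem_centralizer_singleton_iff.mpr (R_central hB t.2 hx).symm.eq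
  obtain ⟨That, h3, h4⟩ := exists_isSyl hle hT0
  exact ⟨t, That, hB, fun h => ht1 (Subtype.ext h), hmem, h3, h4⟩

namespace TInp

theorem t_mem (h : TInp E R t That) : t ∈ R := (h.mem_R t).mpr (Or.inr rfl)

theorem t_mem_K (h : TInp E R t That) : t ∈ E.K := h.bs.le h.t_mem

theorem tt (h : TInp E R t That) : t * t = 1 := h.bs.el t h.t_mem

theorem mem_M (h : TInp E R t That) {x : G} (hx : Commute x t) : x ∈ E.M :=
  mem_M_of_commute h.t1 h.tt h.t_mem_K hx

theorem that_comm (h : TInp E R t That) {x : G} (hx : x ∈ That) : Commute x t :=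
  Subgroup.mem_centralizer_singleton_iff.mp (h.that.le hx)

theorem that_le (h : TInp E R t That) : That ≤ E.M := fun _ hx => h.mem_M (h.that_comm hx)

theorem that_inf_K [Finite G] (h : TInp E R t That) : That ⊓ E.K = R := by
  apply h.bs.syl.2.2 _ inf_le_right (h.that.two.to_le inf_le_left)
  exact le_inf (R_le_T0.trans h.T0_le) h.bs.le

theorem ι_mem_that (h : TInp E R t That) {s : L0} (hs : s ∈ S0) : E.ι s ∈ That :=
  h.T0_le (ι_mem_T0 hs)

theorem mem_S0 (h : TInp E R t That) {s : L0} (hs : E.ι s ∈ That) : s ∈ S0 := by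
  have h1 : IsPGroup 2 (That.comap E.ι) := by
    apply isPGroup_of_two
    intro x hx
    obtain ⟨n, hn⟩ := two_of_isPGroup h.that.two (show E.ι x ∈ That from hx)
    exact ⟨n, E.inj (by rw [map_pow, hn, map_one])⟩
  have h2 := isSyl_S0.2.2 (That.comap E.ι) le_top h1 (fun s hs => h.ι_mem_that hs)
  rw [← h2]
  exact hs

theorem ι_conj (h : TInp E R t That) {x : G} (hx : x ∈ That) {α : MulAut L0} (hα : E.Act x α)
    {s : L0} (hs : s ∈ S0) : α s ∈ S0 := by
  apply h.mem_S0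
  rw [← hα]
  exact That.mul_mem (That.mul_mem hx (h.ι_mem_that hs)) (That.inv_mem hx)

/-- elements of `That` inducing inner automorphisms -/
theorem of_inner [Finite G] (h : TInp E R t That) {x : G} (hx : x ∈ That) {l : L0}
    (hl : E.Act x (MulAut.conj l)) : l ∈ S0 ∧ (x = E.ι l ∨ x = t * E.ι l) := by
  obtain ⟨n, hn⟩ := two_of_isPGroup h.that.two hx
  have h1 : l ∈ S0 := by
    apply Facts1.mem_S0_of_norm (n := n)
    · intro s
      constructor
      · intro hs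
        have := h.ι_conj hx hl hs
        rwa [MulAut.conj_apply] at this
      · intro hs
        have := h.ι_conj (That.inv_mem hx) hl.inv hs
        rw [← map_inv, MulAut.conj_apply] at this
        simpa [mul_assoc] using this
    · apply Facts1.conj_inj
      rw [map_pow]
      exact (hl.pow (2 ^ n)).unique (by rw [hn]; exact Act.one)
  refine ⟨h1, ?_⟩
  have h2 : x * (E.ι l)⁻¹ ∈ That ⊓ E.K := by
    refine ⟨That.mul_mem hx (That.inv_mem (h.ι_mem_that h1)), ?_⟩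
    show x * (E.ι l)⁻¹ ∈ E.K
    rw [← act_one_iff]
    have := hl.mul (act_ι (E := E) l).inv
    rwa [mul_inv_cancel] at this
  rw [h.that_inf_K, h.mem_R] at h2
  rcases h2 with h2 | h2
  · left; exact mul_inv_eq_one.mp h2
  · right; exact mul_inv_eq_iff_eq_mul.mp h2

/-- elements of `That` outside `<t> T` induce outer automorphisms -/
theorem not_inner [Finite G] (h : TInp E R t That) {x : G} (hx : x ∈ That)
    (h1 : x ∉ S0.map E.ι) (h2 : t * x ∉ S0.map E.ι) {α : MulAut L0} (hα : E.Act x α) :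
    ¬ IsInn α := by
  rintro ⟨l, rfl⟩
  obtain ⟨hl, he | he⟩ := h.of_inner hx hα
  · exact h1 ⟨l, hl, he.symm⟩
  · apply h2
    rw [he, ← mul_assoc, h.tt, one_mul]
    exact ⟨l, hl, rfl⟩

theorem act_two (h : TInp E R t That) {x : G} (hx : x ∈ That) {α : MulAut L0} (hα : E.Act x α) :
    ∃ n : ℕ, α ^ 2 ^ n = 1 := by
  obtain ⟨n, hn⟩ := two_of_isPGroup h.that.two hx
  exact ⟨n, (hα.pow (2 ^ n)).unique (by rw [hn]; exact Act.one)⟩

theorem mem_map_iff {B : Subgroup L0} {s : L0} : E.ι s ∈ B.map E.ι ↔ s ∈ B := by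
  constructor
  · rintro ⟨s', hs', he⟩
    rwa [← E.inj he]
  · intro h; exact ⟨s, h, rfl⟩

theorem card_map (B : Subgroup L0) : Nat.card (B.map E.ι) = Nat.card B :=
  (Nat.card_congr (B.equivMapOfInjective E.ι E.inj).toEquiv).symm

/-- **The local structure at `t`.** -/
theorem locT [Finite G] (h : TInp E R t That) :
    LocT t (S0.map E.ι) (Z0.map E.ι) That (fun i => (A i).map E.ι) where
  t1 := h.t1
  tt := h.tt
  that_comm x hx := h.that_comm hx
  t_mem := h.T0_le (R_le_T0 h.t_mem)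
  that_two := h.that.two
  that_syl S hS hSt := by
    obtain ⟨c, hc, hcc⟩ := h.that.exists_conj_mem (Q := S)
      (fun x hx => Subgroup.mem_centralizer_singleton_iff.mpr (hSt x hx)) hS
    exact ⟨c, Subgroup.mem_centralizer_singleton_iff.mp hc, hcc⟩
  T_le := by
    rintro _ ⟨s, hs, rfl⟩
    exact h.ι_mem_that hs
  T_norm := by
    rintro x hx _ ⟨s, hs, rfl⟩
    obtain ⟨α, hα⟩ := h.that_le hx
    rw [hα]
    exact ⟨_, h.ι_conj hx hα hs, rfl⟩
  tT := by
    rintro ⟨s, _, he⟩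
    exact h.t1 (K_L_eq_one h.t_mem_K ⟨s, he⟩)
  cardT := by rw [card_map, Facts1.card_S0]
  cardZ := by rw [card_map, Facts1.card_Z0]
  cardA i := by rw [card_map, Facts1.card_A]
  Z_le i := Subgroup.map_mono (Facts1.Z0_le i)
  A_le i := Subgroup.map_mono (Facts1.A_le i)
  A_sq := by
    rintro i _ ⟨s, hs, rfl⟩
    rw [← map_mul, Facts1.sq_of_mem_A hs, map_one]
  Z_comm := by
    rintro _ ⟨z, hz, rfl⟩ _ ⟨s, hs, rfl⟩
    rw [← map_mul, ← map_mul, Facts1.Z0_comm hz hs]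
  inv_mem := by
    rintro _ ⟨s, hs, rfl⟩ h2
    obtain ⟨j, hj⟩ := Facts1.mem_A_of_sq hs (E.inj (by rw [map_mul, h2, map_one]))
    exact ⟨j, s, hj, rfl⟩
  T_le_sup := by
    rw [← Subgroup.map_sup, Facts1.A_sup]
  comm_mem := by
    rintro _ ⟨s, hs, rfl⟩ _ ⟨s', hs', rfl⟩
    refine ⟨_, Facts1.comm_mem_Z0 hs hs', ?_⟩
    simp only [map_mul, map_inv]
  surj := by
    rintro _ ⟨s, hs, rfl⟩ hZ _ ⟨z, hz, rfl⟩
    obtain ⟨x, hx, he⟩ := Facts1.exists_comm hs (fun h => hZ ⟨s, h, rfl⟩) (Z0.inv_mem hz)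
    refine ⟨_, ⟨x, hx, rfl⟩, ?_⟩
    rw [← inv_inv z, ← he]
    simp only [map_mul, map_inv]
    group
  surjA := by
    rintro _ ⟨z, hz, rfl⟩
    obtain ⟨a, ha, haZ⟩ := card_A_lt true
    obtain ⟨s, hs, he⟩ := Facts1.exists_comm_A ha haZ hz
    refine ⟨_, ⟨s, hs, rfl⟩, _, ⟨a, ha, rfl⟩, ?_⟩
    rw [← he]
    simp only [map_mul, map_inv]
  A_cent := by
    rintro i _ ⟨a, ha, rfl⟩ haZ _ ⟨s, hs, rfl⟩ hc
    refine ⟨s, Facts1.mem_A_of_comm ha (fun h => haZ ⟨a, h, rfl⟩) hs (E.inj ?_), rfl⟩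
    rw [map_mul, map_mul, hc]
  eq_A := by
    intro F hF h2 h16
    have h1 : (F.comap E.ι).map E.ι = F := by
      rw [Subgroup.map_comap_eq]
      refine inf_eq_right.mpr fun x hx => ?_
      obtain ⟨s, _, rfl⟩ := hF hx
      exact ⟨s, rfl⟩
    obtain ⟨i, hi⟩ := Facts1.eq_A_of_card (V := F.comap E.ι) (fun s hs => by
      obtain ⟨s', hs', he⟩ := hF hs
      rwa [← E.inj he]) (fun v hv => E.inj (by rw [map_mul, h2 _ hv, map_one])) (by
      rw [← card_map (E := E), h1]; exact h16)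
    exact ⟨i, by rw [← h1, hi]⟩
  O1 := by
    intro x hx h1 h2
    obtain ⟨α, hα⟩ := h.that_le hx
    obtain ⟨n, hn⟩ := h.act_two hx hα
    let F : Subgroup L0 :=
      { carrier := {s | s ∈ S0 ∧ s⁻¹ * α s ∈ Z0}
        mul_mem' := by
          rintro a b ⟨ha, ha'⟩ ⟨hb, hb'⟩
          refine ⟨S0.mul_mem ha hb, ?_⟩
          have e : (a * b)⁻¹ * α (a * b) = (b⁻¹ * (a⁻¹ * α a) * b) * (b⁻¹ * α b) := by
            rw [map_mul]; group
          rw [e]
          refine Z0.mul_mem ?_ hb'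
          have h3 := Facts1.Z0_comm ha' (S0.inv_mem hb)
          rw [h3, inv_mul_cancel_right]
          exact ha'
        one_mem' := ⟨S0.one_mem, by rw [map_one, inv_one, one_mul]; exact Z0.one_mem⟩
        inv_mem' := by
          rintro a ⟨ha, ha'⟩
          refine ⟨S0.inv_mem ha, ?_⟩
          have e : a⁻¹⁻¹ * α a⁻¹ = a * (a⁻¹ * α a)⁻¹ * a⁻¹ := by
            rw [map_inv]; group
          rw [e]
          have h3 := Facts1.Z0_comm (Z0.inv_mem ha') ha
          rw [h3, mul_inv_cancel_right]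
          exact Z0.inv_mem ha' }
    have h3 := Facts4.aut_fix_mod hn (fun s hs => h.ι_conj hx hα hs) (h.not_inner hx h1 h2 hα) F
      (fun s hs => hs.1) (fun s hs => hs.2)
    refine le_trans ?_ h3
    have hLfin : Finite L0 := Finite.of_injective E.ι E.inj
    have key : ∀ y : {y : G // y ∈ S0.map E.ι ∧ x * y * x⁻¹ * y⁻¹ ∈ Z0.map E.ι},
        ∃ s : F, E.ι s = y := by
      rintro ⟨_, ⟨s, hs, rfl⟩, hz⟩
      refine ⟨⟨s, hs, ?_⟩, rfl⟩
      rw [hα, ← map_inv, ← map_mul, mem_map_iff] at hz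
      have h4 := Facts1.Z0_comm hz (S0.inv_mem hs)
      have e : s⁻¹ * α s = s⁻¹ * (α s * s⁻¹) * s := by group
      rw [e, h4, inv_mul_cancel_right]
      exact hz
    choose f hf using key
    apply Nat.card_le_card_of_injective f
    intro y y' hy
    apply Subtype.ext
    rw [← hf y, ← hf y', hy]
  O2 := by
    intro x hx y hy hxZ hyZ h1 h2 h3 h4
    obtain ⟨α, hα⟩ := h.that_le hx
    obtain ⟨β, hβ⟩ := h.that_le hy
    obtain ⟨Q, hQ, -⟩ := exists_image (E := E) h.that_le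
    have hQ2 : IsPGroup 2 Q := by
      apply isPGroup_of_two
      intro γ hγ
      obtain ⟨z, hz, hzγ⟩ := (hQ γ).mp hγ
      exact h.act_two hz hzγ
    obtain ⟨l, hl⟩ := Facts4.aut_two_outer hQ2 ((hQ α).mpr ⟨x, hx, hα⟩) ((hQ β).mpr ⟨y, hy, hβ⟩)
      (fun z hz => (hα.commute_iff z).mp (hxZ _ ⟨z, hz, rfl⟩))
      (fun z hz => (hβ.commute_iff z).mp (hyZ _ ⟨z, hz, rfl⟩))
      (h.not_inner hx h1 h2 hα) (h.not_inner hy h3 h4 hβ)
    have h5 := hα.mul hβ
    rw [hl] at h5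
    obtain ⟨hl', he | he⟩ := h.of_inner (That.mul_mem hx hy) h5
    · left; exact ⟨l, hl', he.symm⟩
    · right
      rw [he, ← mul_assoc, h.tt, one_mul]
      exact ⟨l, hl', rfl⟩
  O3 := by
    intro F hF hF2 h32
    obtain ⟨Q, hQ, hc⟩ := exists_image (E := E) (hF.trans h.that_le)
    have hQ2 : ∀ α ∈ Q, α * α = 1 := by
      intro α hα
      obtain ⟨x, hx, hxα⟩ := (hQ α).mp hα
      exact (hxα.mul hxα).unique (by rw [hF2 x hx]; exact Act.one)
    have hRc : Nat.card R ≤ 2 := by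
      have : Nat.card R ≤ Nat.card ({1, t} : Set G) :=
        Nat.card_le_card_of_injective (fun x : R => (⟨x, by
          rcases (h.mem_R x).mp x.2 with h | h
          · left; exact h
          · right; exact h⟩ : ({1, t} : Set G))) (fun a b hab => Subtype.ext (congrArg (fun z : ({1, t} : Set G) => (z : G)) hab))
      refine this.trans ?_
      rw [Nat.card_coe_set_eq]
      exact (Set.ncard_insert_le _ _).trans (by rw [Set.ncard_singleton])
    have hFK : Nat.card (F ⊓ E.K : Subgroup G) ≤ 2 := by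
      refine le_trans (Subgroup.card_le_of_le ?_) hRc
      rw [← h.that_inf_K]
      exact inf_le_inf_right _ hF
    have hQ16 := Facts3.aut_elem_card hQ2
    have hQc : Nat.card Q = 16 := by
      by_contra hne
      have h5 : Nat.card Q ≤ 15 := by omega
      have h6 := Nat.mul_le_mul hFK h5
      omega
    have hinn := Facts3.aut_elem_inner hQ2 (by rw [hQc])
    set V : Subgroup L0 := Q.comap MulAut.conj with hV
    have hconj : Function.Injective (MulAut.conj : L0 → MulAut L0) := by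
      intro a b hab
      have : MulAut.conj (a⁻¹ * b) = 1 := by rw [map_mul, map_inv, hab, inv_mul_cancel]
      exact inv_mul_eq_one.mp (Facts1.conj_inj this)
    have hVQ : V.map MulAut.conj = Q := by
      rw [hV, Subgroup.map_comap_eq]
      refine inf_eq_right.mpr fun α hα => ?_
      obtain ⟨l, rfl⟩ := hinn α hα
      exact ⟨l, rfl⟩
    have hVc : Nat.card V = 16 := by
      rw [← hQc, ← hVQ]
      exact Nat.card_congr (V.equivMapOfInjective _ hconj).toEquiv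
    have hVS : V ≤ S0 := by
      intro s hs
      obtain ⟨x, hx, hxs⟩ := (hQ _).mp hs
      exact (h.of_inner (hF hx) hxs).1
    obtain ⟨j, hj⟩ := Facts1.eq_A_of_card hVS (fun v hv => by
      apply Facts1.conj_inj
      rw [map_mul]
      exact hQ2 _ hv) (by rw [hVc])
    have hle : ∀ x ∈ F, x ∈ (A j).map E.ι ∨ t * x ∈ (A j).map E.ι := by
      intro x hx
      obtain ⟨α, hα⟩ := h.that_le (hF hx)
      obtain ⟨l, rfl⟩ := hinn α ((hQ α).mpr ⟨x, hx, hα⟩)
      have hlj : l ∈ A j := by rw [← hj]; exact (hQ _).mpr ⟨x, hx, hα⟩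
      obtain ⟨-, he | he⟩ := h.of_inner (hF hx) hα
      · left; exact ⟨l, hlj, he.symm⟩
      · right
        rw [he, ← mul_assoc, h.tt, one_mul]
        exact ⟨l, hlj, rfl⟩
    have hle2 : F ≤ R ⊔ (A j).map E.ι := by
      intro x hx
      rcases hle x hx with ⟨a, ha, he⟩ | ⟨a, ha, he⟩
      · rw [← he]; exact Subgroup.mem_sup_right ⟨a, ha, rfl⟩
      · have : x = t * E.ι a := by rw [he, ← mul_assoc, h.tt, one_mul]
        rw [this]
        exact Subgroup.mul_mem _ (Subgroup.mem_sup_left h.t_mem) (Subgroup.mem_sup_right ⟨a, ha, rfl⟩)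
    have heq : F = R ⊔ (A j).map E.ι := by
      apply Subgroup.eq_of_le_of_card_ge hle2
      rw [card_prod h.bs.le, Facts1.card_A]
      omega
    refine ⟨j, fun x => ⟨hle x, ?_⟩⟩
    rw [heq]
    rintro (hx | hx)
    · exact Subgroup.mem_sup_right hx
    · have : x = t * (t * x) := by rw [← mul_assoc, h.tt, one_mul]
      rw [this]
      exact Subgroup.mul_mem _ (Subgroup.mem_sup_left h.t_mem) (Subgroup.mem_sup_right hx)

/-! ## The odd core, centralisers and fusion -/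

theorem W_comm (h : TInp E R t That) {x : G} (hx : x ∈ W E R) : Commute x t := by
  have h1 : W E R ≤ Subgroup.centralizer ({t} : Set G) := by
    refine (Subgroup.closure_le _).mpr ?_
    rintro x ⟨_, _, r, hr, hr1, hxr⟩
    rcases (h.mem_R r).mp hr with rfl | rfl
    · exact (hr1 rfl).elim
    · exact Subgroup.mem_centralizer_singleton_iff.mpr hxr.eq
  exact Subgroup.mem_centralizer_singleton_iff.mp (h1 hx)

theorem cent_K [Finite G] (h : TInp E R t That) {n : G} (hn : NT E R n) (hnM : n ∉ E.M) {c : G}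
    (hc : c ∈ E.K) (hct : Commute c t) : ∃ o ∈ W E R, c = o ∨ c = o * t := by
  obtain ⟨w, hw, -, ρ, hρ, he⟩ := cent_K_le h.bs hn hnM h.t_mem h.t1 hc hct
  refine ⟨w, hw, ?_⟩
  rcases (h.mem_R ρ).mp hρ with rfl | rfl
  · left; rw [he, mul_one]
  · right; exact he

/-- `C(t) ∩ C(B)` for a subgroup `B` of `L0` whose automorphism centraliser is `B' ≤ L0` -/
theorem cent_of [Finite G] (h : TInp E R t That) {n : G} (hn : NT E R n) (hnM : n ∉ E.M)
    {B B' : Subgroup L0}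
    (hB : ∀ α : MulAut L0, (∀ s ∈ B, α s = s) → ∃ z ∈ B', α = MulAut.conj z) {x : G}
    (hx : Commute x t) (hxB : ∀ a ∈ B.map E.ι, x * a = a * x) :
    ∃ o ∈ W E R, ∃ a ∈ B'.map E.ι, x = o * a ∨ x = o * t * a := by
  obtain ⟨α, hα⟩ := h.mem_M hx
  obtain ⟨z, hz, rfl⟩ := hB α (fun s hs => (hα.commute_iff s).mp (hxB _ ⟨s, hs, rfl⟩))
  have h1 : x * (E.ι z)⁻¹ ∈ E.K := by
    rw [← act_one_iff]
    have := hα.mul (act_ι (E := E) z).inv
    rwa [mul_inv_cancel] at this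
  have h2 : Commute (x * (E.ι z)⁻¹) t := hx.mul_left (commute_ι h.t_mem_K z).symm.inv_left
  obtain ⟨o, ho, he | he⟩ := h.cent_K hn hnM h1 h2
  · exact ⟨o, ho, _, ⟨z, hz, rfl⟩, Or.inl (mul_inv_eq_iff_eq_mul.mp he)⟩
  · exact ⟨o, ho, _, ⟨z, hz, rfl⟩, Or.inr (mul_inv_eq_iff_eq_mul.mp he)⟩

theorem cent_A [Finite G] (h : TInp E R t That) {n : G} (hn : NT E R n) (hnM : n ∉ E.M) (i : Bool)
    {x : G} (hx : Commute x t) (hxB : ∀ a ∈ (A i).map E.ι, x * a = a * x) :
    ∃ o ∈ W E R, ∃ a ∈ (A i).map E.ι, x = o * a ∨ x = o * t * a :=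
  h.cent_of hn hnM (fun _ hα => Facts3.aut_cent_A hα) hx hxB

theorem cent_S0 [Finite G] (h : TInp E R t That) {n : G} (hn : NT E R n) (hnM : n ∉ E.M)
    {x : G} (hx : Commute x t) (hxB : ∀ a ∈ S0.map E.ι, x * a = a * x) :
    ∃ o ∈ W E R, ∃ a ∈ Z0.map E.ι, x = o * a ∨ x = o * t * a :=
  h.cent_of hn hnM (fun _ hα => Facts3.aut_cent_S0 hα) hx hxB

/-- `n t n⁻¹ = t ι(z)` with `z ≠ 1` -/
theorem conj_t [Finite G] (h : TInp E R t That) {n : G} (hn : NT E R n) (hnM : n ∉ E.M) :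
    ∃ z ∈ Z0, z ≠ 1 ∧ n * t * n⁻¹ = t * E.ι z := by
  obtain ⟨r', hr', z, hz, he⟩ := conj_R h.bs hn h.t_mem
  have h1 := conj_R_ne h.bs hn h.t_mem hr' hz he h.t1
  have h2 := conj_R_ne' h.bs hnM h.t_mem hr' he h.t1
  rcases (h.mem_R r').mp hr' with rfl | rfl
  · exact (h1 rfl).elim
  · exact ⟨z, hz, h2, he.symm⟩

theorem inv_conj2 {x y : L0} (hx : x ≠ 1) (hx2 : x * x = 1) (hy : y ≠ 1) (hy2 : y * y = 1) :
    ∃ l, l * x * l⁻¹ = y := by
  obtain ⟨l, hl⟩ := Facts1.inv_conj hx hx2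
  obtain ⟨m, hm⟩ := Facts1.inv_conj hy hy2
  refine ⟨m⁻¹ * l, ?_⟩
  have : y = m⁻¹ * (m * y * m⁻¹) * m := by group
  rw [this, hm, ← hl]; group

/-- all `t ι(s)`, `s` an involution, are conjugate to `t` -/
theorem tD [Finite G] (h : TInp E R t That) {n : G} (hn : NT E R n) (hnM : n ∉ E.M) {s : L0}
    (hs1 : s ≠ 1) (hs2 : s * s = 1) : IsConj t (t * E.ι s) := by
  obtain ⟨z, hz, hz1, he⟩ := h.conj_t hn hnM
  obtain ⟨l, hl⟩ := inv_conj2 hz1 (Facts1.sq_of_mem_A (Facts1.Z0_le false hz)) hs1 hs2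
  rw [isConj_iff]
  refine ⟨E.ι l * n, ?_⟩
  have h1 : E.ι l * t = t * E.ι l := (commute_ι h.t_mem_K l).eq.symm
  calc E.ι l * n * t * (E.ι l * n)⁻¹ = E.ι l * (n * t * n⁻¹) * (E.ι l)⁻¹ := by group
    _ = (E.ι l * t) * E.ι z * (E.ι l)⁻¹ := by rw [he]; group
    _ = t * (E.ι l * E.ι z * (E.ι l)⁻¹) := by rw [h1]; group
    _ = t * E.ι s := by rw [← hl]; simp only [map_mul, map_inv]

/-- **No conjugate of `t` lies in the component.** -/
theorem not_conj_L [Finite G] (h : TInp E R t That) (y : L0) : ¬ IsConj t (E.ι y) := by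
  intro hc
  -- an involution of `Z` centralised by `That`
  have hZ2 : IsPGroup 2 That := h.that.two
  obtain ⟨x, ⟨z, hz, rfl⟩, hx1, hx2, hxc⟩ := exists_invol_commute (Q := That) (H := Z0.map E.ι) hZ2 (by
    rintro q hq _ ⟨z, hz, rfl⟩
    obtain ⟨α, hα⟩ := h.that_le hq
    rw [hα]
    refine ⟨α z, ?_, rfl⟩
    apply mem_Z0_of_central (h.ι_conj hq hα (Z0_le_S0 hz))
    intro s hs
    have h1 : α⁻¹ s ∈ S0 := h.ι_conj (That.inv_mem hq) hα.inv hs
    have h2 := Facts1.Z0_comm hz h1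
    have h3 := congrArg α h2
    rw [map_mul, map_mul, MulAut.apply_inv_self] at h3
    exact h3) (by rw [card_map, Facts1.card_Z0]; decide)
  have hy1 : y ≠ 1 := by
    rintro rfl
    rw [map_one, isConj_one_left] at hc
    exact h.t1 hc
  have hy2 : y * y = 1 := by
    obtain ⟨g, hg⟩ := isConj_iff.mp hc
    apply E.inj
    rw [map_mul, map_one, ← hg]
    calc g * t * g⁻¹ * (g * t * g⁻¹) = g * (t * t) * g⁻¹ := by group
      _ = 1 := by rw [h.tt]; group
  have hz1 : z ≠ 1 := by rintro rfl; exact hx1 (map_one _)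
  obtain ⟨l, hl⟩ := inv_conj2 hy1 hy2 hz1 (E.inj (by rw [map_mul, hx2, map_one]))
  have hc2 : IsConj t (E.ι z) := by
    refine hc.trans (isConj_iff.mpr ⟨E.ι l, ?_⟩)
    rw [← hl]; simp only [map_mul, map_inv]
  exact h.locT.not_conj_of_mem_Z ⟨z, hz, rfl⟩ (fun q hq => (hxc q hq).eq) hc2

/-- `n` normalises `ι(S0)` -/
theorem conj_S0 [Finite G] (h : TInp E R t That) {n : G} (hn : NT E R n) (hnM : n ∉ E.M) :
    ∀ x ∈ S0.map E.ι, n * x * n⁻¹ ∈ S0.map E.ι := by
  have key : ∀ i, ∀ a ∈ A i, n * E.ι a * n⁻¹ ∈ S0.map E.ι := by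
    intro i a ha
    by_cases ha1 : a = 1
    · rw [ha1, map_one, mul_one, mul_inv_cancel]; exact Subgroup.one_mem _
    have ha2 := Facts1.sq_of_mem_A ha
    obtain ⟨r, hr, s, hs, he⟩ := (mem_T0 h.bs.le).mp ((hn _).mp (ι_mem_T0 (R := R) (Facts1.A_le i ha)))
    rcases (h.mem_R r).mp hr with rfl | rfl
    · rw [one_mul] at he
      rw [← he]; exact ⟨s, hs, rfl⟩
    exfalso
    have h3 : (r * E.ι s) * (r * E.ι s) = 1 := by
      rw [he]
      calc n * E.ι a * n⁻¹ * (n * E.ι a * n⁻¹) = n * (E.ι a * E.ι a) * n⁻¹ := by group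
        _ = 1 := by rw [← map_mul, ha2, map_one]; group
    have h4 : s * s = 1 := by
      apply E.inj
      rw [map_mul, map_one]
      have h5 := (commute_ι h.t_mem_K s).eq
      calc E.ι s * E.ι s = (r * r) * (E.ι s * E.ι s) := by rw [h.tt, one_mul]
        _ = r * (r * E.ι s) * E.ι s := by group
        _ = r * (E.ι s * r) * E.ι s := by rw [h5]
        _ = r * E.ι s * (r * E.ι s) := by group
        _ = 1 := h3
    have hcon : IsConj r (n * E.ι a * n⁻¹) := by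
      rw [← he]
      by_cases hs1 : s = 1
      · rw [hs1, map_one, mul_one]
      · exact h.tD hn hnM hs1 h4
    refine h.not_conj_L a (hcon.trans (isConj_iff.mpr ⟨n⁻¹, ?_⟩))
    group
  have h1 : S0 ≤ (S0.map E.ι).comap ((MulAut.conj n).toMonoidHom.comp E.ι) := by
    rw [← Facts1.A_sup]
    refine sup_le (fun a ha => ?_) (fun a ha => ?_)
    · rw [Facts1.A_sup]; exact key false a ha
    · rw [Facts1.A_sup]; exact key true a ha
  rintro _ ⟨s, hs, rfl⟩
  exact h1 hs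

end TInp

/-- **Output of the case `|R| = 2`.** Everything about `t`, `T = ι(S0)`, `O = W`, and `n`. -/
theorem exists_two [Finite G] {h : G} (ho : Out E R h) (h2 : Nat.card R = 2) :
    ∃ (t : G) (That O : Subgroup G) (n : G),
      LocT t (S0.map E.ι) (Z0.map E.ι) That (fun i => (A i).map E.ι) ∧
      t ∈ E.K ∧ O ≤ E.K ∧ Odd (Nat.card O) ∧ (∀ o ∈ O, o * t = t * o) ∧
      (∀ c ∈ E.K, c * t = t * c → ∃ o ∈ O, c = o ∨ c = o * t) ∧
      (∀ x, x * t = t * x → (∀ a ∈ S0.map E.ι, x * a = a * x) →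
        ∃ o ∈ O, ∃ a ∈ Z0.map E.ι, x = o * a ∨ x = o * t * a) ∧
      (∀ i x, x * t = t * x → (∀ a ∈ (A i).map E.ι, x * a = a * x) →
        ∃ o ∈ O, ∃ a ∈ (A i).map E.ι, x = o * a ∨ x = o * t * a) ∧
      (∀ s : L0, s ≠ 1 → s * s = 1 → IsConj t (t * E.ι s)) ∧
      (∀ y : L0, ¬ IsConj t (E.ι y)) ∧
      (∀ x ∈ S0.map E.ι, n⁻¹ * x * n ∈ S0.map E.ι) ∧ (∀ x ∈ S0.map E.ι, n * x * n⁻¹ ∈ S0.map E.ι) ∧
      (∀ x ∈ O, n⁻¹ * x * n ∈ O) ∧ (∀ x ∈ O, n * x * n⁻¹ ∈ O) ∧
      (∀ c, c * t = t * c → ∀ x ∈ O, c * x * c⁻¹ ∈ O) ∧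
      (∃ z ∈ Z0, z ≠ 1 ∧ n⁻¹ * t * n = t * E.ι z) := by
  obtain ⟨t, That, hT⟩ := exists_t (bs_of_out ho) h2
  have hn : NT E R h := ho.norm
  have hnM := ho.nm
  have hn' : h⁻¹ ∉ E.M := fun h' => hnM (by have := E.M.inv_mem h'; rwa [inv_inv] at this)
  refine ⟨t, That, W E R, h, hT.locT, hT.t_mem_K, W_le_K, W_odd hT.bs hn hnM, fun o ho => hT.W_comm ho,
    fun c hc hct => hT.cent_K hn hnM hc hct, fun x hx hxa => hT.cent_S0 hn hnM hx hxa,
    fun i x hx hxa => hT.cent_A hn hnM i hx hxa, fun s h1 h2 => hT.tD hn hnM h1 h2, hT.not_conj_L,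
    ?_, hT.conj_S0 hn hnM, ?_, NT.conj_W hT.bs hn, ?_, ?_⟩
  · have := hT.conj_S0 hn.inv hn'
    rwa [inv_inv] at this
  · have := NT.conj_W hT.bs hn.inv
    rwa [inv_inv] at this
  · intro c hc
    exact cent_conj_W hT.bs hn hnM hT.t_mem hT.t1 hc
  · obtain ⟨z, hz, hz1, he⟩ := hT.conj_t hn.inv hn'
    rw [inv_inv] at he
    exact ⟨z, hz, hz1, he⟩

end Cfsg.Agent.StdLThreeFour.RTwo
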