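import Cfsg.Agent.SporRec.SuzCl.Inv

/-!
# The presented Suzuki group: the four-group over `e` and an element inducing a transposition on it

`rr` is a conjugate of `e` commuting with `a, b, c, f, g, e`; `tt` commutes with `e` but not with `rr`.
-/

set_option autoImplicit false
set_option maxRecDepth 100000

namespace Cfsg.Agent.StdLThreeFour.OutTau

open Cfsg.Spor Cfsg.Agent.SporadicRecognition.SuzPhi Cfsg.Agent.SporadicRecognition.SuzOrder
open Cfsg.Agent.SporRec.SuzCl

/-- equality of words, checked on the base -/
noncomputable def eqW (v w : List Suz.Gen) : Bool := eqB (wtr v) (wtr w)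

theorem eq_of_eqW {v w : List Suz.Gen} (h : eqW v w = true) : el v = el w :=
  eq_of_eqB (fun p hp => (wtr_spec v p hp).1) (fun p hp => (wtr_spec w p hp).1) h

theorem ne_of_eqW {v w : List Suz.Gen} (h : eqW v w = false) : el v ≠ el w := by
  intro h1
  have h2 : eqW v w = true :=
    eqB_of_eq (fun p hp => (wtr_spec v p hp).1) (fun p hp => (wtr_spec w p hp).1) h1
  rw [h] at h2
  exact absurd h2 (by decide)

theorem el_app (v w : List Suz.Gen) : el (v ++ w) = el v * el w := by
  unfold el; rw [List.map_append, List.prod_append]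

theorem el_nil : el [] = 1 := rfl

theorem el_one (x : Suz.Gen) : el [x] = PresentedGroup.of x := by
  unfold el; simp

/-- the word of `rr` -/
def wr : List Suz.Gen := [.d, .c, .b, .a, .b, .a, .d, .c, .d, .b, .c, .d, .e,
  .d, .c, .b, .d, .c, .d, .a, .b, .a, .b, .c, .d]

/-- the word of `tt` -/
def wt : List Suz.Gen := [.d, .c, .b, .f, .g, .b, .c, .d, .c, .b, .g, .f, .b, .c, .d]

theorem comm_of {v w : List Suz.Gen} (h : eqW (v ++ w) (w ++ v) = true) : Commute (el v) (el w) := by
  have := eq_of_eqW h
  rwa [el_app, el_app] at this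

theorem not_comm_of {v w : List Suz.Gen} (h : eqW (v ++ w) (w ++ v) = false) :
    ¬ Commute (el v) (el w) := by
  intro h1
  have := ne_of_eqW h
  rw [el_app, el_app] at this
  exact this h1.eq

theorem rr_a : Commute (el wr) (el [.a]) := comm_of (by decide +kernel)
theorem rr_b : Commute (el wr) (el [.b]) := comm_of (by decide +kernel)
theorem rr_c : Commute (el wr) (el [.c]) := comm_of (by decide +kernel)
theorem rr_f : Commute (el wr) (el [.f]) := comm_of (by decide +kernel)
theorem rr_g : Commute (el wr) (el [.g]) := comm_of (by decide +kernel)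
theorem rr_e : Commute (el wr) (el [.e]) := comm_of (by decide +kernel)
theorem tt_e : Commute (el wt) (el [.e]) := comm_of (by decide +kernel)
theorem tt_rr : ¬ Commute (el wt) (el wr) := not_comm_of (by decide +kernel)
theorem rr_ne : el wr ≠ el [.e] := ne_of_eqW (by decide +kernel)
theorem rr_ne_one : el wr ≠ 1 := ne_of_eqW (w := []) (by decide +kernel)

theorem ie_eq : ie = el [.e] := (el_one _).symm
theorem ia_eq : ia = el [.a] := (el_one _).symm

end Cfsg.Agent.StdLThreeFour.OutTau
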