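import Cfsg.Agent.StdLThreeFour.RFourMain

/-!
# Standard `L3(4)`, case `|R| = 4`: the relators of the amalgam
-/

set_option autoImplicit false
set_option linter.unusedVariables false
set_option linter.unusedSectionVars false
set_option linter.constructorNameAsVariable false

namespace Cfsg.Agent.StdLThreeFour.RFourAm

open Matrix
open Cfsg.Agent.StdLThreeFour.Base Cfsg.Agent.StdLThreeFour.RFourDefs Cfsg.Agent.StdLThreeFour.RFourU
open Cfsg.Agent.StdLThreeFour.RFourRho Cfsg.Agent.StdLThreeFour.RFourRhoA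
open Cfsg.Agent.StdLThreeFour.RFourRhoB
open Cfsg.Agent.SporadicA.FieldFour
open Cfsg.Agent.ONType.Psl

/-- `g ^ h = h⁻¹ g h` -/
def cj {X : Type*} [Group X] (g h : X) : X := h⁻¹ * g * h

/-- `[g, h] = g⁻¹ h⁻¹ g h` -/
def cm {X : Type*} [Group X] (g h : X) : X := g⁻¹ * h⁻¹ * g * h

/-- the relators of helper337's presentation (bb S1748, 6478): `m = (12)`, `n = (23)`, `c = x₁₃(1)`,
`a = x₁₃(ω)`, `t = diag(1, ω, ω²)`, `e = r(1)`, `r = ρ`, `y = y₁₃(1)` -/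
structure Am {X : Type*} [Group X] (m n c a t e r y : X) : Prop where
  m2 : m * m = 1
  n2 : n * n = 1
  c2 : c * c = 1
  a2 : a * a = 1
  t3 : t * t * t = 1
  mn3 : (m * n) * (m * n) * (m * n) = 1
  tm2 : (t * m) * (t * m) = 1
  tn2 : (t * n) * (t * n) = 1
  act : a * t * c * t⁻¹ = 1
  ct3 : (c * t) * (c * t) * (c * t) = 1
  ca : cm c a = 1
  ccn : cm c (cj c n) = 1
  acn : cm a (cj c n) = 1
  ccm : cm c (cj c m) = 1
  acm : cm a (cj c m) = 1
  cncm : cm (cj c n) (cj c m) * c = 1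
  ancm : cm (cj a n) (cj c m) * a = 1
  cnam : cm (cj c n) (cj a m) * a = 1
  anam : cm (cj a n) (cj a m) * c * a = 1
  cmnm : (c * m * n * m) * (c * m * n * m) * (c * m * n * m) = 1
  e2 : e * e = 1
  r3 : r * r * r = 1
  er3 : (e * r) * (e * r) * (e * r) = 1
  em : Commute e m
  en : Commute e n
  ec : Commute e c
  et : Commute e t
  rm : Commute r m
  rn : Commute r n
  rc : Commute r c
  rt : Commute r t
  y2 : y * y = 1
  yc : Commute y c
  ya : Commute y a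
  ycn : Commute y (cj c n)
  yan : Commute y (cj a n)
  ycm : Commute y (cj c m)
  yam : Commute y (cj a m)
  yt : cj y t = cj y r
  ey : cm e y * c = 1
  ery : cm (cj e r) y * a = 1
  ry3 : (r * y) * (r * y) * (r * y) = 1
  e1a : cm (cj y n) y * c * a * cj (c * a) n = 1
  e1b : cm (cj y n) (cj y r⁻¹) * a * cj c n = 1
  e1c : cm (cj y n) (cj c m) * y * c * a * cj (c * a) n * cj e r⁻¹ = 1
  e1d : cm (cj y n) (cj a m) * cj y r⁻¹ * a * cj c n * e = 1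
  e2a : cm (cj y m) y * a * cj a m = 1
  e2b : cm (cj y m) (cj y r⁻¹) * c * cj (c * a) m = 1
  e2c : cm (cj y m) (cj c n) * y * a * cj a m * cj e r = 1
  e2d : cm (cj y m) (cj a n) * cj y r⁻¹ * c * cj (c * a) m * cj e r⁻¹ = 1
  pq3 : (cj y n * cj y (m * r⁻¹)) * (cj y n * cj y (m * r⁻¹)) * (cj y n * cj y (m * r⁻¹)) = 1
  pqpr : (cj y n * cj y (m * r⁻¹) * cj y n * r) * (cj y n * cj y (m * r⁻¹) * cj y n * r) = 1

theorem mn3 : (nn 0 1 * nn 1 2) * (nn 0 1 * nn 1 2) * (nn 0 1 * nn 1 2) = 1 := by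
  show (QuotientGroup.mk ((N 0 1 * N 1 2) * (N 0 1 * N 1 2) * (N 0 1 * N 1 2)) : PSL3) =
    QuotientGroup.mk 1
  apply mk_eq 1
  show (((tm 0 1 1 * tm 1 0 1 * tm 0 1 1) * (tm 1 2 1 * tm 2 1 1 * tm 1 2 1)) *
    ((tm 0 1 1 * tm 1 0 1 * tm 0 1 1) * (tm 1 2 1 * tm 2 1 1 * tm 1 2 1)) *
    ((tm 0 1 1 * tm 1 0 1 * tm 0 1 1) * (tm 1 2 1 * tm 2 1 1 * tm 1 2 1))) =
    1 * Matrix.diagonal (fun _ => 1)
  decide +kernel

theorem cmnm : (t 0 2 1 * nn 0 1 * nn 1 2 * nn 0 1) * (t 0 2 1 * nn 0 1 * nn 1 2 * nn 0 1) *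
    (t 0 2 1 * nn 0 1 * nn 1 2 * nn 0 1) = 1 := by
  show (QuotientGroup.mk ((T 0 2 1 * N 0 1 * N 1 2 * N 0 1) * (T 0 2 1 * N 0 1 * N 1 2 * N 0 1) *
    (T 0 2 1 * N 0 1 * N 1 2 * N 0 1)) : PSL3) = QuotientGroup.mk 1
  apply mk_eq 1
  show ((tm 0 2 1 * (tm 0 1 1 * tm 1 0 1 * tm 0 1 1) * (tm 1 2 1 * tm 2 1 1 * tm 1 2 1) *
      (tm 0 1 1 * tm 1 0 1 * tm 0 1 1)) *
    (tm 0 2 1 * (tm 0 1 1 * tm 1 0 1 * tm 0 1 1) * (tm 1 2 1 * tm 2 1 1 * tm 1 2 1) *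
      (tm 0 1 1 * tm 1 0 1 * tm 0 1 1)) *
    (tm 0 2 1 * (tm 0 1 1 * tm 1 0 1 * tm 0 1 1) * (tm 1 2 1 * tm 2 1 1 * tm 1 2 1) *
      (tm 0 1 1 * tm 1 0 1 * tm 0 1 1))) = 1 * Matrix.diagonal (fun _ => 1)
  decide +kernel

theorem nn_inv (i j : Fin 3) (h : i ≠ j) : (nn i j)⁻¹ = nn i j :=
  inv_eq_of_mul_eq_one_right (nn_sq i j h)

theorem t_inv (i j : Fin 3) (h : i ≠ j) (u : F4) : (t i j u)⁻¹ = t i j u := by
  apply inv_eq_of_mul_eq_one_right
  rw [t_add i j _ _ h, RFourCocyc.add_self, t_zero]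

theorem cj_n (u : F4) : cj (t 0 2 u) (nn 1 2) = t 0 1 u := by
  unfold cj
  rw [nn_inv 1 2 (by decide), nn12_02, mul_assoc, nn_sq 1 2 (by decide), mul_one]

theorem cj_m (u : F4) : cj (t 0 2 u) (nn 0 1) = t 1 2 u := by
  unfold cj
  rw [nn_inv 0 1 (by decide), nn01_02, mul_assoc, nn_sq 0 1 (by decide), mul_one]

theorem cm_swap (u v : F4) : cm (t 0 1 u) (t 1 2 v) = t 0 2 (u * v) := by
  unfold cm
  rw [t_inv 0 1 (by decide), t_inv 1 2 (by decide)]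
  calc t 0 1 u * t 1 2 v * t 0 1 u * t 1 2 v = t 0 1 u * (t 1 2 v * t 0 1 u) * t 1 2 v := by group
    _ = (t 0 1 u * t 0 1 u) * t 1 2 v * (t 0 2 (u * v) * t 1 2 v) := by rw [Base.swap]; group
    _ = t 1 2 v * (t 1 2 v * t 0 2 (u * v)) := by
      rw [t_add 0 1 _ _ (by decide), RFourCocyc.add_self, t_zero, one_mul, t0212]
    _ = _ := by
      rw [← mul_assoc, t_add 1 2 _ _ (by decide), RFourCocyc.add_self, t_zero, one_mul]

variable {X : Type*} [Group X] {ι : L0 →* X} {r n : F4 → X} {ρ : X}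

theorem cm_of_comm {x y : X} (h : x * y = y * x) : cm x y = 1 := by
  unfold cm
  have : x⁻¹ * y⁻¹ * x * y = (y * x)⁻¹ * (x * y) := by group
  rw [this, h, inv_mul_cancel]

theorem cj_map (f : L0 →* X) (x y : L0) : cj (f x) (f y) = f (cj x y) := by
  unfold cj; simp only [map_mul, map_inv]

theorem cm_map (f : L0 →* X) (x y : L0) : cm (f x) (f y) = f (cm x y) := by
  unfold cm; simp only [map_mul, map_inv]

/-- **All relators hold.** -/
theorem am (R : Rho ι r n ρ) : Am (ι (nn 0 1)) (ι (nn 1 2)) (ι (t 0 2 1)) (ι (t 0 2 ω)) (ι hh)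
    (r 1) ρ (n 1) := by
  have h := R.hyp.t
  have hu := R.hyp.u
  have hhp : hh * hh * hh = 1 := by
    have := hh_pow
    rwa [pow_three, ← mul_assoc] at this
  have n2 : ∀ l, n l * n l = 1 := fun l => by rw [h.nn_sq, zero_mul, t_zero, map_one]
  have r2 : ∀ l, r l * r l = 1 := fun l => by rw [← h.r_add, RFourCocyc.add_self, r_zero h]
  have ninv : ∀ l, (n l)⁻¹ = n l := fun l => inv_eq_of_mul_eq_one_right (n2 l)
  have ιinv : ∀ (i j : Fin 3) (_ : i ≠ j) u, (ι (t i j u))⁻¹ = ι (t i j u) := fun i j hij u => by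
    rw [← map_inv, t_inv i j hij]
  have nnι : ∀ (i j : Fin 3) (_ : i ≠ j), (ι (nn i j))⁻¹ = ι (nn i j) := fun i j hij => by
    rw [← map_inv, nn_inv i j hij]
  have ρn' : ∀ l, ρ⁻¹ * n l * ρ = n (ω2 * l) := by
    intro l
    have h1 := R.act_n (ω2 * l)
    have h2 : ∀ l : F4, ω * (ω2 * l) = l := by decide
    rw [h2] at h1
    rw [← h1]; group
  have ρr' : ∀ m, ρ⁻¹ * r m * ρ = r (ω * m) := by
    intro l
    have h1 := R.act_r (ω * l)
    have h2 : ∀ l : F4, ω2 * (ω * l) = l := by decide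
    rw [h2] at h1
    rw [← h1]; group
  have cjyρ : cj (n 1) ρ⁻¹ = n ω := by
    unfold cj; rw [inv_inv, R.act_n, mul_one]
  have cjeρ : cj (r 1) ρ = r ω := by unfold cj; rw [ρr', mul_one]
  have cjeρ' : cj (r 1) ρ⁻¹ = r ω2 := by unfold cj; rw [inv_inv, R.act_r, mul_one]
  have cjP1 : cj (n 1) (ι (nn 1 2)) = P1 ι n 1 := by
    unfold cj P1; rw [nnι 1 2 (by decide)]
  have cjP2 : cj (n 1) (ι (nn 0 1)) = P2 ι n 1 := by
    unfold cj P2; rw [nnι 0 1 (by decide)]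
  have cjP2ρ : cj (n 1) (ι (nn 0 1) * ρ⁻¹) = P2 ι n ω := by
    have : cj (n 1) (ι (nn 0 1) * ρ⁻¹) = ρ * cj (n 1) (ι (nn 0 1)) * ρ⁻¹ := by unfold cj; group
    rw [this, cjP2, R.ρ_P2, mul_one]
  have e1 : (1 : F4) + ω = ω2 := by decide
  have cmP1n : ∀ l, cm (P1 ι n 1) (n l) = ι (t 0 1 (ω2 * l)) * zz ι (ω2 * (l * l)) := by
    intro l
    unfold cm
    rw [inv_eq_of_mul_eq_one_right (P1_sq h 1), ninv]
    have h1 := hu.np₁ l 1
    have h1' : n l * P1 ι n 1 = P1 ι n 1 * n l * ι (t 0 1 (ω2 * l)) * zz ι (ω2 * (l * l)) := by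
      have e3 : ω2 * (l * 1 * 1) = ω2 * l := by ring
      have e4 : ω2 * (l * l * 1) = ω2 * (l * l) := by ring
      rw [e3, e4] at h1
      exact h1
    calc P1 ι n 1 * n l * P1 ι n 1 * n l = P1 ι n 1 * (n l * P1 ι n 1) * n l := by group
      _ = (P1 ι n 1 * P1 ι n 1) * n l * (ι (t 0 1 (ω2 * l)) * (zz ι (ω2 * (l * l)) * n l)) := by
        rw [h1']; group
      _ = (n l * n l) * (ι (t 0 1 (ω2 * l)) * zz ι (ω2 * (l * l))) := by
        rw [P1_sq h, one_mul, ← (n_z h l _).eq, ← mul_assoc (ι _), ← (n_01 h l _).eq]; group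
      _ = _ := by rw [n2, one_mul]
  have cmP2n : ∀ l, cm (P2 ι n 1) (n l) = ι (t 1 2 (ω * l)) * zz ι (ω * (l * l)) := by
    intro l
    unfold cm
    rw [inv_eq_of_mul_eq_one_right (P2_sq h 1), ninv]
    have h1 := hu.np₂ l 1
    have h1' : n l * P2 ι n 1 = P2 ι n 1 * n l * ι (t 1 2 (ω * l)) * zz ι (ω * (l * l)) := by
      have e3 : ω * (l * 1 * 1) = ω * l := by ring
      have e4 : ω * (l * l * 1) = ω * (l * l) := by ring
      rw [e3, e4] at h1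
      exact h1
    calc P2 ι n 1 * n l * P2 ι n 1 * n l = P2 ι n 1 * (n l * P2 ι n 1) * n l := by group
      _ = (P2 ι n 1 * P2 ι n 1) * n l * (ι (t 1 2 (ω * l)) * (zz ι (ω * (l * l)) * n l)) := by
        rw [h1']; group
      _ = (n l * n l) * (ι (t 1 2 (ω * l)) * zz ι (ω * (l * l))) := by
        rw [P2_sq h, one_mul, ← (n_z h l _).eq, ← mul_assoc (ι _), ← (n_12 h l _).eq]; group
      _ = _ := by rw [n2, one_mul]
  have cmP1t : ∀ b, cm (P1 ι n 1) (ι (t 1 2 b)) = n b * r (ω2 * b) * ι (t 0 1 (ω2 * b)) := by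
    intro b
    unfold cm
    rw [inv_eq_of_mul_eq_one_right (P1_sq h 1)]
    have h1 := hu.u₁ 1 b
    have h1' : ι (t 1 2 b) * P1 ι n 1 * (ι (t 1 2 b))⁻¹ = P1 ι n 1 * n b * r (ω2 * b) *
        ι (t 0 1 (ω2 * b)) := by
      have e3 : ω2 * (1 * 1 * b) = ω2 * b := by ring
      have e4 : ω2 * (1 * 1 * 1 * b) = ω2 * b := by ring
      rw [e3, e4, one_mul] at h1
      exact h1
    rw [ιinv 1 2 (by decide)] at h1' ⊢
    calc P1 ι n 1 * ι (t 1 2 b) * P1 ι n 1 * ι (t 1 2 b) =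
        P1 ι n 1 * (ι (t 1 2 b) * P1 ι n 1 * ι (t 1 2 b)) := by group
      _ = (P1 ι n 1 * P1 ι n 1) * n b * r (ω2 * b) * ι (t 0 1 (ω2 * b)) := by rw [h1']; group
      _ = _ := by rw [P1_sq h, one_mul]
  have cmP2t : ∀ b, cm (P2 ι n 1) (ι (t 0 1 b)) = n b * r (ω * b) * ι (t 1 2 (ω * b)) := by
    intro b
    unfold cm
    rw [inv_eq_of_mul_eq_one_right (P2_sq h 1)]
    have h1 := hu.u₂ 1 b
    have h1' : ι (t 0 1 b) * P2 ι n 1 * (ι (t 0 1 b))⁻¹ = P2 ι n 1 * n b * r (ω * b) *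
        ι (t 1 2 (ω * b)) := by
      have e3 : ω * (1 * 1 * b) = ω * b := by ring
      have e4 : ω * (1 * 1 * 1 * b) = ω * b := by ring
      rw [e3, e4, one_mul] at h1
      exact h1
    rw [ιinv 0 1 (by decide)] at h1' ⊢
    calc P2 ι n 1 * ι (t 0 1 b) * P2 ι n 1 * ι (t 0 1 b) =
        P2 ι n 1 * (ι (t 0 1 b) * P2 ι n 1 * ι (t 0 1 b)) := by group
      _ = (P2 ι n 1 * P2 ι n 1) * n b * r (ω * b) * ι (t 1 2 (ω * b)) := by rw [h1']; group
      _ = _ := by rw [P2_sq h, one_mul]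
  have cmrn : ∀ m l, cm (r m) (n l) = zz ι (l * m) := by
    intro m l
    unfold cm
    rw [r_inv h, ninv]
    have h1 := h.rn m l
    have h1' : r m * n l = n l * r m * zz ι (l * m) := h1
    calc r m * n l * r m * n l = (r m * n l) * (r m * n l) := by group
      _ = n l * (r m * (zz ι (l * m) * r m)) * n l := by
        nth_rewrite 1 [h1']; group
      _ = n l * (r m * r m) * (zz ι (l * m) * n l) := by
        rw [← (r_z h m (l * m)).eq]; group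
      _ = _ := by rw [r2, mul_one, ← (n_z h l _).eq, ← mul_assoc, n2, one_mul]
  have ζ : ∀ c, ι (t 0 2 c) = zz ι c := fun c => rfl
  have z2 : ∀ c, zz ι c * zz ι c = 1 := fun c => by rw [← zz_add, RFourCocyc.add_self, zz_zero]
  have a01 : ∀ u v, ι (t 0 1 u) * ι (t 0 1 v) = ι (t 0 1 (u + v)) := fun u v => by
    rw [← map_mul, t_add 0 1 _ _ (by decide)]
  have a12 : ∀ u v, ι (t 1 2 u) * ι (t 1 2 v) = ι (t 1 2 (u + v)) := fun u v => by
    rw [← map_mul, t_add 1 2 _ _ (by decide)]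
  have s01 : ∀ u, ι (t 0 1 u) * ι (t 0 1 u) = 1 := fun u => by
    rw [a01, RFourCocyc.add_self, t_zero, map_one]
  have s12 : ∀ u, ι (t 1 2 u) * ι (t 1 2 u) = 1 := fun u => by
    rw [a12, RFourCocyc.add_self, t_zero, map_one]
  have caz : ι (t 0 2 1) * ι (t 0 2 ω) = zz ι ω2 := by rw [ζ, ζ, ← zz_add, e1]
  have caz' : ι (t 0 2 1) * ι (t 0 2 ω) = ι (t 0 2 ω2) := caz
  have nrz : ∀ l m, n l * r m * (n l * r m) = zz ι (l * m) := by
    intro l m
    have h1 := n_r h l m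
    have h2 : n l * r m = r m * zz ι (l * m) * n l := by rw [← h1]; group
    calc n l * r m * (n l * r m) = (r m * zz ι (l * m) * n l) * (n l * r m) := by
          nth_rewrite 1 [h2]; rfl
      _ = r m * zz ι (l * m) * (n l * n l) * r m := by group
      _ = r m * (zz ι (l * m) * r m) := by rw [n2, mul_one, mul_assoc]
      _ = _ := by rw [← (r_z h m _).eq, ← mul_assoc, r2, one_mul]
  refine
    { m2 := by rw [← map_mul, nn_sq 0 1 (by decide), map_one]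
      n2 := by rw [← map_mul, nn_sq 1 2 (by decide), map_one]
      c2 := z2 1
      a2 := z2 ω
      t3 := by rw [← map_mul, ← map_mul, hhp, map_one]
      mn3 := by simp only [← map_mul]; rw [mn3, map_one]
      tm2 := by
        simp only [← map_mul]
        have : hh * nn 0 1 * (hh * nn 0 1) = (hh * nn 0 1 * hh) * nn 0 1 := by group
        rw [this, hnh 0 1 (by decide), nn_sq 0 1 (by decide), map_one]
      tn2 := by
        simp only [← map_mul]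
        have : hh * nn 1 2 * (hh * nn 1 2) = (hh * nn 1 2 * hh) * nn 1 2 := by group
        rw [this, hnh 1 2 (by decide), nn_sq 1 2 (by decide), map_one]
      act := ?_
      ct3 := ?_
      ca := ?_
      ccn := ?_
      acn := ?_
      ccm := ?_
      acm := ?_
      cncm := ?_
      ancm := ?_
      cnam := ?_
      anam := ?_
      cmnm := by simp only [← map_mul]; rw [cmnm, map_one]
      e2 := r2 1
      r3 := R.cube
      er3 := ?_
      em := h.r_L _ _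
      en := h.r_L _ _
      ec := h.r_L _ _
      et := h.r_L _ _
      rm := R.comm _
      rn := R.comm _
      rc := R.comm _
      rt := R.comm _
      y2 := n2 1
      yc := n_z h 1 1
      ya := n_z h 1 ω
      ycn := ?_
      yan := ?_
      ycm := ?_
      yam := ?_
      yt := ?_
      ey := ?_
      ery := ?_
      ry3 := ?_
      e1a := ?_
      e1b := ?_
      e1c := ?_
      e1d := ?_
      e2a := ?_
      e2b := ?_
      e2c := ?_
      e2d := ?_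
      pq3 := ?_
      pqpr := ?_ }
  · -- act
    rw [← map_inv, ← map_mul, ← map_mul, ← map_mul]
    have h1 := Facts1.hh_conj 0 2 (ω * 1) (by decide)
    have h2 : kap 0 2 * (ω * 1) = 1 := by decide
    rw [h2] at h1
    have h3 : hh * t 0 2 1 * hh⁻¹ = t 0 2 ω := by rw [← h1, mul_one]; group
    have h4 : t 0 2 ω * hh * t 0 2 1 * hh⁻¹ = t 0 2 ω * (hh * t 0 2 1 * hh⁻¹) := by group
    rw [h4, h3, t_add 0 2 _ _ (by decide), RFourCocyc.add_self, t_zero, map_one]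
  · -- ct3
    simp only [← map_mul]
    have h1 := Facts1.hh_conj 0 2 1 (by decide)
    have h2 := Facts1.hh_conj 0 2 ω2 (by decide)
    have e3 : kap 0 2 * 1 = ω2 := by decide
    have e4 : kap 0 2 * ω2 = ω := by decide
    rw [e3] at h1
    rw [e4] at h2
    -- (c t)^3 = c * (t c t⁻¹) * (t² c t⁻²) * t³
    have h3 : hh * t 0 2 1 * hh⁻¹ = t 0 2 ω := by
      have h5 := Facts1.hh_conj 0 2 ω (by decide)
      have e5 : kap 0 2 * ω = 1 := by decide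
      rw [e5] at h5
      rw [← h5]; group
    have h4 : hh * t 0 2 ω * hh⁻¹ = t 0 2 ω2 := by rw [← h2]; group
    have h6 : t 0 2 1 * hh * (t 0 2 1 * hh) * (t 0 2 1 * hh) =
        t 0 2 1 * (hh * t 0 2 1 * hh⁻¹) * (hh * (hh * t 0 2 1 * hh⁻¹) * hh⁻¹) * (hh * hh * hh) := by
      group
    rw [h6, h3, h4, hhp, mul_one, t_add 0 2 _ _ (by decide), t_add 0 2 _ _ (by decide)]
    have e6 : (1 : F4) + ω + ω2 = 0 := by decide
    rw [e6, t_zero, map_one]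
  · rw [cm_map, cm_of_comm, map_one]
    rw [t_add 0 2 _ _ (by decide), t_add 0 2 _ _ (by decide), add_comm]
  · rw [cj_map, cj_n, cm_map, cm_of_comm, map_one]
    exact (t0102 _ _).symm
  · rw [cj_map, cj_n, cm_map, cm_of_comm, map_one]
    exact (t0102 _ _).symm
  · rw [cj_map, cj_m, cm_map, cm_of_comm, map_one]
    exact t0212 _ _
  · rw [cj_map, cj_m, cm_map, cm_of_comm, map_one]
    exact t0212 _ _
  · rw [cj_map, cj_map, cj_n, cj_m, cm_map, cm_swap, mul_one]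
    exact z2 1
  · rw [cj_map, cj_map, cj_n, cj_m, cm_map, cm_swap, mul_one]
    exact z2 ω
  · rw [cj_map, cj_map, cj_n, cj_m, cm_map, cm_swap, one_mul]
    exact z2 ω
  · rw [cj_map, cj_map, cj_n, cj_m, cm_map, cm_swap, mul_assoc, caz]
    have : (ω : F4) * ω = ω2 := by decide
    rw [this]
    exact z2 ω2
  · -- er3
    have h1 : r 1 * ρ * (r 1 * ρ) * (r 1 * ρ) =
        r 1 * (ρ * r 1 * ρ⁻¹) * (ρ * (ρ * r 1 * ρ⁻¹) * ρ⁻¹) * (ρ * ρ * ρ) := by group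
    rw [h1, R.act_r, R.act_r, R.cube, mul_one, ← h.r_add, ← h.r_add]
    have e6 : (1 : F4) + ω2 * 1 + ω2 * (ω2 * 1) = 0 := by decide
    rw [e6, r_zero h]
  · rw [cj_map, cj_n]; exact n_01 h _ _
  · rw [cj_map, cj_n]; exact n_01 h _ _
  · rw [cj_map, cj_m]; exact n_12 h _ _
  · rw [cj_map, cj_m]; exact n_12 h _ _
  · unfold cj; rw [h.n_hh, ρn']
  · rw [cmrn, mul_one]; exact z2 1
  · rw [cjeρ, cmrn, one_mul]; exact z2 ω
  · -- ry3
    have h1 : ρ * n 1 * (ρ * n 1) * (ρ * n 1) =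
        (ρ * n 1 * ρ⁻¹) * (ρ * (ρ * n 1 * ρ⁻¹) * ρ⁻¹) * ((ρ * ρ * ρ) * n 1) := by group
    rw [h1, R.act_n, R.act_n, R.cube, one_mul, ← hu.n_add, ← hu.n_add]
    have e6 : (ω : F4) * 1 + ω * (ω * 1) + 1 = 0 := by decide
    rw [e6, h.n_zero]
  · -- e1a
    rw [show cj (ι (t 0 2 1) * ι (t 0 2 ω)) (ι (nn 1 2)) = ι (t 0 1 ω2) by
      rw [caz', cj_map, cj_n]]
    rw [cjP1, cmP1n, mul_assoc _ (ι (t 0 2 1)), caz, mul_one, mul_one, mul_one]
    calc ι (t 0 1 ω2) * zz ι ω2 * zz ι ω2 * ι (t 0 1 ω2) =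
        ι (t 0 1 ω2) * (zz ι ω2 * zz ι ω2) * ι (t 0 1 ω2) := by group
      _ = 1 := by rw [z2, mul_one, s01]
  · -- e1b
    rw [cjP1, cjyρ, cmP1n, cj_map, cj_n]
    have e3 : (ω2 : F4) * ω = 1 := by decide
    have e4 : (ω2 : F4) * (ω * ω) = ω := by decide
    rw [e3, e4]
    calc ι (t 0 1 1) * zz ι ω * zz ι ω * ι (t 0 1 1) =
        ι (t 0 1 1) * (zz ι ω * zz ι ω) * ι (t 0 1 1) := by group
      _ = 1 := by rw [z2, mul_one, s01]
  · -- e1c
    rw [cjP1, cj_map, cj_m, cmP1t, mul_one]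
    rw [show cj (ι (t 0 2 1) * ι (t 0 2 ω)) (ι (nn 1 2)) = ι (t 0 1 ω2) by
      rw [caz', cj_map, cj_n], cjeρ']
    have k1 : Commute (ι (t 0 1 ω2)) (n 1 * zz ι ω2) :=
      (n_01 h _ _).symm.mul_right (z_01 h _ _)
    calc n 1 * r ω2 * ι (t 0 1 ω2) * n 1 * ι (t 0 2 1) * ι (t 0 2 ω) * ι (t 0 1 ω2) * r ω2
        = n 1 * r ω2 * (ι (t 0 1 ω2) * (n 1 * (ι (t 0 2 1) * ι (t 0 2 ω)))) * ι (t 0 1 ω2) * r ω2 := by
          group
      _ = n 1 * r ω2 * (n 1 * zz ι ω2) * (ι (t 0 1 ω2) * ι (t 0 1 ω2)) * r ω2 := by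
          rw [caz, k1.eq]; group
      _ = n 1 * r ω2 * (n 1 * (zz ι ω2 * r ω2)) := by rw [s01, mul_one]; group
      _ = (n 1 * r ω2 * (n 1 * r ω2)) * zz ι ω2 := by rw [← (r_z h _ _).eq]; group
      _ = 1 := by rw [nrz, one_mul, z2]
  · -- e1d
    rw [cjP1, cj_map, cj_m, cmP1t, cjyρ, cj_map, cj_n]
    have e3 : (ω2 : F4) * ω = 1 := by decide
    rw [e3]
    have k1 : Commute (ι (t 0 1 1)) (n ω * zz ι ω) :=
      (n_01 h _ _).symm.mul_right (z_01 h _ _)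
    calc n ω * r 1 * ι (t 0 1 1) * n ω * ι (t 0 2 ω) * ι (t 0 1 1) * r 1
        = n ω * r 1 * (ι (t 0 1 1) * (n ω * zz ι ω)) * ι (t 0 1 1) * r 1 := by
          rw [ζ]; group
      _ = n ω * r 1 * (n ω * zz ι ω) * (ι (t 0 1 1) * ι (t 0 1 1)) * r 1 := by
          rw [k1.eq]; group
      _ = n ω * r 1 * (n ω * (zz ι ω * r 1)) := by rw [s01, mul_one]; group
      _ = (n ω * r 1 * (n ω * r 1)) * zz ι ω := by rw [← (r_z h _ _).eq]; group
      _ = 1 := by rw [nrz, mul_one, z2]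
  · -- e2a
    rw [cjP2, cmP2n, cj_map, cj_m, mul_one, mul_one, mul_one]
    calc ι (t 1 2 ω) * zz ι ω * zz ι ω * ι (t 1 2 ω) =
        ι (t 1 2 ω) * (zz ι ω * zz ι ω) * ι (t 1 2 ω) := by group
      _ = 1 := by rw [z2, mul_one, s12]
  · -- e2b
    rw [cjP2, cjyρ, cmP2n]
    rw [show cj (ι (t 0 2 1) * ι (t 0 2 ω)) (ι (nn 0 1)) = ι (t 1 2 ω2) by
      rw [caz', cj_map, cj_m]]
    have e3 : (ω : F4) * ω = ω2 := by decide
    have e4 : (ω : F4) * (ω * ω) = 1 := by decide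
    rw [e4, e3]
    calc ι (t 1 2 ω2) * zz ι 1 * zz ι 1 * ι (t 1 2 ω2) =
        ι (t 1 2 ω2) * (zz ι 1 * zz ι 1) * ι (t 1 2 ω2) := by group
      _ = 1 := by rw [z2, mul_one, s12]
  · -- e2c
    rw [cjP2, cj_map, cj_n, cmP2t, cj_map, cj_m, cjeρ, mul_one]
    have k1 : Commute (ι (t 1 2 ω)) (n 1 * zz ι ω) :=
      (n_12 h _ _).symm.mul_right (z_12 h _ _)
    calc n 1 * r ω * ι (t 1 2 ω) * n 1 * ι (t 0 2 ω) * ι (t 1 2 ω) * r ω
        = n 1 * r ω * (ι (t 1 2 ω) * (n 1 * zz ι ω)) * ι (t 1 2 ω) * r ω := by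
          rw [ζ]; group
      _ = n 1 * r ω * (n 1 * zz ι ω) * (ι (t 1 2 ω) * ι (t 1 2 ω)) * r ω := by
          rw [k1.eq]; group
      _ = n 1 * r ω * (n 1 * (zz ι ω * r ω)) := by rw [s12, mul_one]; group
      _ = (n 1 * r ω * (n 1 * r ω)) * zz ι ω := by rw [← (r_z h _ _).eq]; group
      _ = 1 := by rw [nrz, one_mul, z2]
  · -- e2d
    rw [cjP2, cj_map, cj_n, cmP2t, cjyρ, cjeρ']
    rw [show cj (ι (t 0 2 1) * ι (t 0 2 ω)) (ι (nn 0 1)) = ι (t 1 2 ω2) by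
      rw [caz', cj_map, cj_m]]
    have e3 : (ω : F4) * ω = ω2 := by decide
    rw [e3]
    have k1 : Commute (ι (t 1 2 ω2)) (n ω * zz ι 1) :=
      (n_12 h _ _).symm.mul_right (z_12 h _ _)
    calc n ω * r ω2 * ι (t 1 2 ω2) * n ω * ι (t 0 2 1) * ι (t 1 2 ω2) * r ω2
        = n ω * r ω2 * (ι (t 1 2 ω2) * (n ω * zz ι 1)) * ι (t 1 2 ω2) * r ω2 := by
          rw [ζ]; group
      _ = n ω * r ω2 * (n ω * zz ι 1) * (ι (t 1 2 ω2) * ι (t 1 2 ω2)) * r ω2 := by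
          rw [k1.eq]; group
      _ = n ω * r ω2 * (n ω * (zz ι 1 * r ω2)) := by rw [s12, mul_one]; group
      _ = (n ω * r ω2 * (n ω * r ω2)) * zz ι 1 := by rw [← (r_z h _ _).eq]; group
      _ = 1 := by
        rw [nrz]
        have e5 : (ω : F4) * ω2 = 1 := by decide
        rw [e5, z2]
  · rw [cjP1, cjP2ρ, mul_assoc]; exact R.pq3
  · rw [cjP1, cjP2ρ]; exact R.pqpρ

end Cfsg.Agent.StdLThreeFour.RFourAm
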