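import Cfsg.Agent.StdLThreeFour.OutMain
import Cfsg.Agent.StdLThreeFour.OutTau
import Cfsg.Agent.StdLThreeFour.RFourAm

/-!
# Standard `L3(4)`, case `|R| = 4`: the data for the exclusion of the outer part, from the homomorphism of `Suz`
-/

set_option autoImplicit false
set_option linter.unusedVariables false
set_option linter.constructorNameAsVariable false

namespace Cfsg.Agent.StdLThreeFour.MInpOf

open Cfsg.Agent.StdLThreeFour.Base Cfsg.Agent.StdLThreeFour.Emb
open Cfsg.Agent.StdLThreeFour.Red2d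
open Cfsg.Agent.StdLThreeFour.RFour0 Cfsg.Agent.StdLThreeFour.RFourA Cfsg.Agent.StdLThreeFour.RFourDefs
open Cfsg.Agent.StdLThreeFour.RFourU Cfsg.Agent.StdLThreeFour.RFourRhoB Cfsg.Agent.StdLThreeFour.RFourAm
open Cfsg.Agent.StdLThreeFour.OutInv Cfsg.Agent.StdLThreeFour.OutMain Cfsg.Agent.StdLThreeFour.OutTau
open Cfsg.Agent.SporadicA.FieldFour
open Cfsg.Agent.ONType.Psl
open Cfsg.Agent.SporRec.SuzCl
open Cfsg.Agent.SporadicRecognition.SuzPhi Cfsg.Agent.SporadicRecognition.SuzOrder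

/-- the letters of the amalgam in the generators of `Suz` -/
def wm : List Cfsg.Spor.Suz.Gen := [.f, .a, .b, .c, .a, .b, .g, .b, .c, .b, .a, .b, .f, .a]
/-- the letters of the amalgam in the generators of `Suz` -/
def wn : List Cfsg.Spor.Suz.Gen := [.a, .b, .f, .g, .b, .c, .a, .b, .g, .f, .b, .a]
/-- the letters of the amalgam in the generators of `Suz` -/
def wh : List Cfsg.Spor.Suz.Gen := [.b, .a, .b, .c, .a, .b]
/-- the letters of the amalgam in the generators of `Suz` -/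
def wρ : List Cfsg.Spor.Suz.Gen :=
  [.c, .b, .e, .d, .c, .d, .b, .a, .b, .c, .d, .a, .b, .c, .d, .e, .c, .b, .a, .b, .a]
/-- the letters of the amalgam in the generators of `Suz` -/
def wy : List Cfsg.Spor.Suz.Gen :=
  [.b, .a, .c, .b, .a, .d, .b, .c, .d, .e, .d, .c, .d, .a, .b, .a, .b, .c, .a, .b]

/-- an embedding of `Suz` with the given letters -/
structure Phi {X : Type*} [Group X] (m n c a t e r y : X) (φ : Cfsg.Spor.Suz →* X) : Prop where
  inj : Function.Injective φ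
  fa : φ (el [.a]) = a
  fc : φ (el [.c]) = c
  fe : φ (el [.e]) = e
  fm : φ (el wm) = m
  fn : φ (el wn) = n
  ft : φ (el wh) = t
  fr : φ (el wρ) = r
  fy : φ (el wy) = y
  rng : φ.range ≤ Subgroup.closure {m, n, c, a, t, e, r, y}

/-- commuting with a word -/
theorem comm_el {x : Cfsg.Spor.Suz} {w : List Cfsg.Spor.Suz.Gen} (h : ∀ y ∈ w, Commute x (el [y])) :
    Commute x (el w) := by
  induction w with
  | nil => rw [el_nil]; exact Commute.one_right x
  | cons y w ih =>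
    have h1 : y :: w = [y] ++ w := rfl
    rw [h1, el_app]
    exact (h y (List.mem_cons_self)).mul_right (ih fun z hz => h z (List.mem_cons_of_mem _ hz))

theorem rr_letters {w : List Cfsg.Spor.Suz.Gen}
    (h : ∀ y ∈ w, y = .a ∨ y = .b ∨ y = .c ∨ y = .f ∨ y = .g) : Commute (el wr) (el w) := by
  apply comm_el
  intro y hy
  rcases h y hy with rfl | rfl | rfl | rfl | rfl
  · exact rr_a
  · exact rr_b
  · exact rr_c
  · exact rr_f
  · exact rr_g

/-- an embedding of `Suz`, weaker form -/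
structure Phi2 {X : Type*} [Group X] (ι : L0 →* X) (r n : F4 → X) (ρ : X) (φ : Cfsg.Spor.Suz →* X) : Prop where
  inj : Function.Injective φ
  fa : φ (el [.a]) ∈ ι.range
  fe : φ (el [.e]) = r 1
  fL : ∀ y, ι y ∈ (Subgroup.closure {el [.a], el [.b], el [.c], el [.f], el [.g]}).map φ
  fr : ρ ∈ φ.range
  fy : n 1 ∈ φ.range
  rng : φ.range ≤ Subgroup.closure (Set.range ι ∪ Set.range r ∪ Set.range n ∪ {ρ})

/-- generation of `L` -/
theorem ι_mem {X : Type*} [Group X] {ι : L0 →* X} {Y : Subgroup X} (h1 : ι (nn 0 1) ∈ Y) (h2 : ι (nn 1 2) ∈ Y)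
    (h3 : ι (t 0 2 1) ∈ Y) (h4 : ι (t 0 2 ω) ∈ Y) (v : L0) : ι v ∈ Y := by
  set Z : Subgroup L0 := Y.comap ι with hZ
  have hn1 : nn 0 1 ∈ Z := h1
  have hn2 : nn 1 2 ∈ Z := h2
  have c1 : ∀ i j u, i ≠ j → t i j u ∈ Z → t (Equiv.swap 0 1 i) (Equiv.swap 0 1 j) u ∈ Z := by
    intro i j u hij h
    rw [← nn_conj 0 1 i j u (by decide) hij]
    exact Z.mul_mem (Z.mul_mem (Z.inv_mem hn1) h) hn1
  have c2 : ∀ i j u, i ≠ j → t i j u ∈ Z → t (Equiv.swap 1 2 i) (Equiv.swap 1 2 j) u ∈ Z := by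
    intro i j u hij h
    rw [← nn_conj 1 2 i j u (by decide) hij]
    exact Z.mul_mem (Z.mul_mem (Z.inv_mem hn2) h) hn2
  have m02 : ∀ u, t 0 2 u ∈ Z := by
    intro u
    have hu : u = 0 ∨ u = 1 ∨ u = ω ∨ u = 1 + ω := by revert u; decide
    rcases hu with rfl | rfl | rfl | rfl
    · rw [t_zero]; exact Z.one_mem
    · exact h3
    · exact h4
    · rw [← t_add 0 2 _ _ (by decide)]
      exact Z.mul_mem h3 h4
  have m12 : ∀ u, t 1 2 u ∈ Z := fun u => c1 0 2 u (by decide) (m02 u)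
  have m01 : ∀ u, t 0 1 u ∈ Z := fun u => c2 0 2 u (by decide) (m02 u)
  have m21 : ∀ u, t 2 1 u ∈ Z := fun u => c2 1 2 u (by decide) (m12 u)
  have m20 : ∀ u, t 2 0 u ∈ Z := fun u => c1 2 1 u (by decide) (m21 u)
  have m10 : ∀ u, t 1 0 u ∈ Z := fun u => c2 2 0 u (by decide) (m20 u)
  have key : Subgroup.closure {A : PSL3 | ∃ (i j : Fin 3) (_ : i ≠ j) (c : F4), A = t i j c} ≤ Z := by
    rw [Subgroup.closure_le]
    rintro A ⟨i, j, hij, c, rfl⟩
    fin_cases i <;> fin_cases j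
    · exact absurd rfl hij
    · exact m01 c
    · exact m02 c
    · exact m10 c
    · exact absurd rfl hij
    · exact m12 c
    · exact m20 c
    · exact m21 c
    · exact absurd rfl hij
  have : v ∈ Z := key (by rw [Cfsg.Agent.ONType.PslCard.closure_t]; trivial)
  exact this

universe u

variable {G : Type u} [Group G]

/-- **The data for the exclusion of the outer part.** -/
theorem exists_minp2 [Finite G] {E : SEmb G} {R : Subgroup G} {n₀ : G} (h : FInp E R n₀)
    (hΦ : ∀ (ι : L0 →* XX E R) (r n : F4 → XX E R) (ρ : XX E R), Rho ι r n ρ →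
      (∀ x, Commute x (r 1) → (∀ y, Commute x (ι y)) → x ∈ Set.range r) →
      ∃ φ : Cfsg.Spor.Suz →* XX E R, Phi2 ι r n ρ φ) :
    ∃ (ι' : L0 →* XX E R) (r' n' : F4 → XX E R) (ρ τ : XX E R) (φ : Cfsg.Spor.Suz →* XX E R),
      MInp h ι' r' n' ρ τ φ := by
  obtain ⟨ι, r, n, ρ, hρ, hrng, hιr, -, -⟩ := RFourMain.exists_rho (fourN h)
  have hone : ROne ι r := hρ.hyp.t.toROne
  have hrng' : Set.range r = (four h).R := hrng
  have hr_mem : ∀ k, r k ∈ (four h).R := by
    intro k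
    have : r k ∈ ((four h).R : Set (XX E R)) := by rw [← hrng']; exact ⟨k, rfl⟩
    exact this
  have hιr' : ι.range = (four h).ι.range := hιr
  have hr1 : r 1 ≠ 1 := by
    intro h1
    have h2 := hone.r_notL 1 1 (by rw [map_one]; exact h1)
    exact absurd h2 (by decide)
  have hcent : ∀ x, Commute x (r 1) → (∀ y, Commute x (ι y)) → x ∈ Set.range r := by
    intro x h1 h2
    rw [hrng']
    refine (four h).centK (r 1) (hr_mem 1) hr1 x h1 ?_
    intro y
    have h3 : (four h).ι y ∈ ι.range := by rw [hιr']; exact ⟨y, rfl⟩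
    obtain ⟨y', hy'⟩ := h3
    rw [← hy']
    exact h2 y'
  obtain ⟨φ, hφ⟩ := hΦ ι r n ρ hρ hcent
  have hr0 : r 0 = 1 := OutType.r_zero hone
  have hY : ∀ w, φ (el w) ∈ φ.range := fun w => ⟨_, rfl⟩
  have hιY : ∀ y, ι y ∈ φ.range := by
    intro y
    obtain ⟨z, -, hz⟩ := hφ.fL y
    exact ⟨z, hz⟩
  have hρY : ρ ∈ φ.range := hφ.fr
  have hr1Y : r 1 ∈ φ.range := by rw [← hφ.fe]; exact hY _
  have hn1Y : n 1 ∈ φ.range := hφ.fy
  have h4 : ∀ u : F4, u = 0 ∨ u = 1 ∨ u = ω2 * 1 ∨ u = ω2 * (ω2 * 1) := by decide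
  have h4' : ∀ u : F4, u = 0 ∨ u = 1 ∨ u = ω * 1 ∨ u = ω * (ω * 1) := by decide
  have hrY : ∀ k, r k ∈ φ.range := by
    have step : ∀ k, r k ∈ φ.range → r (ω2 * k) ∈ φ.range := by
      intro k hk
      rw [← hρ.act_r k]
      exact φ.range.mul_mem (φ.range.mul_mem hρY hk) (φ.range.inv_mem hρY)
    intro k
    rcases h4 k with rfl | rfl | rfl | rfl
    · rw [hr0]; exact φ.range.one_mem
    · exact hr1Y
    · exact step _ hr1Y
    · exact step _ (step _ hr1Y)
  have hnY : ∀ k, n k ∈ φ.range := by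
    have step : ∀ k, n k ∈ φ.range → n (ω * k) ∈ φ.range := by
      intro k hk
      rw [← hρ.act_n k]
      exact φ.range.mul_mem (φ.range.mul_mem hρY hk) (φ.range.inv_mem hρY)
    intro k
    rcases h4' k with rfl | rfl | rfl | rfl
    · rw [hρ.hyp.t.n_zero]; exact φ.range.one_mem
    · exact hn1Y
    · exact step _ hn1Y
    · exact step _ (step _ hn1Y)
  -- the transposition
  have hτ1 : Commute (φ (el wt)) (r 1) := by
    rw [← hφ.fe]
    exact tt_e.map φ
  have hrr : φ (el wr) ∈ Set.range r := by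
    apply hcent
    · rw [← hφ.fe]; exact rr_e.map φ
    · intro y
      obtain ⟨z, hz, hzy⟩ := hφ.fL y
      have h1 : z ∈ Subgroup.centralizer ({el wr} : Set Cfsg.Spor.Suz) := by
        have h2 : Subgroup.closure {el [.a], el [.b], el [.c], el [.f], el [.g]} ≤
            Subgroup.centralizer ({el wr} : Set Cfsg.Spor.Suz) := by
          rw [Subgroup.closure_le]
          rintro x (rfl | rfl | rfl | rfl | rfl)
          · exact Subgroup.mem_centralizer_singleton_iff.mpr rr_a.eq.symm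
          · exact Subgroup.mem_centralizer_singleton_iff.mpr rr_b.eq.symm
          · exact Subgroup.mem_centralizer_singleton_iff.mpr rr_c.eq.symm
          · exact Subgroup.mem_centralizer_singleton_iff.mpr rr_f.eq.symm
          · exact Subgroup.mem_centralizer_singleton_iff.mpr rr_g.eq.symm
        exact h2 hz
      rw [Subgroup.mem_centralizer_singleton_iff] at h1
      have h3 : Commute (el wr) z := h1.symm
      rw [← hzy]
      exact h3.map φ
  have hτw : ¬ Commute (φ (el wt)) (r ω) := by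
    intro hc
    have hc2 : Commute (φ (el wt)) (r ω2) := by
      have e1 : (ω2 : F4) = 1 + ω := by decide
      rw [e1, hone.r_add]
      exact hτ1.mul_right hc
    have hc0 : Commute (φ (el wt)) (φ (el wr)) := by
      obtain ⟨k, hk⟩ := hrr
      rw [← hk]
      have h5 : ∀ u : F4, u = 0 ∨ u = 1 ∨ u = ω ∨ u = ω2 := by decide
      rcases h5 k with rfl | rfl | rfl | rfl
      · rw [hr0]; exact Commute.one_right _
      · exact hτ1
      · exact hc
      · exact hc2
    apply tt_rr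
    have h6 := hc0.eq
    rw [← map_mul, ← map_mul] at h6
    exact hφ.inj h6
  refine ⟨ι, r, n, ρ, φ (el wt), φ, ⟨⟨hρ, hrng', hιY, hrY, hnY, hρY, hφ.rng, hY _, hτ1, hτw⟩, hφ.inj, ?_, ?_⟩⟩
  · have h1 : φ (el [.a]) ∈ (four h).ι.range := by rw [← hιr']; exact hφ.fa
    obtain ⟨y, hy⟩ := h1
    refine ⟨y, ?_⟩
    rw [ia_eq, ← hy]
    rfl
  · rw [ie_eq, hφ.fe]

/-- a word in some of the generators -/
theorem el_mem {w : List Cfsg.Spor.Suz.Gen}
    (h : ∀ y ∈ w, y = .a ∨ y = .b ∨ y = .c ∨ y = .f ∨ y = .g) :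
    el w ∈ Subgroup.closure {el [.a], el [.b], el [.c], el [.f], el [.g]} := by
  induction w with
  | nil => rw [el_nil]; exact Subgroup.one_mem _
  | cons y w ih =>
    have h1 : y :: w = [y] ++ w := rfl
    rw [h1, el_app]
    refine Subgroup.mul_mem _ (Subgroup.subset_closure ?_) (ih fun z hz => h z (List.mem_cons_of_mem _ hz))
    rcases h y (List.mem_cons_self) with rfl | rfl | rfl | rfl | rfl
    · exact Or.inl rfl
    · exact Or.inr (Or.inl rfl)
    · exact Or.inr (Or.inr (Or.inl rfl))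
    · exact Or.inr (Or.inr (Or.inr (Or.inl rfl)))
    · exact Or.inr (Or.inr (Or.inr (Or.inr rfl)))

theorem Phi.toPhi2 {X : Type*} [Group X] {ι : L0 →* X} {r n : F4 → X} {ρ : X} {φ : Cfsg.Spor.Suz →* X}
    (hφ : Phi (ι (nn 0 1)) (ι (nn 1 2)) (ι (t 0 2 1)) (ι (t 0 2 ω)) (ι hh) (r 1) ρ (n 1) φ) :
    Phi2 ι r n ρ φ where
  inj := hφ.inj
  fa := by rw [hφ.fa]; exact ⟨_, rfl⟩
  fe := hφ.fe
  fL y := by
    refine ι_mem ?_ ?_ ?_ ?_ y
    · exact ⟨el wm, el_mem (by decide), hφ.fm⟩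
    · exact ⟨el wn, el_mem (by decide), hφ.fn⟩
    · exact ⟨el [.c], el_mem (by decide), hφ.fc⟩
    · exact ⟨el [.a], el_mem (by decide), hφ.fa⟩
  fr := ⟨_, hφ.fr⟩
  fy := ⟨_, hφ.fy⟩
  rng := by
    refine hφ.rng.trans ?_
    rw [Subgroup.closure_le]
    have hι : ∀ v, ι v ∈ Subgroup.closure (Set.range ι ∪ Set.range r ∪ Set.range n ∪ {ρ}) := fun v =>
      Subgroup.subset_closure (Or.inl (Or.inl (Or.inl ⟨v, rfl⟩)))
    rintro x (rfl | rfl | rfl | rfl | rfl | rfl | rfl | rfl)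
    · exact hι _
    · exact hι _
    · exact hι _
    · exact hι _
    · exact hι _
    · exact Subgroup.subset_closure (Or.inl (Or.inl (Or.inr ⟨_, rfl⟩)))
    · exact Subgroup.subset_closure (Or.inr rfl)
    · exact Subgroup.subset_closure (Or.inl (Or.inr ⟨_, rfl⟩))

/-- **The data for the exclusion of the outer part.** -/
theorem exists_minp [Finite G] {E : SEmb G} {R : Subgroup G} {n₀ : G} (h : FInp E R n₀)
    (hΦ : ∀ (ι : L0 →* XX E R) (r n : F4 → XX E R) (ρ : XX E R), Rho ι r n ρ →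
      (∀ x, Commute x (r 1) → (∀ y, Commute x (ι y)) → x ∈ Set.range r) →
      ∃ φ : Cfsg.Spor.Suz →* XX E R,
        Phi (ι (nn 0 1)) (ι (nn 1 2)) (ι (t 0 2 1)) (ι (t 0 2 ω)) (ι hh) (r 1) ρ (n 1) φ) :
    ∃ (ι' : L0 →* XX E R) (r' n' : F4 → XX E R) (ρ τ : XX E R) (φ : Cfsg.Spor.Suz →* XX E R),
      MInp h ι' r' n' ρ τ φ :=
  exists_minp2 h fun ι r n ρ h1 h2 => (hΦ ι r n ρ h1 h2).imp fun _ hφ => hφ.toPhi2

end Cfsg.Agent.StdLThreeFour.MInpOf
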