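import Cfsg.Agent.StdLThreeFour.ClFinal
import Cfsg.Agent.StdLThreeFour.MInpOf
import Cfsg.Agent.SuzClosing.InstLoc

/-!
# Standard `L3(4)`, case `|R| = 4`: assembly from the homomorphism of `Suz`
-/

set_option autoImplicit false
set_option linter.constructorNameAsVariable false

namespace Cfsg.Agent.StdLThreeFour.ClMain

open Cfsg.Agent.StdLThreeFour.Base Cfsg.Agent.StdLThreeFour.Emb
open Cfsg.Agent.StdLThreeFour.RFour0 Cfsg.Agent.StdLThreeFour.Assembly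
open Cfsg.Agent.StdLThreeFour.RFourU Cfsg.Agent.StdLThreeFour.RFourRhoB
open Cfsg.Agent.SporadicA.FieldFour
open Cfsg.Agent.ONType.Psl

universe u

theorem toSuz2 {G : Type u} [Group G] [Finite G] [IsSimpleGroup G] (hG : ¬ ∀ a b : G, a * b = b * a)
    (hΦ : ∀ (X : Type u) [Group X] [Finite X] (ι : L0 →* X) (r n : F4 → X) (ρ : X), Rho ι r n ρ →
      (∀ x, Commute x (r 1) → (∀ y, Commute x (ι y)) → x ∈ Set.range r) →
      ∃ φ : Cfsg.Spor.Suz →* X, MInpOf.Phi2 ι r n ρ φ) : ToSuz G :=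
  ClFinal.toSuz_of_loc hG
    (fun E R _ h => MInpOf.exists_minp2 h (fun ι r n ρ h1 h2 => hΦ (XX E R) ι r n ρ h1 h2))
    Cfsg.Agent.SuzClosing.Inst.loc

theorem toSuz {G : Type u} [Group G] [Finite G] [IsSimpleGroup G] (hG : ¬ ∀ a b : G, a * b = b * a)
    (hΦ : ∀ (X : Type u) [Group X] [Finite X] (ι : L0 →* X) (r n : F4 → X) (ρ : X), Rho ι r n ρ →
      (∀ x, Commute x (r 1) → (∀ y, Commute x (ι y)) → x ∈ Set.range r) →
      ∃ φ : Cfsg.Spor.Suz →* X,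
        MInpOf.Phi (ι (nn 0 1)) (ι (nn 1 2)) (ι (t 0 2 1)) (ι (t 0 2 ω)) (ι hh) (r 1) ρ (n 1) φ) : ToSuz G :=
  toSuz2 hG fun X _ _ ι r n ρ h1 h2 => (hΦ X ι r n ρ h1 h2).imp fun _ hφ => hφ.toPhi2

end Cfsg.Agent.StdLThreeFour.ClMain
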