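import Cfsg.Agent.StdLThreeFour.RhoSRel

/-!
# Standard `L3(4)`, case `|R| = 4`: the relators of `⟨L, ρ, w⟩` with `w` written in the letters of `Am`
-/

set_option autoImplicit false

namespace Cfsg.Agent.StdLThreeFour.RhoSRelCj

open Matrix
open Cfsg.Agent.StdLThreeFour.Base Cfsg.Agent.StdLThreeFour.RFourDefs Cfsg.Agent.StdLThreeFour.RFourU
open Cfsg.Agent.StdLThreeFour.RFourRho Cfsg.Agent.StdLThreeFour.RFourRhoA
open Cfsg.Agent.StdLThreeFour.RFourRhoB Cfsg.Agent.StdLThreeFour.RFourAm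
open Cfsg.Agent.SporadicA.FieldFour Cfsg.Agent.StdLThreeFour.RhoSRel
open Cfsg.Agent.ONType.Psl

variable {X : Type*} [Group X] {ι : L0 →* X} {r n : F4 → X} {ρ : X}

theorem nni (_R : Rho ι r n ρ) (i j : Fin 3) (hij : i ≠ j) : (ι (nn i j))⁻¹ = ι (nn i j) := by
  rw [← map_inv, nn_inv i j hij]

theorem ww_eq (R : Rho ι r n ρ) : ww ι n =
    cj (n 1) (ι (nn 1 2)) * cj (n 1) (ι (nn 0 1) * ρ⁻¹) * cj (n 1) (ι (nn 1 2)) := by
  have e1 : P1 ι n 1 = cj (n 1) (ι (nn 1 2)) := by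
    unfold P1 cj; rw [nni R 1 2 (by decide)]
  have e2 : P2 ι n ω = cj (n 1) (ι (nn 0 1) * ρ⁻¹) := by
    have e := R.ρ_P2 1
    rw [mul_one] at e
    rw [← e]
    unfold P2 cj
    rw [_root_.mul_inv_rev, inv_inv, nni R 0 1 (by decide)]
    group
  unfold ww
  rw [e1, e2]

theorem srel (R : Rho ι r n ρ) : SRel.SRel (ι (nn 0 1)) (ι (nn 1 2)) (ι (t 0 2 1)) (ι (t 0 2 ω))
    (ι hh) ρ (cj (n 1) (ι (nn 1 2)) * cj (n 1) (ι (nn 0 1) * ρ⁻¹) * cj (n 1) (ι (nn 1 2))) := by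
  rw [← ww_eq R]; exact RhoSRel.srel R

end Cfsg.Agent.StdLThreeFour.RhoSRelCj
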