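import Mathlib

/-!
# Standard `L3(4)`, case `|R| = 4`: the subgroup `3.U4(3):2 = ⟨L, ρ, w⟩` of the amalgam

`m, n, c, a, t` generate `L = PSL3(4)`, `r = ρ` centralises `L`, and `w = p q p` inverts `ρ`. The relators in `SRel`
give index `972` of `⟨m, n, c, a, t⟩` (Felsch enumeration with `1112` cosets).
-/

set_option autoImplicit false

namespace Cfsg.Agent.StdLThreeFour.SRel

/-- the relators of `⟨L, ρ, w⟩` (`g ^ h = h⁻¹ g h`) -/
structure SRel {X : Type*} [Group X] (m n c a t r w : X) : Prop where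
  m2 : m * m = 1
  n2 : n * n = 1
  c2 : c * c = 1
  a2 : a * a = 1
  w2 : w * w = 1
  t3 : t * t * t = 1
  r3 : r * r * r = 1
  mn3 : m * n * (m * n) * (m * n) = 1
  tm : t * m * (t * m) = 1
  tn : t * n * (t * n) = 1
  act : a * t * c * t⁻¹ = 1
  ct3 : c * t * (c * t) * (c * t) = 1
  ca : c * a = a * c
  ccn : c * (n * c * n) = n * c * n * c
  acn : a * (n * c * n) = n * c * n * a
  ccm : c * (m * c * m) = m * c * m * c
  acm : a * (m * c * m) = m * c * m * a
  cncm : n * c * n * (m * c * m) * (n * c * n) * (m * c * m) * c = 1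
  ancm : n * a * n * (m * c * m) * (n * a * n) * (m * c * m) * a = 1
  cnam : n * c * n * (m * a * m) * (n * c * n) * (m * a * m) * a = 1
  anam : n * a * n * (m * a * m) * (n * a * n) * (m * a * m) * c * a = 1
  cmnm : c * m * n * m * (c * m * n * m) * (c * m * n * m) = 1
  rm : r * m = m * r
  rn : r * n = n * r
  rc : r * c = c * r
  rt : r * t = t * r
  wr : w * r * w * r = 1
  wc : w * c = c * w
  wa : w * a = a * w
  wcn : w * (n * c * n) * w * a * (m * a * m) = 1
  wan : w * (n * a * n) * w * c * (m * c * a * m) = 1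
  wcm : w * (m * c * m) * w * (c * a) * (n * c * a * n) = 1
  wam : w * (m * a * m) * w * a * (n * c * n) = 1
  wt : w * t * w * r * t⁻¹ = 1
  www : w * (n * m * w * m * n) * w * (m * n * w * n * m) = 1

end Cfsg.Agent.StdLThreeFour.SRel
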