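import Cfsg.Agent.ONType.Psl

/-!
# Standard components `L3(4)`: coordinates on `PSL(3,4)`

`L0 = PSL(3, F4)`, its Sylow 2-subgroup `S0` with elements `e a b c = x₀₁(a) x₁₂(b) x₀₂(c)`, the centre
`Z0` of `S0`, the two elementary abelian subgroups `A j` of order 16 of `S0`.
-/

set_option autoImplicit false
set_option linter.constructorNameAsVariable false
set_option linter.unusedVariables false

namespace Cfsg.Agent.StdLThreeFour.Base

open Cfsg.Agent.SporadicA.FieldFour
open Cfsg.Agent.ONType.Psl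

/-- the group `PSL(3,4)` -/
abbrev L0 : Type := PSL3

/-- unitriangular elements -/
def e (a b c : F4) : L0 := t 0 1 a * t 1 2 b * t 0 2 c

theorem swap (a b : F4) : t 1 2 b * t 0 1 a = t 0 1 a * t 1 2 b * t 0 2 (a * b) := by
  have h := t_sum 0 2 1 a b (by decide) (by decide) (by decide)
  rw [h, mul_assoc, t_add 0 2 _ _ (by decide)]
  have : ∀ u : F4, u + u = 0 := by decide
  rw [this, t_zero, mul_one]

theorem add_self (u : F4) : u + u = 0 := by revert u; decide

theorem e_mul (a b c a' b' c' : F4) :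
    e a b c * e a' b' c' = e (a + a') (b + b') (a' * b + c + c') := by
  have h1 : t 0 2 c * t 0 1 a' = t 0 1 a' * t 0 2 c := t_row 0 2 1 c a' (by decide) (by decide)
  have h2 := swap a' b
  have h3 : ∀ u v, t 0 2 u * t 1 2 v = t 1 2 v * t 0 2 u :=
    fun u v => t_col 0 2 1 u v (by decide) (by decide)
  have a1 := t_add 0 1 a a' (by decide)
  have a2 := t_add 1 2 b b' (by decide)
  have a3 := fun u v => t_add 0 2 u v (by decide)
  unfold e
  calc t 0 1 a * t 1 2 b * t 0 2 c * (t 0 1 a' * t 1 2 b' * t 0 2 c')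
      = t 0 1 a * t 1 2 b * (t 0 2 c * t 0 1 a') * t 1 2 b' * t 0 2 c' := by group
    _ = t 0 1 a * (t 1 2 b * t 0 1 a') * (t 0 2 c * t 1 2 b') * t 0 2 c' := by rw [h1]; group
    _ = (t 0 1 a * t 0 1 a') * t 1 2 b * (t 0 2 (a' * b) * t 1 2 b') * t 0 2 c * t 0 2 c' := by
        rw [h2, h3]; group
    _ = (t 0 1 a * t 0 1 a') * (t 1 2 b * t 1 2 b') * (t 0 2 (a' * b) * t 0 2 c * t 0 2 c') := by
        rw [h3]; group
    _ = _ := by rw [a1, a2, a3, a3]

theorem e_zero : e 0 0 0 = 1 := by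
  unfold e; rw [t_zero, t_zero, t_zero]; simp

theorem e_inv (a b c : F4) : (e a b c)⁻¹ = e a b (c + a * b) := by
  apply inv_eq_of_mul_eq_one_right
  rw [e_mul, ← e_zero]
  have h : ∀ a b c : F4, a + a = 0 ∧ a * b + c + (c + a * b) = 0 := by decide
  rw [(h a b c).1, (h b b c).1, (h a b c).2]

theorem e_01 (a : F4) : e a 0 0 = t 0 1 a := by
  unfold e; rw [t_zero, t_zero]; simp

theorem e_12 (b : F4) : e 0 b 0 = t 1 2 b := by
  unfold e; rw [t_zero, t_zero]; simp

theorem e_02 (c : F4) : e 0 0 c = t 0 2 c := by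
  unfold e; rw [t_zero, t_zero]; simp

/-- the Sylow 2-subgroup of unitriangular elements -/
def S0 : Subgroup L0 where
  carrier := {g | ∃ a b c, g = e a b c}
  mul_mem' := by
    rintro _ _ ⟨a, b, c, rfl⟩ ⟨a', b', c', rfl⟩
    exact ⟨_, _, _, e_mul _ _ _ _ _ _⟩
  one_mem' := ⟨0, 0, 0, e_zero.symm⟩
  inv_mem' := by
    rintro _ ⟨a, b, c, rfl⟩
    exact ⟨_, _, _, e_inv _ _ _⟩

/-- the centre of `S0` -/
def Z0 : Subgroup L0 where
  carrier := {g | ∃ c, g = e 0 0 c}
  mul_mem' := by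
    rintro _ _ ⟨c, rfl⟩ ⟨c', rfl⟩
    refine ⟨c + c', ?_⟩
    rw [e_mul]
    congr 1
  one_mem' := ⟨0, e_zero.symm⟩
  inv_mem' := by
    rintro _ ⟨c, rfl⟩
    refine ⟨c, ?_⟩
    rw [e_inv]
    congr 1
    have : ∀ c : F4, c + (0 : F4) * 0 = c := by decide
    exact this c

/-- the two elementary abelian subgroups of order 16 of `S0`: `A false = {x₀₁(u) x₀₂(c)}` and
`A true = {x₁₂(u) x₀₂(c)}` -/
def A (j : Bool) : Subgroup L0 where
  carrier := {g | ∃ u c, g = if j then e 0 u c else e u 0 c}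
  mul_mem' := by
    rintro _ _ ⟨u, c, rfl⟩ ⟨u', c', rfl⟩
    refine ⟨u + u', c + c', ?_⟩
    have h : ∀ u c c' : F4, (0 : F4) * u + c + c' = c + c' ∧ u * (0 : F4) + c + c' = c + c' := by
      decide
    cases j
    · simp only [Bool.false_eq_true, if_false]
      rw [e_mul, (h u' c c').2]; congr 1
    · simp only [if_true]
      rw [e_mul, (h u c c').1]; congr 1
  one_mem' := ⟨0, 0, by cases j <;> exact e_zero.symm⟩
  inv_mem' := by
    rintro _ ⟨u, c, rfl⟩
    refine ⟨u, c, ?_⟩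
    have h : ∀ u c : F4, c + (0 : F4) * u = c ∧ c + u * (0 : F4) = c := by decide
    cases j
    · simp only [Bool.false_eq_true, if_false]
      rw [e_inv, (h u c).2]
    · simp only [if_true]
      rw [e_inv, (h u c).1]

theorem mem_S0 {g : L0} : g ∈ S0 ↔ ∃ a b c, g = e a b c := Iff.rfl

theorem mem_Z0 {g : L0} : g ∈ Z0 ↔ ∃ c, g = e 0 0 c := Iff.rfl

theorem mem_A_false {g : L0} : g ∈ A false ↔ ∃ u c, g = e u 0 c := Iff.rfl

theorem mem_A_true {g : L0} : g ∈ A true ↔ ∃ u c, g = e 0 u c := Iff.rfl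

/-- `α` is an inner automorphism of `L0` -/
def IsInn (α : MulAut L0) : Prop := ∃ l, α = MulAut.conj l

end Cfsg.Agent.StdLThreeFour.Base
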