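import Mathlib

/-!
# The Carmichael trick in `A6`
-/

set_option autoImplicit false
set_option linter.unusedVariables false

namespace Cfsg.Agent.StdLThreeFour.Carm

variable {X : Type*} [Group X]

theorem sq_inv {x : X} (h : x * x * x = 1) : x * x = x⁻¹ := eq_inv_of_mul_eq_one_left h

theorem isq_inv {x : X} (h : x * x * x = 1) : x⁻¹ * x⁻¹ = x := by
  rw [← sq_inv h]
  calc x * x * (x * x) = x * x * x * x := by group
    _ = x := by rw [h, one_mul]

section
variable {i j : X} (h : i * j * (i * j) = 1)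
include h

theorem iji : i * j * i = j⁻¹ := by
  apply eq_inv_of_mul_eq_one_left
  rw [← h]; group

theorem jij : j * i * j = i⁻¹ := by
  apply eq_inv_of_mul_eq_one_right
  rw [← h]; group

theorem symm : j * i * (j * i) = 1 := by
  calc j * i * (j * i) = i⁻¹ * (i * j * (i * j)) * i := by group
    _ = 1 := by rw [h]; group

theorem iji' : i⁻¹ * j⁻¹ * i⁻¹ = j := by
  have := congrArg (·⁻¹) (iji h)
  simp only [inv_inv, mul_inv_rev] at this
  rw [mul_assoc]; exact this

theorem jij' : j⁻¹ * i⁻¹ * j⁻¹ = i := by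
  have := congrArg (·⁻¹) (jij h)
  simp only [inv_inv, mul_inv_rev] at this
  rw [mul_assoc]; exact this

end

variable {i j k : X} (i3 : i * i * i = 1) (j3 : j * j * j = 1) (k3 : k * k * k = 1)
  (ij : i * j * (i * j) = 1) (ik : i * k * (i * k) = 1) (jk : j * k * (j * k) = 1)

include i3 ij in
theorem w_sq : i * j⁻¹ * i * (i * j⁻¹ * i) = 1 := by
  calc i * j⁻¹ * i * (i * j⁻¹ * i) = i * j⁻¹ * (i * i) * j⁻¹ * i := by group
    _ = i * (j⁻¹ * i⁻¹ * j⁻¹) * i := by rw [sq_inv i3]; group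
    _ = 1 := by rw [jij' ij, i3]

include ik jk in
theorem w_k : i * j⁻¹ * i * k * (i * j⁻¹ * i) = k⁻¹ := by
  calc i * j⁻¹ * i * k * (i * j⁻¹ * i) = i * j⁻¹ * (i * k * i) * j⁻¹ * i := by group
    _ = i * (j⁻¹ * k⁻¹ * j⁻¹) * i := by rw [iji ik]; group
    _ = _ := by rw [iji' jk, iji ik]

include i3 j3 ij in
theorem w_i : i * j⁻¹ * i * i * (i * j⁻¹ * i) = j⁻¹ := by
  calc i * j⁻¹ * i * i * (i * j⁻¹ * i) = i * j⁻¹ * (i * i * i) * j⁻¹ * i := by group
    _ = i * (j⁻¹ * j⁻¹) * i := by rw [i3]; group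
    _ = _ := by rw [isq_inv j3, iji ij]

include i3 j3 k3 ij ik jk in
theorem prod : i * j⁻¹ * i * (k * i⁻¹ * k) * (i * j⁻¹ * i) * (j * k⁻¹ * j) = 1 := by
  set w := i * j⁻¹ * i with hw
  have w2 : w * w = 1 := w_sq i3 ij
  have hk : w * k * w = k⁻¹ := w_k ik jk
  have hi : w * i * w = j⁻¹ := w_i i3 j3 ij
  have hwi : w⁻¹ = w := inv_eq_of_mul_eq_one_right w2
  have hi' : w * i⁻¹ * w = j := by
    have := congrArg (·⁻¹) hi
    simp only [inv_inv, mul_inv_rev, hwi] at this
    rw [mul_assoc]; exact this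
  have h1 : w * (k * i⁻¹ * k) * w = k⁻¹ * j * k⁻¹ := by
    calc w * (k * i⁻¹ * k) * w = w * k * (w * w) * i⁻¹ * (w * w) * k * w := by rw [w2]; group
      _ = (w * k * w) * (w * i⁻¹ * w) * (w * k * w) := by group
      _ = _ := by rw [hk, hi']
  rw [h1]
  have h2 : k⁻¹ = j * k * j := (iji jk).symm
  have h3 : j⁻¹ * k⁻¹ = k * j := by
    have := symm jk
    have h4 : k * j = (k * j)⁻¹ := eq_inv_of_mul_eq_one_left this
    rw [h4, mul_inv_rev]
  calc k⁻¹ * j * k⁻¹ * (j * k⁻¹ * j) = (k⁻¹) * (j * k⁻¹ * j * k⁻¹ * j) := by group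
    _ = j * k * j * (j * k⁻¹ * j * k⁻¹ * j) := by nth_rewrite 1 [h2]; rfl
    _ = j * k * (j * j) * k⁻¹ * j * k⁻¹ * j := by group
    _ = j * k * (j⁻¹ * k⁻¹) * j * k⁻¹ * j := by rw [sq_inv j3]; group
    _ = j * (k * k) * (j * j) * k⁻¹ * j := by rw [h3]; group
    _ = j * (k⁻¹ * j⁻¹ * k⁻¹) * j := by rw [sq_inv k3, sq_inv j3]; group
    _ = 1 := by rw [jij' jk, j3]

omit i3 j3 k3 ij ik jk in
/-- the product `a_i a_j` of order 2 -/
theorem aij {r p q : X} (r3 : r * r * r = 1) (p2 : p * p = 1) (q2 : q * q = 1)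
    (rp : r * p * (r * p) * (r * p) = 1) (h : p * q * p * r * (p * q * p * r) = 1) :
    r * p * r * (r * q * r) * (r * p * r * (r * q * r)) = 1 := by
  have pi : p⁻¹ = p := inv_eq_of_mul_eq_one_right p2
  have qi : q⁻¹ = q := inv_eq_of_mul_eq_one_right q2
  have h1 : p * r * p = r⁻¹ * p * r⁻¹ := by
    have e : r * (p * r * p) * (r * p) = 1 := by rw [← rp]; group
    have e2 : p * r * p = r⁻¹ * (r * p)⁻¹ := by
      calc p * r * p = r⁻¹ * (r * (p * r * p) * (r * p)) * (r * p)⁻¹ := by group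
        _ = _ := by rw [e, mul_one]
    rw [e2, mul_inv_rev, pi, mul_assoc]
  have h2 : q * (r⁻¹ * p * r⁻¹) * (q * (r⁻¹ * p * r⁻¹)) = 1 := by
    rw [← h1]
    calc q * (p * r * p) * (q * (p * r * p)) = p⁻¹ * (p * q * p * r * (p * q * p * r)) * p := by
          group
      _ = 1 := by rw [h, mul_one, inv_mul_cancel]
  have rr : r * r = r⁻¹ := sq_inv r3
  calc r * p * r * (r * q * r) * (r * p * r * (r * q * r))
      = r * p * (r * r) * q * (r * r) * p * (r * r) * q * r := by group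
    _ = r * p * r⁻¹ * (q * (r⁻¹ * p * r⁻¹) * (q * (r⁻¹ * p * r⁻¹))) * (r * p⁻¹ * r * r) := by
        rw [rr]; group
    _ = r * p * (r⁻¹ * r) * p⁻¹ * r * r := by rw [h2]; group
    _ = 1 := by
        rw [inv_mul_cancel, mul_one, mul_inv_cancel_right]; exact r3

omit i3 j3 k3 ij ik jk in
theorem ai3 {r p : X} (rp : r * p * (r * p) * (r * p) = 1) (r3 : r * r * r = 1) (p2 : p * p = 1) :
    r * p * r * (r * p * r) * (r * p * r) = 1 := by
  have pi : p⁻¹ = p := inv_eq_of_mul_eq_one_right p2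
  have rr : r * r = r⁻¹ := sq_inv r3
  have h1 : p * r * p = r⁻¹ * p * r⁻¹ := by
    have e : r * (p * r * p) * (r * p) = 1 := by rw [← rp]; group
    have e2 : p * r * p = r⁻¹ * (r * p)⁻¹ := by
      calc p * r * p = r⁻¹ * (r * (p * r * p) * (r * p)) * (r * p)⁻¹ := by group
        _ = _ := by rw [e, mul_one]
    rw [e2, mul_inv_rev, pi, mul_assoc]
  have h1' : p * r⁻¹ * p = r * p * r := by
    have := congrArg (·⁻¹) h1
    simp only [mul_inv_rev, inv_inv, pi] at this
    rw [mul_assoc, this, mul_assoc]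
  calc r * p * r * (r * p * r) * (r * p * r) = r * p * (r * r) * p * (r * r) * p * r := by group
    _ = r * (p * r⁻¹ * p) * r⁻¹ * p * r := by rw [rr]; group
    _ = (r * r) * p * (r * r⁻¹) * p * r := by rw [h1']; group
    _ = (r * r) * (p * p) * r := by rw [mul_inv_cancel]; group
    _ = 1 := by rw [p2, mul_one, r3]

omit i3 j3 k3 ij ik jk in
theorem rwr {r w : X} (h : w * r * (w * r) = 1) (w2 : w * w = 1) : r * w * r = w := by
  calc r * w * r = w⁻¹ * (w * r * (w * r)) := by group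
    _ = w := by rw [h, mul_one, inv_eq_of_mul_eq_one_right w2]

omit i3 j3 k3 ij ik jk in
theorem pqp2 {p q : X} (p2 : p * p = 1) (q2 : q * q = 1) : p * q * p * (p * q * p) = 1 := by
  calc p * q * p * (p * q * p) = p * q * (p * p) * q * p := by group
    _ = p * (q * q) * p := by rw [p2]; group
    _ = 1 := by rw [q2, mul_one, p2]

omit i3 j3 k3 ij ik jk in
/-- **the relation** `w₄₅ w₆₄ w₄₅ w₅₆ = 1` -/
theorem main {r p q s : X} (r3 : r * r * r = 1) (p2 : p * p = 1) (q2 : q * q = 1) (s2 : s * s = 1)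
    (rp : r * p * (r * p) * (r * p) = 1) (rq : r * q * (r * q) * (r * q) = 1)
    (rs : r * s * (r * s) * (r * s) = 1) (h1 : p * q * p * r * (p * q * p * r) = 1)
    (h2 : q * s * q * r * (q * s * q * r) = 1) (h3 : s * p * s * r * (s * p * s * r) = 1) :
    p * q * p * (s * p * s) * (p * q * p) * (q * s * q) = 1 := by
  have key := prod (ai3 rp r3 p2) (ai3 rq r3 q2) (ai3 rs r3 s2) (aij r3 p2 q2 rp h1)
    (symm (aij r3 s2 p2 rs h3)) (aij r3 q2 s2 rq h2)
  have e1 : r * p * r * (r * q * r)⁻¹ * (r * p * r) = p * q * p := by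
    rw [← rwr h1 (pqp2 p2 q2), mul_inv_rev, mul_inv_rev, inv_eq_of_mul_eq_one_right q2]; group
  have e2 : r * s * r * (r * p * r)⁻¹ * (r * s * r) = s * p * s := by
    rw [← rwr h3 (pqp2 s2 p2), mul_inv_rev, mul_inv_rev, inv_eq_of_mul_eq_one_right p2]; group
  have e3 : r * q * r * (r * s * r)⁻¹ * (r * q * r) = q * s * q := by
    rw [← rwr h2 (pqp2 q2 s2), mul_inv_rev, mul_inv_rev, inv_eq_of_mul_eq_one_right s2]; group
  rw [e1, e2, e3] at key
  exact key

omit i3 j3 k3 ij ik jk in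
/-- **the relation `www`** -/
theorem www {m n r p q : X} (m2 : m * m = 1) (n2 : n * n = 1) (mn : m * n * (m * n) * (m * n) = 1)
    (rm : r * m = m * r) (rn : r * n = n * r) (r3 : r * r * r = 1) (p2 : p * p = 1)
    (rp : r * p * (r * p) * (r * p) = 1) (h1 : p * q * p * r * (p * q * p * r) = 1)
    (hq : r * m * n * p * (r * m * n)⁻¹ = q) :
    p * q * p * (n * m * (p * q * p) * m * n) * (p * q * p) * (m * n * (p * q * p) * n * m) = 1 := by
  have mi : m⁻¹ = m := inv_eq_of_mul_eq_one_right m2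
  have ni : n⁻¹ = n := inv_eq_of_mul_eq_one_right n2
  set σ := r * m * n with hσ
  have crm : Commute r (m * n) := (show Commute r m from rm).mul_right (show Commute r n from rn)
  have hσ3 : σ * σ * σ = 1 := by
    have e1 : σ = r * (m * n) := by rw [hσ, mul_assoc]
    rw [e1]
    have c := crm.eq
    calc r * (m * n) * (r * (m * n)) * (r * (m * n)) =
        r * ((m * n) * r) * (m * n) * (r * (m * n)) := by group
      _ = r * r * ((m * n) * (m * n)) * r * (m * n) := by rw [← c]; group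
      _ = r * r * (r * ((m * n) * (m * n))) * (m * n) := by
          have c2 : (m * n) * (m * n) * r = r * ((m * n) * (m * n)) := (crm.mul_right crm).eq.symm
          rw [mul_assoc (r * r), c2]
      _ = (r * r * r) * (m * n * (m * n) * (m * n)) := by group
      _ = 1 := by rw [r3, mn, one_mul]
  -- conjugation by `σ`
  have cr : σ * r * σ⁻¹ = r := by
    have : Commute r σ := by
      rw [hσ, mul_assoc]
      exact (Commute.refl r).mul_right crm
    rw [← this.eq, mul_inv_cancel_right]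
  set s := σ * q * σ⁻¹ with hs
  have hp : σ * s * σ⁻¹ = p := by
    have e : σ * s * σ⁻¹ = (σ * σ * σ) * p * (σ * σ * σ)⁻¹ := by rw [hs, ← hq]; group
    rw [e, hσ3]; group
  have C : ∀ x y : X, σ * (x * y) * σ⁻¹ = (σ * x * σ⁻¹) * (σ * y * σ⁻¹) := fun x y => by group
  have q2 : q * q = 1 := by rw [← hq, ← C, p2]; group
  have s2 : s * s = 1 := by rw [hs, ← C, q2]; group
  have rq : r * q * (r * q) * (r * q) = 1 := by
    have := congrArg (fun x => σ * x * σ⁻¹) rp
    simp only [C, cr, hq] at this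
    rw [this]; group
  have rs : r * s * (r * s) * (r * s) = 1 := by
    have := congrArg (fun x => σ * x * σ⁻¹) rq
    simp only [C, cr, ← hs] at this
    rw [this]; group
  have h2 : q * s * q * r * (q * s * q * r) = 1 := by
    have := congrArg (fun x => σ * x * σ⁻¹) h1
    simp only [C, cr, hq, ← hs] at this
    rw [this]; group
  have h3 : s * p * s * r * (s * p * s * r) = 1 := by
    have := congrArg (fun x => σ * x * σ⁻¹) h2
    simp only [C, cr, ← hs, hp] at this
    rw [this]; group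
  have key := main r3 p2 q2 s2 rp rq rs h1 h2 h3
  have w2 := pqp2 p2 q2
  have e1 : m * n * (p * q * p) * n * m = r⁻¹ * (q * s * q) * r := by
    have e : q * s * q = σ * (p * q * p) * σ⁻¹ := by rw [C, C, hq]
    rw [e, hσ, mul_inv_rev, mul_inv_rev, mi, ni]
    calc m * n * (p * q * p) * n * m = m * n * (p * q * p) * (n * m) := by group
      _ = _ := by group
  have mni : n * m = (m * n) * (m * n) := by
    have : n * m = (m * n)⁻¹ := by rw [mul_inv_rev, mi, ni]
    rw [this]; exact (sq_inv mn).symm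
  have e2 : n * m * (p * q * p) * m * n = r * (s * p * s) * r⁻¹ := by
    have e : s * p * s = σ * (q * s * q) * σ⁻¹ := by rw [C, C, ← hs, hp]
    have e' : q * s * q = σ * (p * q * p) * σ⁻¹ := by rw [C, C, hq]
    have e3 : σ * σ = r * r * (m * n * (m * n)) := by
      have c := crm.eq
      rw [hσ, mul_assoc r]
      calc r * (m * n) * (r * (m * n)) = r * ((m * n) * r) * (m * n) := by group
        _ = _ := by rw [← c]; group
    have e4 : s * p * s = (σ * σ) * (p * q * p) * (σ * σ)⁻¹ := by rw [e, e']; group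
    have e5 : m * n = (n * m)⁻¹ := by rw [mul_inv_rev, mi, ni]
    rw [e4, e3, ← mni, sq_inv r3]
    calc n * m * (p * q * p) * m * n = n * m * (p * q * p) * (m * n) := by group
      _ = n * m * (p * q * p) * (n * m)⁻¹ := by rw [e5]
      _ = _ := by group
  rw [e1, e2]
  set w := p * q * p with hw
  have wr : w * r = r⁻¹ * w := by
    have := rwr h1 w2
    calc w * r = r⁻¹ * (r * w * r) := by group
      _ = _ := by rw [this]
  have wr' : w * r⁻¹ = r * w := by
    calc w * r⁻¹ = r * (r⁻¹ * w) * r⁻¹ := by group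
      _ = r * w := by rw [← wr]; group
  have s3r : s * p * s * r⁻¹ = r * (s * p * s) := by
    have := rwr h3 (pqp2 s2 p2)
    calc s * p * s * r⁻¹ = (r * (s * p * s) * r) * r⁻¹ := by rw [this]
      _ = _ := by group
  have s3r' : s * p * s * r = r⁻¹ * (s * p * s) := by
    have := rwr h3 (pqp2 s2 p2)
    calc s * p * s * r = r⁻¹ * (r * (s * p * s) * r) := by group
      _ = _ := by rw [this]
  calc w * (r * (s * p * s) * r⁻¹) * w * (r⁻¹ * (q * s * q) * r)
      = (w * r) * (s * p * s * r⁻¹) * (w * r⁻¹) * (q * s * q) * r := by group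
    _ = (r⁻¹ * w) * (r * (s * p * s)) * (r * w) * (q * s * q) * r := by rw [wr, s3r, wr']
    _ = r⁻¹ * (w * r) * (s * p * s * r) * w * (q * s * q) * r := by group
    _ = r⁻¹ * (r⁻¹ * w) * (r⁻¹ * (s * p * s)) * w * (q * s * q) * r := by rw [wr, s3r']
    _ = r⁻¹ * r⁻¹ * (w * r⁻¹) * (s * p * s) * w * (q * s * q) * r := by group
    _ = r⁻¹ * r⁻¹ * (r * w) * (s * p * s) * w * (q * s * q) * r := by rw [wr']
    _ = r⁻¹ * (w * (s * p * s) * w * (q * s * q)) * r := by group
    _ = 1 := by rw [key]; group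

end Cfsg.Agent.StdLThreeFour.Carm
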