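import Cfsg.Agent.StdLThreeFour.ClFrame

/-!
# Standard `L3(4)`, case `|R| = 4`: the centralisers of the involutions over `a`

`cz`: the statement `CZ M π` from the abstract closing theorem for the group `C_Suz(a)`.
-/

set_option autoImplicit false

namespace Cfsg.Agent.StdLThreeFour.ClCent

open Cfsg.Agent.SporRec Cfsg.Agent.StdLThreeFour.ClDefs Cfsg.Agent.StdLThreeFour.ClFrame

universe u

/-- the statement of the abstract closing theorem: a subgroup `M` of `C` mapping onto `H` with kernel of odd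
order, containing the central involution `z` over `z₁`, such that the involutions of type `IsB` fix only one
coset, is equal to `C` -/
def Closing (H : Type*) [Group H] (z₁ : H) (IsB : H → Prop) : Prop :=
  ∀ (C : Type u) [Group C] [Finite C] (M : Subgroup C) (π : M →* H), Function.Surjective π →
    Odd (Nat.card π.ker) → ∀ z : M, (∀ c : C, c * z = z * c) → z * z = 1 → π z = z₁ →
    (∀ b : M, b * b = 1 → IsB (π b) → ∀ g : C, g * b * g⁻¹ ∈ M → g ∈ M) → M = ⊤

variable {G : Type u} [Group G] {M : Subgroup G} {π : M →* Cfsg.Spor.Suz} {r : M}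

/-- an involution of `M` over a conjugate of `e` fixes only one coset of `M` -/
theorem good_conj [Finite G] (h : Cl M π r) {b : M} (hb : b * b = 1)
    (he : ∃ g, g * SuzCl.ie * g⁻¹ = π b) {g : G} (hg : g * b * g⁻¹ ∈ M) : g ∈ M := by
  obtain ⟨w, hw⟩ := he
  obtain ⟨m, rfl⟩ := h.surj w
  have h1 : m * r * m⁻¹ * (m * r * m⁻¹) = 1 := by
    calc m * r * m⁻¹ * (m * r * m⁻¹) = m * (r * r) * m⁻¹ := by group
      _ = 1 := by rw [h.rr]; group
  have h2 : π (m * r * m⁻¹) = π b := by rw [map_mul, map_mul, map_inv, h.πr, hw]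
  obtain ⟨v, -, hv⟩ := conj_of_eq h h1 hb h2
  have h3 : (v : G) * (m * r * (m : G)⁻¹) * (v : G)⁻¹ = b := congrArg Subtype.val hv
  have h4 : g * v * m ∈ M := by
    apply good h
    have e : g * v * m * r * (g * v * m)⁻¹ = g * b * g⁻¹ := by rw [← h3]; group
    rw [e]
    exact hg
  have h5 := M.mul_mem h4 (M.mul_mem (M.inv_mem m.2) (M.inv_mem v.2))
  have e : g * (v : G) * m * ((m : G)⁻¹ * (v : G)⁻¹) = g := by group
  rwa [e] at h5

theorem cz [Finite G] (h : Cl M π r)
    {IsB : Subgroup.centralizer ({SuzCl.ia} : Set Cfsg.Spor.Suz) → Prop}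
    (hcl : Closing.{u} (Subgroup.centralizer ({SuzCl.ia} : Set Cfsg.Spor.Suz))
      ⟨SuzCl.ia, Subgroup.mem_centralizer_singleton_iff.mpr rfl⟩ IsB)
    (hB : ∀ s, IsB s → ∃ g, g * SuzCl.ie * g⁻¹ = (s : Cfsg.Spor.Suz)) : CZ M π := by
  intro z hzz hz
  set C := Subgroup.centralizer ({(z : G)} : Set G) with hC
  have hmC : ∀ {g : G}, g ∈ C ↔ g * z = z * g := fun {g} => Subgroup.mem_centralizer_singleton_iff
  set H := Subgroup.centralizer ({SuzCl.ia} : Set Cfsg.Spor.Suz) with hH
  have hmH : ∀ {g : Cfsg.Spor.Suz}, g ∈ H ↔ g * SuzCl.ia = SuzCl.ia * g :=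
    fun {g} => Subgroup.mem_centralizer_singleton_iff
  let MC : Subgroup C := M.subgroupOf C
  -- the elements of `M ∩ C` as elements of `M`
  let j : MC →* M := (C.subtype.comp MC.subtype).codRestrict M (fun x => x.2)
  have hj : ∀ x : MC, ((j x : M) : G) = ((x : C) : G) := fun x => rfl
  have hjinj : Function.Injective j := by
    intro x y hxy
    apply Subtype.ext
    apply Subtype.ext
    rw [← hj, ← hj, hxy]
  have hjz : ∀ x : MC, j x * z = z * j x := by
    intro x
    apply Subtype.ext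
    exact hmC.mp (x : C).2
  let πC : MC →* H := (π.comp j).codRestrict H (fun x => by
    rw [hmH]
    show π (j x) * SuzCl.ia = SuzCl.ia * π (j x)
    rw [← hz, ← map_mul, ← map_mul, hjz])
  have hπC : ∀ x : MC, ((πC x : H) : Cfsg.Spor.Suz) = π (j x) := fun x => rfl
  -- lifting
  have lift : ∀ m : M, (m : G) * z = z * m → ∃ x : MC, j x = m := by
    intro m hm
    exact ⟨⟨⟨m, hmC.mpr hm⟩, m.2⟩, rfl⟩
  have hsurj : Function.Surjective πC := by
    intro s
    obtain ⟨m, hm⟩ := h.surj s
    have h1 : m * z * m⁻¹ * (m * z * m⁻¹) = 1 := by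
      calc m * z * m⁻¹ * (m * z * m⁻¹) = m * (z * z) * m⁻¹ := by group
        _ = 1 := by rw [hzz]; group
    have h2 : π (m * z * m⁻¹) = π z := by
      rw [map_mul, map_mul, map_inv, hm, hz, hmH.mp s.2]
      group
    obtain ⟨w, hw1, hw⟩ := conj_of_eq h h1 hzz h2
    have h3 : ((w * m : M) : G) * z = z * (w * m : M) := by
      have h4 : w * m * z = z * (w * m) := by
        calc w * m * z = w * (m * z * m⁻¹) * w⁻¹ * (w * m) := by group
          _ = z * (w * m) := by rw [hw]
      exact congrArg Subtype.val h4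
    obtain ⟨x, hx⟩ := lift (w * m) h3
    refine ⟨x, ?_⟩
    apply Subtype.ext
    rw [hπC, hx, map_mul, hw1, one_mul, hm]
  have hodd : Odd (Nat.card πC.ker) := by
    have h1 : πC.ker.map j ≤ π.ker := by
      rintro _ ⟨x, hx, rfl⟩
      rw [MonoidHom.mem_ker, ← hπC, MonoidHom.mem_ker.mp hx]
      rfl
    have h2 : Nat.card (πC.ker.map j) = Nat.card πC.ker := Subgroup.card_map_of_injective hjinj
    rw [← h2]
    exact Odd.of_dvd_nat h.odd (Subgroup.card_dvd_of_le h1)
  obtain ⟨zc, hzc⟩ := lift z rfl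
  have hzcG : ((zc : C) : G) = z := by rw [← hj, hzc]
  have key := hcl C MC πC hsurj hodd zc ?_ ?_ ?_ ?_
  · intro g hg
    have h1 : (⟨g, hmC.mpr hg⟩ : C) ∈ MC := by rw [key]; exact Subgroup.mem_top _
    exact h1
  · intro c
    apply Subtype.ext
    show (c : G) * ((zc : C) : G) = ((zc : C) : G) * c
    rw [hzcG]
    exact hmC.mp c.2
  · apply hjinj
    rw [map_mul, hzc, hzz, map_one]
  · apply Subtype.ext
    rw [hπC, hzc, hz]
  · intro b hb hbB g hg
    have h1 : j b * j b = 1 := by rw [← map_mul, hb, map_one]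
    have h2 : (g : G) ∈ M := by
      refine good_conj h h1 ?_ (g := g) ?_
      · have := hB _ hbB
        rwa [hπC] at this
      · exact hg
    exact h2

end Cfsg.Agent.StdLThreeFour.ClCent
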