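import Cfsg.Agent.StdLThreeFour.ClDefs
import Cfsg.Agent.StdLThreeFour.RFourA

/-!
# Standard `L3(4)`, case `|R| = 4`: from the embedding of `Suz` in `X = N_G(W) / W` to the interface `Cl`
-/

set_option autoImplicit false
set_option linter.constructorNameAsVariable false

namespace Cfsg.Agent.StdLThreeFour.ClOf

open Cfsg.Agent.StdLThreeFour.Base Cfsg.Agent.StdLThreeFour.Syl Cfsg.Agent.StdLThreeFour.Emb
open Cfsg.Agent.StdLThreeFour.Emb.SEmb Cfsg.Agent.StdLThreeFour.Red1 Cfsg.Agent.StdLThreeFour.Red2a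
open Cfsg.Agent.StdLThreeFour.Red2b Cfsg.Agent.StdLThreeFour.Red2c Cfsg.Agent.StdLThreeFour.Red2d
open Cfsg.Agent.StdLThreeFour.Red2e Cfsg.Agent.StdLThreeFour.Red3 Cfsg.Agent.StdLThreeFour.RFour0
open Cfsg.Agent.StdLThreeFour.ClDefs
open Cfsg.Agent.SporRec

variable {G : Type*} [Group G] {E : SEmb G} {R : Subgroup G} {n : G}

/-- the preimage of the range of `φ` in `N_G(W)` -/
abbrev PP (φ : Cfsg.Spor.Suz →* XX E R) : Subgroup (HH E R) := φ.range.comap (qq E R)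

/-- the preimage of the range of `φ` as a subgroup of `G` -/
abbrev MM (φ : Cfsg.Spor.Suz →* XX E R) : Subgroup G := (PP φ).map (HH E R).subtype

theorem mem_MM {φ : Cfsg.Spor.Suz →* XX E R} {g : G} :
    g ∈ MM φ ↔ ∃ h : HH E R, qq E R h ∈ φ.range ∧ (h : G) = g := by
  rw [MM, Subgroup.mem_map]
  exact Iff.rfl

/-- the projection -/
noncomputable def ππ (φ : Cfsg.Spor.Suz →* XX E R) (hinj : Function.Injective φ) :
    MM φ →* Cfsg.Spor.Suz :=
  (MonoidHom.ofInjective hinj).symm.toMonoidHom.comp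
    ((((qq E R).comp (PP φ).subtype).codRestrict φ.range (fun p => p.2)).comp
      ((PP φ).equivMapOfInjective (HH E R).subtype (Subgroup.subtype_injective _)).symm.toMonoidHom)

theorem φ_ππ (φ : Cfsg.Spor.Suz →* XX E R) (hinj : Function.Injective φ) (m : MM φ) (h : HH E R)
    (hm : (h : G) = m) : φ (ππ φ hinj m) = qq E R h := by
  have hP : h ∈ PP φ := by
    obtain ⟨h', h1, h2⟩ := mem_MM.mp m.2
    have : h' = h := Subtype.ext (h2.trans hm.symm)
    subst this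
    exact h1
  have e1 : m = (PP φ).equivMapOfInjective (HH E R).subtype (Subgroup.subtype_injective _) ⟨h, hP⟩ := by
    apply Subtype.ext
    rw [Subgroup.coe_equivMapOfInjective_apply]
    exact hm.symm
  rw [e1]
  show φ ((MonoidHom.ofInjective hinj).symm (((qq E R).comp (PP φ).subtype).codRestrict φ.range
    (fun p => p.2) (((PP φ).equivMapOfInjective (HH E R).subtype
      (Subgroup.subtype_injective _)).symm _))) = _
  rw [MulEquiv.symm_apply_apply]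
  have h3 : ∀ y : φ.range, φ ((MonoidHom.ofInjective hinj).symm y) = y := by
    intro y
    have h4 := (MonoidHom.ofInjective hinj).apply_symm_apply y
    have h5 := congrArg Subtype.val h4
    rw [← h5]
    rfl
  rw [h3]
  rfl

/-- **The interface of the closing argument.** -/
theorem cl_of [Finite G] (h : FInp E R n) (φ : Cfsg.Spor.Suz →* XX E R)
    (hinj : Function.Injective φ) {r₀ : G} (hr₀ : r₀ ∈ R) (hr1 : r₀ ≠ 1)
    (hφe : φ SuzCl.ie = qq E R ⟨r₀, R_le_HH h.bs hr₀⟩)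
    (hcent : ∀ x, Commute x (φ SuzCl.ie) → x ∈ φ.range)
    (hφa : ∃ y : L0, φ SuzCl.ia = ιX E R y) :
    ∃ (M : Subgroup G) (π : M →* Cfsg.Spor.Suz) (r : M), Cl M π r ∧ (r : G) = r₀ := by
  have hrM : r₀ ∈ MM φ := mem_MM.mpr ⟨⟨r₀, R_le_HH h.bs hr₀⟩, ⟨_, hφe⟩, rfl⟩
  refine ⟨MM φ, ππ φ hinj, ⟨r₀, hrM⟩, ⟨?_, ?_, ?_, ?_, ?_, ?_⟩, rfl⟩
  · intro s
    obtain ⟨x, hx⟩ := qq_surj (φ s)
    refine ⟨⟨x, mem_MM.mpr ⟨x, ⟨s, hx.symm⟩, rfl⟩⟩, ?_⟩
    apply hinj
    rw [φ_ππ φ hinj _ x rfl, hx]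
  · have e1 : (ππ φ hinj).ker.map (MM φ).subtype = W E R := by
      ext g
      constructor
      · rintro ⟨m, hm, rfl⟩
        obtain ⟨x, hx1, hx2⟩ := mem_MM.mp m.2
        have h1 := φ_ππ φ hinj m x hx2
        rw [MonoidHom.mem_ker.mp hm, map_one] at h1
        have h2 := qq_eq_one.mp h1.symm
        rw [hx2] at h2
        exact h2
      · intro hg
        have hgH : g ∈ HH E R := Subgroup.le_normalizer hg
        have h1 : qq E R ⟨g, hgH⟩ = 1 := qq_eq_one.mpr hg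
        refine ⟨⟨g, mem_MM.mpr ⟨⟨g, hgH⟩, ⟨1, by rw [map_one, h1]⟩, rfl⟩⟩, ?_, rfl⟩
        show ππ φ hinj _ = 1
        apply hinj
        rw [φ_ππ φ hinj _ ⟨g, hgH⟩ rfl, h1, map_one]
    have e2 : Nat.card ((ππ φ hinj).ker.map (MM φ).subtype) = Nat.card (ππ φ hinj).ker :=
      Subgroup.card_map_of_injective (Subgroup.subtype_injective (MM φ))
    rw [e1] at e2
    rw [← e2]
    exact W_odd h.bs h.nt h.nm
  · exact Subtype.ext (h.bs.el _ hr₀)
  · apply hinj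
    rw [φ_ππ φ hinj _ ⟨r₀, R_le_HH h.bs hr₀⟩ rfl, hφe]
  · intro g hg
    have hgH : g ∈ HH E R := cent_mem_HH h hr₀ hr1 hg
    refine mem_MM.mpr ⟨⟨g, hgH⟩, ?_, rfl⟩
    apply hcent
    rw [hφe]
    exact (show Commute (⟨g, hgH⟩ : HH E R) ⟨r₀, R_le_HH h.bs hr₀⟩ from Subtype.ext hg).map _
  · intro g x hgx hx
    obtain ⟨x', hx1, hx2⟩ := mem_MM.mp x.2
    obtain ⟨y, hy⟩ := hφa
    have h1 := φ_ππ φ hinj x x' hx2
    rw [hx, hy, ιX_apply] at h1
    have h2 := qq_eq.mp h1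
    -- `ι y` is an involution
    have hyy : y * y = 1 := by
      apply ιX_inj (E := E) (R := R)
      rw [map_mul, ← hy, ← map_mul, SuzCl.aa, map_one, map_one]
    have hιy : E.ι y * E.ι y = 1 := by rw [← map_mul, hyy, map_one]
    have hxx : (x' : G) * x' = 1 := by
      rw [hx2, ← hgx]
      calc g * r₀ * g⁻¹ * (g * r₀ * g⁻¹) = g * (r₀ * r₀) * g⁻¹ := by group
        _ = 1 := by rw [h.bs.el _ hr₀]; group
    have h3 : E.ι y * x' ∈ W E R := by
      have : (E.ι y)⁻¹ = E.ι y := inv_eq_of_mul_eq_one_right hιy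
      rw [← this]
      exact h2
    obtain ⟨w, -, hw⟩ := exists_conj_of_odd (W_odd h.bs h.nt h.nm) hιy hxx h3
    apply RFourA.not_conj_L h.bs hr₀ hr1 y
    rw [isConj_iff]
    refine ⟨w⁻¹ * g, ?_⟩
    calc w⁻¹ * g * r₀ * (w⁻¹ * g)⁻¹ = w⁻¹ * (g * r₀ * g⁻¹) * w := by group
      _ = w⁻¹ * x' * w := by
          have : g * r₀ * g⁻¹ = (x : G) := hgx
          rw [this, hx2]
      _ = E.ι y := by rw [← hw]; group

end Cfsg.Agent.StdLThreeFour.ClOf
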