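import Cfsg.Agent.StdLThreeFour.Syl
import Cfsg.Agent.StdL3.OneParity

/-!
# Fusion control by a subgroup and Thompson transfer

`Good R H`: an element `g` with `g R g⁻¹ ≤ H` lies in `H`.
-/

set_option autoImplicit false

namespace Cfsg.Agent.StdLThreeFour.OutFusion

open Cfsg.Agent.StdLThreeFour.Syl

variable {G : Type*} [Group G]

/-- an element conjugating `R` into `H` lies in `H` -/
def Good (R H : Subgroup G) : Prop := ∀ g : G, (∀ r ∈ R, g * r * g⁻¹ ∈ H) → g ∈ H

theorem two_le [Finite G] {R H U : Subgroup G} (hR : R ≤ H) (hg : Good R H)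
    (hU : IsPGroup 2 U) (hRU : R ≤ U) : U ≤ H := by
  have h1 : U = U ⊓ H := by
    apply Cfsg.Agent.Blocks.SylowIn.eq_of_normalizer_inf_le hU inf_le_left
    rintro x ⟨hx1, hx2⟩
    refine ⟨hx2, hg x (fun r hr => ?_)⟩
    have h2 := (Subgroup.mem_normalizer_iff.mp hx1 r).mp ⟨hRU hr, hR hr⟩
    exact h2.2
  rw [h1]
  exact inf_le_right

theorem index_odd [Finite G] {R H : Subgroup G} (hR : R ≤ H) (hg : Good R H)
    (h2 : IsPGroup 2 R) : Odd H.index := by
  obtain ⟨P, hP⟩ := h2.exists_le_sylow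
  have h1 : (P : Subgroup G) ≤ H := two_le hR hg P.isPGroup' hP
  have h3 := P.not_dvd_index
  rw [← Nat.not_even_iff_odd, even_iff_two_dvd]
  intro h4
  exact h3 (h4.trans (Subgroup.index_dvd_of_le h1))

/-- **Fusion.** -/
theorem fusion [Finite G] {R H : Subgroup G} (hR : R ≤ H) (hg : Good R H) (h2 : IsPGroup 2 R)
    {q q' g : G} (hq : ∀ r ∈ R, Commute q r) (hq' : ∀ r ∈ R, Commute q' r)
    (h : g * q * g⁻¹ = q') : ∃ b ∈ H, b * q * b⁻¹ = q' := by
  have hRC : R ≤ Subgroup.centralizer ({q'} : Set G) := fun r hr => by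
    rw [Subgroup.mem_centralizer_singleton_iff]
    exact (hq' r hr).eq.symm
  obtain ⟨S, hS, hRS⟩ := exists_isSyl hRC h2
  have hgR : R.map (MulAut.conj g).toMonoidHom ≤ Subgroup.centralizer ({q'} : Set G) := by
    rintro _ ⟨r, hr, rfl⟩
    rw [Subgroup.mem_centralizer_singleton_iff, ← h]
    show g * r * g⁻¹ * (g * q * g⁻¹) = g * q * g⁻¹ * (g * r * g⁻¹)
    calc g * r * g⁻¹ * (g * q * g⁻¹) = g * (r * q) * g⁻¹ := by group
      _ = g * (q * r) * g⁻¹ := by rw [(hq r hr).eq]
      _ = _ := by group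
  have hg2 : IsPGroup 2 (R.map (MulAut.conj g).toMonoidHom) := h2.map _
  obtain ⟨c, hc, hcR⟩ := hS.exists_conj_mem hgR hg2
  rw [Subgroup.mem_centralizer_singleton_iff] at hc
  have hcg : c * g ∈ H := by
    apply hg
    intro r hr
    have h3 := hcR (g * r * g⁻¹) ⟨r, hr, rfl⟩
    have e : c * g * r * (c * g)⁻¹ = c * (g * r * g⁻¹) * c⁻¹ := by group
    rw [e]
    exact two_le hR hg hS.two hRS h3
  refine ⟨c * g, hcg, ?_⟩
  calc c * g * q * (c * g)⁻¹ = c * (g * q * g⁻¹) * c⁻¹ := by group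
    _ = c * q' * c⁻¹ := by rw [h]
    _ = q' := by rw [hc]; group

/-- **Thompson transfer** (with a subgroup of odd index). -/
theorem transfer [Finite G] [IsSimpleGroup G] (hG : ¬ ∀ a b : G, a * b = b * a)
    (H : Subgroup G) (χ : H →* ℤˣ) (hodd : Odd H.index) (t : G) (ht : t * t = 1)
    (hcl : ∀ g : G, ∀ hg : g⁻¹ * t * g ∈ H, χ ⟨g⁻¹ * t * g, hg⟩ = -1) : False := by
  classical
  have hti : t⁻¹ = t := inv_eq_of_mul_eq_one_right ht
  have := Fintype.ofFinite (G ⧸ H)
  obtain ⟨f, hf, hprod⟩ := Cfsg.Agent.StdL3.OneParity.transfer_eq_prod_fixed H χ t ht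
  have h1 : MonoidHom.transfer χ t = 1 := by
    set F := MonoidHom.transfer χ with hF
    rcases (inferInstance : F.ker.Normal).eq_bot_or_eq_top with hk | hk
    · exfalso
      apply hG
      intro a b
      apply (MonoidHom.ker_eq_bot_iff F).mp hk
      rw [map_mul, map_mul, mul_comm]
    · have : t ∈ F.ker := hk ▸ Subgroup.mem_top t
      exact this
  have h2 : ∀ q ∈ Finset.univ.filter (fun q : G ⧸ H => t • q = q), f q = -1 := by
    intro q hq
    simp only [Finset.mem_filter, Finset.mem_univ, true_and] at hq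
    obtain ⟨g, rfl⟩ := QuotientGroup.mk_surjective q
    have hg : g⁻¹ * t * g ∈ H := by
      rw [MulAction.Quotient.smul_mk, smul_eq_mul, QuotientGroup.eq] at hq
      have : (t * g)⁻¹ * g = g⁻¹ * t * g := by rw [mul_inv_rev, hti]
      rw [this] at hq; exact hq
    rw [hf _ g rfl hg, hcl g hg]
  rw [Finset.prod_congr rfl h2] at hprod
  -- the product of `-1` over all cosets
  have h3 : ∏ q : G ⧸ H, (-1 : ℤˣ) =
      ∏ q ∈ Finset.univ.filter (fun q : G ⧸ H => t • q = q), (-1 : ℤˣ) := by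
    rw [← Finset.prod_filter_mul_prod_filter_not Finset.univ (fun q : G ⧸ H => t • q = q)]
    rw [mul_eq_left]
    refine Finset.prod_involution (fun q _ => t • q) ?_ ?_ ?_ ?_
    · intro q hq; simp
    · intro q hq _ h
      simp only [Finset.mem_filter, Finset.mem_univ, true_and] at hq
      exact hq h
    · intro q hq
      simp only [Finset.mem_filter, Finset.mem_univ, true_and] at hq ⊢
      intro h
      apply hq
      exact MulAction.injective t h
    · intro q hq
      rw [← mul_smul, ht, one_smul]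
  rw [← h3, h1, Finset.prod_const, Finset.card_univ, ← Nat.card_eq_fintype_card,
    ← Subgroup.index_eq_card, hodd.neg_one_pow] at hprod
  exact absurd hprod (by decide)

/-- the sign homomorphism of a subgroup `A` of `B` with `B = A ∪ A o` -/
theorem exists_sign {A B : Subgroup G} (_hAB : A ≤ B) {o : G} (hoB : o ∈ B) (hoA : o ∉ A)
    (ho : ∀ b ∈ B, b ∈ A ∨ b * o ∈ A) :
    ∃ χ : B →* ℤˣ, ∀ b : B, (b : G) ∉ A → χ b = -1 := by
  classical
  have hidx : (A.subgroupOf B).index = 2 := by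
    rw [Subgroup.index_eq_two_iff]
    refine ⟨⟨o, hoB⟩, fun b => ?_⟩
    rw [Subgroup.mem_subgroupOf, Subgroup.mem_subgroupOf]
    rcases ho b b.2 with h | h
    · right
      refine ⟨h, fun h1 => hoA ?_⟩
      have h2 := A.mul_mem (A.inv_mem h) h1
      simpa using h2
    · left
      refine ⟨h, fun h1 => hoA ?_⟩
      have h2 := A.mul_mem (A.inv_mem h1) h
      simpa using h2
  refine ⟨MonoidHom.mk' (fun b : B => if (b : G) ∈ A then 1 else -1) ?_, fun b hb => ?_⟩
  · intro x y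
    have h1 := Subgroup.mul_mem_iff_of_index_two hidx (a := x) (b := y)
    rw [Subgroup.mem_subgroupOf, Subgroup.mem_subgroupOf, Subgroup.mem_subgroupOf] at h1
    show (if ((x * y : B) : G) ∈ A then (1 : ℤˣ) else -1) =
      (if (x : G) ∈ A then 1 else -1) * (if (y : G) ∈ A then 1 else -1)
    by_cases hx : (x : G) ∈ A <;> by_cases hy : (y : G) ∈ A
    · have h2 : ((x * y : B) : G) ∈ A := h1.mpr (by simp [hx, hy])
      rw [if_pos h2, if_pos hx, if_pos hy, one_mul]
    · have h2 : ¬ ((x * y : B) : G) ∈ A := fun h => hy ((h1.mp h).mp hx)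
      rw [if_neg h2, if_pos hx, if_neg hy, one_mul]
    · have h2 : ¬ ((x * y : B) : G) ∈ A := fun h => hx ((h1.mp h).mpr hy)
      rw [if_neg h2, if_neg hx, if_pos hy, mul_one]
    · have h2 : ((x * y : B) : G) ∈ A := h1.mpr (by simp [hx, hy])
      rw [if_pos h2, if_neg hx, if_neg hy]
      decide
  · exact if_neg hb

/-- **The exclusion criterion.** `B = A ∪ A o`, `o` an involution commuting with the 2-group `R`, and every involution
of `A` is `B`-conjugate to an element commuting with `R`. -/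
theorem exclude [Finite G] [IsSimpleGroup G] (hG : ¬ ∀ a b : G, a * b = b * a)
    {R A B : Subgroup G} (hR : R ≤ B) (hg : Good R B) (h2 : IsPGroup 2 R) (hAB : A ≤ B)
    (hn : ∀ b ∈ B, ∀ a ∈ A, b * a * b⁻¹ ∈ A) {o : G} (hoB : o ∈ B) (hoA : o ∉ A)
    (hoo : o * o = 1) (hoR : ∀ r ∈ R, Commute o r) (ho : ∀ b ∈ B, b ∈ A ∨ b * o ∈ A)
    (hinv : ∀ a ∈ A, a ≠ 1 → a * a = 1 → ∃ b ∈ B, ∀ r ∈ R, Commute (b * a * b⁻¹) r) : False := by
  obtain ⟨χ, hχ⟩ := exists_sign hAB hoB hoA ho
  refine transfer hG B χ (index_odd hR hg h2) o hoo ?_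
  intro g hgo
  apply hχ
  intro hA
  have h1 : g⁻¹ * o * g ≠ 1 := by
    intro h
    apply hoA
    have : o = g * (g⁻¹ * o * g) * g⁻¹ := by group
    rw [this, h, mul_one, mul_inv_cancel]
    exact A.one_mem
  obtain ⟨b, hb, hc⟩ := hinv _ hA h1 (by
    calc g⁻¹ * o * g * (g⁻¹ * o * g) = g⁻¹ * (o * o) * g := by group
      _ = 1 := by rw [hoo]; group)
  obtain ⟨c, hc1, hc2⟩ := fusion hR hg h2 (g := (b * g⁻¹)⁻¹) hc hoR (by group)
  apply hoA
  rw [← hc2]
  exact hn c hc1 _ (hn b hb _ hA)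

end Cfsg.Agent.StdLThreeFour.OutFusion
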