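import Cfsg.Agent.StdLThreeFour.OutInv
import Cfsg.Agent.StdLThreeFour.OutFusion
import Cfsg.Agent.StdLThreeFour.RFourA
import Cfsg.Agent.SporRec.SuzCl.Inv

/-!
# Standard `L3(4)`, case `|R| = 4`: exclusion of the outer part
-/

set_option autoImplicit false
set_option linter.unusedVariables false
set_option linter.constructorNameAsVariable false

namespace Cfsg.Agent.StdLThreeFour.OutMain

open Cfsg.Agent.StdLThreeFour.Base Cfsg.Agent.StdLThreeFour.Syl Cfsg.Agent.StdLThreeFour.Emb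
open Cfsg.Agent.StdLThreeFour.Emb.SEmb Cfsg.Agent.StdLThreeFour.Red1 Cfsg.Agent.StdLThreeFour.Red2a
open Cfsg.Agent.StdLThreeFour.Red2b Cfsg.Agent.StdLThreeFour.Red2c Cfsg.Agent.StdLThreeFour.Red2d
open Cfsg.Agent.StdLThreeFour.Red2e Cfsg.Agent.StdLThreeFour.Red3
open Cfsg.Agent.StdLThreeFour.RFour0 Cfsg.Agent.StdLThreeFour.RFourA
open Cfsg.Agent.StdLThreeFour.RFourDefs Cfsg.Agent.StdLThreeFour.OutInv
open Cfsg.Agent.SporadicA.FieldFour
open Cfsg.Agent.ONType.Psl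

section ext

variable {X : Type*} [Group X]

/-- the subgroup `Y ∪ Y o` -/
def ext (Y : Subgroup X) (o : X) (hoo : o * o = 1) (hn : ∀ y ∈ Y, o * y * o⁻¹ ∈ Y) : Subgroup X where
  carrier := {x | x ∈ Y ∨ x * o ∈ Y}
  one_mem' := Or.inl Y.one_mem
  mul_mem' := by
    have hoi : o⁻¹ = o := inv_eq_of_mul_eq_one_right hoo
    rintro x y (hx | hx) (hy | hy)
    · exact Or.inl (Y.mul_mem hx hy)
    · right
      rw [mul_assoc]; exact Y.mul_mem hx hy
    · right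
      have e1 : x * y * o = (x * o) * (o⁻¹ * y * o) := by group
      rw [e1]
      refine Y.mul_mem hx ?_
      have := hn y hy
      rw [hoi] at this ⊢
      exact this
    · left
      have e1 : x * y = (x * o) * (o⁻¹ * (y * o) * o⁻¹) := by group
      rw [e1]
      refine Y.mul_mem hx ?_
      have := hn _ hy
      rw [hoi] at this ⊢
      exact this
  inv_mem' := by
    have hoi : o⁻¹ = o := inv_eq_of_mul_eq_one_right hoo
    rintro x (hx | hx)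
    · exact Or.inl (Y.inv_mem hx)
    · right
      have h1 := hn _ (Y.inv_mem hx)
      have e1 : o * (x * o)⁻¹ * o⁻¹ = x⁻¹ * o⁻¹ := by group
      rw [e1, hoi] at h1
      exact h1

variable {Y : Subgroup X} {o : X} {hoo : o * o = 1} {hn : ∀ y ∈ Y, o * y * o⁻¹ ∈ Y}

theorem mem_ext {x : X} : x ∈ ext Y o hoo hn ↔ x ∈ Y ∨ x * o ∈ Y := Iff.rfl

theorem ext_normal {x y : X} (hx : x ∈ ext Y o hoo hn) (hy : y ∈ Y) : x * y * x⁻¹ ∈ Y := by
  have hoi : o⁻¹ = o := inv_eq_of_mul_eq_one_right hoo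
  rcases hx with hx | hx
  · exact Y.mul_mem (Y.mul_mem hx hy) (Y.inv_mem hx)
  · have e1 : x * y * x⁻¹ = (x * o) * (o⁻¹ * y * o) * (x * o)⁻¹ := by group
    rw [e1]
    refine Y.mul_mem (Y.mul_mem hx ?_) (Y.inv_mem hx)
    have := hn y hy
    rw [hoi] at this ⊢
    exact this

end ext

theorem exists_odd_pow {V : Type*} [Group V] [Finite V] (x : V) :
    ∃ k : ℕ, Odd k ∧ ∃ a : ℕ, (x ^ k) ^ 2 ^ a = 1 := by
  have hpos : orderOf x ≠ 0 := (orderOf_pos x).ne'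
  refine ⟨orderOf x / 2 ^ (orderOf x).factorization 2, ?_, (orderOf x).factorization 2, ?_⟩
  · rw [← Nat.not_even_iff_odd, even_iff_two_dvd]
    exact Nat.not_dvd_ordCompl Nat.prime_two hpos
  · rw [← pow_mul, mul_comm, Nat.ordProj_mul_ordCompl_eq_self, pow_orderOf_eq_one]

variable {G : Type*} [Group G] {E : SEmb G} {R : Subgroup G} {n : G}

/-- the preimage in `G` of a subgroup of `X` -/
def pre (E : SEmb G) (R : Subgroup G) (Y : Subgroup (XX E R)) : Subgroup G :=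
  (Y.comap (qq E R)).map (HH E R).subtype

theorem mem_pre {Y : Subgroup (XX E R)} {x : G} :
    x ∈ pre E R Y ↔ ∃ v : HH E R, qq E R v ∈ Y ∧ (v : G) = x := by
  unfold pre
  rw [Subgroup.mem_map]
  exact Iff.rfl

theorem coe_mem_pre {Y : Subgroup (XX E R)} {v : HH E R} : (v : G) ∈ pre E R Y ↔ qq E R v ∈ Y := by
  rw [mem_pre]
  constructor
  · rintro ⟨w, hw, he⟩
    have : w = v := Subtype.ext he
    rwa [← this]
  · intro hv; exact ⟨v, hv, rfl⟩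

theorem W_le_pre {Y : Subgroup (XX E R)} {w : G} (hw : w ∈ W E R) : w ∈ pre E R Y := by
  have hwH : w ∈ HH E R := Subgroup.le_normalizer hw
  refine mem_pre.mpr ⟨⟨w, hwH⟩, ?_, rfl⟩
  rw [qq_eq_one.mpr (show ((⟨w, hwH⟩ : HH E R) : G) ∈ W E R from hw)]
  exact Y.one_mem

/-- conjugacy of involutions with conjugate images -/
theorem conj_lift [Finite G] (h : FInp E R n) {Y : Subgroup (XX E R)} {v x : HH E R}
    (hv : (v : G) * v = 1) (hx : (x : G) * x = 1) {g : XX E R} (hg : g ∈ Y)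
    (he : g * qq E R v * g⁻¹ = qq E R x) : ∃ b ∈ pre E R Y, b * v * b⁻¹ = x := by
  obtain ⟨u, rfl⟩ := qq_surj g
  rw [← map_mul, ← map_inv, ← map_mul] at he
  have h1 := qq_eq.mp he
  have h2 : ((u * v * u⁻¹ : HH E R) : G) * (u * v * u⁻¹ : HH E R) = 1 := by
    show (u : G) * v * (u : G)⁻¹ * (u * v * (u : G)⁻¹) = 1
    calc (u : G) * v * (u : G)⁻¹ * (u * v * (u : G)⁻¹) = u * (v * v) * (u : G)⁻¹ := by group
      _ = 1 := by rw [hv]; group
  have h3 : ((u * v * u⁻¹ : HH E R) : G)⁻¹ = (u * v * u⁻¹ : HH E R) :=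
    inv_eq_of_mul_eq_one_right h2
  rw [h3] at h1
  obtain ⟨w, hw, hw2⟩ := exists_conj_of_odd (W_odd h.bs h.nt h.nm) h2 hx h1
  refine ⟨w * u, (pre E R Y).mul_mem (W_le_pre hw) (coe_mem_pre.mpr hg), ?_⟩
  rw [← hw2]
  show w * (u : G) * v * (w * u)⁻¹ = w * (u * v * (u : G)⁻¹) * w⁻¹
  group

/-- lifting of an involution commuting with `R` -/
theorem lift_invol [Finite G] (h : FInp E R n) {o : XX E R} (hoo : o * o = 1)
    (hoR : ∀ s ∈ img E R R, Commute o s) :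
    ∃ v : HH E R, qq E R v = o ∧ (v : G) * v = 1 ∧ ∀ r ∈ R, Commute (v : G) r := by
  have hel : ∀ s ∈ img E R R, s * s = 1 := (four h).el
  set C : Subgroup (XX E R) := Subgroup.centralizer (insert o (img E R R : Set (XX E R))) with hC
  have hcomm : ∀ s ∈ img E R R, ∀ t ∈ img E R R, s * t = t * s := by
    intro s hs t ht
    have h1 := hel _ ((img E R R).mul_mem hs ht)
    have h2 : (s * t)⁻¹ = s * t := inv_eq_of_mul_eq_one_right h1
    rw [mul_inv_rev, inv_eq_of_mul_eq_one_right (hel s hs),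
      inv_eq_of_mul_eq_one_right (hel t ht)] at h2
    exact h2.symm
  have hoC : o ∈ C := by
    rw [hC, Subgroup.mem_centralizer_iff]
    rintro s (rfl | hs)
    · rfl
    · exact (hoR s hs).eq.symm
  have hRD : R ≤ pre E R C := by
    intro r hr
    refine mem_pre.mpr ⟨⟨r, R_le_HH h.bs hr⟩, ?_, rfl⟩
    rw [hC, Subgroup.mem_centralizer_iff]
    have hm : qq E R ⟨r, R_le_HH h.bs hr⟩ ∈ img E R R := mem_img.mpr ⟨_, hr, rfl⟩
    rintro s (rfl | hs)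
    · exact (hoR _ hm).eq
    · exact hcomm s hs _ hm
  obtain ⟨S, hS, hRS⟩ := exists_isSyl hRD h.bs.syl.two
  obtain ⟨v₀, hv₀⟩ := qq_surj o
  obtain ⟨k, hk, a, ha⟩ := exists_odd_pow (v₀ : G)
  set v₁ := v₀ ^ k with hv₁
  have hq1 : qq E R v₁ = o := by
    rw [hv₁, map_pow, hv₀]
    obtain ⟨j, hj⟩ := hk
    rw [hj, pow_add, pow_mul, pow_two, hoo, one_pow, one_mul, pow_one]
  have h1 : (v₁ : G) ^ 2 ^ a = 1 := by rw [hv₁, Subgroup.coe_pow]; exact ha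
  obtain ⟨d, hd, hdS⟩ := hS.exists_conj_mem (Q := Subgroup.zpowers (v₁ : G)) (by
    rw [Subgroup.zpowers_le]; exact coe_mem_pre.mpr (by rw [hq1]; exact hoC)) (isPGroup_zpowers h1)
  obtain ⟨d, hdC, rfl⟩ := mem_pre.mp hd
  have hvS : ((d * v₁ * d⁻¹ : HH E R) : G) ∈ S := hdS _ (Subgroup.mem_zpowers _)
  have hq2 : qq E R (d * v₁ * d⁻¹) = o := by
    rw [map_mul, map_mul, map_inv, hq1]
    rw [hC, Subgroup.mem_centralizer_iff] at hdC
    rw [← hdC o (Set.mem_insert _ _)]; group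
  refine ⟨d * v₁ * d⁻¹, hq2, ?_, fun r hr => ?_⟩
  · have hW : ((d * v₁ * d⁻¹ * (d * v₁ * d⁻¹) : HH E R) : G) ∈ W E R := by
      rw [← qq_eq_one, map_mul, hq2, hoo]
    obtain ⟨b, hb⟩ := two_of_isPGroup hS.two (S.mul_mem hvS hvS)
    exact two_mem_W h hW hb
  · have hrS : r ∈ S := hRS hr
    set v₂ := d * v₁ * d⁻¹ with hv₂
    have hm : qq E R ⟨r, R_le_HH h.bs hr⟩ ∈ img E R R := mem_img.mpr ⟨_, hr, rfl⟩
    have hW : ((v₂ * ⟨r, R_le_HH h.bs hr⟩ * v₂⁻¹ * (⟨r, R_le_HH h.bs hr⟩ : HH E R)⁻¹ : HH E R) : G) ∈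
        W E R := by
      rw [← qq_eq_one, map_mul, map_mul, map_mul, map_inv, map_inv, hq2, (hoR _ hm).eq]
      group
    obtain ⟨b, hb⟩ := two_of_isPGroup hS.two (S.mul_mem (S.mul_mem (S.mul_mem hvS hrS)
      (S.inv_mem hvS)) (S.inv_mem hrS))
    have h2 := two_mem_W h hW hb
    have h3 : (v₂ : G) * r * (v₂ : G)⁻¹ * r⁻¹ = 1 := h2
    have h4 : (v₂ : G) * r * (v₂ : G)⁻¹ = r := mul_inv_eq_one.mp h3
    exact mul_inv_eq_iff_eq_mul.mp h4

/-- the input of the exclusion -/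
structure MInp [Finite G] (h : FInp E R n) (ι' : L0 →* XX E R) (r' n' : F4 → XX E R)
    (ρ τ : XX E R) (φ : Cfsg.Spor.Suz →* XX E R) : Prop where
  o : OInp (four h) ι' r' n' ρ τ φ.range
  inj : Function.Injective φ
  φa : ∃ y, φ Cfsg.Agent.SporRec.SuzCl.ia = ιX E R y
  φe : φ Cfsg.Agent.SporRec.SuzCl.ie = r' 1

namespace MInp

variable [Finite G] {h : FInp E R n} {ι' : L0 →* XX E R} {r' n' : F4 → XX E R} {ρ τ : XX E R}
  {φ : Cfsg.Spor.Suz →* XX E R}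

open Cfsg.Agent.SporRec

/-- a lift of `r' m` -/
theorem exists_lift (H : MInp h ι' r' n' ρ τ φ) (m : F4) :
    ∃ v : HH E R, (v : G) ∈ R ∧ qq E R v = r' m := by
  have h1 : r' m ∈ img E R R := H.o.r_mem m
  exact mem_img.mp h1

/-- the two types of involutions of the preimage of `φ.range` -/
theorem inv_in (H : MInp h ι' r' n' ρ τ φ) {r₁ : HH E R} (hr₁ : (r₁ : G) ∈ R)
    (hq : qq E R r₁ = r' 1) {a : G} (ha : a ∈ pre E R φ.range) (ha1 : a ≠ 1) (haa : a * a = 1) :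
    (∃ b ∈ pre E R φ.range, ∃ y, b * a * b⁻¹ = E.ι y) ∨ ∃ b ∈ pre E R φ.range, b * a * b⁻¹ = r₁ := by
  obtain ⟨v, ⟨s, hs⟩, rfl⟩ := mem_pre.mp ha
  have hvv : v * v = 1 := Subtype.ext haa
  have hss : s * s = 1 := by
    apply H.inj
    rw [map_mul, hs, ← map_mul, hvv, map_one, map_one]
  have hs1 : s ≠ 1 := by
    rintro rfl
    rw [map_one] at hs
    have h1 := qq_eq_one.mp hs.symm
    exact ha1 (two_mem_W h h1 (k := 1) (by rw [pow_one, pow_two]; exact haa))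
  rcases SuzCl.two s hss hs1 with ⟨g, hg⟩ | ⟨g, hg⟩
  · left
    obtain ⟨y, hy⟩ := H.φa
    have hyy : y * y = 1 := by
      apply ιX_inj (E := E) (R := R)
      rw [map_mul, ← hy, ← map_mul, SuzCl.aa, map_one, map_one]
    obtain ⟨b, hb, he⟩ := conj_lift h (Y := φ.range) (v := v) (x := ⟨E.ι y, ι_mem_HH y⟩)
      (g := φ g⁻¹) haa
      (by show E.ι y * E.ι y = 1; rw [← map_mul, hyy, map_one]) ⟨_, rfl⟩ (by
        rw [← hs, ← map_inv, ← map_mul, ← map_mul, ← hg]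
        have e1 : g⁻¹ * (g * SuzCl.ia * g⁻¹) * g⁻¹⁻¹ = SuzCl.ia := by group
        rw [e1, hy]; rfl)
    exact ⟨b, hb, y, he⟩
  · right
    refine conj_lift h (Y := φ.range) (v := v) (x := r₁) (g := φ g⁻¹) haa (h.bs.el _ hr₁) ⟨_, rfl⟩ ?_
    rw [← hs, ← map_inv, ← map_mul, ← map_mul, ← hg]
    have e1 : g⁻¹ * (g * SuzCl.ie * g⁻¹) * g⁻¹⁻¹ = SuzCl.ie := by group
    rw [e1, H.φe, hq]

/-- the preimage of `φ.range` is transitive on the involutions of `R` -/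
theorem trans (H : MInp h ι' r' n' ρ τ φ) {r₁ : HH E R} (hr₁ : (r₁ : G) ∈ R)
    (hq : qq E R r₁ = r' 1) {r : G} (hr : r ∈ R) (hr1 : r ≠ 1) :
    ∃ b ∈ pre E R φ.range, b * r * b⁻¹ = r₁ := by
  have hm : qq E R ⟨r, R_le_HH h.bs hr⟩ ∈ img E R R := mem_img.mpr ⟨_, hr, rfl⟩
  obtain ⟨m, hm'⟩ := H.o.exists_r (x := qq E R ⟨r, R_le_HH h.bs hr⟩) hm
  have hm0 : m ≠ 0 := by
    rintro rfl
    rw [OutType.r_zero H.o.tone.toROne] at hm'
    exact hr1 (R_inf_W h hr (qq_eq_one.mp hm'))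
  have hcase : ∀ m : F4, m ≠ 0 → m = 1 ∨ ω2 * m = 1 ∨ ω2 * (ω2 * m) = 1 := by decide
  have key : ∀ g ∈ φ.range, g * r' m * g⁻¹ = r' 1 → ∃ b ∈ pre E R φ.range, b * r * b⁻¹ = r₁ := by
    intro g hg he
    refine conj_lift h (Y := φ.range) (v := ⟨r, R_le_HH h.bs hr⟩) (x := r₁) (g := g)
      (h.bs.el _ hr) (h.bs.el _ hr₁) hg ?_
    rw [hm', he, hq]
  rcases hcase m hm0 with h2 | h2 | h2
  · exact key 1 φ.range.one_mem (by rw [h2]; group)
  · exact key ρ H.o.ρY (by rw [H.o.ρr', h2])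
  · refine key (ρ * ρ) (φ.range.mul_mem H.o.ρY H.o.ρY) ?_
    calc ρ * ρ * r' m * (ρ * ρ)⁻¹ = ρ * (ρ * r' m * ρ⁻¹) * ρ⁻¹ := by group
      _ = r' 1 := by rw [H.o.ρr', H.o.ρr', h2]

/-- **Exclusion of the outer part.** -/
theorem normR_le [IsSimpleGroup G] (hG : ¬ ∀ a b : G, a * b = b * a)
    (H : MInp h ι' r' n' ρ τ φ) (x : XX E R) (hx : ∀ s ∈ img E R R, x * s * x⁻¹ ∈ img E R R) :
    x ∈ φ.range := by
  rcases H.o.dichotomy with h1 | ⟨o, hoY, hoo, hoR, hon, hall⟩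
  · exact h1 x hx
  exfalso
  obtain ⟨r₁, hr₁, hq₁⟩ := H.exists_lift 1
  obtain ⟨r₂, hr₂, hq₂⟩ := H.exists_lift ω
  obtain ⟨v, hv, hvv, hvR⟩ := lift_invol h hoo hoR
  set A := pre E R φ.range with hA
  set B := pre E R (ext φ.range o hoo hon) with hB
  have hAB : A ≤ B := by
    intro a ha
    obtain ⟨u, hu, rfl⟩ := mem_pre.mp ha
    exact mem_pre.mpr ⟨u, Or.inl hu, rfl⟩
  have hRA : R ≤ A := by
    intro r hr
    obtain ⟨m, hm⟩ := H.o.exists_r (x := qq E R ⟨r, R_le_HH h.bs hr⟩) (mem_img.mpr ⟨_, hr, rfl⟩)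
    exact mem_pre.mpr ⟨⟨r, R_le_HH h.bs hr⟩, by rw [hm]; exact H.o.rY m, rfl⟩
  have hn : ∀ b ∈ B, ∀ a ∈ A, b * a * b⁻¹ ∈ A := by
    intro b hb a ha
    obtain ⟨b, hb', rfl⟩ := mem_pre.mp hb
    obtain ⟨a, ha', rfl⟩ := mem_pre.mp ha
    refine mem_pre.mpr ⟨b * a * b⁻¹, ?_, rfl⟩
    rw [map_mul, map_mul, map_inv]
    exact ext_normal hb' ha'
  have hvB : (v : G) ∈ B := by
    refine mem_pre.mpr ⟨v, ?_, rfl⟩
    right
    rw [hv, hoo]; exact φ.range.one_mem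
  have hvA : (v : G) ∉ A := by
    intro h1
    apply hoY
    rw [← hv]
    exact coe_mem_pre.mp h1
  have ho : ∀ b ∈ B, b ∈ A ∨ b * v ∈ A := by
    intro b hb
    obtain ⟨b, hb', rfl⟩ := mem_pre.mp hb
    rcases hb' with h1 | h1
    · exact Or.inl (mem_pre.mpr ⟨b, h1, rfl⟩)
    · right
      refine mem_pre.mpr ⟨b * v, ?_, rfl⟩
      rw [map_mul, hv]; exact h1
  -- centralisers
  have hcent : ∀ r ∈ R, r ≠ 1 → ∀ c : G, Commute c r → c ∈ B := by
    intro r hr hr1 c hc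
    have hcH := cent_mem_HH h hr hr1 hc
    refine mem_pre.mpr ⟨⟨c, hcH⟩, ?_, rfl⟩
    have hqr : qq E R ⟨r, R_le_HH h.bs hr⟩ ≠ 1 := fun h1 => hr1 (R_inf_W h hr (qq_eq_one.mp h1))
    apply hall
    apply (four h).normR _ (mem_img.mpr ⟨_, hr, rfl⟩) hqr
    exact (show Commute (⟨c, hcH⟩ : HH E R) ⟨r, R_le_HH h.bs hr⟩ from Subtype.ext hc.eq).map _
  have hinv : ∀ a ∈ A, a ≠ 1 → a * a = 1 → ∃ b ∈ B, ∀ r ∈ R, Commute (b * a * b⁻¹) r := by
    intro a ha ha1 haa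
    rcases H.inv_in hr₁ hq₁ ha ha1 haa with ⟨b, hb, y, he⟩ | ⟨b, hb, he⟩
    · refine ⟨b, hAB hb, fun r hr => ?_⟩
      rw [he]
      exact (commute_ι (h.bs.le hr) y).symm
    · refine ⟨b, hAB hb, fun r hr => ?_⟩
      rw [he]
      have h1 := h.bs.el _ (R.mul_mem hr₁ hr)
      have h2 : ((r₁ : G) * r)⁻¹ = r₁ * r := inv_eq_of_mul_eq_one_right h1
      rw [mul_inv_rev, inv_eq_of_mul_eq_one_right (h.bs.el _ hr₁),
        inv_eq_of_mul_eq_one_right (h.bs.el _ hr)] at h2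
      exact h2.symm
  -- goodness
  have hgood : OutFusion.Good R B := by
    intro g hg
    have h0 : ∃ r ∈ R, r ≠ 1 ∧ g * r * g⁻¹ ∈ A := by
      have hne : ∀ (m : F4) (u : HH E R), m ≠ 0 → qq E R u = r' m → (u : G) ≠ 1 := by
        intro m u hm hu h1
        have h2 : u = 1 := Subtype.ext h1
        rw [h2, map_one] at hu
        exact H.o.r_ne hm hu.symm
      rcases ho _ (hg _ hr₁) with h1 | h1
      · exact ⟨r₁, hr₁, hne 1 r₁ one_ne_zero hq₁, h1⟩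
      rcases ho _ (hg _ hr₂) with h2 | h2
      · exact ⟨r₂, hr₂, hne ω r₂ (by decide) hq₂, h2⟩
      refine ⟨r₁ * r₂, R.mul_mem hr₁ hr₂, ?_, ?_⟩
      · exact hne (1 + ω) (r₁ * r₂) (by decide) (by
          rw [map_mul, hq₁, hq₂, H.o.tone.r_add])
      · have e1 : g * (r₁ * r₂) * g⁻¹ =
            (g * r₁ * g⁻¹ * v) * ((v : G)⁻¹ * (g * r₂ * g⁻¹ * v) * (v : G)⁻¹) := by group
        rw [e1]
        refine A.mul_mem h1 ?_
        have h3 : (v : G)⁻¹ = v := inv_eq_of_mul_eq_one_right hvv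
        have h4 := hn _ hvB _ h2
        rw [h3] at h4 ⊢
        exact h4
    obtain ⟨r, hr, hr1, hgr⟩ := h0
    have hgr1 : g * r * g⁻¹ ≠ 1 := fun h1 => hr1 (conj_eq_one_iff.mp h1)
    have hgr2 : g * r * g⁻¹ * (g * r * g⁻¹) = 1 := by
      calc g * r * g⁻¹ * (g * r * g⁻¹) = g * (r * r) * g⁻¹ := by group
        _ = 1 := by rw [h.bs.el r hr]; group
    rcases H.inv_in hr₁ hq₁ hgr hgr1 hgr2 with ⟨b, hb, y, he⟩ | ⟨b, hb, he⟩
    · exfalso
      refine not_conj_L h.bs hr hr1 y (isConj_iff.mpr ⟨b * g, ?_⟩)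
      rw [← he]; group
    · obtain ⟨m, hm, hmr⟩ := H.trans hr₁ hq₁ hr hr1
      have h1 : Commute (m⁻¹ * (b * g)) r := by
        have h2 : (m⁻¹ * (b * g)) * r * (m⁻¹ * (b * g))⁻¹ = r := by
          calc (m⁻¹ * (b * g)) * r * (m⁻¹ * (b * g))⁻¹ = m⁻¹ * (b * (g * r * g⁻¹) * b⁻¹) * m := by
                group
            _ = m⁻¹ * (m * r * m⁻¹) * m := by rw [he, hmr]
            _ = r := by group
        exact mul_inv_eq_iff_eq_mul.mp h2
      have h3 := hcent r hr hr1 _ h1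
      have e1 : g = b⁻¹ * (m * (m⁻¹ * (b * g))) := by group
      rw [e1]
      exact B.mul_mem (B.inv_mem (hAB hb)) (B.mul_mem (hAB hm) h3)
  exact OutFusion.exclude hG (hRA.trans hAB) hgood h.bs.syl.two hAB hn hvB hvA hvv hvR ho hinv

/-- **The output of (O).** -/
theorem hcent [IsSimpleGroup G] (hG : ¬ ∀ a b : G, a * b = b * a)
    (H : MInp h ι' r' n' ρ τ φ) (x : XX E R) (hx : Commute x (φ SuzCl.ie)) : x ∈ φ.range := by
  apply H.normR_le hG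
  rw [H.φe] at hx
  exact (four h).normR _ (H.o.r_mem 1) (H.o.r_ne one_ne_zero) x hx

end MInp

end Cfsg.Agent.StdLThreeFour.OutMain
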