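import Cfsg.Agent.StdLThreeFour.Assembly
import Cfsg.Agent.StdLThreeFour.OutMain
import Cfsg.Agent.StdLThreeFour.ClOf
import Cfsg.Agent.StdLThreeFour.ClCent

/-!
# Standard `L3(4)`, case `|R| = 4`: assembly

`toSuz_of`: the group is `Suz`, from the embedding of `Suz` in `N_G(W) / W` and the abstract closing theorem.
-/

set_option autoImplicit false
set_option linter.constructorNameAsVariable false

namespace Cfsg.Agent.StdLThreeFour.ClAssembly

open Cfsg.Agent.StdLThreeFour.Base Cfsg.Agent.StdLThreeFour.Emb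
open Cfsg.Agent.StdLThreeFour.RFour0 Cfsg.Agent.StdLThreeFour.Assembly
open Cfsg.Agent.StdLThreeFour.ClDefs Cfsg.Agent.StdLThreeFour.OutMain
open Cfsg.Agent.SporadicA.FieldFour
open Cfsg.Agent.SporRec

universe u

variable {G : Type u} [Group G]

theorem toSuz_of [Finite G] [IsSimpleGroup G] (hG : ¬ ∀ a b : G, a * b = b * a)
    (hM : ∀ (E : SEmb G) (R : Subgroup G) (n : G) (h : FInp E R n),
      ∃ (ι' : L0 →* XX E R) (r' n' : F4 → XX E R) (ρ τ : XX E R) (φ : Cfsg.Spor.Suz →* XX E R),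
        MInp h ι' r' n' ρ τ φ)
    {IsB : Subgroup.centralizer ({SuzCl.ia} : Set Cfsg.Spor.Suz) → Prop}
    (hcl : ClCent.Closing.{u} (Subgroup.centralizer ({SuzCl.ia} : Set Cfsg.Spor.Suz))
      ⟨SuzCl.ia, Subgroup.mem_centralizer_singleton_iff.mpr rfl⟩ IsB)
    (hB : ∀ s, IsB s → ∃ g, g * SuzCl.ie * g⁻¹ = (s : Cfsg.Spor.Suz)) : ToSuz G := by
  intro E R n h
  obtain ⟨ι', r', n', ρ, τ, φ, H⟩ := hM E R n h
  have h1 : r' 1 ∈ (four h).R := H.o.r_mem 1
  obtain ⟨v, hv, he⟩ := mem_img.mp (show r' 1 ∈ img E R R from h1)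
  have hφe : φ SuzCl.ie = qq E R ⟨v, R_le_HH h.bs hv⟩ := by rw [H.φe, ← he]
  have hv1 : (v : G) ≠ 1 := by
    intro h2
    apply SuzCl.e_ne
    apply H.inj
    rw [hφe, map_one, qq_eq_one]
    show (v : G) ∈ _
    rw [h2]
    exact Subgroup.one_mem _
  obtain ⟨M, π, r, hCl, -⟩ := ClOf.cl_of h φ H.inj hv hv1 hφe
    (fun x hx => H.hcent hG x hx) H.φa
  exact ClFrame.isoSuz hCl (ClCent.cz hCl hcl hB)

end Cfsg.Agent.StdLThreeFour.ClAssembly
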