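import Cfsg.Agent.SporRec.SuzCl.Inv

/-!
# Standard `L3(4)`, case `|R| = 4`: interface of the closing argument

`Cl M π r`: `M` is a subgroup of `G` with a surjection `π : M → Suz` whose kernel has odd order, `r` is an
involution of `M` over the involution `e` of `Suz` with `C_G(r) ≤ M`, and no conjugate of `r` lies over `a`.
-/

set_option autoImplicit false

namespace Cfsg.Agent.StdLThreeFour.ClDefs

open Cfsg.Agent.SporRec

/-- the situation to be closed -/
structure Cl {G : Type*} [Group G] (M : Subgroup G) (π : M →* Cfsg.Spor.Suz) (r : M) : Prop where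
  surj : Function.Surjective π
  odd : Odd (Nat.card π.ker)
  rr : r * r = 1
  πr : π r = SuzCl.ie
  cent : ∀ g : G, g * r = r * g → g ∈ M
  nconj : ∀ (g : G) (x : M), g * r * g⁻¹ = x → π x ≠ SuzCl.ia

/-- what remains to be shown: the centralisers of the involutions over `a` lie in `M` -/
def CZ {G : Type*} [Group G] (M : Subgroup G) (π : M →* Cfsg.Spor.Suz) : Prop :=
  ∀ z : M, z * z = 1 → π z = SuzCl.ia → ∀ g : G, g * z = z * g → g ∈ M

end Cfsg.Agent.StdLThreeFour.ClDefs
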