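import Cfsg.Agent.StdLThreeFour.ClAssembly
import Cfsg.Agent.SuzClosing.InstB
import Cfsg.Agent.SuzClosing.Main

/-!
# Standard `L3(4)`, case `|R| = 4`: assembly with the centraliser model

`toSuz_of_loc`: the group is `Suz`, from the embedding of `Suz` in `N_G(W) / W` and the structure of the centraliser
of `a` in `Suz`.
-/

set_option autoImplicit false
set_option linter.constructorNameAsVariable false

namespace Cfsg.Agent.StdLThreeFour.ClFinal

open Cfsg.Agent.StdLThreeFour.Base Cfsg.Agent.StdLThreeFour.Emb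
open Cfsg.Agent.StdLThreeFour.RFour0 Cfsg.Agent.StdLThreeFour.Assembly
open Cfsg.Agent.StdLThreeFour.ClDefs Cfsg.Agent.StdLThreeFour.OutMain
open Cfsg.Agent.SporadicA.FieldFour
open Cfsg.Agent.SporRec
open Cfsg.Agent.SuzClosing

universe u

variable {G : Type u} [Group G]

theorem toSuz_of' [Finite G] [IsSimpleGroup G] (hG : ¬ ∀ a b : G, a * b = b * a)
    (hM : ∀ (E : SEmb G) (R : Subgroup G) (n : G) (h : FInp E R n),
      ∃ (ι' : L0 →* XX E R) (r' n' : F4 → XX E R) (ρ τ : XX E R) (φ : Cfsg.Spor.Suz →* XX E R),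
        MInp h ι' r' n' ρ τ φ)
    (s₀ : Cfsg.Spor.Suz) (hs : s₀ = SuzCl.ia)
    {IsB : Subgroup.centralizer ({s₀} : Set Cfsg.Spor.Suz) → Prop}
    (hcl : ClCent.Closing.{u} (Subgroup.centralizer ({s₀} : Set Cfsg.Spor.Suz))
      ⟨s₀, Subgroup.mem_centralizer_singleton_iff.mpr rfl⟩ IsB)
    (hB : ∀ s, IsB s → ∃ g, g * SuzCl.ie * g⁻¹ = (s : Cfsg.Spor.Suz)) : ToSuz G := by
  subst hs
  exact ClAssembly.toSuz_of hG hM hcl hB

theorem toSuz_of_loc [Finite G] [IsSimpleGroup G] (hG : ¬ ∀ a b : G, a * b = b * a)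
    (hM : ∀ (E : SEmb G) (R : Subgroup G) (n : G) (h : FInp E R n),
      ∃ (ι' : L0 →* XX E R) (r' n' : F4 → XX E R) (ρ τ : XX E R) (φ : Cfsg.Spor.Suz →* XX E R),
        MInp h ι' r' n' ρ τ φ)
    (hl : Loc Inst.q Inst.B Inst.zH Inst.gens.Q Inst.gens.vec) : ToSuz G :=
  toSuz_of' hG hM Cfsg.Agent.SuzThree.CentA.z0 Cfsg.Agent.SuzThree.CentCard.z0_eq
    (IsB := Cfsg.Agent.SuzClosing.IsB Inst.q Inst.B Inst.gens.Q Inst.gens.vec)
    (fun C _ _ M π => closing hl Inst.qf C M π) (fun _ hs => Inst.conj_ie hl.toPre hs)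

end Cfsg.Agent.StdLThreeFour.ClFinal
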