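import Cfsg.Agent.StdLThreeFour.Red3

/-!
# Standard `L3(4)`: the case `|R| = 4`, passage to `X = N_G(W) / W`
-/

set_option autoImplicit false
set_option linter.constructorNameAsVariable false

namespace Cfsg.Agent.StdLThreeFour.RFour0

open Cfsg.Agent.StdLThreeFour.Base Cfsg.Agent.StdLThreeFour.Syl Cfsg.Agent.StdLThreeFour.Emb
open Cfsg.Agent.StdLThreeFour.Emb.SEmb Cfsg.Agent.StdLThreeFour.Red1 Cfsg.Agent.StdLThreeFour.Red2a
open Cfsg.Agent.StdLThreeFour.Red2b Cfsg.Agent.StdLThreeFour.Red2c Cfsg.Agent.StdLThreeFour.Red2d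
open Cfsg.Agent.StdLThreeFour.Red2e Cfsg.Agent.StdLThreeFour.Red3
open Cfsg.Agent.SporadicA.FieldFour
open Cfsg.Agent.ONType.Psl

/-- The configuration in the quotient `X = N_G(W) / W`: a four-group `R` centralising `L3(4)`, with
`C_X(r) ≤ N_X(R) ≤ N_X(ι L0)`, `C_X(r) ∩ C_X(ι L0) = R` for every involution `r` of `R`, and an element
`n` normalising `T0 = R × ι(S0)` but not `R`. -/
structure Four (X : Type*) [Group X] where
  ι : L0 →* X
  R : Subgroup X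
  n : X
  inj : Function.Injective ι
  card : Nat.card R = 4
  el : ∀ r ∈ R, r * r = 1
  comm : ∀ r ∈ R, ∀ y, Commute r (ι y)
  act : ∀ r ∈ R, r ≠ 1 → ∀ x, Commute x r → ∃ α : MulAut L0, ∀ y, x * ι y * x⁻¹ = ι (α y)
  normR : ∀ r ∈ R, r ≠ 1 → ∀ x, Commute x r → ∀ s ∈ R, x * s * x⁻¹ ∈ R
  centK : ∀ r ∈ R, r ≠ 1 → ∀ x, Commute x r → (∀ y, Commute x (ι y)) → x ∈ R
  actR : ∀ x, (∀ s ∈ R, x * s * x⁻¹ ∈ R) → ∃ α : MulAut L0, ∀ y, x * ι y * x⁻¹ = ι (α y)
  norm : ∀ x, x ∈ R ⊔ S0.map ι ↔ n * x * n⁻¹ ∈ R ⊔ S0.map ι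
  nR : ∃ r ∈ R, n * r * n⁻¹ ∉ R

variable {G : Type*} [Group G]

/-- two involutions with product in a subgroup of odd order are conjugate under it -/
theorem exists_conj_of_odd [Finite G] {V : Subgroup G} (hV : Odd (Nat.card V)) {r s : G}
    (hr : r * r = 1) (hs : s * s = 1) (h : r * s ∈ V) : ∃ w ∈ V, w * r * w⁻¹ = s := by
  set c := r * s with hc
  have hodd : Odd (orderOf c) := by
    have h1 : orderOf (⟨c, h⟩ : V) ∣ Nat.card V := orderOf_dvd_natCard _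
    rw [Subgroup.orderOf_mk] at h1
    exact Odd.of_dvd_nat hV h1
  obtain ⟨k, hk⟩ := hodd
  have hri : r⁻¹ = r := inv_eq_of_mul_eq_one_right hr
  have hsi : s⁻¹ = s := inv_eq_of_mul_eq_one_right hs
  have hinv : r * c * r⁻¹ = c⁻¹ := by
    rw [hc, mul_inv_rev, hri, hsi]
    calc r * (r * s) * r = (r * r) * s * r := by group
      _ = s * r := by rw [hr, one_mul]
  -- `w = c ^ k`, `w * w = c⁻¹`
  have hw2 : c ^ k * c ^ k = c⁻¹ := by
    rw [← pow_add, eq_inv_iff_mul_eq_one, ← pow_succ]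
    have : k + k + 1 = orderOf c := by rw [hk]; ring
    rw [this, pow_orderOf_eq_one]
  refine ⟨c ^ k, V.pow_mem h k, ?_⟩
  have h1 : r * (c ^ k)⁻¹ * r⁻¹ = c ^ k := by
    have : r * (c ^ k)⁻¹ * r⁻¹ = (r * c ^ k * r⁻¹)⁻¹ := by group
    rw [this, ← conj_pow, hinv, inv_pow, inv_inv]
  calc c ^ k * r * (c ^ k)⁻¹ = c ^ k * (r * (c ^ k)⁻¹ * r⁻¹) * r := by group
    _ = c⁻¹ * r := by rw [h1, hw2]
    _ = s := by rw [hc, mul_inv_rev, hri, hsi, mul_assoc, hr, mul_one]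

variable {E : SEmb G} {R : Subgroup G} {n : G}

/-- the hypotheses of the case `|R| = 4` -/
structure FInp (E : SEmb G) (R : Subgroup G) (n : G) : Prop where
  bs : Bs E R
  nt : NT E R n
  nm : n ∉ E.M
  card4 : Nat.card R = 4

/-- the subgroup `N_G(W)` -/
abbrev HH (E : SEmb G) (R : Subgroup G) : Subgroup G := Subgroup.normalizer (W E R : Set G)

/-- `W` as a subgroup of `N_G(W)` -/
abbrev WH (E : SEmb G) (R : Subgroup G) : Subgroup (HH E R) := (W E R).subgroupOf (HH E R)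

instance : (WH E R).Normal := Subgroup.normal_in_normalizer

/-- the quotient -/
abbrev XX (E : SEmb G) (R : Subgroup G) : Type _ := HH E R ⧸ WH E R

theorem mem_HH_of {x : G} (h1 : ∀ w ∈ W E R, x * w * x⁻¹ ∈ W E R)
    (h2 : ∀ w ∈ W E R, x⁻¹ * w * x ∈ W E R) : x ∈ HH E R := by
  rw [Subgroup.mem_normalizer_iff]
  intro w
  constructor
  · exact h1 w
  · intro h
    have := h2 _ h
    have e : x⁻¹ * (x * w * x⁻¹) * x = w := by group
    rwa [e] at this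

theorem ι_mem_HH (y : L0) : E.ι y ∈ HH E R := by
  have key : ∀ y : L0, ∀ w ∈ W E R, E.ι y * w * (E.ι y)⁻¹ ∈ W E R := by
    intro y w hw
    rw [← (commute_ι (W_le_K hw) y).eq, mul_inv_cancel_right]
    exact hw
  refine mem_HH_of (key y) ?_
  intro w hw
  have := key y⁻¹ w hw
  rwa [map_inv, inv_inv] at this

theorem R_le_HH (hB : Bs E R) : R ≤ HH E R := by
  intro r hr
  refine mem_HH_of (normR_conj_W hB (fun s hs => R.mul_mem (R.mul_mem hr hs) (R.inv_mem hr))).2 ?_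
  have h1 := (normR_conj_W hB (m := r⁻¹)
    (fun s hs => R.mul_mem (R.mul_mem (R.inv_mem hr) hs) (R.inv_mem (R.inv_mem hr)))).2
  rwa [inv_inv] at h1

theorem n_mem_HH [Finite G] (hB : Bs E R) (hn : NT E R n) : n ∈ HH E R := by
  refine mem_HH_of (hn.conj_W hB) ?_
  have h1 := hn.inv.conj_W hB
  rwa [inv_inv] at h1

theorem cent_mem_HH [Finite G] (h : FInp E R n) {r c : G} (hr : r ∈ R) (hr1 : r ≠ 1)
    (hc : Commute c r) : c ∈ HH E R := by
  refine mem_HH_of (cent_conj_W h.bs h.nt h.nm hr hr1 hc) ?_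
  have h1 := cent_conj_W h.bs h.nt h.nm hr hr1 hc.inv_left
  rwa [inv_inv] at h1

/-- the projection -/
def qq (E : SEmb G) (R : Subgroup G) : HH E R →* XX E R := QuotientGroup.mk' (WH E R)

theorem qq_surj : Function.Surjective (qq E R) := QuotientGroup.mk'_surjective _

theorem qq_eq {x y : HH E R} : qq E R x = qq E R y ↔ (x : G)⁻¹ * y ∈ W E R := by
  unfold qq
  rw [QuotientGroup.mk'_apply, QuotientGroup.mk'_apply, QuotientGroup.eq, Subgroup.mem_subgroupOf]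
  rfl

theorem qq_eq_one {x : HH E R} : qq E R x = 1 ↔ (x : G) ∈ W E R := by
  unfold qq
  rw [QuotientGroup.mk'_apply, QuotientGroup.eq_one_iff, Subgroup.mem_subgroupOf]

/-- the embedding in `N_G(W)` -/
def ιH (E : SEmb G) (R : Subgroup G) : L0 →* HH E R := E.ι.codRestrict (HH E R) ι_mem_HH

/-- the embedding in `X` -/
def ιX (E : SEmb G) (R : Subgroup G) : L0 →* XX E R := (qq E R).comp (ιH E R)

theorem ιX_apply (y : L0) : ιX E R y = qq E R ⟨E.ι y, ι_mem_HH y⟩ := rfl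

theorem ιX_inj : Function.Injective (ιX E R) := by
  intro a b hab
  rw [ιX_apply, ιX_apply, qq_eq] at hab
  have h1 : (E.ι a)⁻¹ * E.ι b = 1 :=
    K_L_eq_one (W_le_K hab) (E.L.mul_mem (E.L.inv_mem (ι_mem_L a)) (ι_mem_L b))
  exact E.inj (inv_mul_eq_one.mp h1)

/-- the image of a subgroup of `N_G(W)` -/
def img (E : SEmb G) (R V : Subgroup G) : Subgroup (XX E R) := (V.subgroupOf (HH E R)).map (qq E R)

theorem mem_img {V : Subgroup G} {x : XX E R} :
    x ∈ img E R V ↔ ∃ v : HH E R, (v : G) ∈ V ∧ qq E R v = x := by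
  unfold img
  rw [Subgroup.mem_map]
  exact Iff.rfl

theorem two_mem_W [Finite G] (h : FInp E R n) {x : G} (hx : x ∈ W E R) {k : ℕ} (h2 : x ^ 2 ^ k = 1) :
    x = 1 := by
  by_contra h1
  obtain ⟨m, hm1, hm2⟩ := exists_pow_invol h1 h2
  have h3 := two_dvd_card_of_invol ((W E R).pow_mem hx m) hm1 hm2
  exact (Nat.not_even_iff_odd.mpr (W_odd h.bs h.nt h.nm)) (even_iff_two_dvd.mpr h3)

theorem R_inf_W [Finite G] (h : FInp E R n) {x : G} (hx : x ∈ R) (hW : x ∈ W E R) : x = 1 :=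
  two_mem_W h hW (k := 1) (by rw [pow_one, pow_two, h.bs.el x hx])

/-- lifting of commuting elements -/
theorem lift_comm [Finite G] (h : FInp E R n) {r : HH E R} (hr : (r : G) ∈ R) {x : HH E R}
    (hx : Commute (qq E R x) (qq E R r)) :
    ∃ x' : HH E R, qq E R x' = qq E R x ∧ Commute (x' : G) r := by
  have h1 : (r : G) * (x * r * (x : G)⁻¹) ∈ W E R := by
    have h2 : qq E R (r * (x * r * x⁻¹)) = 1 := by
      rw [map_mul, map_mul, map_mul, map_inv, hx.eq, mul_inv_cancel_right, ← map_mul]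
      have : r * r = 1 := Subtype.ext (h.bs.el r hr)
      rw [this, map_one]
    have h3 := qq_eq_one.mp h2
    exact h3
  obtain ⟨w, hw, he⟩ := exists_conj_of_odd (W_odd h.bs h.nt h.nm) (h.bs.el r hr) (by
    calc (x : G) * r * (x : G)⁻¹ * (x * r * (x : G)⁻¹) = x * (r * r) * (x : G)⁻¹ := by group
      _ = 1 := by rw [h.bs.el r hr]; group) h1
  have hwH : w ∈ HH E R := Subgroup.le_normalizer hw
  refine ⟨⟨w, hwH⟩⁻¹ * x, ?_, ?_⟩
  · rw [map_mul, map_inv, qq_eq_one.mpr (show ((⟨w, hwH⟩ : HH E R) : G) ∈ W E R from hw), inv_one,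
      one_mul]
  · show w⁻¹ * (x : G) * r = r * (w⁻¹ * x)
    have h2 : (x : G) * r = w * r * w⁻¹ * x := by rw [he]; group
    calc w⁻¹ * (x : G) * r = w⁻¹ * (x * r) := by group
      _ = r * (w⁻¹ * x) := by rw [h2]; group

/-- lifting of elements normalising `R` -/
theorem lift_norm [Finite G] (h : FInp E R n) {x : HH E R}
    (hx : ∀ s ∈ img E R R, qq E R x * s * (qq E R x)⁻¹ ∈ img E R R) :
    ∃ x' : HH E R, qq E R x' = qq E R x ∧ ∀ s ∈ R, (x' : G) * s * (x' : G)⁻¹ ∈ R := by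
  have hRW : IsSyl R (W E R ⊔ R) := h.bs.syl.mono le_sup_right (sup_le W_le_K h.bs.le)
  have hRn : R ≤ Subgroup.normalizer (W E R : Set G) := R_le_HH h.bs
  have hmem : ∀ y, y ∈ W E R ⊔ R ↔ ∃ w ∈ W E R, ∃ ρ ∈ R, w * ρ = y := by
    intro y
    constructor
    · intro hy
      have h1 : (W E R ⊔ R : Subgroup G) ≤ HH E R := sup_le Subgroup.le_normalizer hRn
      have h2 : (⟨y, h1 hy⟩ : HH E R) ∈ WH E R ⊔ R.subgroupOf (HH E R) := by
        rw [← Subgroup.subgroupOf_sup Subgroup.le_normalizer hRn, Subgroup.mem_subgroupOf]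
        exact hy
      rw [Subgroup.mem_sup_of_normal_left] at h2
      obtain ⟨w, hw, ρ, hρ, he⟩ := h2
      exact ⟨w, hw, ρ, hρ, congrArg Subtype.val he⟩
    · rintro ⟨w, hw, ρ, hρ, rfl⟩
      exact Subgroup.mul_mem _ (Subgroup.mem_sup_left hw) (Subgroup.mem_sup_right hρ)
  have hle : R.map (MulAut.conj (x : G)).toMonoidHom ≤ W E R ⊔ R := by
    rintro _ ⟨s, hs, rfl⟩
    have h1 := hx _ (mem_img.mpr ⟨⟨s, R_le_HH h.bs hs⟩, hs, rfl⟩)
    rw [← map_mul, ← map_inv, ← map_mul] at h1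
    obtain ⟨v, hv, he⟩ := mem_img.mp h1
    rw [qq_eq] at he
    rw [hmem]
    -- `v⁻¹ (x s x⁻¹) ∈ W`, `v ∈ R`
    refine ⟨(v : G) * ((v : G)⁻¹ * (x * s * (x : G)⁻¹)) * (v : G)⁻¹, ?_, v, hv, ?_⟩
    · exact (Subgroup.mem_normalizer_iff.mp v.2 _).mp he
    · show _ = (x : G) * s * (x : G)⁻¹
      group
  have hRx : IsSyl (R.map (MulAut.conj (x : G)).toMonoidHom) (W E R ⊔ R) := by
    apply isSyl_of_card hle
    rw [card_conj]; exact hRW.card_eq
  obtain ⟨k, hk, hkk⟩ := hRW.exists_conj hRx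
  obtain ⟨w, hw, ρ, hρ, hk'⟩ := (hmem _).mp ((W E R ⊔ R).inv_mem hk)
  -- `k = ρ⁻¹ w⁻¹`
  have hkeq : k = ρ⁻¹ * w⁻¹ := by rw [← mul_inv_rev, hk', inv_inv]
  have hwH : w ∈ HH E R := Subgroup.le_normalizer hw
  refine ⟨⟨w, hwH⟩⁻¹ * x, ?_, ?_⟩
  · rw [map_mul, map_inv, qq_eq_one.mpr (show ((⟨w, hwH⟩ : HH E R) : G) ∈ W E R from hw), inv_one,
      one_mul]
  · intro s hs
    have h1 := (hkk (x * s * (x : G)⁻¹)).mp ⟨s, hs, by simp⟩
    show w⁻¹ * (x : G) * s * (w⁻¹ * (x : G))⁻¹ ∈ R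
    have h2 := R.mul_mem (R.mul_mem hρ h1) (R.inv_mem hρ)
    rw [hkeq] at h2
    have e : ρ * (ρ⁻¹ * w⁻¹ * (x * s * (x : G)⁻¹) * (ρ⁻¹ * w⁻¹)⁻¹) * ρ⁻¹ =
        w⁻¹ * (x : G) * s * (w⁻¹ * (x : G))⁻¹ := by group
    rwa [e] at h2

theorem act_of_M {x : HH E R} (hx : (x : G) ∈ E.M) :
    ∃ α : MulAut L0, ∀ y, qq E R x * ιX E R y * (qq E R x)⁻¹ = ιX E R (α y) := by
  obtain ⟨α, hα⟩ := hx
  refine ⟨α, fun y => ?_⟩
  rw [ιX_apply, ιX_apply, ← map_mul, ← map_inv, ← map_mul]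
  congr 1
  exact Subtype.ext (hα y)

theorem mem_img_T0 [Finite G] (h : FInp E R n) {x : XX E R} :
    x ∈ img E R R ⊔ S0.map (ιX E R) ↔ x ∈ img E R (T0 E R) := by
  have h1 : img E R R ⊔ S0.map (ιX E R) = img E R (T0 E R) := by
    apply le_antisymm
    · refine sup_le ?_ ?_
      · intro y hy
        obtain ⟨v, hv, rfl⟩ := mem_img.mp hy
        exact mem_img.mpr ⟨v, R_le_T0 hv, rfl⟩
      · rintro _ ⟨s, hs, rfl⟩
        exact mem_img.mpr ⟨⟨E.ι s, ι_mem_HH s⟩, ι_mem_T0 hs, rfl⟩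
    · intro y hy
      obtain ⟨v, hv, rfl⟩ := mem_img.mp hy
      obtain ⟨r, hr, s, hs, he⟩ := (mem_T0 h.bs.le).mp hv
      have : v = ⟨r, R_le_HH h.bs hr⟩ * ⟨E.ι s, ι_mem_HH s⟩ := Subtype.ext he.symm
      rw [this, map_mul]
      exact Subgroup.mul_mem _ (Subgroup.mem_sup_left (mem_img.mpr ⟨_, hr, rfl⟩))
        (Subgroup.mem_sup_right ⟨s, hs, rfl⟩)
  rw [h1]

theorem T0_two [Finite G] (h : FInp E R n) : IsPGroup 2 (T0 E R) := by
  apply IsPGroup.of_card (n := 8)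
  unfold T0
  rw [card_prod h.bs.le, h.card4, Facts1.card_S0]; norm_num

/-- **The configuration in `X = N_G(W) / W`.** -/
def four [Finite G] (h : FInp E R n) : Four (XX E R) where
  ι := ιX E R
  R := img E R R
  n := qq E R ⟨n, n_mem_HH h.bs h.nt⟩
  inj := ιX_inj
  card := by
    rw [← h.card4]
    symm
    refine Nat.card_congr (Equiv.ofBijective (fun r : R => (⟨qq E R ⟨r, R_le_HH h.bs r.2⟩,
      mem_img.mpr ⟨_, r.2, rfl⟩⟩ : img E R R)) ⟨?_, ?_⟩)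
    · intro a b hab
      have h1 := congrArg Subtype.val hab
      have h2 := qq_eq.mp h1
      exact Subtype.ext (inv_mul_eq_one.mp (R_inf_W h (R.mul_mem (R.inv_mem a.2) b.2) h2))
    · rintro ⟨x, hx⟩
      obtain ⟨v, hv, rfl⟩ := mem_img.mp hx
      exact ⟨⟨v, hv⟩, rfl⟩
  el := by
    intro r hr
    obtain ⟨v, hv, rfl⟩ := mem_img.mp hr
    rw [← map_mul]
    have : v * v = 1 := Subtype.ext (h.bs.el v hv)
    rw [this, map_one]
  comm := by
    intro r hr y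
    obtain ⟨v, hv, rfl⟩ := mem_img.mp hr
    rw [ιX_apply]
    exact (show Commute v ⟨E.ι y, ι_mem_HH y⟩ from Subtype.ext (commute_ι (h.bs.le hv) y).eq).map _
  act := by
    intro r hr hr1 x hx
    obtain ⟨v, hv, rfl⟩ := mem_img.mp hr
    obtain ⟨x, rfl⟩ := qq_surj x
    obtain ⟨x', he, hc⟩ := lift_comm h hv hx
    rw [← he]
    have hv1 : (v : G) ≠ 1 := fun h1 => hr1 (by
      have : v = 1 := Subtype.ext h1
      rw [this, map_one])
    exact act_of_M (mem_M_of_commute hv1 (h.bs.el v hv) (h.bs.le hv) hc)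
  normR := by
    intro r hr hr1 x hx s hs
    obtain ⟨v, hv, rfl⟩ := mem_img.mp hr
    obtain ⟨x, rfl⟩ := qq_surj x
    obtain ⟨x', he, hc⟩ := lift_comm h hv hx
    rw [← he]
    have hv1 : (v : G) ≠ 1 := fun h1 => hr1 (by
      have : v = 1 := Subtype.ext h1
      rw [this, map_one])
    obtain ⟨u, hu, rfl⟩ := mem_img.mp hs
    obtain ⟨w, hw, -, m, hm, -, hx'⟩ := cent_r h.bs h.nt h.nm hv hv1 hc
    have hwH : w ∈ HH E R := Subgroup.le_normalizer hw
    have hmH : m ∈ HH E R := by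
      have : m = w⁻¹ * x' := by rw [hx']; group
      rw [this]
      exact Subgroup.mul_mem _ (Subgroup.inv_mem _ hwH) x'.2
    have hx2 : x' = ⟨w, hwH⟩ * ⟨m, hmH⟩ := Subtype.ext hx'
    rw [hx2, map_mul, qq_eq_one.mpr (show ((⟨w, hwH⟩ : HH E R) : G) ∈ W E R from hw), one_mul,
      ← map_mul, ← map_inv, ← map_mul]
    exact mem_img.mpr ⟨_, (hm u).mp hu, rfl⟩
  centK := by
    intro r hr hr1 x hx hxy
    obtain ⟨v, hv, rfl⟩ := mem_img.mp hr
    obtain ⟨x, rfl⟩ := qq_surj x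
    obtain ⟨x', he, hc⟩ := lift_comm h hv hx
    rw [← he] at hxy ⊢
    have hv1 : (v : G) ≠ 1 := fun h1 => hr1 (by
      have : v = 1 := Subtype.ext h1
      rw [this, map_one])
    obtain ⟨α, hα⟩ := mem_M_of_commute hv1 (h.bs.el v hv) (h.bs.le hv) hc
    have hα1 : α = 1 := by
      apply MulEquiv.ext
      intro y
      have h1 := (hxy y).eq
      rw [ιX_apply, ← map_mul, ← map_mul] at h1
      have h2 := qq_eq.mp h1.symm
      have h3 : E.ι (y⁻¹ * α y) ∈ E.K := by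
        have h4 : ((⟨E.ι y, ι_mem_HH y⟩ * x' : HH E R) : G)⁻¹ *
            ((x' * ⟨E.ι y, ι_mem_HH y⟩ : HH E R) : G) = (x' : G)⁻¹ * E.ι (y⁻¹ * α y) * x' := by
          rw [map_mul, ← hα y, map_inv]
          show (E.ι y * (x' : G))⁻¹ * ((x' : G) * E.ι y) = _
          group
        rw [h4] at h2
        have h5 := (Subgroup.mem_normalizer_iff.mp x'.2 _).mp h2
        have e : (x' : G) * ((x' : G)⁻¹ * E.ι (y⁻¹ * α y) * x') * (x' : G)⁻¹ = E.ι (y⁻¹ * α y) := by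
          group
        rw [e] at h5
        exact W_le_K h5
      have h6 := K_L_eq_one h3 (ι_mem_L _)
      have h7 : y⁻¹ * α y = 1 := E.inj (by rw [h6, map_one])
      exact (inv_mul_eq_one.mp h7).symm
    rw [hα1] at hα
    obtain ⟨w, hw, -, ρ, hρ, hx'⟩ := cent_K_le h.bs h.nt h.nm hv hv1 (act_one_iff.mp hα) hc
    have hwH : w ∈ HH E R := Subgroup.le_normalizer hw
    have hx2 : x' = ⟨w, hwH⟩ * ⟨ρ, R_le_HH h.bs hρ⟩ := Subtype.ext hx'
    rw [hx2, map_mul, qq_eq_one.mpr (show ((⟨w, hwH⟩ : HH E R) : G) ∈ W E R from hw), one_mul]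
    exact mem_img.mpr ⟨_, hρ, rfl⟩
  actR := by
    intro x hx
    obtain ⟨x, rfl⟩ := qq_surj x
    obtain ⟨x', he, hc⟩ := lift_norm h hx
    rw [← he]
    exact act_of_M (normR_conj_W h.bs hc).1
  norm := by
    have key : ∀ m (hm : NT E R m), ∀ x ∈ img E R (T0 E R),
        qq E R ⟨m, n_mem_HH h.bs hm⟩ * x * (qq E R ⟨m, n_mem_HH h.bs hm⟩)⁻¹ ∈ img E R (T0 E R) := by
      intro m hm x hx
      obtain ⟨v, hv, rfl⟩ := mem_img.mp hx
      rw [← map_mul, ← map_inv, ← map_mul]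
      exact mem_img.mpr ⟨_, (hm v).mp hv, rfl⟩
    intro x
    rw [mem_img_T0 h, mem_img_T0 h]
    constructor
    · exact key n h.nt x
    · intro hx
      have h1 := key n⁻¹ h.nt.inv _ hx
      have h2 : qq E R ⟨n⁻¹, n_mem_HH h.bs h.nt.inv⟩ = (qq E R ⟨n, n_mem_HH h.bs h.nt⟩)⁻¹ := by
        rw [← map_inv]; rfl
      rw [h2] at h1
      have e : ∀ a b : XX E R, a⁻¹ * (a * b * a⁻¹) * a⁻¹⁻¹ = b := by intro a b; group
      rwa [e] at h1
  nR := by
    by_contra hcon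
    push Not at hcon
    apply h.nm
    have hR : R ≠ ⊥ := by
      intro h0
      have := h.card4
      rw [h0, Subgroup.card_bot] at this
      omega
    apply mem_M_of_normalize h.bs.le h.bs.syl.two hR
    intro r hr
    have h1 := hcon _ (mem_img.mpr ⟨⟨r, R_le_HH h.bs hr⟩, hr, rfl⟩)
    rw [← map_mul, ← map_inv, ← map_mul] at h1
    obtain ⟨v, hv, he⟩ := mem_img.mp h1
    have h2 := qq_eq.mp he
    have h3 : (v : G)⁻¹ * (n * r * n⁻¹) ∈ T0 E R :=
      (T0 E R).mul_mem ((T0 E R).inv_mem (R_le_T0 hv)) ((h.nt r).mp (R_le_T0 hr))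
    obtain ⟨k, hk⟩ := two_of_isPGroup (T0_two h) h3
    have h4 := two_mem_W h h2 hk
    have h5 : (v : G) = n * r * n⁻¹ := inv_mul_eq_one.mp h4
    rw [← h5]
    exact hv

end Cfsg.Agent.StdLThreeFour.RFour0
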