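import Cfsg.Agent.StdLThreeFour.ClDefs
import Cfsg.Agent.StdLThreeFour.RFour0
import Cfsg.Agent.S0223
import Cfsg.Agent.S1225

/-!
# Standard `L3(4)`, case `|R| = 4`: goodness of `r` and the end of the closing argument
-/

set_option autoImplicit false

namespace Cfsg.Agent.StdLThreeFour.ClFrame

open Cfsg.Agent.SporRec Cfsg.Agent.StdLThreeFour.ClDefs

variable {G : Type*} [Group G] {M : Subgroup G} {π : M →* Cfsg.Spor.Suz} {r : M}

/-- an involution is not in a subgroup of odd order -/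
theorem eq_one_of_odd {V : Type*} [Group V] [Finite V] {K : Subgroup V} (hK : Odd (Nat.card K)) {x : V}
    (hx : x ∈ K) (hxx : x * x = 1) : x = 1 := by
  have h1 : orderOf (⟨x, hx⟩ : K) ∣ Nat.card K := orderOf_dvd_natCard _
  rw [Subgroup.orderOf_mk] at h1
  have h2 : orderOf x ∣ 2 := orderOf_dvd_of_pow_eq_one (by rw [pow_two, hxx])
  rcases (Nat.dvd_prime Nat.prime_two).mp h2 with h3 | h3
  · exact orderOf_eq_one_iff.mp h3
  · rw [h3] at h1
    exact absurd (even_iff_two_dvd.mpr h1) (Nat.not_even_iff_odd.mpr hK)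

/-- involutions with the same image are conjugate -/
theorem conj_of_eq [Finite G] (h : Cl M π r) {x y : M} (hx : x * x = 1) (hy : y * y = 1)
    (hxy : π x = π y) : ∃ w : M, π w = 1 ∧ w * x * w⁻¹ = y := by
  obtain ⟨w, hw, he⟩ := RFour0.exists_conj_of_odd (V := π.ker) h.odd hx hy (by
    rw [MonoidHom.mem_ker, map_mul, hxy, ← map_mul, hy, map_one])
  exact ⟨w, MonoidHom.mem_ker.mp hw, he⟩

theorem ne_one_of_ne [Finite G] (h : Cl M π r) {x : M} (hx : x * x = 1) (h1 : x ≠ 1) : π x ≠ 1 := by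
  intro h2
  exact h1 (eq_one_of_odd h.odd (MonoidHom.mem_ker.mpr h2) hx)

/-- the two classes of involutions of `M` -/
theorem inv_cases [Finite G] (h : Cl M π r) {x : M} (hx : x * x = 1) (h1 : x ≠ 1) :
    (∃ m : M, m * r * m⁻¹ = x) ∨ ∃ m : M, π (m * x * m⁻¹) = SuzCl.ia := by
  have h2 : π x * π x = 1 := by rw [← map_mul, hx, map_one]
  rcases SuzCl.two (π x) h2 (ne_one_of_ne h hx h1) with ⟨w, hw⟩ | ⟨w, hw⟩
  · right
    obtain ⟨m, rfl⟩ := h.surj w
    refine ⟨m⁻¹, ?_⟩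
    rw [map_mul, map_mul, map_inv, ← hw]
    group
  · left
    obtain ⟨m, rfl⟩ := h.surj w
    have h3 : π (m * r * m⁻¹) = π x := by rw [map_mul, map_mul, map_inv, h.πr, hw]
    have h4 : m * r * m⁻¹ * (m * r * m⁻¹) = 1 := by
      calc m * r * m⁻¹ * (m * r * m⁻¹) = m * (r * r) * m⁻¹ := by group
        _ = 1 := by rw [h.rr]; group
    obtain ⟨v, -, hv⟩ := conj_of_eq h h4 hx h3
    refine ⟨v * m, ?_⟩
    rw [← hv]; group

/-- `r` is good: it fixes only one coset of `M` -/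
theorem good [Finite G] (h : Cl M π r) {g : G} (hg : g * r * g⁻¹ ∈ M) : g ∈ M := by
  have h1 : (⟨g * r * g⁻¹, hg⟩ : M) * ⟨g * r * g⁻¹, hg⟩ = 1 := by
    apply Subtype.ext
    show g * (r : G) * g⁻¹ * (g * r * g⁻¹) = 1
    calc g * (r : G) * g⁻¹ * (g * r * g⁻¹) = g * ((r * r : M) : G) * g⁻¹ := by
          rw [Subgroup.coe_mul]; group
      _ = 1 := by rw [h.rr]; simp
  have h2 : (⟨g * r * g⁻¹, hg⟩ : M) ≠ 1 := by
    intro h3
    have h4 : g * (r : G) * g⁻¹ = 1 := congrArg Subtype.val h3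
    have h5 : (r : G) = 1 := by
      calc (r : G) = g⁻¹ * (g * r * g⁻¹) * g := by group
        _ = 1 := by rw [h4]; group
    have h6 : r = 1 := Subtype.ext h5
    apply SuzCl.e_ne
    rw [← h.πr, h6, map_one]
  rcases inv_cases h h1 h2 with ⟨m, hm⟩ | ⟨m, hm⟩
  · have h3 : (m : G) * r * (m : G)⁻¹ = g * r * g⁻¹ := congrArg Subtype.val hm
    have h4 : (m : G)⁻¹ * g ∈ M := by
      apply h.cent
      calc (m : G)⁻¹ * g * r = (m : G)⁻¹ * (g * r * g⁻¹) * g := by group
        _ = (m : G)⁻¹ * ((m : G) * r * (m : G)⁻¹) * g := by rw [h3]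
        _ = r * ((m : G)⁻¹ * g) := by group
    have h5 := M.mul_mem m.2 h4
    rwa [mul_inv_cancel_left] at h5
  · exfalso
    exact h.nconj (m * g) (m * ⟨g * r * g⁻¹, hg⟩ * m⁻¹) (by
      show (m : G) * g * r * (m * g)⁻¹ = (m : G) * (g * r * g⁻¹) * (m : G)⁻¹
      group) hm

/-- the involutions over `a` are conjugate -/
theorem conj_z [Finite G] (h : Cl M π r) {x y : M} (hx : x * x = 1) (hy : y * y = 1) {m m' : M}
    (hm : π (m * x * m⁻¹) = SuzCl.ia) (hm' : π (m' * y * m'⁻¹) = SuzCl.ia) :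
    ∃ k : M, k * x * k⁻¹ = y := by
  have key : ∀ (a b : M), b * b = 1 → a * b * a⁻¹ * (a * b * a⁻¹) = 1 := by
    intro a b hb
    calc a * b * a⁻¹ * (a * b * a⁻¹) = a * (b * b) * a⁻¹ := by group
      _ = 1 := by rw [hb]; group
  obtain ⟨v, -, hv⟩ := conj_of_eq h (key m x hx) (key m' y hy) (hm.trans hm'.symm)
  refine ⟨m'⁻¹ * v * m, ?_⟩
  calc m'⁻¹ * v * m * x * (m'⁻¹ * v * m)⁻¹ = m'⁻¹ * (v * (m * x * m⁻¹) * v⁻¹) * m' := by group
    _ = y := by rw [hv]; group

/-- there is an involution over `a` -/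
theorem exists_z [Finite G] (h : Cl M π r) : ∃ z : M, z * z = 1 ∧ π z = SuzCl.ia := by
  obtain ⟨m, hm⟩ := h.surj SuzCl.ia
  -- `m ^ 2` lies in the kernel, of odd order `k`; then `m ^ k`
  have h2 : m * m ∈ π.ker := by rw [MonoidHom.mem_ker, map_mul, hm, SuzCl.aa]
  have h3 : (m * m) ^ Nat.card π.ker = 1 := by
    have := pow_card_eq_one' (x := (⟨m * m, h2⟩ : π.ker))
    exact congrArg Subtype.val this
  refine ⟨m ^ Nat.card π.ker, ?_, ?_⟩
  · have h4 := (Commute.refl m).mul_pow (Nat.card π.ker)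
    rw [← h4, h3]
  · rw [map_pow, hm]
    obtain ⟨k, hk⟩ := h.odd
    rw [hk, pow_add, pow_mul, pow_two, SuzCl.aa, one_pow, one_mul, pow_one]

theorem z_ne {z : M} (hz : π z = SuzCl.ia) : z ≠ 1 := by
  intro h
  apply SuzCl.a_ne
  rw [← hz, h, map_one]

theorem sq_of_order {x : G} (h : orderOf x = 2) : x * x = 1 := by
  rw [← pow_two, ← h, pow_orderOf_eq_one]

theorem ne_of_order {x : G} (h : orderOf x = 2) : x ≠ 1 := by
  rintro rfl
  rw [orderOf_one] at h
  omega

theorem order_two {x : G} (h : x * x = 1) (h1 : x ≠ 1) : orderOf x = 2 :=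
  orderOf_eq_prime (by rw [pow_two, h]) h1

theorem sq_M {t : M} (ht : orderOf (t : G) = 2) : t * t = 1 :=
  Subtype.ext (by rw [Subgroup.coe_mul]; exact sq_of_order ht)

theorem ne_M {t : M} (ht : orderOf (t : G) = 2) : t ≠ 1 := fun h =>
  ne_of_order ht (by rw [h]; rfl)

/-- If the centralisers of the involutions over `a` lie in `M ≠ G` then `M` is strongly embedded. -/
theorem strongly_embedded [Finite G] (h : Cl M π r) (hz : CZ M π) (hM : M ≠ ⊤) :
    Cfsg.IsStronglyEmbedded M := by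
  obtain ⟨z, hzz, hza⟩ := exists_z h
  have heven : Even (Nat.card M) := by
    have h1 : orderOf z = 2 := order_two hzz (z_ne hza)
    rw [even_iff_two_dvd, ← h1]
    exact orderOf_dvd_natCard _
  rw [Cfsg.Agent.S0223.result M hM heven]
  -- the centralisers
  have hcent : ∀ t : M, orderOf (t : G) = 2 → ∀ g : G, g * t = t * g → g ∈ M := by
    intro t ht g hg
    rcases inv_cases h (sq_M ht) (ne_M ht) with ⟨m, hm⟩ | ⟨m, hm⟩
    · have h1 : g * (m : G) ∈ M := good h (g := g * m) (by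
        have h3 : (m : G) * r * (m : G)⁻¹ = t := congrArg Subtype.val hm
        have h4 : g * (m : G) * r * (g * m)⁻¹ = t := by
          calc g * (m : G) * r * (g * m)⁻¹ = g * ((m : G) * r * (m : G)⁻¹) * g⁻¹ := by group
            _ = t := by rw [h3, hg]; group
        rw [h4]; exact t.2)
      have h2 := M.mul_mem h1 (M.inv_mem m.2)
      rwa [mul_inv_cancel_right] at h2
    · have h1 : (m : G) * g * (m : G)⁻¹ ∈ M := by
        refine hz (m * t * m⁻¹) ?_ hm _ ?_
        · calc m * t * m⁻¹ * (m * t * m⁻¹) = m * (t * t) * m⁻¹ := by group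
            _ = 1 := by rw [sq_M ht]; group
        · show (m : G) * g * (m : G)⁻¹ * (m * t * (m : G)⁻¹) = m * t * (m : G)⁻¹ * (m * g * (m : G)⁻¹)
          calc (m : G) * g * (m : G)⁻¹ * (m * t * (m : G)⁻¹) = m * (g * t) * (m : G)⁻¹ := by group
            _ = m * t * (m : G)⁻¹ * (m * g * (m : G)⁻¹) := by rw [hg]; group
      have h2 := M.mul_mem (M.mul_mem (M.inv_mem m.2) h1) m.2
      have e : (m : G)⁻¹ * (m * g * (m : G)⁻¹) * m = g := by group
      rwa [e] at h2
  refine ⟨?_, ?_⟩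
  · intro t ht h2 g hg
    rw [Subgroup.mem_centralizer_singleton_iff] at hg
    exact hcent ⟨t, ht⟩ h2 g hg
  · intro t ht s hs ht2 hs2 hc
    obtain ⟨g, hg⟩ := isConj_iff.mp hc
    -- a conjugate of `r` is never conjugate to an involution over `a`
    have no : ∀ (x y : M) (k : G), k * x * k⁻¹ = y → (∃ m : M, m * r * m⁻¹ = x) →
        ¬ ∃ m : M, π (m * y * m⁻¹) = SuzCl.ia := by
      rintro x y k hk ⟨m, hm⟩ ⟨m', hm'⟩
      refine h.nconj (m' * k * m) (m' * y * m'⁻¹) ?_ hm'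
      have h3 : (m : G) * r * (m : G)⁻¹ = x := congrArg Subtype.val hm
      show (m' : G) * k * m * r * (m' * k * m)⁻¹ = (m' : G) * y * (m' : G)⁻¹
      rw [← hk, ← h3]; group
    rcases inv_cases h (sq_M (t := ⟨t, ht⟩) ht2) (ne_M (t := ⟨t, ht⟩) ht2) with h3 | h3 <;>
      rcases inv_cases h (sq_M (t := ⟨s, hs⟩) hs2) (ne_M (t := ⟨s, hs⟩) hs2) with h4 | h4
    · obtain ⟨m, hm⟩ := h3
      obtain ⟨m', hm'⟩ := h4
      refine ⟨(m' : G) * (m : G)⁻¹, M.mul_mem m'.2 (M.inv_mem m.2), ?_⟩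
      have h5 : (m : G) * r * (m : G)⁻¹ = t := congrArg Subtype.val hm
      have h6 : (m' : G) * r * (m' : G)⁻¹ = s := congrArg Subtype.val hm'
      rw [← h5, ← h6]; group
    · exact absurd h4 (no ⟨t, ht⟩ ⟨s, hs⟩ g hg h3)
    · refine absurd h3 (no ⟨s, hs⟩ ⟨t, ht⟩ g⁻¹ ?_ h4)
      show g⁻¹ * s * g⁻¹⁻¹ = t
      rw [← hg]; group
    · obtain ⟨m, hm⟩ := h3
      obtain ⟨m', hm'⟩ := h4
      obtain ⟨k, hk⟩ := conj_z h (sq_M (t := ⟨t, ht⟩) ht2) (sq_M (t := ⟨s, hs⟩) hs2) hm hm'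
      exact ⟨k, k.2, congrArg Subtype.val hk⟩

/-- **The end.** -/
theorem eq_top [Finite G] [IsSimpleGroup G] (h : Cl M π r) (hz : CZ M π) : M = ⊤ := by
  by_contra hM
  have hse := strongly_embedded h hz hM
  obtain ⟨z, hzz, hza⟩ := exists_z h
  have hz2 : orderOf (z : G) = 2 := order_two (congrArg Subtype.val hzz) (fun h1 => z_ne hza (Subtype.ext h1))
  have hr2 : orderOf (r : G) = 2 := by
    refine order_two (congrArg Subtype.val h.rr) (fun h1 => ?_)
    apply SuzCl.e_ne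
    rw [← h.πr, (Subtype.ext h1 : r = 1), map_one]
  -- an involution outside `M`
  obtain ⟨u, hu, huM⟩ : ∃ u : G, orderOf u = 2 ∧ u ∉ M := by
    by_contra hcon
    push Not at hcon
    have hle : Subgroup.normalClosure ({(z : G)} : Set G) ≤ M := by
      rw [Subgroup.normalClosure, Subgroup.closure_le]
      intro x hx
      obtain ⟨y, hy, hxy⟩ := Group.mem_conjugatesOfSet_iff.mp hx
      rw [Set.mem_singleton_iff] at hy
      subst hy
      apply hcon
      obtain ⟨g, hg⟩ := isConj_iff.mp hxy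
      rw [← hg]
      have := orderOf_injective (MulAut.conj g).toMonoidHom (MulAut.conj g).injective (z : G)
      rw [← hz2, ← this]
      rfl
    have hnn : (Subgroup.normalClosure ({(z : G)} : Set G)).Normal := Subgroup.normalClosure_normal
    rcases hnn.eq_bot_or_eq_top with h1 | h1
    · have h2 : (z : G) ∈ Subgroup.normalClosure ({(z : G)} : Set G) :=
        Subgroup.subset_normalClosure rfl
      rw [h1, Subgroup.mem_bot] at h2
      exact ne_of_order hz2 h2
    · exact hM (top_le_iff.mp (h1 ▸ hle))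
  obtain ⟨g, hg⟩ := isConj_iff.mp
    ((Cfsg.Agent.S1225.result M hse u hu huM z z hz2 z.2 hz2 z.2).2 (r : G) (z : G) hr2 hz2)
  exact h.nconj g z hg hza

theorem isoSuz [Finite G] [IsSimpleGroup G] (h : Cl M π r) (hz : CZ M π) : Cfsg.Spor.IsoSuz G := by
  have hM := eq_top h hz
  subst hM
  have hker : π.ker = ⊥ := by
    have hN : (π.ker.map (⊤ : Subgroup G).subtype).Normal := by
      refine ⟨?_⟩
      rintro _ ⟨x, hx, rfl⟩ g
      refine ⟨⟨g, Subgroup.mem_top g⟩ * x * ⟨g, Subgroup.mem_top g⟩⁻¹, ?_, rfl⟩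
      exact (MonoidHom.normal_ker π).conj_mem _ hx _
    rcases hN.eq_bot_or_eq_top with h1 | h1
    · rw [Subgroup.map_eq_bot_iff_of_injective _ (Subgroup.subtype_injective _)] at h1
      exact h1
    · exfalso
      obtain ⟨z, hzz, hza⟩ := exists_z h
      have h2 : (z : G) ∈ π.ker.map (⊤ : Subgroup G).subtype := by rw [h1]; exact Subgroup.mem_top _
      obtain ⟨x, hx, he⟩ := h2
      have h3 : x = z := Subtype.ext he
      rw [h3] at hx
      apply SuzCl.a_ne
      rw [← hza]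
      exact MonoidHom.mem_ker.mp hx
  have hinj : Function.Injective π := (MonoidHom.ker_eq_bot_iff π).mp hker
  exact ⟨Subgroup.topEquiv.symm.trans (MulEquiv.ofBijective π ⟨hinj, h.surj⟩)⟩

end Cfsg.Agent.StdLThreeFour.ClFrame
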