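import Cfsg.Agent.StdLThreeFour.Facts1
import Cfsg.Agent.ONType.OuterL

/-!
# Automorphisms of `PSL(3,4)` normalizing the Sylow 2-subgroup: codes
-/

set_option autoImplicit false
set_option linter.constructorNameAsVariable false
set_option linter.unusedVariables false

namespace Cfsg.Agent.StdLThreeFour.Codes

open Subgroup
open Cfsg.Agent.SporadicA.FieldFour
open Cfsg.Agent.ONType.Psl
open Cfsg.Agent.ONType.PslCard (closure_t)
open Cfsg.Agent.ONType.OuterL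
open Cfsg.Agent.StdLThreeFour.Base
open Cfsg.Agent.StdLThreeFour.Facts1

/-- outer types: torus part `(la, mu)`, field part `e`, graph part `f` -/
structure Ty where
  la : F4
  mu : F4
  e : Bool
  f : Bool
  deriving DecidableEq

/-- field twist -/
def fr (e : Bool) (u : F4) : F4 := if e then u * u else u

/-- the coefficient of the torus part on the root `(i, j)` -/
def cf (la mu : F4) (i j : Fin 3) : F4 :=
  if i = 0 then (if j = 1 then la else if j = 2 then la * mu else 1)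
  else if i = 1 then (if j = 0 then la⁻¹ else if j = 2 then mu else 1)
  else (if j = 0 then (la * mu)⁻¹ else if j = 1 then mu⁻¹ else 1)

/-- product of types -/
def Ty.mul (τ ρ : Ty) : Ty :=
  if τ.f then ⟨τ.la * fr τ.e ρ.mu, τ.mu * fr τ.e ρ.la, xor τ.e ρ.e, xor τ.f ρ.f⟩
  else ⟨τ.la * fr τ.e ρ.la, τ.mu * fr τ.e ρ.mu, xor τ.e ρ.e, xor τ.f ρ.f⟩

/-- inverse of types -/
def Ty.inv (τ : Ty) : Ty :=
  if τ.f then ⟨fr τ.e τ.mu⁻¹, fr τ.e τ.la⁻¹, τ.e, τ.f⟩
  else ⟨fr τ.e τ.la⁻¹, fr τ.e τ.mu⁻¹, τ.e, τ.f⟩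

/-- the trivial type -/
def tone : Ty := ⟨1, 1, false, false⟩

/-- image of a root element -/
def imgt (τ : Ty) (i j : Fin 3) (u : F4) : L0 :=
  if τ.f then t (rv j) (rv i) (cf τ.la τ.mu (rv j) (rv i) * fr τ.e u)
  else t i j (cf τ.la τ.mu i j * fr τ.e u)

/-- `β` is the standard automorphism of type `τ` -/
def IsTau (τ : Ty) (β : MulAut L0) : Prop :=
  τ.la ≠ 0 ∧ τ.mu ≠ 0 ∧ ∀ i j, i ≠ j → ∀ u, β (t i j u) = imgt τ i j u

theorem hom_ext {β β' : MulAut L0} (h : ∀ i j : Fin 3, i ≠ j → ∀ u, β (t i j u) = β' (t i j u)) :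
    β = β' := by
  have key := MonoidHom.eq_of_eqOn_dense closure_t (f := β.toMonoidHom) (g := β'.toMonoidHom)
    (by rintro _ ⟨i, j, hij, u, rfl⟩; exact h i j hij u)
  ext y
  exact DFunLike.congr_fun key y

theorem IsTau.ext {τ : Ty} {β β' : MulAut L0} (h : IsTau τ β) (h' : IsTau τ β') : β = β' :=
  hom_ext fun i j hij u => (h.2.2 i j hij u).trans (h'.2.2 i j hij u).symm

theorem cf_one : ∀ i j : Fin 3, ∀ u : F4, cf 1 1 i j * fr false u = u := by decide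

theorem isTau_one : IsTau tone 1 :=
  ⟨by decide, by decide, fun i j hij u => by
    show t i j u = t i j (cf 1 1 i j * fr false u)
    rw [cf_one]⟩

theorem IsTau.eq_one {β : MulAut L0} (h : IsTau tone β) : β = 1 := h.ext isTau_one

theorem mul_ff : ∀ (e e' : Bool) (la mu la' mu' : F4) (i j : Fin 3) (u : F4), i ≠ j →
    cf la mu i j * fr e (cf la' mu' i j * fr e' u) =
      cf (la * fr e la') (mu * fr e mu') i j * fr (xor e e') u := by
  decide +kernel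

theorem mul_ft : ∀ (e e' : Bool) (la mu la' mu' : F4) (i j : Fin 3) (u : F4), i ≠ j →
    cf la mu (rv j) (rv i) * fr e (cf la' mu' i j * fr e' u) =
      cf (la * fr e mu') (mu * fr e la') (rv j) (rv i) * fr (xor e e') u := by
  decide +kernel

theorem mul_ne : ∀ (e : Bool) (a b : F4), a ≠ 0 → b ≠ 0 → a * fr e b ≠ 0 := by decide

theorem IsTau.mul {τ ρ : Ty} {β γ : MulAut L0} (h : IsTau τ β) (h' : IsTau ρ γ) :
    IsTau (τ.mul ρ) (β * γ) := by
  obtain ⟨la, mu, e, f⟩ := τ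
  obtain ⟨la', mu', e', f'⟩ := ρ
  obtain ⟨h1, h2, h3⟩ := h
  obtain ⟨h1', h2', h3'⟩ := h'
  refine ⟨?_, ?_, ?_⟩
  · cases f
    · exact mul_ne _ _ _ h1 h1'
    · exact mul_ne _ _ _ h1 h2'
  · cases f
    · exact mul_ne _ _ _ h2 h2'
    · exact mul_ne _ _ _ h2 h1'
  intro i j hij u
  rw [MulAut.mul_apply, h3' i j hij u]
  have hr : rv j ≠ rv i := rv_ne (Ne.symm hij)
  cases f' <;> cases f
  · show β (t i j (cf la' mu' i j * fr e' u)) = _
    rw [h3 i j hij]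
    show t i j (cf la mu i j * fr e (cf la' mu' i j * fr e' u)) = t i j (_ * fr (xor e e') u)
    rw [mul_ff e e' la mu la' mu' i j u hij]
    rfl
  · show β (t i j (cf la' mu' i j * fr e' u)) = _
    rw [h3 i j hij]
    show t (rv j) (rv i) (cf la mu (rv j) (rv i) * fr e (cf la' mu' i j * fr e' u)) =
      t (rv j) (rv i) (_ * fr (xor e e') u)
    rw [mul_ft e e' la mu la' mu' i j u hij]
    rfl
  · show β (t (rv j) (rv i) (cf la' mu' (rv j) (rv i) * fr e' u)) = _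
    rw [h3 (rv j) (rv i) hr]
    show t (rv j) (rv i) (cf la mu (rv j) (rv i) * fr e (cf la' mu' (rv j) (rv i) * fr e' u)) =
      t (rv j) (rv i) (_ * fr (xor e e') u)
    rw [mul_ff e e' la mu la' mu' (rv j) (rv i) u hr]
    rfl
  · show β (t (rv j) (rv i) (cf la' mu' (rv j) (rv i) * fr e' u)) = _
    rw [h3 (rv j) (rv i) hr]
    show t (rv (rv i)) (rv (rv j)) (cf la mu (rv (rv i)) (rv (rv j)) *
      fr e (cf la' mu' (rv j) (rv i) * fr e' u)) = t i j (_ * fr (xor e e') u)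
    rw [mul_ft e e' la mu la' mu' (rv j) (rv i) u hr, rv_rv, rv_rv]
    rfl

theorem Ty.mul_inv_aux : ∀ (la mu : F4) (e f : Bool), la ≠ 0 → mu ≠ 0 →
    (⟨la, mu, e, f⟩ : Ty).mul (Ty.inv ⟨la, mu, e, f⟩) = tone ∧
    (Ty.inv ⟨la, mu, e, f⟩).la ≠ 0 ∧ (Ty.inv ⟨la, mu, e, f⟩).mu ≠ 0 := by decide +kernel

theorem inv_ff : ∀ (e : Bool) (la mu : F4) (i j : Fin 3) (u : F4), i ≠ j → la ≠ 0 → mu ≠ 0 →
    cf la mu i j * fr e (cf (fr e la⁻¹) (fr e mu⁻¹) i j * fr e u) = u := by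
  decide +kernel

theorem inv_ft : ∀ (e : Bool) (la mu : F4) (i j : Fin 3) (u : F4), i ≠ j → la ≠ 0 → mu ≠ 0 →
    cf la mu i j * fr e (cf (fr e mu⁻¹) (fr e la⁻¹) (rv j) (rv i) * fr e u) = u := by
  decide +kernel

theorem IsTau.inv {τ : Ty} {β : MulAut L0} (h : IsTau τ β) : IsTau τ.inv β⁻¹ := by
  obtain ⟨la, mu, e, f⟩ := τ
  obtain ⟨h1, h2, h3⟩ := h
  obtain ⟨-, h5, h6⟩ := Ty.mul_inv_aux la mu e f h1 h2
  refine ⟨h5, h6, ?_⟩
  intro i j hij u
  apply β.injective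
  rw [MulAut.apply_inv_self]
  cases f
  · show _ = β (t i j (cf (fr e la⁻¹) (fr e mu⁻¹) i j * fr e u))
    rw [h3 i j hij]
    show _ = t i j (cf la mu i j * fr e _)
    rw [inv_ff e la mu i j u hij h1 h2]
  · show _ = β (t (rv j) (rv i) (cf (fr e mu⁻¹) (fr e la⁻¹) (rv j) (rv i) * fr e u))
    rw [h3 _ _ (rv_ne (Ne.symm hij))]
    show _ = t (rv (rv i)) (rv (rv j)) (cf la mu (rv (rv i)) (rv (rv j)) * fr e _)
    rw [rv_rv, rv_rv, inv_ft e la mu i j u hij h1 h2]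

theorem conj_map (β : MulAut L0) (l : L0) : MulAut.conj (β l) = β * MulAut.conj l * β⁻¹ := by
  ext y
  simp [MulAut.conj_apply, MulAut.mul_apply]

/-- conjugation by the torus element of `PSL(3,4)` -/
theorem isTau_hh : IsTau ⟨ω, ω, false, false⟩ (MulAut.conj hh⁻¹) := by
  refine ⟨by decide, by decide, ?_⟩
  intro i j hij u
  rw [MulAut.conj_apply, inv_inv, hh_conj i j u hij]
  have : ∀ (i j : Fin 3) (u : F4), i ≠ j → kap i j * u = cf ω ω i j * fr false u := by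
    decide +kernel
  rw [this i j u hij]
  rfl

/-- **every automorphism is standard up to inner automorphisms** -/
theorem exists_tau (α : MulAut L0) : ∃ (l : L0) (τ : Ty), IsTau τ (MulAut.conj l * α) := by
  obtain ⟨l, d, hd, σ, h⟩ := exists_std α
  have hσ : ∃ e, ∀ u, σ u = fr e u := by
    rcases ringEquiv_eq σ with h1 | h1
    · exact ⟨false, h1⟩
    · exact ⟨true, h1⟩
  obtain ⟨e, he⟩ := hσ
  have hcf : ∀ (d : F4) (i j : Fin 3), i ≠ j → dd d i * (dd d j)⁻¹ = cf d 1 i j := by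
    decide +kernel
  rcases h with h | h
  · refine ⟨l, ⟨d, 1, e, false⟩, hd, one_ne_zero, ?_⟩
    intro i j hij u
    rw [h i j hij u, he, hcf d i j hij]
    rfl
  · refine ⟨l, ⟨d, 1, e, true⟩, hd, one_ne_zero, ?_⟩
    intro i j hij u
    rw [h i j hij u, he, hcf d _ _ (rv_ne (Ne.symm hij))]
    rfl

/-! ### the action on unitriangular elements -/

/-- first coordinate -/
def tx (τ : Ty) (x y : F4) : F4 := if τ.f then τ.la * fr τ.e y else τ.la * fr τ.e x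
/-- second coordinate -/
def ty (τ : Ty) (x y : F4) : F4 := if τ.f then τ.mu * fr τ.e x else τ.mu * fr τ.e y
/-- third coordinate -/
def tz (τ : Ty) (x y z : F4) : F4 :=
  if τ.f then τ.la * τ.mu * (fr τ.e (x * y) + fr τ.e z) else τ.la * τ.mu * fr τ.e z

theorem IsTau.e {τ : Ty} {β : MulAut L0} (h : IsTau τ β) (x y z : F4) :
    β (e x y z) = e (tx τ x y) (ty τ x y) (tz τ x y z) := by
  obtain ⟨la, mu, e', f⟩ := τ
  obtain ⟨h1, h2, h3⟩ := h
  have k1 := h3 0 1 (by decide) x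
  have k2 := h3 1 2 (by decide) y
  have k3 := h3 0 2 (by decide) z
  have k0 : β (Base.e x y z) = β (t 0 1 x) * β (t 1 2 y) * β (t 0 2 z) := by
    rw [Base.e, map_mul, map_mul]
  rw [k0, k1, k2, k3]
  cases f
  · rfl
  · show t 1 2 (mu * fr e' x) * t 0 1 (la * fr e' y) * t 0 2 (la * mu * fr e' z) =
      Base.e (la * fr e' y) (mu * fr e' x) (la * mu * (fr e' (x * y) + fr e' z))
    rw [swap, mul_assoc, t_add 0 2 _ _ (by decide)]
    have : ∀ (la mu x y z : F4) (e' : Bool), la * fr e' y * (mu * fr e' x) + la * mu * fr e' z =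
      la * mu * (fr e' (x * y) + fr e' z) := by decide +kernel
    rw [this]
    rfl

/-- `α` is `y ↦ p τ(y) p⁻¹` with `p = e a b c` -/
def Cd (α : MulAut L0) (a b c : F4) (τ : Ty) : Prop :=
  ∃ β, IsTau τ β ∧ α = MulAut.conj (e a b c) * β

theorem Cd.la_ne {α : MulAut L0} {a b c : F4} {τ : Ty} (h : Cd α a b c τ) : τ.la ≠ 0 := by
  obtain ⟨β, h, -⟩ := h
  exact h.1

theorem Cd.mu_ne {α : MulAut L0} {a b c : F4} {τ : Ty} (h : Cd α a b c τ) : τ.mu ≠ 0 := by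
  obtain ⟨β, h, -⟩ := h
  exact h.2.1

theorem Cd.apply {α : MulAut L0} {a b c : F4} {τ : Ty} (h : Cd α a b c τ) (x y z : F4) :
    α (e x y z) = e (tx τ x y) (ty τ x y) (tz τ x y z + (tx τ x y * b + a * ty τ x y)) := by
  obtain ⟨β, h, rfl⟩ := h
  rw [MulAut.mul_apply, h.e, MulAut.conj_apply, e_conj]

theorem Cd.mem {α : MulAut L0} {a b c : F4} {τ : Ty} (h : Cd α a b c τ) {s : L0} (hs : s ∈ S0) :
    α s ∈ S0 := by
  obtain ⟨x, y, z, rfl⟩ := hs
  rw [h.apply]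
  exact e_mem _ _ _

theorem Cd.mul {α α' : MulAut L0} {a b c a' b' c' : F4} {τ ρ : Ty} (h : Cd α a b c τ)
    (h' : Cd α' a' b' c' ρ) :
    Cd (α * α') (a + tx τ a' b') (b + ty τ a' b') (tx τ a' b' * b + c + tz τ a' b' c')
      (τ.mul ρ) := by
  obtain ⟨β, h, rfl⟩ := h
  obtain ⟨γ, h', rfl⟩ := h'
  refine ⟨β * γ, h.mul h', ?_⟩
  have h1 := conj_map β (e a' b' c')
  rw [h.e] at h1
  rw [← e_mul, map_mul, h1]
  group

theorem Cd.inv {α : MulAut L0} {a b c : F4} {τ : Ty} (h : Cd α a b c τ) :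
    ∃ a' b' c', Cd α⁻¹ a' b' c' τ.inv := by
  obtain ⟨β, h, rfl⟩ := h
  have h1 := h.inv
  have h2 := h1.e a b (c + a * b)
  refine ⟨tx τ.inv a b, ty τ.inv a b, tz τ.inv a b (c + a * b), β⁻¹, h1, ?_⟩
  rw [← h2, conj_map, ← e_inv, map_inv]
  group

/-- a unitriangular conjugation -/
theorem cd_conj (a b c : F4) : Cd (MulAut.conj (e a b c)) a b c tone :=
  ⟨1, isTau_one, (mul_one _).symm⟩

theorem Cd.inner {α : MulAut L0} {a b c : F4} (h : Cd α a b c tone) : α = MulAut.conj (e a b c) := by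
  obtain ⟨β, h, rfl⟩ := h
  rw [h.eq_one, mul_one]

/-- `x₀₂(1) ↦ x₀₂(c)` -/
theorem exists_cd' {α : MulAut L0} {d : F4} (hd : d ≠ 0) (h : α (t 0 2 1) = t 0 2 d) :
    ∃ a b c τ, Cd α a b c τ := by
  obtain ⟨l, τ, hl⟩ := exists_tau α
  obtain ⟨la, mu, e', f⟩ := τ
  have h1 : (MulAut.conj l * α) (t 0 2 1) = t 0 2 (la * mu) := by
    rw [hl.2.2 0 2 (by decide)]
    have : ∀ (a : F4) (e' : Bool), a * fr e' 1 = a := by decide
    cases f
    · show t 0 2 (la * mu * fr e' 1) = _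
      rw [this]
    · show t 0 2 (la * mu * fr e' 1) = _
      rw [this]
  have hne : la * mu ≠ 0 := mul_ne_zero hl.1 hl.2.1
  rw [MulAut.mul_apply, h, MulAut.conj_apply] at h1
  obtain ⟨n, hn1, hn2⟩ := exists_torus d hd
  obtain ⟨m, hm1, hm2⟩ := exists_torus (la * mu) hne
  -- `s = hh^{-m} l hh^n` centralizes `x₀₂(1)`
  have hs : (hh ^ m)⁻¹ * l * hh ^ n ∈ S0 := by
    apply (StdL34.PslCent.cent_t02 _).1
    calc (hh ^ m)⁻¹ * l * hh ^ n * t 0 2 1
        = (hh ^ m)⁻¹ * (l * t 0 2 d * l⁻¹) * hh ^ m * ((hh ^ m)⁻¹ * l * hh ^ n) := by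
          rw [← hn2]; group
      _ = _ := by rw [h1, hm2]
  -- `α = conj l⁻¹ β = conj (hh^n s⁻¹ hh^{-m}) β = conj (s') conj(hh^{n-m}) β`
  set s := (hh ^ m)⁻¹ * l * hh ^ n with hs'
  have hs2 : hh ^ n * s⁻¹ * (hh ^ n)⁻¹ ∈ S0 := by
    rw [hn1]
    have : (hh ^ n)⁻¹ * (hh ^ n * s⁻¹ * (hh ^ n)⁻¹) * hh ^ n = s⁻¹ := by group
    rw [this]
    exact inv_mem hs
  obtain ⟨a, b, c, habc⟩ := hs2
  have hT : ∃ ρ, IsTau ρ (MulAut.conj (hh ^ n * (hh ^ m)⁻¹) * (MulAut.conj l * α)) := by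
    have key : ∀ (k : ℕ) (γ : MulAut L0), (∃ ρ, IsTau ρ γ) →
        ∃ ρ, IsTau ρ (MulAut.conj ((hh ^ k)⁻¹) * γ) := by
      intro k
      induction k with
      | zero => 
        intro γ h
        rw [pow_zero, inv_one, map_one, one_mul]
        exact h
      | succ k ih =>
        intro γ h
        rw [pow_succ, mul_inv_rev, map_mul, mul_assoc]
        obtain ⟨ρ, hρ⟩ := ih γ h
        exact ⟨_, isTau_hh.mul hρ⟩
    have e1 : (hh ^ n : L0) = (hh ^ (2 * n))⁻¹ := by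
      rw [eq_inv_iff_mul_eq_one, ← pow_add, show n + 2 * n = 3 * n by ring, pow_mul, hh_pow, one_pow]
    rw [e1, map_mul, mul_assoc]
    exact key _ _ (key _ _ ⟨_, hl⟩)
  obtain ⟨ρ, hρ⟩ := hT
  refine ⟨a, b, c, ρ, _, hρ, ?_⟩
  show _ = MulAut.conj (e a b c) * _
  rw [← habc, ← mul_assoc, ← mul_assoc, ← map_mul, ← map_mul]
  have : hh ^ n * s⁻¹ * (hh ^ n)⁻¹ * (hh ^ n * (hh ^ m)⁻¹) * l = 1 := by
    rw [hs']; group
  rw [this, map_one, one_mul]

theorem exists_cd {α : MulAut L0} (h : ∀ s ∈ S0, α s ∈ S0) : ∃ a b c τ, Cd α a b c τ := by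
  -- the image of `x₀₂(1)` is central in `S0`
  have h1 : t 0 2 1 ∈ S0 := ⟨0, 0, 1, (e_02 1).symm⟩
  obtain ⟨x, y, d, hd⟩ := h _ h1
  have hsurj : ∀ s ∈ S0, ∃ s' ∈ S0, α s' = s := by
    have hle : S0.map α.toMonoidHom ≤ S0 := by
      rintro _ ⟨s, hs, rfl⟩
      exact h s hs
    have hc : Nat.card (S0.map α.toMonoidHom) = Nat.card S0 :=
      Subgroup.card_map_of_injective α.injective
    have heq : S0.map α.toMonoidHom = S0 := Subgroup.eq_of_le_of_card_ge hle (le_of_eq hc.symm)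
    intro s hs
    rw [← heq] at hs
    obtain ⟨s', hs', h⟩ := hs
    exact ⟨s', hs', h⟩
  have hcen : ∀ s ∈ S0, s * e x y d = e x y d * s := by
    intro s hs
    obtain ⟨s', hs', rfl⟩ := hsurj s hs
    rw [← hd, ← map_mul, ← map_mul]
    congr 1
    have hz : t 0 2 1 ∈ Z0 := ⟨1, (e_02 1).symm⟩
    exact Z0_comm hz hs'
  have h2 := (comm_iff _ _ _ _ _ _).1 (hcen _ (e_mem 1 0 0))
  have h3 := (comm_iff _ _ _ _ _ _).1 (hcen _ (e_mem 0 1 0))
  rw [mul_zero, zero_add, one_mul] at h2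
  rw [mul_one, zero_mul, add_zero] at h3
  subst h2 h3
  have hd' : d ≠ 0 := by
    rintro rfl
    rw [e_zero] at hd
    have h4 : t 0 2 1 = 1 := by
      apply α.injective
      rw [hd, map_one]
    rw [← e_02, ← e_zero] at h4
    exact absurd (e_inj h4).2.2 (by decide)
  rw [e_02] at hd
  exact exists_cd' hd' hd

end Cfsg.Agent.StdLThreeFour.Codes
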