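import Cfsg.Agent.StdLThreeFour.Base
import Cfsg.Agent.StdLThreeFour.Syl

/-!
# Embeddings of `L3(4)` as a standard component
-/

set_option autoImplicit false

namespace Cfsg.Agent.StdLThreeFour.Emb

open Cfsg.Agent.StdLThreeFour.Base Cfsg.Agent.StdLThreeFour.Syl

/-- An embedding of `L0 = PSL(3,4)` in `G` as a standard component: the centraliser of the image is tightly
embedded (`disj`: if an involution of the centraliser is conjugated into the centraliser by `g` then `g`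
normalises the image), and the image commutes with none of its conjugates. -/
structure SEmb (G : Type*) [Group G] where
  ι : L0 →* G
  inj : Function.Injective ι
  disj : ∀ g k, k ≠ 1 → k * k = 1 → (∀ y, Commute k (ι y)) → (∀ y, Commute (g * k * g⁻¹) (ι y)) →
    ∃ α : MulAut L0, ∀ y, g * ι y * g⁻¹ = ι (α y)
  nocomm : ∀ g, ¬ ∀ x y, Commute (ι x) (g * ι y * g⁻¹)

namespace SEmb

variable {G : Type*} [Group G] (E : SEmb G)

/-- the centraliser of the component -/
def K : Subgroup G := Subgroup.centralizer (Set.range E.ι)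

/-- `m` acts on the component as `α` -/
def Act (m : G) (α : MulAut L0) : Prop := ∀ y, m * E.ι y * m⁻¹ = E.ι (α y)

variable {E} in
theorem mem_K {k : G} : k ∈ E.K ↔ ∀ y, Commute k (E.ι y) := by
  unfold K
  rw [Subgroup.mem_centralizer_iff]
  constructor
  · intro h y; exact (h _ ⟨y, rfl⟩).symm
  · rintro h _ ⟨y, rfl⟩; exact (h y).symm

variable {E}

theorem Act.mul {m n : G} {α β : MulAut L0} (h : E.Act m α) (h' : E.Act n β) :
    E.Act (m * n) (α * β) := by
  intro y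
  rw [MulAut.mul_apply, ← h, ← h']
  group

theorem Act.one : E.Act 1 1 := by intro y; simp

theorem Act.inv {m : G} {α : MulAut L0} (h : E.Act m α) : E.Act m⁻¹ α⁻¹ := by
  intro y
  have := h (α⁻¹ y)
  rw [MulAut.apply_inv_self] at this
  rw [← this]
  group

theorem Act.pow {m : G} {α : MulAut L0} (h : E.Act m α) (n : ℕ) : E.Act (m ^ n) (α ^ n) := by
  induction n with
  | zero => simpa using Act.one
  | succ n ih => rw [pow_succ, pow_succ]; exact ih.mul h

theorem act_ι (l : L0) : E.Act (E.ι l) (MulAut.conj l) := by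
  intro y
  rw [MulAut.conj_apply]; simp

theorem Act.unique {m : G} {α β : MulAut L0} (h : E.Act m α) (h' : E.Act m β) : α = β := by
  ext y
  apply E.inj
  rw [← h, ← h']

theorem act_one_iff {m : G} : E.Act m 1 ↔ m ∈ E.K := by
  rw [mem_K]
  constructor
  · intro h y
    have := h y
    rw [MulAut.one_apply] at this
    exact mul_inv_eq_iff_eq_mul.mp this
  · intro h y
    rw [MulAut.one_apply]
    exact mul_inv_eq_iff_eq_mul.mpr (h y)

theorem Act.commute_iff {m : G} {α : MulAut L0} (h : E.Act m α) (y : L0) :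
    Commute m (E.ι y) ↔ α y = y := by
  rw [← E.inj.eq_iff, ← h]
  constructor
  · intro h; exact mul_inv_eq_iff_eq_mul.mpr h
  · intro h; exact mul_inv_eq_iff_eq_mul.mp h

variable (E)

/-- the normaliser of the component -/
def M : Subgroup G where
  carrier := {m | ∃ α, E.Act m α}
  mul_mem' := by
    rintro m n ⟨α, h⟩ ⟨β, h'⟩
    exact ⟨_, h.mul h'⟩
  one_mem' := ⟨1, Act.one⟩
  inv_mem' := by
    rintro m ⟨α, h⟩
    exact ⟨_, h.inv⟩

/-- the component -/
def L : Subgroup G := E.ι.range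

variable {E}

theorem mem_M {m : G} : m ∈ E.M ↔ ∃ α, E.Act m α := Iff.rfl

theorem mem_L {m : G} : m ∈ E.L ↔ ∃ y, E.ι y = m := Iff.rfl

theorem Act.mem_M {m : G} {α : MulAut L0} (h : E.Act m α) : m ∈ E.M := ⟨α, h⟩

variable (E) in
theorem K_le : E.K ≤ E.M := fun _ hk => ⟨1, act_one_iff.mpr hk⟩

variable (E) in
theorem L_le : E.L ≤ E.M := by
  rintro _ ⟨y, rfl⟩
  exact ⟨_, act_ι y⟩

theorem ι_mem_L (y : L0) : E.ι y ∈ E.L := ⟨y, rfl⟩

theorem ι_mem_M (y : L0) : E.ι y ∈ E.M := E.L_le (ι_mem_L y)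

theorem commute_ι {k : G} (hk : k ∈ E.K) (y : L0) : Commute k (E.ι y) := mem_K.mp hk y

theorem conj_mem_K {m k : G} (hm : m ∈ E.M) (hk : k ∈ E.K) : m * k * m⁻¹ ∈ E.K := by
  obtain ⟨α, h⟩ := hm
  rw [← act_one_iff]
  have := (h.mul (act_one_iff.mpr hk)).mul h.inv
  rwa [mul_one, mul_inv_cancel] at this

theorem conj_mem_L {m l : G} (hm : m ∈ E.M) (hl : l ∈ E.L) : m * l * m⁻¹ ∈ E.L := by
  obtain ⟨α, h⟩ := hm
  obtain ⟨y, rfl⟩ := hl
  exact ⟨α y, (h y).symm⟩

theorem conj_mem_K_iff {m k : G} (hm : m ∈ E.M) : m * k * m⁻¹ ∈ E.K ↔ k ∈ E.K := by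
  constructor
  · intro h
    have := conj_mem_K (E.M.inv_mem hm) h
    simpa [mul_assoc] using this
  · exact conj_mem_K hm

theorem conj_mem_L_iff {m k : G} (hm : m ∈ E.M) : m * k * m⁻¹ ∈ E.L ↔ k ∈ E.L := by
  constructor
  · intro h
    have := conj_mem_L (E.M.inv_mem hm) h
    simpa [mul_assoc] using this
  · exact conj_mem_L hm

theorem mem_M_of_conj {g k : G} (h1 : k ≠ 1) (h2 : k * k = 1) (hk : k ∈ E.K)
    (hg : g * k * g⁻¹ ∈ E.K) : g ∈ E.M := E.disj g k h1 h2 (mem_K.mp hk) (mem_K.mp hg)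

/-- tightness -/
theorem mem_M_of_commute {g k : G} (h1 : k ≠ 1) (h2 : k * k = 1) (hk : k ∈ E.K)
    (hg : Commute g k) : g ∈ E.M := by
  apply mem_M_of_conj h1 h2 hk
  rwa [hg.eq, mul_inv_cancel_right]

/-- nontrivial 2-elements -/
theorem mem_M_of_conj_two {g k : G} (h1 : k ≠ 1) {n : ℕ} (h2 : k ^ 2 ^ n = 1) (hk : k ∈ E.K)
    (hg : g * k * g⁻¹ ∈ E.K) : g ∈ E.M := by
  obtain ⟨m, hm1, hm2⟩ := exists_pow_invol h1 h2
  refine mem_M_of_conj hm1 hm2 (E.K.pow_mem hk m) ?_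
  rw [← conj_pow]
  exact E.K.pow_mem hg m

theorem mem_M_of_commute_two {g k : G} (h1 : k ≠ 1) {n : ℕ} (h2 : k ^ 2 ^ n = 1) (hk : k ∈ E.K)
    (hg : Commute g k) : g ∈ E.M := by
  apply mem_M_of_conj_two h1 h2 hk
  rwa [hg.eq, mul_inv_cancel_right]

/-- the normaliser of a nontrivial 2-subgroup of the centraliser lies in `M` -/
theorem mem_M_of_normalize {g : G} {X : Subgroup G} (hX : X ≤ E.K) (h2 : IsPGroup 2 X)
    (h1 : X ≠ ⊥) (hg : ∀ x ∈ X, g * x * g⁻¹ ∈ X) : g ∈ E.M := by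
  obtain ⟨x, hx, hx1, hx2⟩ := exists_invol_of_two h2 h1
  exact mem_M_of_conj hx1 hx2 (hX hx) (hX (hg x hx))

variable (E) in
/-- the conjugate embedding -/
def conj (g : G) : SEmb G where
  ι := (MulAut.conj g).toMonoidHom.comp E.ι
  inj := (MulAut.conj g).injective.comp E.inj
  disj h k hk1 hk2 hk hk' := by
    have e1 : ∀ y, Commute (g⁻¹ * k * g) (E.ι y) := by
      intro y
      have := (hk y).conj g⁻¹
      simpa [mul_assoc] using this
    have e2 : g⁻¹ * k * g ≠ 1 := by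
      intro h
      apply hk1
      have : k = g * (g⁻¹ * k * g) * g⁻¹ := by group
      rw [this, h]; group
    have e3 : (g⁻¹ * k * g) * (g⁻¹ * k * g) = 1 := by
      calc (g⁻¹ * k * g) * (g⁻¹ * k * g) = g⁻¹ * (k * k) * g := by group
        _ = 1 := by rw [hk2]; group
    have e4 : ∀ y, Commute ((g⁻¹ * h * g) * (g⁻¹ * k * g) * (g⁻¹ * h * g)⁻¹) (E.ι y) := by
      intro y
      have := (hk' y).conj g⁻¹
      simpa [mul_assoc] using this
    obtain ⟨α, hα⟩ := E.disj _ _ e2 e3 e1 e4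
    refine ⟨α, fun y => ?_⟩
    have := hα y
    simp only [MonoidHom.coe_comp, Function.comp_apply, MulEquiv.toMonoidHom_eq_coe,
      MonoidHom.coe_coe, MulAut.conj_apply]
    rw [← this]
    group
  nocomm h hh := by
    apply E.nocomm (g⁻¹ * h * g)
    intro x y
    have := (hh x y).conj g⁻¹
    simpa [mul_assoc] using this

theorem conj_ι (g : G) (y : L0) : (E.conj g).ι y = g * E.ι y * g⁻¹ := rfl

theorem ext' {E E' : SEmb G} (h : E.ι = E'.ι) : E = E' := by
  cases E; cases E'; congr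

theorem conj_conj (g h : G) : (E.conj g).conj h = E.conj (h * g) := by
  apply ext'
  refine MonoidHom.ext fun y => ?_
  rw [conj_ι, conj_ι, conj_ι]
  group

theorem conj_one : E.conj 1 = E := by
  apply ext'
  refine MonoidHom.ext fun y => ?_
  rw [conj_ι]
  group

theorem conj_inv_conj (g : G) : (E.conj g).conj g⁻¹ = E := by
  rw [conj_conj, inv_mul_cancel, conj_one]

theorem Act.conj {m : G} {α : MulAut L0} (h : E.Act m α) (g : G) :
    (E.conj g).Act (g * m * g⁻¹) α := by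
  intro y
  rw [conj_ι, conj_ι, ← h]
  group

theorem act_conj_iff {m g : G} {α : MulAut L0} :
    (E.conj g).Act m α ↔ E.Act (g⁻¹ * m * g) α := by
  constructor
  · intro h
    have := h.conj g⁻¹
    rw [conj_inv_conj, inv_inv] at this
    exact this
  · intro h
    have := h.conj g
    have e : g * (g⁻¹ * m * g) * g⁻¹ = m := by group
    rwa [e] at this

theorem mem_conj_K {g k : G} : k ∈ (E.conj g).K ↔ g⁻¹ * k * g ∈ E.K := by
  rw [← act_one_iff, ← act_one_iff, act_conj_iff]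

theorem mem_conj_M {g k : G} : k ∈ (E.conj g).M ↔ g⁻¹ * k * g ∈ E.M := by
  rw [SEmb.mem_M, SEmb.mem_M]
  exact ⟨fun ⟨α, h⟩ => ⟨α, act_conj_iff.mp h⟩, fun ⟨α, h⟩ => ⟨α, act_conj_iff.mpr h⟩⟩

theorem mem_conj_L {g k : G} : k ∈ (E.conj g).L ↔ g⁻¹ * k * g ∈ E.L := by
  rw [mem_L, mem_L]
  constructor
  · rintro ⟨y, rfl⟩
    refine ⟨y, ?_⟩
    rw [conj_ι]; group
  · rintro ⟨y, hy⟩
    refine ⟨y, ?_⟩
    rw [conj_ι, hy]; group

theorem conj_conj_mem_K {g k : G} : g * k * g⁻¹ ∈ (E.conj g).K ↔ k ∈ E.K := by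
  rw [mem_conj_K]
  have e : g⁻¹ * (g * k * g⁻¹) * g = k := by group
  rw [e]

theorem conj_conj_mem_M {g k : G} : g * k * g⁻¹ ∈ (E.conj g).M ↔ k ∈ E.M := by
  rw [mem_conj_M]
  have e : g⁻¹ * (g * k * g⁻¹) * g = k := by group
  rw [e]

theorem card_conj_K (g : G) : Nat.card (E.conj g).K = Nat.card E.K := by
  have h : (E.conj g).K = E.K.map (MulAut.conj g).toMonoidHom := by
    ext k
    rw [mem_conj_K]
    constructor
    · intro h
      exact ⟨_, h, by simp [mul_assoc]⟩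
    · rintro ⟨x, hx, rfl⟩
      have e : g⁻¹ * ((MulAut.conj g).toMonoidHom x) * g = x := by simp [mul_assoc]
      rw [e]
      exact hx
  rw [h, card_conj]

theorem conj_K {m : G} (hm : m ∈ E.M) : (E.conj m).K = E.K := by
  ext k
  rw [mem_conj_K]
  have := conj_mem_K_iff (k := k) (E.M.inv_mem hm)
  rwa [inv_inv] at this

theorem conj_L {m : G} (hm : m ∈ E.M) : (E.conj m).L = E.L := by
  ext k
  rw [mem_conj_L]
  have := conj_mem_L_iff (k := k) (E.M.inv_mem hm)
  rwa [inv_inv] at this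

theorem conj_M {m : G} (hm : m ∈ E.M) : (E.conj m).M = E.M := by
  ext k
  rw [mem_conj_M]
  constructor
  · intro h
    have := E.M.mul_mem (E.M.mul_mem hm h) (E.M.inv_mem hm)
    simpa [mul_assoc] using this
  · intro h
    exact E.M.mul_mem (E.M.mul_mem (E.M.inv_mem hm) h) hm

end SEmb

/-- Two embeddings which are conjugate but have different components. -/
structure Pr {G : Type*} [Group G] (E E' : SEmb G) : Prop where
  conj : ∃ g, E' = E.conj g
  sep : ∀ k, k ≠ 1 → k * k = 1 → k ∈ E.K → k ∉ E'.K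
  nc : ¬ E.L ≤ E'.K

namespace Pr

open SEmb

variable {G : Type*} [Group G] {E E' : SEmb G}

theorem symm (h : Pr E E') : Pr E' E := by
  refine ⟨?_, fun k h1 h2 h3 h4 => h.sep k h1 h2 h4 h3, fun hh => h.nc ?_⟩
  · obtain ⟨g, rfl⟩ := h.conj
    exact ⟨g⁻¹, (conj_inv_conj g).symm⟩
  · rintro _ ⟨x, rfl⟩
    rw [SEmb.mem_K]
    intro y
    exact (SEmb.mem_K.mp (hh (SEmb.ι_mem_L y)) x).symm

theorem of_not_mem {g : G} (hg : g ∉ E.M) : Pr E (E.conj g) where
  conj := ⟨g, rfl⟩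
  sep k h1 h2 h3 h4 := by
    rw [mem_conj_K] at h4
    apply hg
    have h5 := mem_M_of_conj (g := g⁻¹) h1 h2 h3 (by rwa [inv_inv])
    have := E.M.inv_mem h5
    rwa [inv_inv] at this
  nc h := E.nocomm g fun x y => by
    have := SEmb.mem_K.mp (h (SEmb.ι_mem_L x)) y
    exact this

/-- reparametrisation -/
theorem reparam (h : Pr E E') {m m' : G} (hm : m ∈ E.M) (hm' : m' ∈ E'.M) :
    Pr (E.conj m) (E'.conj m') := by
  refine ⟨?_, ?_, ?_⟩
  · obtain ⟨g, rfl⟩ := h.conj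
    refine ⟨m' * g * m⁻¹, ?_⟩
    rw [conj_conj, conj_conj]
    congr 1
    group
  · rw [conj_K hm, conj_K hm']; exact h.sep
  · rw [conj_L hm, conj_K hm']; exact h.nc

/-- no nontrivial 2-element in both centralisers -/
theorem sep_two (h : Pr E E') {k : G} {n : ℕ} (h2 : k ^ 2 ^ n = 1) (hk : k ∈ E.K)
    (hk' : k ∈ E'.K) : k = 1 := by
  by_contra h1
  obtain ⟨m, hm1, hm2⟩ := exists_pow_invol h1 h2
  exact h.sep _ hm1 hm2 (E.K.pow_mem hk m) (E'.K.pow_mem hk' m)

end Pr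

end Cfsg.Agent.StdLThreeFour.Emb
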