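import Cfsg.Agent.StdLThreeFour.Codes

/-!
# Standard components `L3(4)`: automorphisms of `PSL(3,4)`
-/

set_option autoImplicit false
set_option linter.constructorNameAsVariable false
set_option linter.unusedVariables false

namespace Cfsg.Agent.StdLThreeFour.Facts2

open Subgroup
open Cfsg.Agent.SporadicA.FieldFour
open Cfsg.Agent.ONType.Psl
open Cfsg.Agent.ONType.OuterL
open Cfsg.Agent.StdLThreeFour.Base
open Cfsg.Agent.StdLThreeFour.Facts1
open Cfsg.Agent.StdLThreeFour.Codes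

/-- the code `(a, b, c; τ)` fixes `e x y z` -/
def fx (τ : Ty) (a b x y z : F4) : Prop :=
  tx τ x y = x ∧ ty τ x y = y ∧ tz τ x y z + (tx τ x y * b + a * ty τ x y) = z

instance (τ : Ty) (a b x y z : F4) : Decidable (fx τ a b x y z) :=
  inferInstanceAs (Decidable (_ ∧ _))

theorem fx_of {α : MulAut L0} {a b c : F4} {τ : Ty} (h : Cd α a b c τ) {x y z : F4}
    (h1 : α (e x y z) = e x y z) : fx τ a b x y z := by
  rw [h.apply] at h1
  exact e_inj h1

theorem of_fx {α : MulAut L0} {a b c : F4} {τ : Ty} (h : Cd α a b c τ) {x y z : F4}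
    (h1 : fx τ a b x y z) : α (e x y z) = e x y z := by
  rw [h.apply, h1.1, h1.2.1]
  have h2 := h1.2.2
  rw [h1.1, h1.2.1] at h2
  rw [h2]

/-! ### pointwise stabilizers -/

theorem fix_A_false : ∀ (la mu : F4) (e' f : Bool) (a b : F4), la ≠ 0 → mu ≠ 0 →
    (∀ u v, fx ⟨la, mu, e', f⟩ a b u 0 v) → la = 1 ∧ mu = 1 ∧ e' = false ∧ f = false ∧ b = 0 := by
  decide +kernel

theorem fix_A_true : ∀ (la mu : F4) (e' f : Bool) (a b : F4), la ≠ 0 → mu ≠ 0 →
    (∀ u v, fx ⟨la, mu, e', f⟩ a b 0 u v) → la = 1 ∧ mu = 1 ∧ e' = false ∧ f = false ∧ a = 0 := by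
  decide +kernel

theorem t02_mem_Z0 : t 0 2 1 ∈ Z0 := ⟨1, (e_02 1).symm⟩

theorem aut_cent_A {α : MulAut L0} {j : Bool} (h : ∀ s ∈ A j, α s = s) :
    ∃ z ∈ A j, α = MulAut.conj z := by
  obtain ⟨a, b, c, τ, hc⟩ := exists_cd' (d := 1) one_ne_zero (h _ (Z0_le j t02_mem_Z0))
  have hla := hc.la_ne
  have hmu := hc.mu_ne
  obtain ⟨la, mu, e', f⟩ := τ
  cases j
  · obtain ⟨h1, h2, h3, h4, h5⟩ := fix_A_false la mu e' f a b hla hmu
      (fun u v => fx_of hc (h _ (eA_false u v)))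
    subst h1 h2 h3 h4 h5
    exact ⟨_, eA_false a c, hc.inner⟩
  · obtain ⟨h1, h2, h3, h4, h5⟩ := fix_A_true la mu e' f a b hla hmu
      (fun u v => fx_of hc (h _ (eA_true u v)))
    subst h1 h2 h3 h4 h5
    exact ⟨_, eA_true b c, hc.inner⟩

theorem aut_cent_S0 {α : MulAut L0} (h : ∀ s ∈ S0, α s = s) : ∃ z ∈ Z0, α = MulAut.conj z := by
  obtain ⟨x, hx, h1⟩ := aut_cent_A (j := false) (fun s hs => h s (A_le _ hs))
  obtain ⟨y, hy, h2⟩ := aut_cent_A (j := true) (fun s hs => h s (A_le _ hs))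
  have h3 : x = y := conj_injective (h1.symm.trans h2)
  subst h3
  refine ⟨x, ?_, h1⟩
  rw [← A_inf]
  exact ⟨hx, hy⟩

/-! ### coded automorphisms without field and graph part -/

/-- no field, no graph part -/
def Torus (α : MulAut L0) : Prop := ∃ a b c τ, Cd α a b c τ ∧ τ.e = false ∧ τ.f = false

theorem Torus.one : Torus 1 := ⟨0, 0, 0, tone, by
  have := cd_conj 0 0 0
  rwa [e_zero, map_one] at this, rfl, rfl⟩

theorem Torus.mul {α β : MulAut L0} (h : Torus α) (h' : Torus β) : Torus (α * β) := by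
  obtain ⟨a, b, c, τ, h1, h2, h3⟩ := h
  obtain ⟨a', b', c', ρ, h1', h2', h3'⟩ := h'
  refine ⟨_, _, _, _, h1.mul h1', ?_, ?_⟩
  · unfold Ty.mul
    rw [h3, if_neg (by decide)]
    show xor τ.e ρ.e = false
    rw [h2, h2']; rfl
  · unfold Ty.mul
    rw [h3, if_neg (by decide)]
    show xor false ρ.f = false
    rw [h3']; rfl

theorem Torus.pow {α : MulAut L0} (h : Torus α) (n : ℕ) : Torus (α ^ n) := by
  induction n with
  | zero => rw [pow_zero]; exact Torus.one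
  | succ n ih => rw [pow_succ]; exact ih.mul h

theorem torus_sq {α : MulAut L0} {a b c : F4} {τ : Ty} (h : Cd α a b c τ) : Torus (α * α) := by
  refine ⟨_, _, _, _, h.mul h, ?_, ?_⟩
  · unfold Ty.mul
    split
    · exact Bool.xor_self _
    · exact Bool.xor_self _
  · unfold Ty.mul
    split
    · exact Bool.xor_self _
    · exact Bool.xor_self _

theorem torus_of_odd {α : MulAut L0} {a b c : F4} {τ : Ty} (h : Cd α a b c τ) {n : ℕ}
    (hn : ¬ 2 ∣ n) (hα : α ^ n = 1) : Torus α := by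
  obtain ⟨m, hm⟩ : ∃ m, n = 2 * m + 1 := ⟨n / 2, by omega⟩
  have h1 := (torus_sq h).pow (m + 1)
  have h2 : (α * α) ^ (m + 1) = α := by
    rw [← pow_two, ← pow_mul]
    have : 2 * (m + 1) = n + 1 := by omega
    rw [this, pow_succ, hα, one_mul]
  rwa [h2] at h1

theorem torus_fix : ∀ (la mu a b x y z : F4), la ≠ 0 → mu ≠ 0 →
    fx ⟨la, mu, false, false⟩ a b x y z → (x ≠ 0 → la = 1) ∧ (y ≠ 0 → mu = 1) := by
  decide +kernel

/-- a subgroup of index at most two in `S0` contains the squares -/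
theorem mul_mem_of_card {T : Subgroup L0} (hT : T ≤ S0) (h32 : 32 ≤ Nat.card T) {x y : L0}
    (hx : x ∈ S0) (hy : y ∈ S0) (hx' : x ∉ T) (hy' : y ∉ T) : x * y ∈ T := by
  have hidx : T.relIndex S0 ≤ 2 := by
    have h1 := Subgroup.relIndex_mul_relIndex ⊥ T S0 bot_le hT
    rw [Subgroup.relIndex_bot_left, Subgroup.relIndex_bot_left, card_S0] at h1
    nlinarith
  by_contra hxy
  -- cosets of `1`, `x⁻¹`... in `T`
  have h2 : (T.subgroupOf S0).index ≤ 2 := hidx
  have h3 : Nat.card (S0 ⧸ T.subgroupOf S0) ≤ 2 := h2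
  have hy2 : y ∈ S0 := hy
  let f : Fin 3 → S0 ⧸ T.subgroupOf S0 := fun i =>
    if i = 0 then ((1 : S0) : S0 ⧸ T.subgroupOf S0)
    else if i = 1 then (((⟨x, hx⟩ : S0)⁻¹ : S0) : S0 ⧸ T.subgroupOf S0)
    else ((⟨y, hy⟩ : S0) : S0 ⧸ T.subgroupOf S0)
  have hf : Function.Injective f := by
    intro i j h
    fin_cases i <;> fin_cases j
    · rfl
    · exfalso
      have h4 : ((1 : S0) : S0 ⧸ T.subgroupOf S0) = (((⟨x, hx⟩ : S0)⁻¹ : S0) : S0 ⧸ T.subgroupOf S0) := h
      rw [QuotientGroup.eq, Subgroup.mem_subgroupOf] at h4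
      apply hx'
      have h5 : x⁻¹ ∈ T := by simpa using h4
      simpa using inv_mem h5
    · exfalso
      have h4 : ((1 : S0) : S0 ⧸ T.subgroupOf S0) = ((⟨y, hy⟩ : S0) : S0 ⧸ T.subgroupOf S0) := h
      rw [QuotientGroup.eq, Subgroup.mem_subgroupOf] at h4
      apply hy'
      simpa using h4
    · exfalso
      have h4 : (((⟨x, hx⟩ : S0)⁻¹ : S0) : S0 ⧸ T.subgroupOf S0) = ((1 : S0) : S0 ⧸ T.subgroupOf S0) := h
      rw [QuotientGroup.eq, Subgroup.mem_subgroupOf] at h4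
      apply hx'
      simpa using h4
    · rfl
    · exfalso
      have h4 : (((⟨x, hx⟩ : S0)⁻¹ : S0) : S0 ⧸ T.subgroupOf S0) = ((⟨y, hy⟩ : S0) : S0 ⧸ T.subgroupOf S0) := h
      rw [QuotientGroup.eq, Subgroup.mem_subgroupOf] at h4
      apply hxy
      simpa using h4
    · exfalso
      have h4 : ((⟨y, hy⟩ : S0) : S0 ⧸ T.subgroupOf S0) = ((1 : S0) : S0 ⧸ T.subgroupOf S0) := h
      rw [QuotientGroup.eq, Subgroup.mem_subgroupOf] at h4
      apply hy'
      simpa using inv_mem h4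
    · exfalso
      have h4 : ((⟨y, hy⟩ : S0) : S0 ⧸ T.subgroupOf S0) = (((⟨x, hx⟩ : S0)⁻¹ : S0) : S0 ⧸ T.subgroupOf S0) := h
      rw [eq_comm, QuotientGroup.eq, Subgroup.mem_subgroupOf] at h4
      apply hxy
      simpa using h4
    · rfl
  have h5 := Nat.card_le_card_of_injective f hf
  rw [Nat.card_eq_fintype_card, Fintype.card_fin] at h5
  omega

theorem aut_odd {α : MulAut L0} {n : ℕ} (hn : ¬ 2 ∣ n) (hα : α ^ n = 1) {T : Subgroup L0}
    (hT : T ≤ S0) (h32 : 32 ≤ Nat.card T) (h : ∀ s ∈ T, α s = s) : α = 1 := by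
  have hsq : ∀ x ∈ S0, x * x ∈ T := by
    intro x hx
    by_cases hx' : x ∈ T
    · exact mul_mem hx' hx'
    · exact mul_mem_of_card hT h32 hx hx hx' hx'
  have hZ : t 0 2 1 ∈ T := by
    have := hsq _ (e_mem 1 1 0)
    rw [e_sq, one_mul, e_02] at this
    exact this
  obtain ⟨a0, b0, c0, τ0, hc0⟩ := exists_cd' (d := 1) one_ne_zero (h _ hZ)
  obtain ⟨a, b, c, τ, hc, he, hf⟩ := torus_of_odd hc0 hn hα
  have hla := hc.la_ne
  have hmu := hc.mu_ne
  obtain ⟨la, mu, e', f⟩ := τ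
  have he : e' = false := he
  have hf : f = false := hf
  subst he hf
  have key : ∀ x y z, e x y z ∈ T → (x ≠ 0 → la = 1) ∧ (y ≠ 0 → mu = 1) :=
    fun x y z hm => torus_fix la mu a b x y z hla hmu (fx_of hc (h _ hm))
  have hla1 : la = 1 := by
    by_cases h1 : e 1 0 0 ∈ T
    · exact (key _ _ _ h1).1 (by decide)
    · by_cases h2 : e F4.w 0 0 ∈ T
      · exact (key _ _ _ h2).1 (by decide)
      · have h3 := mul_mem_of_card hT h32 (e_mem _ _ _) (e_mem _ _ _) h1 h2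
        rw [e_mul] at h3
        exact (key _ _ _ h3).1 (by decide)
  have hmu1 : mu = 1 := by
    by_cases h1 : e 0 1 0 ∈ T
    · exact (key _ _ _ h1).2 (by decide)
    · by_cases h2 : e 0 F4.w 0 ∈ T
      · exact (key _ _ _ h2).2 (by decide)
      · have h3 := mul_mem_of_card hT h32 (e_mem _ _ _) (e_mem _ _ _) h1 h2
        rw [e_mul] at h3
        exact (key _ _ _ h3).2 (by decide)
  subst hla1 hmu1
  have h1 : α = MulAut.conj (e a b c) := hc.inner
  have h2 : α ^ 4 = 1 := by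
    have h3 : (e a b c) ^ 4 = 1 := by
      have : (e a b c) ^ 4 = (e a b c * e a b c) * (e a b c * e a b c) := by
        rw [show 4 = 2 + 2 from rfl, pow_add, pow_two]
      rw [this, e_sq, e_sq, mul_zero, e_zero]
    rw [h1, ← map_pow, h3, map_one]
  have h4 : Nat.Coprime n 4 := by
    have : Nat.Coprime n 2 := ((Nat.Prime.coprime_iff_not_dvd Nat.prime_two).2 hn).symm
    exact this.pow_right 2
  have h5 := pow_gcd_eq_one.2 ⟨hα, h2⟩
  rwa [h4.gcd_eq_one, pow_one] at h5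

end Cfsg.Agent.StdLThreeFour.Facts2
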