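import Cfsg.Agent.StdLThreeFour.Emb
import Cfsg.Agent.StdLThreeFour.Facts1
import Cfsg.Prelude.Def_TwoFusion
import Cfsg.Agent.ONType.PslCard

/-!
# Standard `L3(4)`: the strongly closed case

If no conjugate `K^g ≠ K` has an involution in `M`, then `M` controls the fusion of a Sylow 2-subgroup `T`
of `M`, which is a Sylow 2-subgroup of `G`, and `T ⊓ K`, `T ⊓ L` are strongly closed in `T`.
-/

set_option autoImplicit false

namespace Cfsg.Agent.StdLThreeFour.Red1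

open Cfsg.Agent.StdLThreeFour.Base Cfsg.Agent.StdLThreeFour.Syl Cfsg.Agent.StdLThreeFour.Emb
open Cfsg.Agent.StdLThreeFour.Emb.SEmb

variable {G : Type*} [Group G] {E : SEmb G}

/-- a 2-element of `H` normalising a Sylow 2-subgroup of `H` -/
theorem mem_of_norm {P H : Subgroup G} (hP : IsSyl P H) {x : G} (hx : x ∈ H)
    {n : ℕ} (h2 : x ^ 2 ^ n = 1) (hn : ∀ y, y ∈ P ↔ x * y * x⁻¹ ∈ P) : x ∈ P := by
  have h1 : Subgroup.zpowers x ≤ Subgroup.normalizer (P : Set G) := by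
    rw [Subgroup.zpowers_le, Subgroup.mem_normalizer_iff]
    exact hn
  have h3 := IsPGroup.to_sup_of_normal_right' (isPGroup_zpowers h2) hP.two h1
  have h4 := hP.2.2 _ (sup_le ((Subgroup.zpowers_le).mpr hx) hP.le) h3 le_sup_right
  rw [← h4]
  exact Subgroup.mem_sup_left (Subgroup.mem_zpowers x)

theorem IsSyl_exists_sylow {T : Subgroup G} (h : IsSyl T ⊤) : ∃ P : Sylow 2 G, (P : Subgroup G) = T :=
  ⟨⟨T, h.two, fun {Q} hQ hTQ => h.2.2 Q le_top hQ hTQ⟩, rfl⟩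

theorem e_inj {a b c a' b' c' : Cfsg.Agent.SporadicA.FieldFour.F4} (h : e a b c = e a' b' c') :
    a = a' ∧ b = b' ∧ c = c' := Cfsg.Agent.ONType.PslCard.t_inj h

theorem x0_ne : (Cfsg.Agent.ONType.Psl.t 0 2 1 : L0) ≠ 1 := by
  intro h
  rw [← e_02, ← e_zero] at h
  exact absurd (e_inj h).2.2 (by decide)

/-- the component meets its centraliser trivially -/
theorem K_inf_L : E.K ⊓ E.L = ⊥ := by
  rw [eq_bot_iff]
  rintro x ⟨hx, y, rfl⟩
  rw [Subgroup.mem_bot]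
  have h1 : MulAut.conj y = 1 := (act_ι y).unique (act_one_iff.mpr hx)
  rw [Facts1.conj_inj h1, map_one]

/-- no nontrivial 2-element of `K^g` in `M` if `g ∉ M` -/
def SC (E : SEmb G) : Prop := ∀ g u, u ≠ 1 → u * u = 1 → u ∈ (E.conj g).K → u ∈ E.M → g ∈ E.M

theorem SC.two (h : SC E) {g u : G} (h1 : u ≠ 1) {n : ℕ} (h2 : u ^ 2 ^ n = 1)
    (hu : u ∈ (E.conj g).K) (hM : u ∈ E.M) : g ∈ E.M := by
  obtain ⟨m, hm1, hm2⟩ := exists_pow_invol h1 h2
  exact h g _ hm1 hm2 (Subgroup.pow_mem _ hu m) (Subgroup.pow_mem _ hM m)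

theorem SC.conj_mem (h : SC E) {g k : G} (h1 : k ≠ 1) {n : ℕ} (h2 : k ^ 2 ^ n = 1)
    (hk : k ∈ E.K) (hM : g * k * g⁻¹ ∈ E.M) : g ∈ E.M := by
  refine h.two (u := g * k * g⁻¹) ?_ (n := n) ?_ (conj_conj_mem_K.mpr hk) hM
  · intro h3
    apply h1
    have : k = g⁻¹ * (g * k * g⁻¹) * g := by group
    rw [this, h3]; group
  · rw [conj_pow, h2]; group

variable [Finite G]

/-- a Sylow 2-subgroup of `C_M(c)` containing an involution of `K` is a Sylow 2-subgroup of `C(c)` -/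
theorem SC.isSyl_of_inf (h : SC E) {H Q : Subgroup G} (hQ : IsSyl Q (H ⊓ E.M)) {r : G} (hr : r ∈ Q)
    (hrK : r ∈ E.K) (hr1 : r ≠ 1) (hr2 : r * r = 1) : IsSyl Q H := by
  refine isSyl_of_norm (hQ.le.trans inf_le_left) hQ.two ?_
  rintro x hx ⟨n, hn⟩ hnorm
  have h1 : x * r * x⁻¹ ∈ E.M := (hQ.le ((hnorm r).mp hr)).2
  have h2 : x ∈ E.M := h.conj_mem hr1 (n := 1) (by rw [pow_one, pow_two, hr2]) hrK h1
  exact mem_of_norm hQ ⟨hx, h2⟩ hn hnorm

/-- control of fusion -/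
theorem SC.fusion (h : SC E) (hK : 2 ∣ Nat.card E.K) {T : Subgroup G} (hT : IsSyl T E.M) {a g : G}
    (ha : a ∈ T ⊓ E.L) (hg : g * a * g⁻¹ ∈ T) : ∃ m ∈ E.M, m * a * m⁻¹ = g * a * g⁻¹ := by
  set b := g * a * g⁻¹ with hb
  -- an involution of `K` commuting with `b`
  have hbT : Subgroup.zpowers b ≤ T := (Subgroup.zpowers_le).mpr hg
  obtain ⟨r0, hr0, hr01, hr02, hr0b⟩ := exists_invol_commute (Q := Subgroup.zpowers b) (H := E.K)
    (hT.two.to_le hbT) (fun q hq x hx => conj_mem_K (hT.le (hbT hq)) hx) hK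
  set Cb := Subgroup.centralizer ({b} : Set G) with hCb
  have hr0C : r0 ∈ Cb ⊓ E.M :=
    ⟨Subgroup.mem_centralizer_singleton_iff.mpr (hr0b b (Subgroup.mem_zpowers b)).symm.eq, E.K_le hr0⟩
  obtain ⟨Q0, hQ0, hle⟩ := exists_isSyl (Q := Subgroup.zpowers r0) (H := Cb ⊓ E.M)
    ((Subgroup.zpowers_le).mpr hr0C) (isPGroup_zpowers (n := 1) (by rw [pow_one, pow_two, hr02]))
  have hQ0' : IsSyl Q0 Cb := h.isSyl_of_inf hQ0 (hle (Subgroup.mem_zpowers r0)) hr0 hr01 hr02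
  -- the involutions of `T ⊓ K`
  have hR : IsSyl (T ⊓ E.K) E.K := hT.inf_normal E.K_le (fun m hm k hk => conj_mem_K hm hk)
  have hRne : ∃ r ∈ T ⊓ E.K, r ≠ 1 ∧ r * r = 1 := by
    obtain ⟨x, hx, hx1, hx2⟩ := exists_invol hK
    obtain ⟨k, hk, hkk⟩ := hR.exists_conj_mem (Q := Subgroup.zpowers x)
      ((Subgroup.zpowers_le).mpr hx) (isPGroup_zpowers (n := 1) (by rw [pow_one, pow_two, hx2]))
    refine ⟨_, hkk x (Subgroup.mem_zpowers x), ?_, ?_⟩
    · intro h3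
      apply hx1
      have : x = k⁻¹ * (k * x * k⁻¹) * k := by group
      rw [this, h3]; group
    · calc k * x * k⁻¹ * (k * x * k⁻¹) = k * (x * x) * k⁻¹ := by group
        _ = 1 := by rw [hx2]; group
  obtain ⟨r, hr, hr1, hr2⟩ := hRne
  -- move `(T ⊓ K)^g` into `Q0`
  have h5 : ((T ⊓ E.K).map (MulAut.conj g).toMonoidHom) ≤ Cb := by
    rintro _ ⟨x, hx, rfl⟩
    rw [hCb, Subgroup.mem_centralizer_singleton_iff]
    obtain ⟨y, hy⟩ := ha.2
    have h6 : Commute x a := by rw [← hy]; exact commute_ι hx.2 y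
    have h7 := h6.conj g
    simpa [hb] using h7.eq
  have h6 : IsPGroup 2 ((T ⊓ E.K).map (MulAut.conj g).toMonoidHom) :=
    (hT.two.to_le inf_le_left).map _
  obtain ⟨c, hc, hcc⟩ := hQ0'.exists_conj_mem h5 h6
  have h8 : (c * g) * r * (c * g)⁻¹ ∈ E.M := by
    have := hcc (g * r * g⁻¹) ⟨r, hr, by simp⟩
    have h9 := (hQ0.le this).2
    have e : c * (g * r * g⁻¹) * c⁻¹ = (c * g) * r * (c * g)⁻¹ := by group
    rwa [e] at h9
  have h9 : c * g ∈ E.M := h.conj_mem hr1 (n := 1) (by rw [pow_one, pow_two, hr2]) hr.2 h8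
  refine ⟨c * g, h9, ?_⟩
  have h10 : c * b = b * c := Subgroup.mem_centralizer_singleton_iff.mp hc
  calc c * g * a * (c * g)⁻¹ = c * b * c⁻¹ := by rw [hb]; group
    _ = b := by rw [h10]; group

/-- **The strongly closed case.** -/
theorem SC.exists_closed (h : SC E) (hK : 2 ∣ Nat.card E.K) :
    ∃ (P : Sylow 2 G) (A B : Subgroup G), A ⊓ B = ⊥ ∧ Cfsg.IsStronglyClosed A (P : Subgroup G) ∧
      Cfsg.IsStronglyClosed B (P : Subgroup G) ∧ A ≠ ⊥ ∧ B ≠ ⊥ := by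
  obtain ⟨T, hT, -⟩ := exists_isSyl (Q := (⊥ : Subgroup G)) (H := E.M) bot_le IsPGroup.of_bot
  have hR : IsSyl (T ⊓ E.K) E.K := hT.inf_normal E.K_le (fun m hm k hk => conj_mem_K hm hk)
  have hS : IsSyl (T ⊓ E.L) E.L := hT.inf_normal E.L_le (fun m hm k hk => conj_mem_L hm hk)
  have hRne : T ⊓ E.K ≠ ⊥ := by
    intro h0
    have h1 := hR.card_eq
    rw [h0, Subgroup.card_bot] at h1
    have h2 : (Nat.card E.K).factorization 2 ≠ 0 :=
      (Nat.Prime.factorization_pos_of_dvd Nat.prime_two Nat.card_pos.ne' hK).ne'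
    have h3 : 2 ∣ 2 ^ (Nat.card E.K).factorization 2 := dvd_pow_self 2 h2
    rw [← h1] at h3
    exact absurd h3 (by decide)
  obtain ⟨r, hr, hr1, hr2⟩ := exists_invol_of_two (hT.two.to_le inf_le_left) hRne
  have hSne : T ⊓ E.L ≠ ⊥ := by
    intro h0
    have h1 := hS.card_eq
    rw [h0, Subgroup.card_bot] at h1
    have hL2 : 2 ∣ Nat.card E.L := by
      have hx : E.ι (Cfsg.Agent.ONType.Psl.t 0 2 1) ∈ E.L := ι_mem_L _
      have hx1 := x0_ne
      exact two_dvd_card_of_invol hx (fun h3 => hx1 (E.inj (by rw [h3, map_one]))) (by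
        rw [← map_mul, Cfsg.Agent.ONType.Psl.t_add 0 2 _ _ (by decide), add_self,
          Cfsg.Agent.ONType.Psl.t_zero, map_one])
    have h2 : (Nat.card E.L).factorization 2 ≠ 0 :=
      (Nat.Prime.factorization_pos_of_dvd Nat.prime_two Nat.card_pos.ne' hL2).ne'
    have h3 : 2 ∣ 2 ^ (Nat.card E.L).factorization 2 := dvd_pow_self 2 h2
    rw [← h1] at h3
    exact absurd h3 (by decide)
  have hTG : IsSyl T ⊤ := by
    refine h.isSyl_of_inf (H := ⊤) ?_ hr.1 hr.2 hr1 hr2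
    rwa [top_inf_eq]
  obtain ⟨P, hP⟩ := IsSyl_exists_sylow hTG
  refine ⟨P, T ⊓ E.K, T ⊓ E.L, ?_, ?_, ?_, hRne, hSne⟩
  · rw [eq_bot_iff]
    rintro x ⟨⟨_, hx1⟩, _, hx2⟩
    have : x ∈ E.K ⊓ E.L := ⟨hx1, hx2⟩
    rwa [K_inf_L] at this
  · rw [hP]
    refine ⟨inf_le_left, fun x hx g hg => ⟨hg, ?_⟩⟩
    by_cases hx1 : x = 1
    · rw [hx1, mul_one, mul_inv_cancel]; exact E.K.one_mem
    · obtain ⟨n, hn⟩ := two_of_isPGroup hT.two hx.1
      exact conj_mem_K (h.conj_mem hx1 hn hx.2 (hT.le hg)) hx.2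
  · rw [hP]
    refine ⟨inf_le_left, fun x hx g hg => ⟨hg, ?_⟩⟩
    obtain ⟨m, hm, he⟩ := h.fusion hK hT hx hg
    rw [← he]
    exact conj_mem_L hm hx.2

end Cfsg.Agent.StdLThreeFour.Red1
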