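import Cfsg.Agent.StdLThreeFour.Emb
import Cfsg.Agent.StdLThreeFour.Red1
import Cfsg.Prelude.Def_Local

/-!
# A standard subgroup `L3(4)` gives a standard embedding
-/

set_option autoImplicit false

namespace Cfsg.Agent.StdLThreeFour.OfStandard

open Cfsg.Agent.StdLThreeFour.Base Cfsg.Agent.StdLThreeFour.Syl Cfsg.Agent.StdLThreeFour.Emb
open Cfsg.Agent.StdLThreeFour.Emb.SEmb
open Cfsg.Agent.SporadicA.FieldFour

/-- The general construction: a subgroup isomorphic to `L0` with tightly embedded centraliser, commuting with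
no other conjugate. -/
theorem exists_semb_of {G : Type*} [Group G] (L : Subgroup G) (e : L0 ≃* L)
    (hK : ∀ g k : G, k ≠ 1 → k * k = 1 → k ∈ Subgroup.centralizer (L : Set G) →
      g * k * g⁻¹ ∈ Subgroup.centralizer (L : Set G) → g ∈ Subgroup.normalizer (L : Set G))
    (hc : ∀ g : G, L.map (MulAut.conj g).toMonoidHom ≠ L →
      ⁅L, L.map (MulAut.conj g).toMonoidHom⁆ ≠ ⊥) :
    ∃ E : SEmb G, (∀ y, E.ι y = e y) ∧ E.L = L ∧ E.K = Subgroup.centralizer (L : Set G) ∧
      E.M = Subgroup.normalizer (L : Set G) := by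
  have hcen : ∀ k : G, (∀ y, Commute k ((e y : L) : G)) ↔ k ∈ Subgroup.centralizer (L : Set G) := by
    intro k
    rw [Subgroup.mem_centralizer_iff]
    constructor
    · intro h y hy
      have := (h (e.symm ⟨y, hy⟩)).eq.symm
      rwa [MulEquiv.apply_symm_apply] at this
    · intro h y
      exact (h _ (e y).2).symm
  have hnorm : ∀ m ∈ Subgroup.normalizer (L : Set G), ∃ α : MulAut L0, ∀ y,
      m * ((e y : L) : G) * m⁻¹ = (e (α y) : L) := by
    intro m hm
    refine ⟨e.trans ((Subgroup.normalizerMonoidHom L ⟨m, hm⟩ : MulAut L).trans e.symm), fun y => ?_⟩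
    show _ = ((e (e.symm _) : L) : G)
    rw [MulEquiv.apply_symm_apply]
    rfl
  have hnorm' : ∀ m : G, (∃ α : MulAut L0, ∀ y, m * ((e y : L) : G) * m⁻¹ = (e (α y) : L)) →
      m ∈ Subgroup.normalizer (L : Set G) := by
    rintro m ⟨α, h⟩
    rw [Subgroup.mem_normalizer_iff]
    intro x
    constructor
    · intro hx
      have := h (e.symm ⟨x, hx⟩)
      rw [MulEquiv.apply_symm_apply] at this
      rw [show m * x * m⁻¹ = _ from this]
      exact (e _).2
    · intro hx
      have h1 := h (α⁻¹ (e.symm ⟨m * x * m⁻¹, hx⟩))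
      rw [MulAut.apply_inv_self, MulEquiv.apply_symm_apply] at h1
      have h2 : ((e (α⁻¹ (e.symm ⟨m * x * m⁻¹, hx⟩)) : L) : G) = x := mul_left_cancel (mul_right_cancel h1)
      rw [← h2]
      exact (e _).2
  let E : SEmb G :=
    { ι := L.subtype.comp e.toMonoidHom
      inj := L.subtype_injective.comp e.injective
      disj := fun g k h1 h2 h3 h4 => hnorm g (hK g k h1 h2 ((hcen k).mp h3) ((hcen _).mp h4))
      nocomm := by
        intro g h
        by_cases hg : L.map (MulAut.conj g).toMonoidHom = L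
        · -- then `g` normalises `L` and `L` would be abelian
          have hab : ∀ x y : L0, x * y = y * x := by
            intro x y
            have h1 : ((e y : L) : G) ∈ L.map (MulAut.conj g).toMonoidHom := by rw [hg]; exact (e y).2
            obtain ⟨z, hz, he⟩ := h1
            have h2 := h x (e.symm ⟨z, hz⟩)
            have h3 : g * (L.subtype.comp e.toMonoidHom) (e.symm ⟨z, hz⟩) * g⁻¹ = ((e y : L) : G) := by
              rw [← he]
              show g * ((e (e.symm ⟨z, hz⟩) : L) : G) * g⁻¹ = _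
              rw [MulEquiv.apply_symm_apply]
              rfl
            rw [h3] at h2
            have h4 : ((e x : L) : G) * ((e y : L) : G) = ((e y : L) : G) * ((e x : L) : G) := h2.eq
            apply e.injective
            rw [map_mul, map_mul]
            exact Subtype.ext h4
          have h5 := Facts1.conj_inj (l := (Cfsg.Agent.ONType.Psl.t 0 2 1 : L0)) (by
            apply MulEquiv.ext
            intro y
            rw [MulAut.conj_apply, MulAut.one_apply, hab, inv_mul_cancel_left])
          exact Cfsg.Agent.StdLThreeFour.Red1.x0_ne h5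
        · apply hc g hg
          rw [eq_bot_iff, Subgroup.commutator_le]
          rintro x hx _ ⟨y, hy, rfl⟩
          rw [Subgroup.mem_bot, commutatorElement_eq_one_iff_mul_comm]
          have h2 := h (e.symm ⟨x, hx⟩) (e.symm ⟨y, hy⟩)
          have h3 : (L.subtype.comp e.toMonoidHom) (e.symm ⟨x, hx⟩) = x := by
            show ((e (e.symm ⟨x, hx⟩) : L) : G) = x
            rw [MulEquiv.apply_symm_apply]
          have h4 : g * (L.subtype.comp e.toMonoidHom) (e.symm ⟨y, hy⟩) * g⁻¹ =
              (MulAut.conj g).toMonoidHom y := by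
            show g * ((e (e.symm ⟨y, hy⟩) : L) : G) * g⁻¹ = _
            rw [MulEquiv.apply_symm_apply]
            rfl
          rw [h3, h4] at h2
          exact h2.eq }
  refine ⟨E, fun y => rfl, ?_, ?_, ?_⟩
  · ext x
    rw [mem_L]
    constructor
    · rintro ⟨y, rfl⟩; exact (e y).2
    · intro hx
      refine ⟨e.symm ⟨x, hx⟩, ?_⟩
      show ((e (e.symm ⟨x, hx⟩) : L) : G) = x
      rw [MulEquiv.apply_symm_apply]
  · ext k
    rw [mem_K]
    exact hcen k
  · ext m
    exact ⟨fun h => hnorm' m h, fun h => hnorm m h⟩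

theorem exists_semb {G : Type*} [Group G] [Finite G] (L : Subgroup G) (hL : Cfsg.IsStandardSubgroup L)
    {F : Type*} [Field F] [Fintype F] (hF : Fintype.card F = 4)
    (hLX : Nonempty (L ≃* Matrix.ProjectiveSpecialLinearGroup (Fin 3) F)) :
    ∃ E : SEmb G, E.L = L ∧ E.K = Subgroup.centralizer (L : Set G) ∧
      E.M = Subgroup.normalizer (L : Set G) ∧ 2 ∣ Nat.card E.K := by
  obtain ⟨e⟩ := hLX
  obtain ⟨e'⟩ := nonempty_psl_equiv (n := Fin 3) F hF
  obtain ⟨-, ⟨heven, htight⟩, hcomm, hnorm⟩ := hL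
  obtain ⟨E, -, h1, h2, h3⟩ := exists_semb_of L (e.trans e'.symm).symm (fun g k hk1 hk2 hk hgk => by
    by_contra hg
    rw [hnorm] at hg
    have hg' : g⁻¹ ∉ Subgroup.normalizer (Subgroup.centralizer (L : Set G) : Set G) := fun h =>
      hg (by have := Subgroup.inv_mem _ h; rwa [inv_inv] at this)
    have hodd := htight g⁻¹ hg'
    have hmem : k ∈ Subgroup.centralizer (L : Set G) ⊓
        (Subgroup.centralizer (L : Set G)).map (MulAut.conj g⁻¹).toMonoidHom := by
      refine ⟨hk, ⟨g * k * g⁻¹, hgk, ?_⟩⟩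
      show g⁻¹ * (g * k * g⁻¹) * g⁻¹⁻¹ = k
      group
    have hdvd := two_dvd_card_of_invol hmem hk1 hk2
    exact (Nat.not_even_iff_odd.mpr hodd) (even_iff_two_dvd.mpr hdvd)) hcomm
  refine ⟨E, h1, h2, h3, ?_⟩
  rw [h2]
  exact even_iff_two_dvd.mp heven

end Cfsg.Agent.StdLThreeFour.OfStandard
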