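import Cfsg.Agent.StdLThreeFour.RFourU

/-!
# Standard `L3(4)`, case `|R| = 4`: `c₁ * c₂ = 1`

The conjugates `P₁ a`, `P₂ a` of the `n a` act on `T1/Z = F4⁴`. If `c₁ c₂ ≠ 1` a word in them fixes `R`
modulo `Z` but does not normalise `L`.
-/

set_option autoImplicit false
set_option linter.unusedVariables false
set_option linter.constructorNameAsVariable false
set_option linter.unusedSectionVars false
set_option linter.unusedSimpArgs false

namespace Cfsg.Agent.StdLThreeFour.RFourC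

open Cfsg.Agent.StdLThreeFour.Base Cfsg.Agent.StdLThreeFour.RFourDefs
open Cfsg.Agent.SporadicA.FieldFour
open Cfsg.Agent.ONType.Psl
open Cfsg.Agent.StdLThreeFour.RFourU

/-- coordinates `(x₀₁, x₁₂, r, n)` on `T1/Z` -/
abbrev Vec : Type := F4 × F4 × F4 × F4

variable {X : Type*} [Group X] {ι : L0 →* X} {r n : F4 → X} {c₁ c₂ : F4}

/-- `x` has coordinates `v` modulo `Z` -/
def Rep (ι : L0 →* X) (r n : F4 → X) (x : X) (v : Vec) : Prop :=
  ∃ z, x = ι (e v.1 v.2.1 z) * r v.2.2.1 * n v.2.2.2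

theorem add_eq_zero : ∀ a b : F4, a + b = 0 → a = b := by decide

section basic

variable (h : TOne ι r n 0)

include h

theorem r_zero : r 0 = 1 := by
  have := h.r_add 0 0
  rw [add_zero] at this
  exact left_eq_mul.mp this

theorem r_comm (a b : F4) : r a * r b = r b * r a := by
  rw [← h.r_add, ← h.r_add, add_comm]

theorem r_sq (a : F4) : r a * r a = 1 := by
  rw [← h.r_add, add_self, r_zero h]

theorem n_sq (a : F4) : n a * n a = 1 := by
  rw [h.nn_sq, zero_mul, t_zero, map_one]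

theorem n_inv (a : F4) : (n a)⁻¹ = n a := by
  rw [inv_eq_iff_mul_eq_one, n_sq h]

theorem r_inv (a : F4) : (r a)⁻¹ = r a := by
  rw [inv_eq_iff_mul_eq_one, r_sq h]

theorem t_sq (i j : Fin 3) (a : F4) (hij : i ≠ j) : ι (t i j a) * ι (t i j a) = 1 := by
  rw [← map_mul, t_add i j _ _ hij, add_self, t_zero, map_one]

theorem t_inv (i j : Fin 3) (a : F4) (hij : i ≠ j) : (ι (t i j a))⁻¹ = ι (t i j a) := by
  rw [inv_eq_iff_mul_eq_one, t_sq h i j a hij]

theorem nr (l m : F4) : n l * r m = r m * n l * ι (t 0 2 (l * m)) := by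
  have h1 := h.rn m l
  rw [h1, mul_assoc, t_sq h 0 2 _ (by decide), mul_one]

theorem n_e (l a b c : F4) : n l * ι (e a b c) = ι (e a b c) * n l :=
  (h.n_S l _ ⟨a, b, c, rfl⟩).eq

theorem n_t02 (l c : F4) : n l * ι (t 0 2 c) = ι (t 0 2 c) * n l := by
  rw [← e_02]; exact n_e h l _ _ _

theorem n_t01 (l c : F4) : n l * ι (t 0 1 c) = ι (t 0 1 c) * n l := by
  rw [← e_01]; exact n_e h l _ _ _

theorem n_t12 (l c : F4) : n l * ι (t 1 2 c) = ι (t 1 2 c) * n l := by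
  rw [← e_12]; exact n_e h l _ _ _

theorem rep_mul (hn : ∀ l l', n (l + l') = n l * n l') {x y : X} {v w : Vec}
    (hx : Rep ι r n x v) (hy : Rep ι r n y w) : Rep ι r n (x * y) (v + w) := by
  obtain ⟨a, b, c, d⟩ := v
  obtain ⟨a', b', c', d'⟩ := w
  obtain ⟨z, rfl⟩ := hx
  obtain ⟨z', rfl⟩ := hy
  refine ⟨a' * b + z + z' + d * c', ?_⟩
  simp only [Prod.mk_add_mk]
  have e1 : e (a + a') (b + b') (a' * b + z + z' + d * c') =
      e a b z * e a' b' z' * t 0 2 (d * c') := by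
    rw [e_mul, ← e_02, e_mul, add_zero, add_zero, zero_mul, zero_add]
  rw [e1, map_mul, map_mul, h.r_add, hn]
  have h1 : r c * ι (e a' b' z') = ι (e a' b' z') * r c := (h.r_L c _).eq
  have h2 := n_e h d a' b' z'
  have h3 := nr h d c'
  have h4 : ∀ u, ι (t 0 2 (d * c')) * r u = r u * ι (t 0 2 (d * c')) := fun u => (h.r_L u _).eq.symm
  have h5 : ∀ u, ι (t 0 2 (d * c')) * n u = n u * ι (t 0 2 (d * c')) := fun u => (n_t02 h u _).symm
  calc ι (e a b z) * r c * n d * (ι (e a' b' z') * r c' * n d')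
      = ι (e a b z) * r c * (n d * ι (e a' b' z')) * r c' * n d' := by group
    _ = ι (e a b z) * (r c * ι (e a' b' z')) * n d * r c' * n d' := by rw [h2]; group
    _ = ι (e a b z) * ι (e a' b' z') * r c * (n d * r c') * n d' := by rw [h1]; group
    _ = ι (e a b z) * ι (e a' b' z') * r c * r c' * n d * (ι (t 0 2 (d * c')) * n d') := by
        rw [h3]; group
    _ = ι (e a b z) * ι (e a' b' z') * (r c * r c') * (n d * n d') * ι (t 0 2 (d * c')) := by
        rw [h5]; group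
    _ = ι (e a b z) * ι (e a' b' z') * (r c * r c') * (n d * (n d' * ι (t 0 2 (d * c')))) := by
        group
    _ = ι (e a b z) * ι (e a' b' z') * (r c * r c') * (n d * ι (t 0 2 (d * c'))) * n d' := by
        rw [← h5]; group
    _ = ι (e a b z) * ι (e a' b' z') * (r c * (r c' * ι (t 0 2 (d * c')))) * n d * n d' := by
        rw [← h5]; group
    _ = ι (e a b z) * ι (e a' b' z') * (r c * ι (t 0 2 (d * c'))) * r c' * n d * n d' := by
        rw [← h4]; group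
    _ = _ := by rw [← h4]; group

theorem rep_t01 (hn0 : n 0 = 1) (u : F4) : Rep ι r n (ι (t 0 1 u)) (u, 0, 0, 0) :=
  ⟨0, by simp only; rw [e_01, r_zero h, hn0, mul_one, mul_one]⟩

theorem rep_t12 (hn0 : n 0 = 1) (u : F4) : Rep ι r n (ι (t 1 2 u)) (0, u, 0, 0) :=
  ⟨0, by simp only; rw [e_12, r_zero h, hn0, mul_one, mul_one]⟩

theorem rep_t02 (hn0 : n 0 = 1) (u : F4) : Rep ι r n (ι (t 0 2 u)) 0 :=
  ⟨u, by show _ = ι (e 0 0 u) * r 0 * n 0; rw [e_02, r_zero h, hn0, mul_one, mul_one]⟩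

theorem rep_r (hn0 : n 0 = 1) (u : F4) : Rep ι r n (r u) (0, 0, u, 0) :=
  ⟨0, by simp only; rw [e_zero, map_one, hn0, mul_one, one_mul]⟩

theorem rep_n (u : F4) : Rep ι r n (n u) (0, 0, 0, u) :=
  ⟨0, by simp only; rw [e_zero, map_one, r_zero h, one_mul, one_mul]⟩

theorem conj_rep (hn : ∀ l l', n (l + l') = n l * n l') {P : X} {f : Vec → Vec}
    (hadd : ∀ v w, f (v + w) = f v + f w)
    (h01 : ∀ u, Rep ι r n (P⁻¹ * ι (t 0 1 u) * P) (f (u, 0, 0, 0)))
    (h12 : ∀ u, Rep ι r n (P⁻¹ * ι (t 1 2 u) * P) (f (0, u, 0, 0)))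
    (h02 : ∀ u, Rep ι r n (P⁻¹ * ι (t 0 2 u) * P) 0)
    (hr : ∀ u, Rep ι r n (P⁻¹ * r u * P) (f (0, 0, u, 0)))
    (hn' : ∀ u, Rep ι r n (P⁻¹ * n u * P) (f (0, 0, 0, u)))
    {x : X} {v : Vec} (hx : Rep ι r n x v) : Rep ι r n (P⁻¹ * x * P) (f v) := by
  obtain ⟨a, b, c, d⟩ := v
  obtain ⟨z, rfl⟩ := hx
  simp only
  have h1 : P⁻¹ * (ι (e a b z) * r c * n d) * P =
      (P⁻¹ * ι (t 0 1 a) * P) * (P⁻¹ * ι (t 1 2 b) * P) * (P⁻¹ * ι (t 0 2 z) * P) *
        (P⁻¹ * r c * P) * (P⁻¹ * n d * P) := by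
    unfold e
    rw [map_mul, map_mul]
    group
  have h2 : f (a, b, c, d) = f (a, 0, 0, 0) + f (0, b, 0, 0) + 0 + f (0, 0, c, 0) + f (0, 0, 0, d) := by
    rw [add_zero, ← hadd, ← hadd, ← hadd]
    congr 1
    simp
  rw [h1, h2]
  exact rep_mul h hn (rep_mul h hn (rep_mul h hn (rep_mul h hn (h01 a) (h12 b)) (h02 z)) (hr c)) (hn' d)

end basic

/-- the elements `P₁ a` (`false`) and `P₂ a` (`true`) -/
def PP (ι : L0 →* X) (n : F4 → X) (s : Bool × F4) : X :=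
  if s.1 then ι (nn 0 1) * n s.2 * (ι (nn 0 1))⁻¹ else ι (nn 1 2) * n s.2 * (ι (nn 1 2))⁻¹

/-- their action on `T1/Z` -/
def ac (c₁ c₂ : F4) (s : Bool × F4) (v : Vec) : Vec :=
  if s.1 then
    (v.1, v.2.1 + s.2 * v.2.2.1 + c₂ * (s.2 * s.2) * v.2.2.2 + c₂ * (s.2 * s.2 * s.2) * v.1,
      v.2.2.1 + c₂ * (s.2 * s.2) * v.1, v.2.2.2 + s.2 * v.1)
  else
    (v.1 + s.2 * v.2.2.1 + c₁ * (s.2 * s.2) * v.2.2.2 + c₁ * (s.2 * s.2 * s.2) * v.2.1, v.2.1,
      v.2.2.1 + c₁ * (s.2 * s.2) * v.2.1, v.2.2.2 + s.2 * v.2.1)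

theorem ac_add (s : Bool × F4) (v w : Vec) : ac c₁ c₂ s (v + w) = ac c₁ c₂ s v + ac c₁ c₂ s w := by
  obtain ⟨b, u⟩ := s
  unfold ac
  cases b
  · simp only [Bool.false_eq_true, if_false]
    ext
    · simp only [Prod.fst_add, Prod.snd_add]; ring
    · simp only [Prod.fst_add, Prod.snd_add]
    · simp only [Prod.fst_add, Prod.snd_add]; ring
    · simp only [Prod.fst_add, Prod.snd_add]; ring
  · simp only [if_true]
    ext
    · simp only [Prod.fst_add, Prod.snd_add]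
    · simp only [Prod.fst_add, Prod.snd_add]; ring
    · simp only [Prod.fst_add, Prod.snd_add]; ring
    · simp only [Prod.fst_add, Prod.snd_add]; ring

/-- conjugation from a commutation -/
theorem conj_eq {P x y : X} (h : x * P = P * y) : P⁻¹ * x * P = y := by
  rw [mul_assoc, h, inv_mul_cancel_left]

section side

variable (h : TOne ι r n 0) (u : UOne ι r n c₁ c₂)

include h

theorem W1_r (m : F4) : ι (nn 1 2) * r m * (ι (nn 1 2))⁻¹ = r m := by
  rw [← (h.r_L m (nn 1 2)).eq, mul_inv_cancel_right]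

theorem W2_r (m : F4) : ι (nn 0 1) * r m * (ι (nn 0 1))⁻¹ = r m := by
  rw [← (h.r_L m (nn 0 1)).eq, mul_inv_cancel_right]

/-- transport of a commutation -/
theorem conj3 {w x p y x' y' : X} (hx : w * x * w⁻¹ = x') (hy : w * y * w⁻¹ = y')
    (hc : x * p = p * y) : x' * (w * p * w⁻¹) = (w * p * w⁻¹) * y' := by
  rw [← hx, ← hy]
  calc w * x * w⁻¹ * (w * p * w⁻¹) = w * (x * p) * w⁻¹ := by group
    _ = _ := by rw [hc]; group

theorem P1_r (a m : F4) : r m * (ι (nn 1 2) * n a * (ι (nn 1 2))⁻¹) =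
    (ι (nn 1 2) * n a * (ι (nn 1 2))⁻¹) * (r m * ι (t 0 1 (a * m))) := by
  refine conj3 h (W1_r h m) (y := r m * ι (t 0 2 (a * m))) ?_ ?_
  · rw [← mul_assoc, ← (h.r_L m (nn 1 2)).eq]
    have h1 : ι (nn 1 2) * ι (t 0 2 (a * m)) = ι (t 0 1 (a * m)) * ι (nn 1 2) := by
      rw [← map_mul, nn12_02, map_mul]
    rw [mul_assoc (r m), h1]; group
  · rw [h.rn, mul_assoc]

theorem P2_r (a m : F4) : r m * (ι (nn 0 1) * n a * (ι (nn 0 1))⁻¹) =
    (ι (nn 0 1) * n a * (ι (nn 0 1))⁻¹) * (r m * ι (t 1 2 (a * m))) := by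
  refine conj3 h (W2_r h m) (y := r m * ι (t 0 2 (a * m))) ?_ ?_
  · rw [← mul_assoc, ← (h.r_L m (nn 0 1)).eq]
    have h1 : ι (nn 0 1) * ι (t 0 2 (a * m)) = ι (t 1 2 (a * m)) * ι (nn 0 1) := by
      rw [← map_mul, nn01_02, map_mul]
    rw [mul_assoc (r m), h1]; group
  · rw [h.rn, mul_assoc]

theorem P1_01 (a c : F4) : ι (t 0 1 c) * (ι (nn 1 2) * n a * (ι (nn 1 2))⁻¹) =
    (ι (nn 1 2) * n a * (ι (nn 1 2))⁻¹) * ι (t 0 1 c) := by
  have h1 : ι (nn 1 2) * ι (t 0 2 c) * (ι (nn 1 2))⁻¹ = ι (t 0 1 c) := by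
    rw [← map_mul, nn12_02, map_mul, mul_inv_cancel_right]
  exact conj3 h h1 h1 (n_t02 h a c).symm

theorem P1_02 (a c : F4) : ι (t 0 2 c) * (ι (nn 1 2) * n a * (ι (nn 1 2))⁻¹) =
    (ι (nn 1 2) * n a * (ι (nn 1 2))⁻¹) * ι (t 0 2 c) := by
  have h1 : ι (nn 1 2) * ι (t 0 1 c) * (ι (nn 1 2))⁻¹ = ι (t 0 2 c) := by
    rw [← map_mul, nn12_01, map_mul, mul_inv_cancel_right]
  exact conj3 h h1 h1 (n_t01 h a c).symm

theorem P2_12 (a c : F4) : ι (t 1 2 c) * (ι (nn 0 1) * n a * (ι (nn 0 1))⁻¹) =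
    (ι (nn 0 1) * n a * (ι (nn 0 1))⁻¹) * ι (t 1 2 c) := by
  have h1 : ι (nn 0 1) * ι (t 0 2 c) * (ι (nn 0 1))⁻¹ = ι (t 1 2 c) := by
    rw [← map_mul, nn01_02, map_mul, mul_inv_cancel_right]
  exact conj3 h h1 h1 (n_t02 h a c).symm

theorem P2_02 (a c : F4) : ι (t 0 2 c) * (ι (nn 0 1) * n a * (ι (nn 0 1))⁻¹) =
    (ι (nn 0 1) * n a * (ι (nn 0 1))⁻¹) * ι (t 0 2 c) := by
  have h1 : ι (nn 0 1) * ι (t 1 2 c) * (ι (nn 0 1))⁻¹ = ι (t 0 2 c) := by
    rw [← map_mul, nn01_12, map_mul, mul_inv_cancel_right]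
  exact conj3 h h1 h1 (n_t12 h a c).symm

include u

theorem P1_12 (a b : F4) : ι (t 1 2 b) * (ι (nn 1 2) * n a * (ι (nn 1 2))⁻¹) =
    (ι (nn 1 2) * n a * (ι (nn 1 2))⁻¹) * (n (a * b) * r (c₁ * (a * a * b)) *
      ι (t 0 1 (c₁ * (a * a * a * b))) * ι (t 1 2 b)) := by
  have := u.u₁ a b
  rw [mul_inv_eq_iff_eq_mul] at this
  rw [this]; group

theorem P2_01 (a b : F4) : ι (t 0 1 b) * (ι (nn 0 1) * n a * (ι (nn 0 1))⁻¹) =
    (ι (nn 0 1) * n a * (ι (nn 0 1))⁻¹) * (n (a * b) * r (c₂ * (a * a * b)) *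
      ι (t 1 2 (c₂ * (a * a * a * b))) * ι (t 0 1 b)) := by
  have := u.u₂ a b
  rw [mul_inv_eq_iff_eq_mul] at this
  rw [this]; group

theorem rep_PP (s : Bool × F4) {x : X} {v : Vec} (hx : Rep ι r n x v) :
    Rep ι r n ((PP ι n s)⁻¹ * x * PP ι n s) (ac c₁ c₂ s v) := by
  have hn := u.n_add
  have hn0 := h.n_zero
  obtain ⟨b, a⟩ := s
  refine conj_rep h hn (fun v w => ac_add (b, a) v w) ?_ ?_ ?_ ?_ ?_ hx
  · intro c
    cases b
    · have h1 : (PP ι n (false, a))⁻¹ * ι (t 0 1 c) * PP ι n (false, a) = ι (t 0 1 c) :=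
        conj_eq (P1_01 h a c)
      rw [h1]
      have h2 : ac c₁ c₂ (false, a) (c, 0, 0, 0) = (c, 0, 0, 0) := by unfold ac; simp
      rw [h2]
      exact rep_t01 h hn0 c
    · have h1 : (PP ι n (true, a))⁻¹ * ι (t 0 1 c) * PP ι n (true, a) = _ :=
        conj_eq (P2_01 h u a c)
      rw [h1]
      have h2 : ac c₁ c₂ (true, a) (c, 0, 0, 0) =
          (0, 0, 0, a * c) + (0, 0, c₂ * (a * a * c), 0) + (0, c₂ * (a * a * a * c), 0, 0) +
            (c, 0, 0, 0) := by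
        unfold ac; ext
        · simp
        · simp; ring
        · simp; ring
        · simp
      rw [h2]
      exact rep_mul h hn (rep_mul h hn (rep_mul h hn (rep_n h _) (rep_r h hn0 _)) (rep_t12 h hn0 _))
        (rep_t01 h hn0 _)
  · intro c
    cases b
    · have h1 : (PP ι n (false, a))⁻¹ * ι (t 1 2 c) * PP ι n (false, a) = _ :=
        conj_eq (P1_12 h u a c)
      rw [h1]
      have h2 : ac c₁ c₂ (false, a) (0, c, 0, 0) =
          (0, 0, 0, a * c) + (0, 0, c₁ * (a * a * c), 0) + (c₁ * (a * a * a * c), 0, 0, 0) +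
            (0, c, 0, 0) := by
        unfold ac; ext
        · simp; ring
        · simp
        · simp; ring
        · simp
      rw [h2]
      exact rep_mul h hn (rep_mul h hn (rep_mul h hn (rep_n h _) (rep_r h hn0 _)) (rep_t01 h hn0 _))
        (rep_t12 h hn0 _)
    · have h1 : (PP ι n (true, a))⁻¹ * ι (t 1 2 c) * PP ι n (true, a) = ι (t 1 2 c) :=
        conj_eq (P2_12 h a c)
      rw [h1]
      have h2 : ac c₁ c₂ (true, a) (0, c, 0, 0) = (0, c, 0, 0) := by unfold ac; simp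
      rw [h2]
      exact rep_t12 h hn0 c
  · intro c
    cases b
    · have h1 : (PP ι n (false, a))⁻¹ * ι (t 0 2 c) * PP ι n (false, a) = ι (t 0 2 c) :=
        conj_eq (P1_02 h a c)
      rw [h1]
      exact rep_t02 h hn0 c
    · have h1 : (PP ι n (true, a))⁻¹ * ι (t 0 2 c) * PP ι n (true, a) = ι (t 0 2 c) :=
        conj_eq (P2_02 h a c)
      rw [h1]
      exact rep_t02 h hn0 c
  · intro c
    cases b
    · have h1 : (PP ι n (false, a))⁻¹ * r c * PP ι n (false, a) = _ := conj_eq (P1_r h a c)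
      rw [h1]
      have h2 : ac c₁ c₂ (false, a) (0, 0, c, 0) = (0, 0, c, 0) + (a * c, 0, 0, 0) := by
        unfold ac; ext <;> simp
      rw [h2]
      exact rep_mul h hn (rep_r h hn0 _) (rep_t01 h hn0 _)
    · have h1 : (PP ι n (true, a))⁻¹ * r c * PP ι n (true, a) = _ := conj_eq (P2_r h a c)
      rw [h1]
      have h2 : ac c₁ c₂ (true, a) (0, 0, c, 0) = (0, 0, c, 0) + (0, a * c, 0, 0) := by
        unfold ac; ext <;> simp
      rw [h2]
      exact rep_mul h hn (rep_r h hn0 _) (rep_t12 h hn0 _)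
  · intro c
    cases b
    · have h0 := u.np₁ c a
      have h1 : (PP ι n (false, a))⁻¹ * n c * PP ι n (false, a) =
          n c * ι (t 0 1 (c₁ * (c * a * a))) * ι (t 0 2 (c₁ * (c * c * a))) :=
        conj_eq (by rw [show PP ι n (false, a) = ι (nn 1 2) * n a * (ι (nn 1 2))⁻¹ from rfl, h0]; group)
      rw [h1]
      have h2 : ac c₁ c₂ (false, a) (0, 0, 0, c) = (0, 0, 0, c) + (c₁ * (c * a * a), 0, 0, 0) + 0 := by
        unfold ac; ext
        · simp; ring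
        · simp
        · simp
        · simp
      rw [h2]
      exact rep_mul h hn (rep_mul h hn (rep_n h _) (rep_t01 h hn0 _)) (rep_t02 h hn0 _)
    · have h0 := u.np₂ c a
      have h1 : (PP ι n (true, a))⁻¹ * n c * PP ι n (true, a) =
          n c * ι (t 1 2 (c₂ * (c * a * a))) * ι (t 0 2 (c₂ * (c * c * a))) :=
        conj_eq (by rw [show PP ι n (true, a) = ι (nn 0 1) * n a * (ι (nn 0 1))⁻¹ from rfl, h0]; group)
      rw [h1]
      have h2 : ac c₁ c₂ (true, a) (0, 0, 0, c) = (0, 0, 0, c) + (0, c₂ * (c * a * a), 0, 0) + 0 := by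
        unfold ac; ext
        · simp
        · simp; ring
        · simp
        · simp
      rw [h2]
      exact rep_mul h hn (rep_mul h hn (rep_n h _) (rep_t12 h hn0 _)) (rep_t02 h hn0 _)

end side

/-- the word -/
def gW (ι : L0 →* X) (n : F4 → X) (w : List (Bool × F4)) : X := (w.map (PP ι n)).prod

/-- its action -/
def acW (c₁ c₂ : F4) (w : List (Bool × F4)) (v : Vec) : Vec := w.foldl (fun v s => ac c₁ c₂ s v) v

theorem rep_word (h : TOne ι r n 0) (u : UOne ι r n c₁ c₂) (w : List (Bool × F4)) :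
    ∀ {x : X} {v : Vec}, Rep ι r n x v →
      Rep ι r n ((gW ι n w)⁻¹ * x * gW ι n w) (acW c₁ c₂ w v) := by
  induction w with
  | nil =>
    intro x v hx
    simpa [gW, acW] using hx
  | cons s w ih =>
    intro x v hx
    have h1 := ih (rep_PP h u s hx)
    have h2 : (gW ι n (s :: w))⁻¹ * x * gW ι n (s :: w) =
        (gW ι n w)⁻¹ * ((PP ι n s)⁻¹ * x * PP ι n s) * gW ι n w := by
      have : gW ι n (s :: w) = PP ι n s * gW ι n w := by simp [gW]
      rw [this]; group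
    rw [h2]
    exact h1

/-- an element fixing `R` modulo `Z` maps `L ∩ T1` into `L Z` -/
theorem kill (h : TOne ι r n 0) {g : X}
    (hR : ∀ m, Rep ι r n (g⁻¹ * r m * g) (0, 0, m, 0)) {s : L0} {a b c d : F4}
    (hs : Rep ι r n (g⁻¹ * ι s * g) (a, b, c, d)) : c = 0 ∧ d = 0 := by
  choose f hf using hR
  simp only [h.n_zero, mul_one, e_02] at hf
  have hf' : ∀ m, g⁻¹ * r m * (g⁻¹)⁻¹ = r m * ι (t 0 2 (f m)) := fun m => by
    rw [inv_inv, hf m]; exact ((h.r_L m _).eq).symm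
  obtain ⟨l, hl⟩ := h.ti _ f hf'
  have hc : ∀ m, Commute (n l * g⁻¹) (r m) := fun m => by
    have h1 : g⁻¹ * r m = r m * ι (t 0 2 (f m)) * g⁻¹ := by
      rw [← hf' m]; group
    show n l * g⁻¹ * r m = r m * (n l * g⁻¹)
    calc n l * g⁻¹ * r m = n l * (g⁻¹ * r m) := by group
      _ = (n l * r m) * ι (t 0 2 (f m)) * g⁻¹ := by rw [h1]; group
      _ = r m * n l * (ι (t 0 2 (l * m)) * ι (t 0 2 (l * m))) * g⁻¹ := by
          rw [nr h, hl m]; group
      _ = _ := by rw [t_sq h 0 2 _ (by decide)]; group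
  obtain ⟨y, hy⟩ := h.norm_L _ hc s
  obtain ⟨z, hz⟩ := hs
  simp only at hz
  have h1 : n l * g⁻¹ * ι s * (n l * g⁻¹)⁻¹ = n l * (g⁻¹ * ι s * g) * (n l)⁻¹ := by group
  rw [h1, hz] at hy
  -- r c * n d ∈ L
  have h2 : r c * n d = ι ((e a b z)⁻¹ * y * (t 0 2 (l * c))⁻¹) := by
    have h3 : n l * (ι (e a b z) * r c * n d) * (n l)⁻¹ =
        ι (e a b z) * (r c * n d) * ι (t 0 2 (l * c)) := by
      have a1 := n_e h l a b z
      have a2 := nr h l c
      have a3 := n_t02 h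
      have a4 := (h.n_comm l d).eq
      calc n l * (ι (e a b z) * r c * n d) * (n l)⁻¹
          = (n l * ι (e a b z)) * r c * n d * (n l)⁻¹ := by group
        _ = ι (e a b z) * (n l * r c) * n d * (n l)⁻¹ := by rw [a1]; group
        _ = ι (e a b z) * r c * n l * (ι (t 0 2 (l * c)) * n d) * (n l)⁻¹ := by rw [a2]; group
        _ = ι (e a b z) * r c * (n l * n d) * ι (t 0 2 (l * c)) * (n l)⁻¹ := by rw [← a3]; group
        _ = ι (e a b z) * r c * n d * (n l * ι (t 0 2 (l * c))) * (n l)⁻¹ := by rw [a4]; group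
        _ = _ := by rw [a3]; group
    rw [h3] at hy
    rw [map_mul, map_mul, map_inv, map_inv, ← hy]
    group
  have hd : d = 0 := by
    have h3 : r 1 * (r c * n d) = (r c * n d) * r 1 := by
      rw [h2]; exact (h.r_L 1 _).eq
    have h4 : r 1 * (r c * n d) = (r c * n d) * r 1 * ι (t 0 2 (d * 1)) := by
      calc r 1 * (r c * n d) = (r 1 * r c) * n d := by group
        _ = r c * (r 1 * n d) := by rw [r_comm h]; group
        _ = _ := by rw [h.rn]; group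
    rw [h3] at h4
    have h5 : ι (t 0 2 (d * 1)) = ι 1 := by rw [map_one]; exact (left_eq_mul.mp h4)
    have h6 := h.inj h5
    rw [← e_02, mul_one] at h6
    exact (Facts1.e_one h6).2.2
  subst hd
  rw [h.n_zero, mul_one] at h2
  exact ⟨h.r_notL _ _ h2, rfl⟩

/-- the words used -/
def wd : F4 → F4 → List (Bool × F4)
  | .z, c => [(false, 1), (true, c), (false, 1), (true, c), (false, 1)]
  | c, .z => [(true, 1), (false, c), (true, 1), (false, c), (true, 1)]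
  | .o, .w => [(false, .o), (true, .o), (false, .w), (true, .v)]
  | .o, .v => [(false, .o), (true, .o), (false, .v), (true, .w)]
  | .w, .o => [(false, .o), (true, .v), (false, .w), (true, .w)]
  | .w, .w => [(false, .o), (true, .v), (false, .v), (true, .o)]
  | .v, .o => [(false, .o), (true, .w), (false, .v), (true, .v)]
  | .v, .v => [(false, .o), (true, .w), (false, .w), (true, .o)]
  | _, _ => []

theorem wd_spec : ∀ c₁ c₂ : F4, c₁ * c₂ = 1 ∨ (c₁ = 0 ∧ c₂ = 0) ∨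
    ((∀ m, acW c₁ c₂ (wd c₁ c₂) (0, 0, m, 0) = (0, 0, m, 0)) ∧
      (¬ ((acW c₁ c₂ (wd c₁ c₂) (1, 0, 0, 0)).2.2.1 = 0 ∧
        (acW c₁ c₂ (wd c₁ c₂) (1, 0, 0, 0)).2.2.2 = 0) ∨
       ¬ ((acW c₁ c₂ (wd c₁ c₂) (0, 1, 0, 0)).2.2.1 = 0 ∧
        (acW c₁ c₂ (wd c₁ c₂) (0, 1, 0, 0)).2.2.2 = 0))) := by
  decide +kernel

/-- the case `c₁ = c₂ = 0` -/
theorem not_zero (h : TOne ι r n 0) (u : UOne ι r n 0 0) : False := by
  have hn := u.n_add
  set P := ι (nn 1 2) * n 1 * (ι (nn 1 2))⁻¹ with hP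
  set Q := ι (nn 0 1) * n 1 * (ι (nn 0 1))⁻¹ with hQ
  have p1 : ∀ m, r m * P = P * (r m * ι (t 0 1 m)) := fun m => by
    have := P1_r h 1 m; rwa [one_mul] at this
  have q1 : ∀ m, r m * Q = Q * (r m * ι (t 1 2 m)) := fun m => by
    have := P2_r h 1 m; rwa [one_mul] at this
  have p2 : ∀ m, ι (t 1 2 m) * P = P * (n m * ι (t 1 2 m)) := fun m => by
    have := P1_12 h u 1 m
    rw [zero_mul, zero_mul, r_zero h, t_zero, map_one, mul_one, mul_one, one_mul] at this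
    exact this
  have q2 : ∀ m, ι (t 0 1 m) * Q = Q * (n m * ι (t 0 1 m)) := fun m => by
    have := P2_01 h u 1 m
    rw [zero_mul, zero_mul, r_zero h, t_zero, map_one, mul_one, mul_one, one_mul] at this
    exact this
  have p3 : ∀ m, ι (t 0 1 m) * P = P * ι (t 0 1 m) := fun m => P1_01 h 1 m
  have q3 : ∀ m, ι (t 1 2 m) * Q = Q * ι (t 1 2 m) := fun m => P2_12 h 1 m
  have q4 : ∀ m, ι (t 0 2 m) * Q = Q * ι (t 0 2 m) := fun m => P2_02 h 1 m
  have p5 : ∀ m, n m * P = P * n m := fun m => by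
    have := u.np₁ m 1
    rw [zero_mul, zero_mul, t_zero, t_zero, map_one, mul_one, mul_one] at this
    exact this
  have sw : ∀ m, ι (t 1 2 m) * ι (t 0 1 m) = ι (t 0 1 m) * ι (t 1 2 m) * ι (t 0 2 (m * m)) := fun m => by
    rw [← map_mul, swap, map_mul, map_mul]
  have k1 : ∀ m, r m * (P * Q * P * Q) = (P * Q * P * Q) * (r m * ι (t 0 2 (m * m))) := fun m => by
    have nt := n_t12 h m m
    calc r m * (P * Q * P * Q) = (r m * P) * Q * P * Q := by group
      _ = P * r m * (ι (t 0 1 m) * Q) * P * Q := by rw [p1]; group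
      _ = P * (r m * Q) * n m * ι (t 0 1 m) * P * Q := by rw [q2]; group
      _ = P * Q * r m * ι (t 1 2 m) * n m * (ι (t 0 1 m) * P) * Q := by rw [q1]; group
      _ = P * Q * r m * ι (t 1 2 m) * (n m * P) * ι (t 0 1 m) * Q := by rw [p3]; group
      _ = P * Q * r m * (ι (t 1 2 m) * P) * n m * ι (t 0 1 m) * Q := by rw [p5]; group
      _ = P * Q * (r m * P) * n m * (ι (t 1 2 m) * n m) * ι (t 0 1 m) * Q := by rw [p2]; group
      _ = P * Q * (r m * P) * (n m * n m) * (ι (t 1 2 m) * ι (t 0 1 m)) * Q := by rw [← nt]; group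
      _ = P * Q * P * r m * (ι (t 0 1 m) * ι (t 0 1 m)) * ι (t 1 2 m) * (ι (t 0 2 (m * m)) * Q) := by
          rw [n_sq h, p1, sw]; group
      _ = P * Q * P * r m * (ι (t 1 2 m) * Q) * ι (t 0 2 (m * m)) := by
          rw [t_sq h 0 1 _ (by decide), q4]; group
      _ = P * Q * P * (r m * Q) * ι (t 1 2 m) * ι (t 0 2 (m * m)) := by rw [q3]; group
      _ = P * Q * P * Q * r m * (ι (t 1 2 m) * ι (t 1 2 m)) * ι (t 0 2 (m * m)) := by
          rw [q1]; group
      _ = _ := by rw [t_sq h 1 2 _ (by decide)]; group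
  obtain ⟨l, hl⟩ := h.ti (P * Q * P * Q)⁻¹ (fun m => m * m) (fun m => by
    rw [inv_inv, mul_assoc, k1 m, inv_mul_cancel_left])
  have : ∀ l : F4, ¬ ∀ m, m * m = l * m := by decide
  exact this l hl

/-- **[C]**: `c₁ * c₂ = 1` -/
theorem mul_eq_one (h : TOne ι r n 0) (u : UOne ι r n c₁ c₂) : c₁ * c₂ = 1 := by
  rcases wd_spec c₁ c₂ with h1 | ⟨h1, h2⟩ | ⟨h1, h2⟩
  · exact h1
  · subst h1; subst h2
    exact (not_zero h u).elim
  · exfalso
    have hR : ∀ m, Rep ι r n ((gW ι n (wd c₁ c₂))⁻¹ * r m * gW ι n (wd c₁ c₂)) (0, 0, m, 0) :=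
      fun m => by
        have := rep_word h u (wd c₁ c₂) (rep_r h h.n_zero m)
        rwa [h1 m] at this
    rcases h2 with h2 | h2
    · exact h2 (kill h hR (rep_word h u (wd c₁ c₂) (rep_t01 h h.n_zero 1)))
    · exact h2 (kill h hR (rep_word h u (wd c₁ c₂) (rep_t12 h h.n_zero 1)))

end Cfsg.Agent.StdLThreeFour.RFourC
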