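import Cfsg.Agent.StdLThreeFour.RFourC

/-!
# Standard `L3(4)`, case `|R| = 4`: normalisation of the constants `c₁, c₂`

`δ β` is the automorphism of `PSL(3,4)` induced by `diag(β, β, 1)`: `x₀₁(u) ↦ x₀₁(u)`,
`x₁₂(u) ↦ x₁₂(β u)`, `x₀₂(u) ↦ x₀₂(β u)`. Replacing `ι` by `ι ∘ δ β` and `r m` by `r (β m)` changes
`(c₁, c₂)` into `(β c₁, β⁻¹ c₂)`.
-/

set_option autoImplicit false
set_option linter.unusedVariables false
set_option linter.constructorNameAsVariable false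
set_option linter.unusedSectionVars false
set_option linter.unusedSimpArgs false

namespace Cfsg.Agent.StdLThreeFour.RFourNorm

open Matrix
open Cfsg.Agent.StdLThreeFour.Base Cfsg.Agent.StdLThreeFour.RFourDefs
open Cfsg.Agent.SporadicA.FieldFour
open Cfsg.Agent.ONType.Psl
open Cfsg.Agent.StdLThreeFour.RFourU Cfsg.Agent.StdLThreeFour.RFourC

/-- diagonal entries -/
def dl (β : F4) (i : Fin 3) : F4 := if i = 2 then 1 else β

/-- conjugation by `diag(β, β, 1)` -/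
def cm (β : F4) (A : Matrix (Fin 3) (Fin 3) F4) : Matrix (Fin 3) (Fin 3) F4 :=
  Matrix.diagonal (dl β) * A * Matrix.diagonal (dl β⁻¹)

theorem dd_one (β : F4) (hβ : β ≠ 0) : Matrix.diagonal (dl β⁻¹) * Matrix.diagonal (dl β) = 1 := by
  revert hβ; revert β; decide +kernel

theorem dd_one' (β : F4) (hβ : β ≠ 0) : Matrix.diagonal (dl β) * Matrix.diagonal (dl β⁻¹) = 1 := by
  revert hβ; revert β; decide +kernel

theorem cm_mul (β : F4) (hβ : β ≠ 0) (A B : Matrix (Fin 3) (Fin 3) F4) :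
    cm β (A * B) = cm β A * cm β B := by
  unfold cm
  calc diagonal (dl β) * (A * B) * diagonal (dl β⁻¹)
      = diagonal (dl β) * A * 1 * B * diagonal (dl β⁻¹) := by
        rw [mul_one]; simp only [mul_assoc]
    _ = _ := by rw [← dd_one β hβ]; simp only [mul_assoc]

theorem cm_det (β : F4) (hβ : β ≠ 0) (A : Matrix (Fin 3) (Fin 3) F4) : (cm β A).det = A.det := by
  unfold cm
  rw [det_mul, det_mul, mul_comm _ A.det, mul_assoc, ← det_mul, dd_one' β hβ, det_one, mul_one]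

/-- conjugation on `SL` -/
def cS (β : F4) (hβ : β ≠ 0) : SL3 →* SL3 where
  toFun A := ⟨cm β A.1, by rw [cm_det β hβ]; exact A.2⟩
  map_one' := by
    apply Subtype.ext
    show cm β 1 = 1
    unfold cm
    rw [mul_one, dd_one' β hβ]
  map_mul' A B := by
    apply Subtype.ext
    exact cm_mul β hβ A.1 B.1

theorem cm_scalar (β : F4) (hβ : β ≠ 0) (s : F4) :
    cm β (Matrix.scalar (Fin 3) s) = Matrix.scalar (Fin 3) s := by
  unfold cm
  rw [← (Matrix.scalar_commute s (fun r' => mul_comm _ _) (diagonal (dl β))).eq, mul_assoc,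
    dd_one' β hβ, mul_one]

theorem cS_center (β : F4) (hβ : β ≠ 0) :
    Subgroup.center SL3 ≤ (Subgroup.center SL3).comap (cS β hβ) := by
  intro A hA
  rw [Matrix.SpecialLinearGroup.mem_center_iff] at hA
  obtain ⟨s, hs, hsA⟩ := hA
  rw [Subgroup.mem_comap, Matrix.SpecialLinearGroup.mem_center_iff]
  refine ⟨s, hs, ?_⟩
  show Matrix.scalar (Fin 3) s = cm β A.1
  rw [show A.1 = Matrix.scalar (Fin 3) s from hsA.symm, cm_scalar β hβ]

/-- the automorphism of `PSL` induced by `diag(β, β, 1)` -/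
def δ (β : F4) (hβ : β ≠ 0) : L0 →* L0 :=
  QuotientGroup.map (Subgroup.center SL3) (Subgroup.center SL3) (cS β hβ) (cS_center β hβ)

theorem δ_mk (β : F4) (hβ : β ≠ 0) (A : SL3) :
    δ β hβ (QuotientGroup.mk A : PSL3) = QuotientGroup.mk (cS β hβ A) := rfl

theorem δ_t (β : F4) (hβ : β ≠ 0) (i j : Fin 3) (u : F4) (h : i ≠ j) :
    δ β hβ (t i j u) = t i j (dl β i * u * dl β⁻¹ j) := by
  have h1 : cS β hβ (T i j u) = T i j (dl β i * u * dl β⁻¹ j) := by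
    apply Subtype.ext
    show Matrix.diagonal (dl β) * tm i j u * Matrix.diagonal (dl β⁻¹) =
      tm i j (dl β i * u * dl β⁻¹ j)
    revert h hβ
    revert β i j u
    decide +kernel
  show QuotientGroup.mk (cS β hβ (T i j u)) = QuotientGroup.mk (T i j (dl β i * u * dl β⁻¹ j))
  rw [h1]

theorem δ_01 (β : F4) (hβ : β ≠ 0) (u : F4) : δ β hβ (t 0 1 u) = t 0 1 u := by
  rw [δ_t β hβ 0 1 u (by decide)]
  congr 1
  revert hβ; revert β u; decide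

theorem δ_12 (β : F4) (hβ : β ≠ 0) (u : F4) : δ β hβ (t 1 2 u) = t 1 2 (β * u) := by
  rw [δ_t β hβ 1 2 u (by decide)]
  congr 1
  revert hβ; revert β u; decide

theorem δ_02 (β : F4) (hβ : β ≠ 0) (u : F4) : δ β hβ (t 0 2 u) = t 0 2 (β * u) := by
  rw [δ_t β hβ 0 2 u (by decide)]
  congr 1
  revert hβ; revert β u; decide

theorem δ_e (β : F4) (hβ : β ≠ 0) (a b c : F4) : δ β hβ (e a b c) = e a (β * b) (β * c) := by
  unfold e
  rw [map_mul, map_mul, δ_01, δ_12, δ_02]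

theorem δ_hh (β : F4) (hβ : β ≠ 0) : δ β hβ hh = hh := by
  have h1 : cS β hβ H = H := by
    apply Subtype.ext
    show Matrix.diagonal (dl β) * hm * Matrix.diagonal (dl β⁻¹) = hm
    revert hβ
    revert β
    decide +kernel
  show QuotientGroup.mk (cS β hβ H) = QuotientGroup.mk H
  rw [h1]

theorem δ_nn01 (β : F4) (hβ : β ≠ 0) : δ β hβ (nn 0 1) = nn 0 1 := by
  unfold nn
  rw [map_mul, map_mul, δ_01, δ_t β hβ 1 0 _ (by decide)]
  have : dl β 1 * 1 * dl β⁻¹ 0 = 1 := by revert hβ; revert β; decide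
  rw [this]

theorem δ_nn12_w (h : (ω : F4) ≠ 0) : δ ω h (nn 1 2) = nn 1 2 * (hh * hh) := by
  have h1 : cS ω h (N 1 2) = N 1 2 * (H * H) := by
    apply Subtype.ext
    show Matrix.diagonal (dl ω) * (tm 1 2 1 * tm 2 1 1 * tm 1 2 1) * Matrix.diagonal (dl ω⁻¹) =
      (tm 1 2 1 * tm 2 1 1 * tm 1 2 1) * (hm * hm)
    decide +kernel
  show QuotientGroup.mk (cS ω h (N 1 2)) = QuotientGroup.mk (N 1 2 * (H * H))
  rw [h1]

theorem δ_nn12_v (h : (ω2 : F4) ≠ 0) : δ ω2 h (nn 1 2) = nn 1 2 * hh := by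
  have h1 : cS ω2 h (N 1 2) = N 1 2 * H := by
    apply Subtype.ext
    show Matrix.diagonal (dl ω2) * (tm 1 2 1 * tm 2 1 1 * tm 1 2 1) * Matrix.diagonal (dl ω2⁻¹) =
      (tm 1 2 1 * tm 2 1 1 * tm 1 2 1) * hm
    decide +kernel
  show QuotientGroup.mk (cS ω2 h (N 1 2)) = QuotientGroup.mk (N 1 2 * H)
  rw [h1]

theorem cm_cm (β : F4) (hβ : β ≠ 0) (A : Matrix (Fin 3) (Fin 3) F4) : cm β⁻¹ (cm β A) = A := by
  unfold cm
  rw [inv_inv]
  calc diagonal (dl β⁻¹) * (diagonal (dl β) * A * diagonal (dl β⁻¹)) * diagonal (dl β)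
      = (diagonal (dl β⁻¹) * diagonal (dl β)) * A * (diagonal (dl β⁻¹) * diagonal (dl β)) := by
        simp only [mul_assoc]
    _ = A := by rw [dd_one β hβ, one_mul, mul_one]

theorem δδ (β : F4) (hβ : β ≠ 0) (hβ' : β⁻¹ ≠ 0) (y : L0) : δ β⁻¹ hβ' (δ β hβ y) = y := by
  obtain ⟨A, rfl⟩ := QuotientGroup.mk_surjective y
  rw [δ_mk, δ_mk]
  congr 1
  apply Subtype.ext
  exact cm_cm β hβ A.1

theorem δ_inj (β : F4) (hβ : β ≠ 0) : Function.Injective (δ β hβ) := by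
  intro x y h
  rw [← δδ β hβ (inv_ne_zero hβ) x, h, δδ]

theorem δ_surj (β : F4) (hβ : β ≠ 0) (y : L0) : ∃ x, δ β hβ x = y := by
  have h1 : (β⁻¹)⁻¹ ≠ 0 := by rw [inv_inv]; exact hβ
  refine ⟨δ β⁻¹ (inv_ne_zero hβ) y, ?_⟩
  have h2 := δδ β⁻¹ (inv_ne_zero hβ) h1 y
  have h3 : ∀ (γ : F4) (hγ : γ ≠ 0) (z : L0), γ = β → δ γ hγ z = δ β hβ z := by
    rintro γ hγ z rfl; rfl
  rw [← h3 _ h1 _ (inv_inv β)]
  exact h2

theorem δ_A (β : F4) (hβ : β ≠ 0) (j : Bool) {a : L0} (ha : a ∈ A j) : δ β hβ a ∈ A j := by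
  cases j
  · obtain ⟨u, c, rfl⟩ := ha
    refine ⟨u, β * c, ?_⟩
    simp only [Bool.false_eq_true, if_false]
    rw [δ_e, mul_zero]
  · obtain ⟨u, c, rfl⟩ := ha
    refine ⟨β * u, β * c, ?_⟩
    simp only [if_true]
    rw [δ_e]

theorem δ_A' (β : F4) (hβ : β ≠ 0) (j : Bool) {a : L0} (ha : a ∈ A j) :
    ∃ a' ∈ A j, δ β hβ a' = a := by
  have e1 : β * (β⁻¹ * 1) = 1 := by rw [mul_one]; exact mul_inv_cancel₀ hβ
  have e2 : ∀ c, β * (β⁻¹ * c) = c := fun c => by rw [mul_inv_cancel_left₀ hβ]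
  cases j
  · obtain ⟨u, c, rfl⟩ := ha
    refine ⟨e u 0 (β⁻¹ * c), ⟨u, _, rfl⟩, ?_⟩
    simp only [Bool.false_eq_true, if_false]
    rw [δ_e, mul_zero, e2]
  · obtain ⟨u, c, rfl⟩ := ha
    refine ⟨e 0 (β⁻¹ * u) (β⁻¹ * c), ⟨_, _, rfl⟩, ?_⟩
    simp only [if_true]
    rw [δ_e, e2, e2]

theorem δ_S (β : F4) (hβ : β ≠ 0) {a : L0} (ha : a ∈ S0) : δ β hβ a ∈ S0 := by
  obtain ⟨a, b, c, rfl⟩ := ha
  exact ⟨_, _, _, δ_e β hβ a b c⟩

theorem δ_S' (β : F4) (hβ : β ≠ 0) {a : L0} (ha : a ∈ S0) : ∃ a' ∈ S0, δ β hβ a' = a := by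
  have e2 : ∀ c, β * (β⁻¹ * c) = c := fun c => by rw [mul_inv_cancel_left₀ hβ]
  obtain ⟨a, b, c, rfl⟩ := ha
  refine ⟨e a (β⁻¹ * b) (β⁻¹ * c), ⟨_, _, _, rfl⟩, ?_⟩
  rw [δ_e, e2, e2]

variable {X : Type*} [Group X] {ι : L0 →* X} {r n : F4 → X} {c₁ c₂ : F4}

theorem tone (h : TOne ι r n 0) (β : F4) (hβ : β ≠ 0) :
    TOne (ι.comp (δ β hβ)) (fun m => r (β * m)) n 0 where
  inj := h.inj.comp (δ_inj β hβ)
  r_add a b := by rw [mul_add, h.r_add]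
  r_L m y := h.r_L _ _
  r_notL m y hy := by
    have := h.r_notL _ _ hy
    exact (mul_eq_zero.mp this).resolve_left hβ
  norm_L x hx y := by
    obtain ⟨y', hy'⟩ := h.norm_L x (fun m => by
      have := hx (β⁻¹ * m)
      rwa [mul_inv_cancel_left₀ hβ] at this) (δ β hβ y)
    obtain ⟨y'', rfl⟩ := δ_surj β hβ y'
    exact ⟨y'', hy'⟩
  cent_RA j x hx ha := by
    obtain ⟨m, a, haj, hxa⟩ := h.cent_RA j x (fun m => by
      have := hx (β⁻¹ * m)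
      rwa [mul_inv_cancel_left₀ hβ] at this) (fun a ha' => by
      obtain ⟨a', ha'', rfl⟩ := δ_A' β hβ j ha'
      exact ha a' ha'')
    obtain ⟨a', ha', rfl⟩ := δ_A' β hβ j haj
    refine ⟨β⁻¹ * m, a', ha', ?_⟩
    simp only [mul_inv_cancel_left₀ hβ]
    exact hxa
  ti x f hf := by
    obtain ⟨l, hl⟩ := h.ti x (fun m => β * f (β⁻¹ * m)) (fun m => by
      have := hf (β⁻¹ * m)
      simp only [mul_inv_cancel_left₀ hβ] at this
      rw [this]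
      show _ = r m * ι (t 0 2 (β * f (β⁻¹ * m)))
      rw [MonoidHom.comp_apply, δ_02])
    refine ⟨l, fun m => ?_⟩
    have h1 := hl (β * m)
    simp only [inv_mul_cancel_left₀ hβ] at h1
    have h2 : β * f m = β * (l * m) := by rw [h1]; ring
    exact mul_left_cancel₀ hβ h2
  n_zero := h.n_zero
  n_S l s hs := h.n_S l _ (δ_S β hβ hs)
  n_hh l := by
    rw [MonoidHom.comp_apply, δ_hh]
    exact h.n_hh l
  rn m l := by
    rw [MonoidHom.comp_apply, δ_02]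
    have := h.rn (β * m) l
    rw [this]
    congr 3
    ring
  nn_sq l := by
    rw [n_sq h, zero_mul, t_zero, map_one]
  n_comm := h.n_comm
  n3 := h.n3

theorem P1_eq (h : TOne ι r n 0) (β : F4) (hβ : β ≠ 0) (a : F4) :
    (ι.comp (δ β hβ)) (nn 1 2) * n a * ((ι.comp (δ β hβ)) (nn 1 2))⁻¹ =
      ι (nn 1 2) * n (β⁻¹ * a) * (ι (nn 1 2))⁻¹ := by
  rw [MonoidHom.comp_apply]
  rcases one_or β hβ with rfl | rfl | rfl
  · have h1 : δ 1 hβ (nn 1 2) = nn 1 2 := by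
      unfold nn
      rw [map_mul, map_mul, δ_12, δ_t 1 hβ 2 1 _ (by decide)]
      have : dl 1 2 * 1 * dl (1 : F4)⁻¹ 1 = 1 := by decide
      rw [this, one_mul]
    rw [h1]
    have : (1 : F4)⁻¹ = 1 := by decide
    rw [this, one_mul]
  · rw [δ_nn12_w, map_mul]
    have h1 := n_hh'' h a
    have h2 : (ω : F4)⁻¹ = ω2 := by decide
    rw [h2]
    calc ι (nn 1 2) * ι (hh * hh) * n a * (ι (nn 1 2) * ι (hh * hh))⁻¹
        = ι (nn 1 2) * (ι (hh * hh) * n a) * (ι (hh * hh))⁻¹ * (ι (nn 1 2))⁻¹ := by group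
      _ = _ := by rw [h1]; group
  · rw [δ_nn12_v, map_mul]
    have h1 := n_hh' h a
    have h2 : (ω2 : F4)⁻¹ = ω := by decide
    rw [h2]
    calc ι (nn 1 2) * ι hh * n a * (ι (nn 1 2) * ι hh)⁻¹
        = ι (nn 1 2) * (ι hh * n a) * (ι hh)⁻¹ * (ι (nn 1 2))⁻¹ := by group
      _ = _ := by rw [h1]; group

theorem P2_eq (β : F4) (hβ : β ≠ 0) (a : F4) :
    (ι.comp (δ β hβ)) (nn 0 1) * n a * ((ι.comp (δ β hβ)) (nn 0 1))⁻¹ =
      ι (nn 0 1) * n a * (ι (nn 0 1))⁻¹ := by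
  rw [MonoidHom.comp_apply, δ_nn01]

theorem inv_pows : ∀ β : F4, β ≠ 0 → β⁻¹ * β⁻¹ = β ∧ β⁻¹ * β⁻¹ * β⁻¹ = 1 ∧ β * β = β⁻¹ ∧
    β * β * β = 1 ∧ β⁻¹ * β = 1 := by decide

theorem uone (h : TOne ι r n 0) (u : UOne ι r n c₁ c₂) (β : F4) (hβ : β ≠ 0) :
    UOne (ι.comp (δ β hβ)) (fun m => r (β * m)) n (β * c₁) (β⁻¹ * c₂) := by
  obtain ⟨q1, q2, q3, q4, q5⟩ := inv_pows β hβ
  refine ⟨u.n_add, ?_, ?_, ?_, ?_⟩
  · intro a b
    rw [P1_eq h β hβ a, MonoidHom.comp_apply, MonoidHom.comp_apply, δ_12, δ_01]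
    rw [u.u₁ (β⁻¹ * a) (β * b)]
    have e1 : β⁻¹ * a * (β * b) = a * b := by
      rw [show β⁻¹ * a * (β * b) = (β⁻¹ * β) * (a * b) by ring, q5, one_mul]
    have e2 : c₁ * (β⁻¹ * a * (β⁻¹ * a) * (β * b)) = β * (β * c₁ * (a * a * b)) := by
      rw [show c₁ * (β⁻¹ * a * (β⁻¹ * a) * (β * b)) = (β⁻¹ * β⁻¹) * β * (c₁ * (a * a * b)) by ring, q1]
      ring
    have e3 : c₁ * (β⁻¹ * a * (β⁻¹ * a) * (β⁻¹ * a) * (β * b)) = β * c₁ * (a * a * a * b) := by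
      rw [show c₁ * (β⁻¹ * a * (β⁻¹ * a) * (β⁻¹ * a) * (β * b)) =
        (β⁻¹ * β⁻¹ * β⁻¹) * (β * c₁ * (a * a * a * b)) by ring, q2, one_mul]
    rw [e1, e2, e3]
  · intro a b
    rw [P2_eq β hβ a, MonoidHom.comp_apply, MonoidHom.comp_apply, δ_12, δ_01, u.u₂ a b]
    have e2 : β * (β⁻¹ * c₂ * (a * a * b)) = c₂ * (a * a * b) := by
      rw [show β * (β⁻¹ * c₂ * (a * a * b)) = (β⁻¹ * β) * (c₂ * (a * a * b)) by ring, q5, one_mul]
    have e3 : β * (β⁻¹ * c₂ * (a * a * a * b)) = c₂ * (a * a * a * b) := by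
      rw [show β * (β⁻¹ * c₂ * (a * a * a * b)) = (β⁻¹ * β) * (c₂ * (a * a * a * b)) by ring, q5,
        one_mul]
    simp only [e2, e3]
  · intro l a
    rw [P1_eq h β hβ a, MonoidHom.comp_apply, MonoidHom.comp_apply, δ_02, δ_01, u.np₁]
    have e1 : c₁ * (l * (β⁻¹ * a) * (β⁻¹ * a)) = β * c₁ * (l * a * a) := by
      rw [show c₁ * (l * (β⁻¹ * a) * (β⁻¹ * a)) = (β⁻¹ * β⁻¹) * (c₁ * (l * a * a)) by ring, q1]
      ring
    have e2 : c₁ * (l * l * (β⁻¹ * a)) = β * (β * c₁ * (l * l * a)) := by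
      rw [show β * (β * c₁ * (l * l * a)) = (β * β) * (c₁ * (l * l * a)) by ring, q3]
      ring
    rw [e1, e2]
  · intro l a
    rw [P2_eq β hβ a, MonoidHom.comp_apply, MonoidHom.comp_apply, δ_02, δ_12, u.np₂]
    have e2 : ∀ w, β * (β⁻¹ * c₂ * w) = c₂ * w := fun w => by
      rw [show β * (β⁻¹ * c₂ * w) = (β⁻¹ * β) * (c₂ * w) by ring, q5, one_mul]
    rw [e2, e2]

/-- **[C]**: the constants can be normalised to any pair `d₁, d₂` with `d₁ d₂ = 1`; only the coordinates of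
`L` and `R` change -/
theorem exists_norm (h : TOne ι r n 0) (u : UOne ι r n c₁ c₂) (d₁ d₂ : F4) (hd : d₁ * d₂ = 1) :
    ∃ (β : F4) (hβ : β ≠ 0), TOne (ι.comp (δ β hβ)) (fun m => r (β * m)) n 0 ∧
      UOne (ι.comp (δ β hβ)) (fun m => r (β * m)) n d₁ d₂ := by
  have hc := mul_eq_one h u
  have hc1 : c₁ ≠ 0 := by rintro rfl; rw [zero_mul] at hc; exact absurd hc (by decide)
  have hd1 : d₁ ≠ 0 := by rintro rfl; rw [zero_mul] at hd; exact absurd hd (by decide)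
  have hβ : d₁ * c₁⁻¹ ≠ 0 := mul_ne_zero hd1 (inv_ne_zero hc1)
  refine ⟨d₁ * c₁⁻¹, hβ, tone h _ hβ, ?_⟩
  have h1 := uone h u _ hβ
  have e1 : d₁ * c₁⁻¹ * c₁ = d₁ := by rw [mul_assoc, inv_mul_cancel₀ hc1, mul_one]
  have e2 : (d₁ * c₁⁻¹)⁻¹ * c₂ = d₂ := by
    rw [mul_inv, inv_inv, mul_assoc, hc, mul_one]
    exact (eq_inv_of_mul_eq_one_right hd).symm
  rw [e1, e2] at h1
  exact h1

/-- the same subgroups -/
theorem range_comp (ι : L0 →* X) (β : F4) (hβ : β ≠ 0) : (ι.comp (δ β hβ)).range = ι.range := by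
  ext x
  constructor
  · rintro ⟨y, rfl⟩
    exact ⟨_, rfl⟩
  · rintro ⟨y, rfl⟩
    obtain ⟨y', rfl⟩ := δ_surj β hβ y
    exact ⟨y', rfl⟩

theorem map_A (ι : L0 →* X) (β : F4) (hβ : β ≠ 0) (j : Bool) :
    (A j).map (ι.comp (δ β hβ)) = (A j).map ι := by
  ext x
  constructor
  · rintro ⟨y, hy, rfl⟩
    exact ⟨_, δ_A β hβ j hy, rfl⟩
  · rintro ⟨y, hy, rfl⟩
    obtain ⟨y', hy', rfl⟩ := δ_A' β hβ j hy
    exact ⟨y', hy', rfl⟩

theorem map_S (ι : L0 →* X) (β : F4) (hβ : β ≠ 0) :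
    S0.map (ι.comp (δ β hβ)) = S0.map ι := by
  ext x
  constructor
  · rintro ⟨y, hy, rfl⟩
    exact ⟨_, δ_S β hβ hy, rfl⟩
  · rintro ⟨y, hy, rfl⟩
    obtain ⟨y', hy', rfl⟩ := δ_S' β hβ hy
    exact ⟨y', hy', rfl⟩

end Cfsg.Agent.StdLThreeFour.RFourNorm
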