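import Cfsg.Agent.StdLThreeFour.RFourT

/-!
# Standard `L3(4)`, case `|R| = 4`: the TI-property of `R` in `X`
-/

set_option autoImplicit false
set_option linter.constructorNameAsVariable false
set_option linter.unusedVariables false

namespace Cfsg.Agent.StdLThreeFour.RFourTI

open Cfsg.Agent.StdLThreeFour.Base Cfsg.Agent.StdLThreeFour.RFour0 Cfsg.Agent.StdLThreeFour.RFourA
open Cfsg.Agent.SporadicA.FieldFour
open Cfsg.Agent.ONType.Psl

open Cfsg.Agent.ONType.PslCard (closure_t)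
open scoped commutatorElement

variable {X : Type*} [Group X]

theorem third (i j : Fin 3) (h : i ≠ j) : ∃ k, i ≠ k ∧ j ≠ k := by
  revert h; revert i j; decide

/-- **TI**, with the action: `x` normalises `L` and `R`. -/
theorem ti_aux (F : FourN X) {x r : X} (hr : r ∈ F.R) (h1 : r ≠ 1) (h : x * r * x⁻¹ ∈ F.R) :
    (∀ y, ∃ y', x * F.ι y * x⁻¹ = F.ι y') ∧ (∀ y, ∃ y', F.ι y = x * F.ι y' * x⁻¹) ∧
      ∀ s ∈ F.R, x * s * x⁻¹ ∈ F.R := by
  set r' := x * r * x⁻¹ with hr'
  have h1' : r' ≠ 1 := by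
    intro h0
    apply h1
    have : x⁻¹ * r' * x = r := by rw [hr']; group
    rw [← this, h0]; group
  have hc : ∀ y, Commute (x * F.ι y * x⁻¹) r' := by
    intro y
    have h2 := (F.comm r hr y).eq
    rw [hr']
    change _ * _ = _ * _
    calc x * F.ι y * x⁻¹ * (x * r * x⁻¹) = x * (F.ι y * r) * x⁻¹ := by group
      _ = x * (r * F.ι y) * x⁻¹ := by rw [h2]
      _ = _ := by group
  choose f hf using fun y => F.act r' h h1' _ (hc y)
  have fm : ∀ y y', f (y * y') = f y * f y' := by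
    intro y y'
    apply MulEquiv.ext
    intro z
    apply F.inj
    rw [← hf, MulAut.mul_apply, ← hf, ← hf, map_mul]
    group
  let φ : L0 →* MulAut L0 := MonoidHom.mk' f fm
  have hsum : ∀ i j k : Fin 3, ∀ u : F4, i ≠ j → i ≠ k → j ≠ k →
      t i j u = ⁅t i k u, t k j 1⁆ := by
    intro i j k u hij hik hjk
    have h2 := t_sum i j k u 1 hij hik hjk
    have h3 := t_sum i j k u 1 hij hik hjk
    rw [mul_one] at h2
    have c1 : t i k u * t i j u = t i j u * t i k u := t_row i k j u u hik hij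
    have c2 : t k j 1 * t i j u = t i j u * t k j 1 := t_col k j i 1 u hjk.symm hij
    rw [commutatorElement_def, h2]
    calc t i j u = (t i j u * (t k j 1 * t i k u)) * (t i k u)⁻¹ * (t k j 1)⁻¹ := by group
      _ = (t k j 1 * t i k u * t i j u) * (t i k u)⁻¹ * (t k j 1)⁻¹ := by
          congr 2
          calc t i j u * (t k j 1 * t i k u) = (t i j u * t k j 1) * t i k u := by group
            _ = t k j 1 * (t i j u * t i k u) := by rw [← c2]; group
            _ = _ := by rw [← c1]; group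
  have hsq : ∀ i j : Fin 3, ∀ u : F4, i ≠ j → t i j u * t i j u = 1 := by
    intro i j u hij
    rw [t_add i j u u hij, RFourT.add_self, t_zero]
  have hA : ∀ i j : Fin 3, ∀ u : F4, i ≠ j → ∃ ρ ∈ F.R, ∃ a, x * F.ι (t i j u) * x⁻¹ = ρ * F.ι a := by
    intro i j u hij
    obtain ⟨k, hik, hjk⟩ := third i j hij
    have h2 : φ (t i j u) ∈ commutator (MulAut L0) := by
      rw [hsum i j k u hij hik hjk, map_commutatorElement, commutator_def]
      exact Subgroup.commutator_mem_commutator (Subgroup.mem_top _) (Subgroup.mem_top _)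
    have h3 : φ (t i j u) ^ (2 ^ 1) = 1 := by
      rw [pow_one, pow_two, ← map_mul, hsq i j u hij, map_one]
    obtain ⟨a, ha⟩ := Facts3.aut_derived h2 h3
    have h4 : ∀ y, Commute ((F.ι a)⁻¹ * (x * F.ι (t i j u) * x⁻¹)) (F.ι y) := by
      intro y
      have h5 := hf (t i j u) y
      have h6 : f (t i j u) = MulAut.conj a := ha
      rw [h6, MulAut.conj_apply, map_mul, map_mul, map_inv] at h5
      set w := x * F.ι (t i j u) * x⁻¹
      change _ * _ = _ * _
      calc (F.ι a)⁻¹ * w * F.ι y = (F.ι a)⁻¹ * (w * F.ι y * w⁻¹) * w := by group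
        _ = _ := by rw [h5]; group
    have h5 := F.centK r' h h1' _ (((F.comm r' h a).symm.inv_left).mul_left (hc (t i j u))) h4
    refine ⟨_, h5, a, ?_⟩
    rw [(F.comm _ h5 a).eq]; group
  have hB : ∀ i j : Fin 3, ∀ u : F4, i ≠ j → ∃ a, x * F.ι (t i j u) * x⁻¹ = F.ι a := by
    intro i j u hij
    obtain ⟨k, hik, hjk⟩ := third i j hij
    obtain ⟨ρ, hρ, a, ha⟩ := hA i k u hik
    obtain ⟨σ, hσ, b, hb⟩ := hA k j 1 hjk.symm
    refine ⟨⁅a, b⁆, ?_⟩
    rw [hsum i j k u hij hik hjk, map_commutatorElement, map_commutatorElement]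
    have e1 : x * ⁅F.ι (t i k u), F.ι (t k j 1)⁆ * x⁻¹ =
        ⁅x * F.ι (t i k u) * x⁻¹, x * F.ι (t k j 1) * x⁻¹⁆ := by
      simp only [commutatorElement_def]; group
    rw [e1, ha, hb]
    have ca := (F.comm ρ hρ a).eq
    have cb := (F.comm ρ hρ b).eq
    have da := (F.comm σ hσ a).eq
    have db := (F.comm σ hσ b).eq
    have hc := RFourT.el_comm F hρ hσ
    have A1 : Commute ρ (σ * F.ι b) := (show Commute ρ σ from hc).mul_right cb
    have A2 : Commute (F.ι a) σ := da.symm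
    rw [commutatorElement_def, commutatorElement_def]
    have B1 : ρ * F.ι a * (σ * F.ι b) * (ρ * F.ι a)⁻¹ = F.ι a * (σ * F.ι b) * (F.ι a)⁻¹ := by
      calc ρ * F.ι a * (σ * F.ι b) * (ρ * F.ι a)⁻¹ = ρ * F.ι a * (σ * F.ι b) * ((F.ι a)⁻¹ * ρ⁻¹) := by
            group
        _ = F.ι a * (ρ * (σ * F.ι b)) * (F.ι a)⁻¹ * ρ⁻¹ := by rw [ca]; group
        _ = F.ι a * (σ * F.ι b) * (ρ * (F.ι a)⁻¹) * ρ⁻¹ := by rw [A1.eq]; group
        _ = _ := by
            have : ρ * (F.ι a)⁻¹ = (F.ι a)⁻¹ * ρ := ((F.comm ρ hρ a).inv_right).eq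
            rw [this]; group
    have B2 : F.ι a * (σ * F.ι b) * (F.ι a)⁻¹ = σ * (F.ι a * F.ι b * (F.ι a)⁻¹) := by
      calc F.ι a * (σ * F.ι b) * (F.ι a)⁻¹ = (F.ι a * σ) * F.ι b * (F.ι a)⁻¹ := by group
        _ = _ := by rw [A2.eq]; group
    rw [B1, B2]
    have B3 : Commute σ (F.ι a * F.ι b * (F.ι a)⁻¹) := by
      rw [← map_inv, ← map_mul, ← map_mul]; exact F.comm σ hσ _
    rw [B3.eq, db]; group
  have hC : ∀ y, ∃ y', x * F.ι y * x⁻¹ = F.ι y' := by
    intro y
    have hy := Subgroup.mem_top y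
    rw [← closure_t] at hy
    induction hy using Subgroup.closure_induction with
    | mem y hy =>
      obtain ⟨i, j, hij, u, rfl⟩ := hy
      exact hB i j u hij
    | one => exact ⟨1, by rw [map_one]; group⟩
    | mul y z _ _ hy hz =>
      obtain ⟨y', hy⟩ := hy
      obtain ⟨z', hz⟩ := hz
      refine ⟨y' * z', ?_⟩
      rw [map_mul, map_mul, ← hy, ← hz]; group
    | inv y _ hy =>
      obtain ⟨y', hy⟩ := hy
      refine ⟨y'⁻¹, ?_⟩
      rw [map_inv, map_inv, ← hy]; group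
  have hD : ∀ y, ∃ y', F.ι y = x * F.ι y' * x⁻¹ := by
    have hC' := hC
    choose β hβ using hC'
    have hfin : Finite L0 := Cfsg.Agent.LThreeFour.Dat.finite Cfsg.Agent.LThreeFour.datPSL
    have hinj : Function.Injective β := by
      intro a b hab
      have h2 := hβ a
      rw [hab, ← hβ b] at h2
      exact F.inj (mul_left_cancel (mul_right_cancel h2))
    intro y
    obtain ⟨y', rfl⟩ := (Finite.injective_iff_surjective.mp hinj) y
    exact ⟨y', (hβ y').symm⟩
  refine ⟨hC, hD, ?_⟩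
  intro s hs
  apply F.centK r' h h1'
  · have h2 := RFourT.el_comm F hs hr
    rw [hr']
    change _ * _ = _ * _
    calc x * s * x⁻¹ * (x * r * x⁻¹) = x * (s * r) * x⁻¹ := by group
      _ = x * (r * s) * x⁻¹ := by rw [h2]
      _ = _ := by group
  · intro y
    obtain ⟨y', hy'⟩ := hD y
    rw [hy']
    have h2 := (F.comm s hs y').eq
    change _ * _ = _ * _
    calc x * s * x⁻¹ * (x * F.ι y' * x⁻¹) = x * (s * F.ι y') * x⁻¹ := by group
      _ = x * (F.ι y' * s) * x⁻¹ := by rw [h2]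
      _ = _ := by group

/-- **TI** -/
theorem ti (F : FourN X) {x r : X} (hr : r ∈ F.R) (h1 : r ≠ 1) (h : x * r * x⁻¹ ∈ F.R) :
    ∀ s ∈ F.R, x * s * x⁻¹ ∈ F.R := (ti_aux F hr h1 h).2.2

end Cfsg.Agent.StdLThreeFour.RFourTI
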