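import Cfsg.Agent.StdLThreeFour.RFourActs0

/-!
# Standard `L3(4)`, case `|R| = 4`: existence of an element of `T1 ∖ T0`
-/

set_option autoImplicit false
set_option linter.constructorNameAsVariable false

namespace Cfsg.Agent.StdLThreeFour.RFourActs

open Cfsg.Agent.StdLThreeFour.Base Cfsg.Agent.StdLThreeFour.RFour0 Cfsg.Agent.StdLThreeFour.RFourA
open Cfsg.Agent.StdLThreeFour.RFourActs0
open Cfsg.Agent.SporadicA.FieldFour
open Cfsg.Agent.ONType.Psl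

variable {X : Type*} [Group X] (F : Four X)

theorem R_comm {r r' : X} (hr : r ∈ F.R) (hr' : r' ∈ F.R) : Commute r r' := by
  have h1 := F.el r hr
  have h2 := F.el r' hr'
  have h3 := F.el _ (F.R.mul_mem hr hr')
  have e1 : r⁻¹ = r := inv_eq_of_mul_eq_one_right h1
  have e2 : r'⁻¹ = r' := inv_eq_of_mul_eq_one_right h2
  show r * r' = r' * r
  calc r * r' = (r * r')⁻¹ := (inv_eq_of_mul_eq_one_right h3).symm
    _ = r' * r := by rw [mul_inv_rev, e1, e2]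

theorem mem_TT {x : X} : x ∈ F.R ⊔ S0.map F.ι ↔ ∃ r ∈ F.R, ∃ a b c, x = r * F.ι (e a b c) := by
  constructor
  · intro hx
    let P : Subgroup X :=
      { carrier := {x | ∃ r ∈ F.R, ∃ s ∈ S0, x = r * F.ι s}
        mul_mem' := by
          rintro _ _ ⟨r, hr, s, hs, rfl⟩ ⟨r', hr', s', hs', rfl⟩
          refine ⟨r * r', F.R.mul_mem hr hr', s * s', S0.mul_mem hs hs', ?_⟩
          rw [map_mul]
          calc r * F.ι s * (r' * F.ι s') = r * (F.ι s * r') * F.ι s' := by group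
            _ = r * (r' * F.ι s) * F.ι s' := by rw [(F.comm r' hr' s).eq]
            _ = _ := by group
        one_mem' := ⟨1, F.R.one_mem, 1, S0.one_mem, by rw [map_one, one_mul]⟩
        inv_mem' := by
          rintro _ ⟨r, hr, s, hs, rfl⟩
          refine ⟨r⁻¹, F.R.inv_mem hr, s⁻¹, S0.inv_mem hs, ?_⟩
          rw [mul_inv_rev, map_inv]
          exact ((F.comm r hr s).inv_inv.eq).symm }
    have h1 : F.R ⊔ S0.map F.ι ≤ P := by
      refine sup_le ?_ ?_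
      · intro r hr
        exact ⟨r, hr, 1, S0.one_mem, by rw [map_one, mul_one]⟩
      · rintro _ ⟨s, hs, rfl⟩
        exact ⟨1, F.R.one_mem, s, hs, by rw [one_mul]⟩
    obtain ⟨r, hr, s, ⟨a, b, c, rfl⟩, rfl⟩ := h1 hx
    exact ⟨r, hr, a, b, c, rfl⟩
  · rintro ⟨r, hr, a, b, c, rfl⟩
    exact Subgroup.mul_mem _ (Subgroup.mem_sup_left hr)
      (Subgroup.mem_sup_right ⟨_, Facts1.e_mem a b c, rfl⟩)

theorem R_L {r : X} (hr : r ∈ F.R) {y : L0} (h : r = F.ι y) : y = 1 := by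
  apply Facts1.center_trivial
  intro g
  apply F.inj
  rw [map_mul, map_mul, ← h]
  exact F.comm r hr g

theorem dec {r r' : X} (hr : r ∈ F.R) (hr' : r' ∈ F.R) {y y' : L0}
    (h : r * F.ι y = r' * F.ι y') : r = r' ∧ y = y' := by
  have h1 : r'⁻¹ * r = F.ι (y' * y⁻¹) := by
    rw [map_mul, map_inv, eq_mul_inv_iff_mul_eq, mul_assoc, h]; group
  have h2 := R_L F (F.R.mul_mem (F.R.inv_mem hr') hr) h1
  rw [h2, map_one] at h1
  exact ⟨(inv_mul_eq_one.mp h1).symm, (mul_inv_eq_one.mp h2).symm⟩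

/-- `m` normalises `T0` -/
def NT (m : X) : Prop := ∀ x, x ∈ F.R ⊔ S0.map F.ι ↔ m * x * m⁻¹ ∈ F.R ⊔ S0.map F.ι

variable {F}

theorem NT.inv {m : X} (h : NT F m) : NT F m⁻¹ := by
  intro x
  rw [h (m⁻¹ * x * m⁻¹⁻¹)]
  have e : m * (m⁻¹ * x * m⁻¹⁻¹) * m⁻¹ = x := by group
  rw [e]

theorem NT.mul {m m' : X} (h : NT F m) (h' : NT F m') : NT F (m * m') := by
  intro x
  rw [h' x, h]
  have e : m * (m' * x * m'⁻¹) * m⁻¹ = m * m' * x * (m * m')⁻¹ := by group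
  rw [e]

theorem hh_e' (a b c : F4) : hh * e a b c * hh⁻¹ = e (ω2 * a) (ω2 * b) (ω * c) := by
  have h := Facts1.hh_e (ω2 * a) (ω2 * b) (ω * c)
  have h1 : ∀ u : F4, ω * (ω2 * u) = u := by decide
  have h2 : ∀ u : F4, ω2 * (ω * u) = u := by decide
  rw [h1, h1, h2] at h
  rw [← h]; group

theorem ι_e (F : Four X) (a b c : F4) :
    F.ι hh * F.ι (e a b c) * (F.ι hh)⁻¹ = F.ι (e (ω2 * a) (ω2 * b) (ω * c)) := by
  rw [← hh_e', map_mul, map_mul, map_inv]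

theorem ι_e' (F : Four X) (a b c : F4) :
    (F.ι hh)⁻¹ * F.ι (e a b c) * F.ι hh = F.ι (e (ω * a) (ω * b) (ω2 * c)) := by
  rw [← Facts1.hh_e, map_mul, map_mul, map_inv]

theorem ι_r (F : Four X) {r : X} (hr : r ∈ F.R) : F.ι hh * r * (F.ι hh)⁻¹ = r := by
  rw [← (F.comm r hr hh).eq, mul_inv_cancel_right]

theorem ι_r' (F : Four X) {r : X} (hr : r ∈ F.R) : (F.ι hh)⁻¹ * r * F.ι hh = r := by
  rw [mul_assoc, (F.comm r hr hh).eq, inv_mul_cancel_left]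

theorem NT.hh' : NT F (F.ι hh) := by
  have h1 : ∀ x, x ∈ F.R ⊔ S0.map F.ι → F.ι hh * x * (F.ι hh)⁻¹ ∈ F.R ⊔ S0.map F.ι := by
    intro x hx
    obtain ⟨r, hr, a, b, c, rfl⟩ := (mem_TT F).mp hx
    rw [mem_TT]
    refine ⟨r, hr, ω2 * a, ω2 * b, ω * c, ?_⟩
    rw [← ι_e]
    calc F.ι hh * (r * F.ι (e a b c)) * (F.ι hh)⁻¹
        = (F.ι hh * r * (F.ι hh)⁻¹) * (F.ι hh * F.ι (e a b c) * (F.ι hh)⁻¹) := by group
      _ = _ := by rw [ι_r F hr]
  have h2 : ∀ x, x ∈ F.R ⊔ S0.map F.ι → (F.ι hh)⁻¹ * x * F.ι hh ∈ F.R ⊔ S0.map F.ι := by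
    intro x hx
    obtain ⟨r, hr, a, b, c, rfl⟩ := (mem_TT F).mp hx
    rw [mem_TT]
    refine ⟨r, hr, ω * a, ω * b, ω2 * c, ?_⟩
    rw [← ι_e']
    calc (F.ι hh)⁻¹ * (r * F.ι (e a b c)) * F.ι hh
        = ((F.ι hh)⁻¹ * r * F.ι hh) * ((F.ι hh)⁻¹ * F.ι (e a b c) * F.ι hh) := by group
      _ = _ := by rw [ι_r' F hr]
  intro x
  constructor
  · exact h1 x
  · intro hx
    have h3 := h2 _ hx
    have e : (F.ι hh)⁻¹ * (F.ι hh * x * (F.ι hh)⁻¹) * F.ι hh = x := by group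
    rwa [e] at h3

theorem comm4 {r r' : X} (hr : r ∈ F.R) (hr' : r' ∈ F.R) (a b c a' b' c' : F4) :
    (r * F.ι (e a b c)) * (r' * F.ι (e a' b' c')) * (r * F.ι (e a b c))⁻¹ *
      (r' * F.ι (e a' b' c'))⁻¹ = F.ι (e 0 0 (a' * b + a * b')) := by
  rw [← Facts1.e_comm a b c a' b' c']
  have c1 := R_comm F hr hr'
  have c2 : Commute r (F.ι (e a' b' c')) := F.comm r hr _
  have c3 : Commute r' (F.ι (e a b c)) := F.comm r' hr' _
  have c4 : Commute r (F.ι (e a b c)) := F.comm r hr _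
  have c5 : Commute r' (F.ι (e a' b' c')) := F.comm r' hr' _
  rw [map_mul, map_mul, map_mul, map_inv, map_inv]
  generalize F.ι (e a b c) = s at *
  generalize F.ι (e a' b' c') = s' at *
  have e1 : r * s * (r' * s') = (r * r') * (s * s') := by
    calc r * s * (r' * s') = r * (s * r') * s' := by group
      _ = _ := by rw [← c3.eq]; group
  have e2 : r' * s' * (r * s) = (r * r') * (s' * s) := by
    calc r' * s' * (r * s) = r' * (s' * r) * s := by group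
      _ = (r' * r) * (s' * s) := by rw [← c2.eq]; group
      _ = _ := by rw [c1.eq]
  have c6 : Commute (r * r') (s * s' * (s' * s)⁻¹) :=
    (((c4.mul_left c3).mul_right (c2.mul_left c5)).mul_right
      (((c2.mul_left c5).mul_right (c4.mul_left c3)).inv_right))
  calc (r * s) * (r' * s') * (r * s)⁻¹ * (r' * s')⁻¹
      = (r * s * (r' * s')) * (r' * s' * (r * s))⁻¹ := by group
    _ = ((r * r') * (s * s')) * ((r * r') * (s' * s))⁻¹ := by rw [e1, e2]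
    _ = (r * r') * (s * s' * (s' * s)⁻¹) * (r * r')⁻¹ := by group
    _ = s * s' * (s' * s)⁻¹ := by rw [c6.eq, mul_inv_cancel_right]
    _ = _ := by group

theorem conj_e {m : X} (hm : NT F m) (a b c : F4) : ∃ ρ ∈ F.R, ∃ a' b' c',
    m * F.ι (e a b c) * m⁻¹ = ρ * F.ι (e a' b' c') := by
  have h1 : F.ι (e a b c) ∈ F.R ⊔ S0.map F.ι :=
    Subgroup.mem_sup_right ⟨_, Facts1.e_mem a b c, rfl⟩
  exact (mem_TT F).mp ((hm _).mp h1)

theorem conj_Z {m : X} (hm : NT F m) (c : F4) : ∃ c', m * F.ι (e 0 0 c) * m⁻¹ = F.ι (e 0 0 c') := by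
  obtain ⟨ρ, hρ, a1, b1, c1, h1⟩ := conj_e hm 0 c 0
  obtain ⟨ρ', hρ', a2, b2, c2, h2⟩ := conj_e hm 1 0 0
  refine ⟨a2 * b1 + a1 * b2, ?_⟩
  rw [← comm4 hρ hρ' a1 b1 c1 a2 b2 c2, ← h1, ← h2]
  have h3 := comm4 (F := F) F.R.one_mem F.R.one_mem 0 c 0 1 0 0
  rw [one_mul, mul_zero, add_zero, one_mul, one_mul] at h3
  rw [← h3]
  group

theorem conj_R {m : X} (hm : NT F m) {r : X} (hr : r ∈ F.R) : ∃ r' ∈ F.R, ∃ c,
    m * r * m⁻¹ = r' * F.ι (e 0 0 c) := by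
  obtain ⟨r', hr', a, b, c, h1⟩ := (mem_TT F).mp ((hm r).mp (Subgroup.mem_sup_left hr))
  have h2 : ∀ a' b', a' * b + a * b' = 0 := by
    intro a' b'
    have h3 : F.ι (e a' b' 0) ∈ F.R ⊔ S0.map F.ι := Subgroup.mem_sup_right ⟨_, Facts1.e_mem _ _ _, rfl⟩
    obtain ⟨ρ, hρ, a2, b2, c2, h4⟩ := (mem_TT F).mp ((hm.inv _).mp h3)
    rw [inv_inv] at h4
    have h5 : Commute r (m⁻¹ * F.ι (e a' b' 0) * m) := by
      rw [h4]
      exact (R_comm F hr hρ).mul_right (F.comm r hr _)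
    have h6 := h5.conj m
    have e1 : m * (m⁻¹ * F.ι (e a' b' 0) * m) * m⁻¹ = F.ι (e a' b' 0) := by group
    rw [e1, h1] at h6
    have h7 := comm4 hr' F.R.one_mem a b c a' b' 0
    rw [one_mul, h6.eq, mul_inv_cancel_right, mul_inv_cancel] at h7
    have h8 : e 0 0 (a' * b + a * b') = 1 := F.inj (by rw [← h7, map_one])
    exact (Facts1.e_one h8).2.2
  have hb : b = 0 := by have := h2 1 0; simpa using this
  have ha : a = 0 := by have := h2 0 1; simpa using this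
  subst ha; subst hb
  exact ⟨r', hr', c, h1⟩

theorem e00_inj {c c' : F4} (h : F.ι (e 0 0 c) = F.ι (e 0 0 c')) : c = c' :=
  (Facts1.e_inj (F.inj h)).2.2

theorem e00_mul (F : Four X) (c c' : F4) : F.ι (e 0 0 c) * F.ι (e 0 0 c') = F.ι (e 0 0 (c + c')) := by
  rw [← map_mul, e_mul]; congr 2

theorem e00_one {c : F4} (h : F.ι (e 0 0 c) = 1) : c = 0 := by
  apply e00_inj (F := F)
  rw [h, e_zero, map_one]

/-- additive injective maps of `F4` -/
theorem add_lin (g : F4 → F4) (h1 : ∀ a b, g (a + b) = g a + g b) (h2 : ∀ a, g a = 0 → a = 0) :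
    (∀ c, g (ω * c) = ω * g c) ∨ (∀ c, g (ω * c) = ω2 * g c) := by
  have h0 : g 0 = 0 := by
    have := h1 0 0
    rw [add_zero] at this
    have h7 : ∀ a : F4, a = a + a → a = 0 := by decide
    exact h7 _ this
  have hv : g ω2 = g 1 + g ω := by
    rw [← h1]; congr 1
  have a1 : g 1 ≠ 0 := fun h => absurd (h2 _ h) (by decide)
  have a2 : g ω ≠ 0 := fun h => absurd (h2 _ h) (by decide)
  have a3 : g 1 + g ω ≠ 0 := by
    intro h
    rw [← h1] at h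
    exact absurd (h2 _ h) (by decide)
  have key : ∀ u v : F4, u ≠ 0 → v ≠ 0 → u + v ≠ 0 → v = ω * u ∨ v = ω2 * u := by decide
  have aux : ∀ c : F4, c = 0 ∨ c = 1 ∨ c = ω ∨ c = ω2 := by decide
  rcases key _ _ a1 a2 a3 with h | h
  · left
    intro c
    rcases aux c with rfl | rfl | rfl | rfl
    · rw [mul_zero, h0, mul_zero]
    · rw [mul_one, h]
    · have : (ω : F4) * ω = ω2 := by decide
      rw [this, hv, h]
      have : ∀ u : F4, u + ω * u = ω * (ω * u) := by decide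
      exact this _
    · have : (ω : F4) * ω2 = 1 := by decide
      rw [this, hv, h]
      have : ∀ u : F4, u = ω * (u + ω * u) := by decide
      exact this _
  · right
    intro c
    rcases aux c with rfl | rfl | rfl | rfl
    · rw [mul_zero, h0, mul_zero]
    · rw [mul_one, h]
    · have : (ω : F4) * ω = ω2 := by decide
      rw [this, hv, h]
      have : ∀ u : F4, u + ω2 * u = ω2 * (ω2 * u) := by decide
      exact this _
    · have : (ω : F4) * ω2 = 1 := by decide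
      rw [this, hv, h]
      have : ∀ u : F4, u = ω2 * (u + ω2 * u) := by decide
      exact this _

/-- first approximation -/
structure P1 (F : Four X) (m : X) : Prop where
  nt : NT F m
  cz : ∀ c, m * F.ι (e 0 0 c) * m⁻¹ = F.ι (e 0 0 c)
  cr : ∀ r ∈ F.R, ∃ c, m * r * m⁻¹ = r * F.ι (e 0 0 c)
  nr : ∃ r ∈ F.R, m * r * m⁻¹ ≠ r

theorem exists_P1 (F : Four X) : ∃ m, P1 F m := by
  have hm : NT F F.n := F.norm
  set m := F.n with hmdef
  choose g hg using conj_Z hm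
  have hga : ∀ a b, g (a + b) = g a + g b := by
    intro a b
    apply e00_inj (F := F)
    rw [← hg, ← e00_mul, ← e00_mul, ← hg, ← hg]; group
  have hg0 : ∀ a, g a = 0 → a = 0 := by
    intro a ha
    have h1 := hg a
    rw [ha, e_zero, map_one] at h1
    apply e00_one (F := F)
    have : F.ι (e 0 0 a) = m⁻¹ * (m * F.ι (e 0 0 a) * m⁻¹) * m := by group
    rw [this, h1]; group
  set h := F.ι hh with hh'
  set m1 := m⁻¹ * h⁻¹ * m * h with hm1
  have hnt : NT F m1 := ((hm.inv.mul NT.hh'.inv).mul hm).mul NT.hh'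
  have z1 : ∀ c, m1 * F.ι (e 0 0 c) * m1⁻¹ = m⁻¹ * F.ι (e 0 0 (ω2 * g (ω * c))) * m := by
    intro c
    have e1 := ι_e F 0 0 c
    rw [mul_zero] at e1
    have e2 := hg (ω * c)
    have e3 := ι_e' F 0 0 (g (ω * c))
    rw [mul_zero] at e3
    calc m1 * F.ι (e 0 0 c) * m1⁻¹ = m⁻¹ * (h⁻¹ * (m * (h * F.ι (e 0 0 c) * h⁻¹) * m⁻¹) * h) * m := by
          rw [hm1]; group
      _ = _ := by rw [e1, e2, e3]
  have z2 : ∀ r ∈ F.R, ∃ r' c, m * r * m⁻¹ = r' * F.ι (e 0 0 c) ∧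
      r' ∈ F.R ∧ m1 * r * m1⁻¹ = r * (m⁻¹ * F.ι (e 0 0 (ω * c)) * m) := by
    intro r hr
    obtain ⟨r', hr', c, hc⟩ := conj_R hm hr
    refine ⟨r', c, hc, hr', ?_⟩
    have e3 := ι_e' F 0 0 c
    rw [mul_zero] at e3
    have e4 : F.ι (e 0 0 (ω2 * c)) = F.ι (e 0 0 c) * F.ι (e 0 0 (ω * c)) := by
      rw [e00_mul]
      have : ∀ c : F4, ω2 * c = c + ω * c := by decide
      rw [← this]
    calc m1 * r * m1⁻¹ = m⁻¹ * (h⁻¹ * (m * (h * r * h⁻¹) * m⁻¹) * h) * m := by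
          rw [hm1]; group
      _ = m⁻¹ * (h⁻¹ * (r' * F.ι (e 0 0 c)) * h) * m := by rw [ι_r F hr, hc]
      _ = m⁻¹ * ((h⁻¹ * r' * h) * (h⁻¹ * F.ι (e 0 0 c) * h)) * m := by group
      _ = m⁻¹ * (r' * (F.ι (e 0 0 c) * F.ι (e 0 0 (ω * c)))) * m := by rw [ι_r' F hr', e3, e4]
      _ = m⁻¹ * (r' * F.ι (e 0 0 c)) * m * (m⁻¹ * F.ι (e 0 0 (ω * c)) * m) := by group
      _ = _ := by rw [← hc]; group
  have z3 : ∀ r ∈ F.R, ∃ c, m1 * r * m1⁻¹ = r * F.ι (e 0 0 c) := by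
    intro r hr
    obtain ⟨r', c, h1, h2, h3⟩ := z2 r hr
    obtain ⟨c', hc'⟩ := conj_Z hm.inv (ω * c)
    rw [inv_inv] at hc'
    exact ⟨c', by rw [h3, hc']⟩
  have z4 : ∃ r ∈ F.R, m1 * r * m1⁻¹ ≠ r := by
    obtain ⟨r, hr, hr1⟩ := F.nR
    refine ⟨r, hr, ?_⟩
    obtain ⟨r', c, h1, h2, h3⟩ := z2 r hr
    intro h4
    rw [h3] at h4
    have h5 : m⁻¹ * F.ι (e 0 0 (ω * c)) * m = 1 := mul_eq_left.mp h4
    have h6 : F.ι (e 0 0 (ω * c)) = 1 := by
      have : F.ι (e 0 0 (ω * c)) = m * (m⁻¹ * F.ι (e 0 0 (ω * c)) * m) * m⁻¹ := by group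
      rw [this, h5]; group
    have h7 := e00_one h6
    have h8 : ∀ c : F4, ω * c = 0 → c = 0 := by decide
    have h9 := h8 _ h7
    subst h9
    rw [e_zero, map_one, mul_one] at h1
    apply hr1
    rw [h1]; exact h2
  rcases add_lin g hga hg0 with hl | hl
  · refine ⟨m1, hnt, ?_, z3, z4⟩
    intro c
    rw [z1, hl]
    have : ω2 * (ω * g c) = g c := by
      have : ∀ u : F4, ω2 * (ω * u) = u := by decide
      exact this _
    rw [this, ← hg]; group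
  · refine ⟨m1 * h, hnt.mul NT.hh', ?_, ?_, ?_⟩
    · intro c
      have e1 := ι_e F 0 0 c
      rw [mul_zero] at e1
      calc m1 * h * F.ι (e 0 0 c) * (m1 * h)⁻¹ = m1 * (h * F.ι (e 0 0 c) * h⁻¹) * m1⁻¹ := by group
        _ = m⁻¹ * F.ι (e 0 0 (ω2 * g (ω * (ω * c)))) * m := by rw [e1, z1]
        _ = _ := by
          rw [hl, hl]
          have : ω2 * (ω2 * (ω2 * g c)) = g c := by
            have : ∀ u : F4, ω2 * (ω2 * (ω2 * u)) = u := by decide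
            exact this _
          rw [this, ← hg]; group
    · intro r hr
      obtain ⟨c, hc⟩ := z3 r hr
      refine ⟨c, ?_⟩
      rw [← hc]
      calc m1 * h * r * (m1 * h)⁻¹ = m1 * (h * r * h⁻¹) * m1⁻¹ := by group
        _ = _ := by rw [ι_r F hr]
    · obtain ⟨r, hr, hr1⟩ := z4
      refine ⟨r, hr, fun h2 => hr1 ?_⟩
      calc m1 * r * m1⁻¹ = m1 * (h * r * h⁻¹) * m1⁻¹ := by rw [ι_r F hr]
        _ = m1 * h * r * (m1 * h)⁻¹ := by group
        _ = r := h2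

/-- second approximation -/
structure P2 (F : Four X) (m : X) : Prop extends P1 F m where
  cs : ∀ a b, ∃ ρ ∈ F.R, ∃ c, m * F.ι (e a b 0) * m⁻¹ = ρ * F.ι (e a b c)

theorem lin_aux (p1 p2 q1 q2 x1 x2 w1 w2 : F4) (h : p1 * q2 + p2 * q1 = 1)
    (h1 : w1 * p2 + w2 * p1 = ω * (x1 * p2 + x2 * p1))
    (h2 : w1 * q2 + w2 * q1 = ω * (x1 * q2 + x2 * q1)) : w1 = ω * x1 ∧ w2 = ω * x2 := by
  have t2 : (2 : F4) = 0 := by decide
  constructor
  · linear_combination p1 * h2 + q1 * h1 + (-w1 + ω * x1) * h + (- w2 * p1 * q1 + ω * x2 * p1 * q1) * t2 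
  · linear_combination p2 * h2 + q2 * h1 + (-w2 + ω * x2) * h + (- w1 * p2 * q2 + ω * x1 * p2 * q2) * t2

theorem P1.exists_P2 {m : X} (hm : P1 F m) : ∃ m', P2 F m' := by
  choose ρ hρ ga gb gc hg using fun a b : F4 => conj_e hm.nt a b 0
  have hB : ∀ a b a' b', ga a' b' * gb a b + ga a b * gb a' b' = a' * b + a * b' := by
    intro a b a' b'
    apply e00_inj (F := F)
    rw [← comm4 (hρ a b) (hρ a' b') (ga a b) (gb a b) (gc a b) (ga a' b') (gb a' b') (gc a' b'),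
      ← hg, ← hg, ← hm.cz (a' * b + a * b')]
    have h3 := comm4 (F := F) F.R.one_mem F.R.one_mem a b 0 a' b' 0
    rw [one_mul, one_mul] at h3
    rw [← h3]
    group
  have hlin : ∀ a b, ga (ω * a) (ω * b) = ω * ga a b ∧ gb (ω * a) (ω * b) = ω * gb a b := by
    intro a b
    apply lin_aux (ga 1 0) (gb 1 0) (ga 0 1) (gb 0 1)
    · have := hB 1 0 0 1
      rw [mul_comm (ga 0 1), add_comm] at this
      rw [this]; decide
    · have h1 := hB 1 0 (ω * a) (ω * b)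
      have h2 := hB 1 0 a b
      rw [mul_comm (gb (ω * a) (ω * b)), mul_comm (gb a b), h1, h2]; ring
    · have h1 := hB 0 1 (ω * a) (ω * b)
      have h2 := hB 0 1 a b
      rw [mul_comm (gb (ω * a) (ω * b)), mul_comm (gb a b), h1, h2]; ring
  set h := F.ι hh with hh'
  set m1 := m⁻¹ * h⁻¹ * m * h with hm1
  have conj_split : ∀ x y : X, m⁻¹ * (x * y) * m = (m⁻¹ * x * m) * (m⁻¹ * y * m) := by
    intro x y; group
  have cz' : ∀ c, m⁻¹ * F.ι (e 0 0 c) * m = F.ι (e 0 0 c) := by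
    intro c
    have := hm.cz c
    have e1 : F.ι (e 0 0 c) = m⁻¹ * (m * F.ι (e 0 0 c) * m⁻¹) * m := by group
    rw [this] at e1
    exact e1.symm
  have cr' : ∀ r ∈ F.R, ∃ c, m⁻¹ * r * m = r * F.ι (e 0 0 c) := by
    intro r hr
    obtain ⟨c, hc⟩ := hm.cr r hr
    refine ⟨c, ?_⟩
    have e1 : m⁻¹ * (r * F.ι (e 0 0 c)) * m = r := by rw [← hc]; group
    rw [conj_split, cz'] at e1
    rw [eq_mul_inv_of_mul_eq e1, ← map_inv]
    congr 2
    rw [Base.e_inv, mul_zero, add_zero]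
  refine ⟨m1, ⟨((hm.nt.inv.mul NT.hh'.inv).mul hm.nt).mul NT.hh', ?_, ?_, ?_⟩, ?_⟩
  · intro c
    have e1 := ι_e F 0 0 c
    rw [mul_zero] at e1
    have e3 := ι_e' F 0 0 (ω * c)
    rw [mul_zero] at e3
    have e4 : ∀ c : F4, ω2 * (ω * c) = c := by decide
    rw [e4] at e3
    calc m1 * F.ι (e 0 0 c) * m1⁻¹ = m⁻¹ * (h⁻¹ * (m * (h * F.ι (e 0 0 c) * h⁻¹) * m⁻¹) * h) * m := by
          rw [hm1]; group
      _ = _ := by rw [e1, hm.cz, e3, cz']
  · intro r hr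
    obtain ⟨c, hc⟩ := hm.cr r hr
    obtain ⟨d, hd⟩ := cr' r hr
    have e3 := ι_e' F 0 0 c
    rw [mul_zero] at e3
    refine ⟨d + ω2 * c, ?_⟩
    calc m1 * r * m1⁻¹ = m⁻¹ * (h⁻¹ * (m * (h * r * h⁻¹) * m⁻¹) * h) * m := by
          rw [hm1]; group
      _ = m⁻¹ * ((h⁻¹ * r * h) * (h⁻¹ * F.ι (e 0 0 c) * h)) * m := by rw [ι_r F hr, hc]; group
      _ = _ := by rw [ι_r' F hr, e3, conj_split, hd, cz', mul_assoc, e00_mul]
  · obtain ⟨r, hr, hr1⟩ := hm.nr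
    refine ⟨r, hr, fun h2 => hr1 ?_⟩
    obtain ⟨c, hc⟩ := hm.cr r hr
    have e3 := ι_e' F 0 0 c
    rw [mul_zero] at e3
    have h3 : m1 * r * m1⁻¹ = m⁻¹ * (r * F.ι (e 0 0 (ω2 * c))) * m := by
      calc m1 * r * m1⁻¹ = m⁻¹ * (h⁻¹ * (m * (h * r * h⁻¹) * m⁻¹) * h) * m := by
            rw [hm1]; group
        _ = m⁻¹ * ((h⁻¹ * r * h) * (h⁻¹ * F.ι (e 0 0 c) * h)) * m := by rw [ι_r F hr, hc]; group
        _ = _ := by rw [ι_r' F hr, e3]
    rw [h2] at h3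
    have h4 : m * r * m⁻¹ = r * F.ι (e 0 0 (ω2 * c)) := by
      calc m * r * m⁻¹ = m * (m⁻¹ * (r * F.ι (e 0 0 (ω2 * c))) * m) * m⁻¹ := by rw [← h3]
        _ = _ := by group
    rw [hc] at h4
    have h5 := e00_inj (mul_left_cancel h4)
    have h6 : ∀ c : F4, c = ω2 * c → c = 0 := by decide
    rw [h6 _ h5, e_zero, map_one, mul_one] at hc
    exact hc
  · intro a b
    -- `m h (e a b 0) h⁻¹ m⁻¹ = ρ ι (e a' b' c')`, `(a', b') = ω² g(a,b)`
    have e1 := ι_e F a b 0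
    rw [mul_zero] at e1
    have hl := hlin (ω2 * a) (ω2 * b)
    have e5 : ∀ u : F4, ω * (ω2 * u) = u := by decide
    rw [e5, e5] at hl
    have e3 := ι_e' F (ga (ω2 * a) (ω2 * b)) (gb (ω2 * a) (ω2 * b)) (gc (ω2 * a) (ω2 * b))
    rw [← hl.1, ← hl.2] at e3
    set c' := ω2 * gc (ω2 * a) (ω2 * b) with hc'
    set ρ1 := ρ (ω2 * a) (ω2 * b) with hρ1
    have hρ1R : ρ1 ∈ F.R := hρ _ _
    have h1 : m1 * F.ι (e a b 0) * m1⁻¹ = m⁻¹ * (ρ1 * F.ι (e (ga a b) (gb a b) c')) * m := by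
      calc m1 * F.ι (e a b 0) * m1⁻¹ =
          m⁻¹ * (h⁻¹ * (m * (h * F.ι (e a b 0) * h⁻¹) * m⁻¹) * h) * m := by rw [hm1]; group
        _ = m⁻¹ * ((h⁻¹ * ρ1 * h) * (h⁻¹ * F.ι (e (ga (ω2 * a) (ω2 * b)) (gb (ω2 * a) (ω2 * b))
            (gc (ω2 * a) (ω2 * b))) * h)) * m := by rw [e1, hg, ← hρ1]; group
        _ = _ := by rw [ι_r' F hρ1R, e3]
    have h2 : ρ1 * F.ι (e (ga a b) (gb a b) c') = (ρ a b * F.ι (e (ga a b) (gb a b) (gc a b))) *
        ((ρ a b)⁻¹ * ρ1) * F.ι (e 0 0 (c' + gc a b)) := by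
      have e6 : e (ga a b) (gb a b) c' = e (ga a b) (gb a b) (gc a b) * e 0 0 (c' + gc a b) := by
        rw [e_mul]
        have : ∀ x y z : F4, z = 0 * x + y + (z + y) := by decide
        rw [← this, add_zero, add_zero]
      rw [e6, map_mul]
      have e7 : Commute (F.ι (e (ga a b) (gb a b) (gc a b))) ((ρ a b)⁻¹ * ρ1) :=
        (F.comm _ (F.R.mul_mem (F.R.inv_mem (hρ a b)) hρ1R) _).symm
      calc ρ1 * (F.ι (e (ga a b) (gb a b) (gc a b)) * F.ι (e 0 0 (c' + gc a b)))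
          = ρ a b * (((ρ a b)⁻¹ * ρ1) * F.ι (e (ga a b) (gb a b) (gc a b))) *
            F.ι (e 0 0 (c' + gc a b)) := by group
        _ = _ := by rw [← e7.eq]; group
    rw [← hg] at h2
    obtain ⟨d, hd⟩ := cr' ((ρ a b)⁻¹ * ρ1) (F.R.mul_mem (F.R.inv_mem (hρ a b)) hρ1R)
    refine ⟨(ρ a b)⁻¹ * ρ1, F.R.mul_mem (F.R.inv_mem (hρ a b)) hρ1R, d + (c' + gc a b), ?_⟩
    rw [h1, h2, conj_split, conj_split, cz', hd]
    have e8 : m⁻¹ * (m * F.ι (e a b 0) * m⁻¹) * m = F.ι (e a b 0) := by group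
    have e9 : Commute (F.ι (e a b 0)) ((ρ a b)⁻¹ * ρ1) :=
      (F.comm _ (F.R.mul_mem (F.R.inv_mem (hρ a b)) hρ1R) _).symm
    have e10 : e a b (d + (c' + gc a b)) = e a b 0 * e 0 0 (d + (c' + gc a b)) := by
      rw [e_mul]
      have : ∀ x y : F4, y = 0 * x + 0 + y := by decide
      rw [← this, add_zero, add_zero]
    rw [e8, e10, map_mul, ← e00_mul F d]
    calc F.ι (e a b 0) * ((ρ a b)⁻¹ * ρ1 * F.ι (e 0 0 d)) * F.ι (e 0 0 (c' + gc a b))
        = (F.ι (e a b 0) * ((ρ a b)⁻¹ * ρ1)) * (F.ι (e 0 0 d) * F.ι (e 0 0 (c' + gc a b))) := by group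
      _ = _ := by rw [e9.eq]; group

theorem moves {m : X} (hm : P1 F m) {r : X} (hr : r ∈ F.R) (hr1 : r ≠ 1) : m * r * m⁻¹ ≠ r := by
  intro h1
  have h2 : Commute m r := mul_inv_eq_iff_eq_mul.mp h1
  have h3 := F.normR r hr hr1 m h2
  obtain ⟨s, hs, hs1⟩ := hm.nr
  obtain ⟨c, hc⟩ := hm.cr s hs
  have h4 := h3 s hs
  have h5 : F.ι (e 0 0 c) ∈ F.R := by
    have := F.R.mul_mem (F.R.inv_mem hs) h4
    rw [hc, inv_mul_cancel_left] at this
    exact this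
  have h6 := R_L F h5 rfl
  rw [h6, map_one, mul_one] at hc
  exact hs1 hc

theorem noR (F : FourN X) {m : X} (hm : P1 F.toFour m) {ρ : X} (hρ : ρ ∈ F.R) {y y' : L0}
    (hy2 : y * y = 1) (h : m * F.ι y * m⁻¹ = ρ * F.ι y') : ρ = 1 := by
  by_contra hρ1
  obtain ⟨c, hc⟩ := hm.cr ρ hρ
  have hc0 : c ≠ 0 := by
    rintro rfl
    rw [e_zero, map_one, mul_one] at hc
    exact moves hm hρ hρ1 hc
  have hy'2 : y' * y' = 1 := by
    apply F.inj
    have h1 : (ρ * F.ι y') * (ρ * F.ι y') = 1 := by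
      rw [← h]
      calc m * F.ι y * m⁻¹ * (m * F.ι y * m⁻¹) = m * F.ι (y * y) * m⁻¹ := by rw [map_mul]; group
        _ = 1 := by rw [hy2, map_one]; group
    have h2 : Commute ρ (F.ι y') := F.comm ρ hρ y'
    have h3 : (ρ * F.ι y') * (ρ * F.ι y') = (ρ * ρ) * (F.ι y' * F.ι y') := by
      calc (ρ * F.ι y') * (ρ * F.ι y') = ρ * (F.ι y' * ρ) * F.ι y' := by group
        _ = _ := by rw [← h2.eq]; group
    rw [h3, F.el ρ hρ, one_mul] at h1
    rw [map_mul, map_one, h1]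
  have hy'1 : y' ≠ 1 := by
    rintro rfl
    rw [map_one, mul_one] at h
    exact F.noL ρ hρ hρ1 y (isConj_comm.mp (isConj_iff.mpr ⟨m, h⟩))
  have hc2 : e 0 0 c * e 0 0 c = 1 := by
    rw [Facts1.e_sq, mul_zero, e_zero]
  have hc1 : e 0 0 c ≠ 1 := fun h => hc0 (Facts1.e_one h).2.2
  obtain ⟨l, hl⟩ := inv_conj2 hy'1 hy'2 hc1 hc2
  have h5 : F.ι l * (ρ * F.ι y') * (F.ι l)⁻¹ = m * ρ * m⁻¹ := by
    rw [hc, ← hl, map_mul, map_mul, map_inv]
    have h6 : Commute (F.ι l) ρ := (F.comm ρ hρ l).symm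
    calc F.ι l * (ρ * F.ι y') * (F.ι l)⁻¹ = (F.ι l * ρ) * F.ι y' * (F.ι l)⁻¹ := by group
      _ = _ := by rw [h6.eq]; group
  apply F.noL ρ hρ hρ1 y
  rw [isConj_comm]
  rw [isConj_iff]
  refine ⟨m⁻¹ * F.ι l * m, ?_⟩
  rw [← h] at h5
  calc m⁻¹ * F.ι l * m * F.ι y * (m⁻¹ * F.ι l * m)⁻¹
      = m⁻¹ * (F.ι l * (m * F.ι y * m⁻¹) * (F.ι l)⁻¹) * m := by group
    _ = ρ := by rw [h5]; group

/-- **An element of `T1 ∖ T0`.** -/
theorem exists_acts (F : FourN X) : ∃ g, Acts F.toFour g := by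
  obtain ⟨m0, hm0⟩ := exists_P1 F.toFour
  obtain ⟨m, hm⟩ := hm0.exists_P2
  refine ⟨m, ?_, ?_, ?_, ?_, hm.nr⟩
  · intro c
    have := hm.cz c
    rwa [e_02] at this
  · intro a
    by_cases ha : a = 0
    · subst ha
      exact ⟨0, by rw [t_zero, t_zero, map_one]; group⟩
    obtain ⟨ρ, hρ, c, hc⟩ := hm.cs a 0
    have h1 := noR F hm.toP1 hρ (y := e a 0 0)
      (by rw [Facts1.e_sq, mul_zero, e_zero]) hc
    rw [h1, one_mul] at hc
    refine ⟨c, ?_⟩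
    rw [← e_01, ← map_mul, ← e_02, hc, e_mul]
    congr 2
    · ring
  · intro b
    by_cases hb : b = 0
    · subst hb
      exact ⟨0, by rw [t_zero, t_zero, map_one]; group⟩
    obtain ⟨ρ, hρ, c, hc⟩ := hm.cs 0 b
    have h1 := noR F hm.toP1 hρ (y := e 0 b 0)
      (by rw [Facts1.e_sq, zero_mul, e_zero]) hc
    rw [h1, one_mul] at hc
    refine ⟨c, ?_⟩
    rw [← e_12, ← map_mul, ← e_02, hc, e_mul]
    congr 2
    · ring
  · intro r hr
    obtain ⟨c, hc⟩ := hm.cr r hr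
    exact ⟨c, by rw [hc, e_02]⟩

end Cfsg.Agent.StdLThreeFour.RFourActs
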