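import Cfsg.Agent.StdLThreeFour.RFourSide
import Cfsg.Agent.StdLThreeFour.Facts1

/-!
# Standard `L3(4)`, case `|R| = 4`: `TOne` implies `κ = 0` and `UOne`
-/

set_option autoImplicit false
set_option linter.unusedVariables false
set_option linter.constructorNameAsVariable false

namespace Cfsg.Agent.StdLThreeFour.RFourU

open Matrix
open Cfsg.Agent.StdLThreeFour.Base Cfsg.Agent.StdLThreeFour.RFourDefs
open Cfsg.Agent.SporadicA.FieldFour
open Cfsg.Agent.ONType.Psl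
open Cfsg.Agent.StdLThreeFour.RFourCocyc
open Cfsg.Agent.StdLThreeFour.RFourSide

theorem mk_eq {A B : SL3} (c : F4)
    (h : (A : Matrix (Fin 3) (Fin 3) F4) = (B : Matrix (Fin 3) (Fin 3) F4) * Matrix.scalar (Fin 3) c) :
    (QuotientGroup.mk A : PSL3) = QuotientGroup.mk B := by
  symm
  rw [QuotientGroup.eq]
  apply scalar_mem _ c
  show (B⁻¹ * A : SL3).1 = _
  have h1 : (B⁻¹ * A : SL3).1 = (B⁻¹ : SL3).1 * (A : SL3).1 := rfl
  have h2 : (A : SL3).1 = (B : SL3).1 * Matrix.scalar (Fin 3) c := h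
  rw [h1, h2, ← mul_assoc]
  have h3 : (B⁻¹ : SL3).1 * (B : SL3).1 = 1 := by
    have := congrArg Subtype.val (inv_mul_cancel B)
    exact this
  rw [h3, one_mul]

theorem nn_sq (i j : Fin 3) (h : i ≠ j) : nn i j * nn i j = 1 := by
  show (QuotientGroup.mk (N i j * N i j) : PSL3) = QuotientGroup.mk 1
  apply congrArg
  apply Subtype.ext
  show (tm i j 1 * tm j i 1 * tm i j 1) * (tm i j 1 * tm j i 1 * tm i j 1) = 1
  revert h
  revert i j
  decide +kernel

theorem bru12_one : nn 1 2 * t 1 2 1 * nn 1 2 = t 1 2 1 * nn 1 2 * t 1 2 1 := by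
  show (QuotientGroup.mk (N 1 2 * T 1 2 1 * N 1 2) : PSL3) =
    QuotientGroup.mk (T 1 2 1 * N 1 2 * T 1 2 1)
  apply mk_eq 1
  show (tm 1 2 1 * tm 2 1 1 * tm 1 2 1) * tm 1 2 1 * (tm 1 2 1 * tm 2 1 1 * tm 1 2 1) =
    tm 1 2 1 * (tm 1 2 1 * tm 2 1 1 * tm 1 2 1) * tm 1 2 1 * Matrix.diagonal (fun _ => 1)
  decide +kernel

theorem bru12_w : nn 1 2 * t 1 2 ω * nn 1 2 = t 1 2 ω2 * nn 1 2 * hh * t 1 2 ω2 := by
  show (QuotientGroup.mk (N 1 2 * T 1 2 ω * N 1 2) : PSL3) =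
    QuotientGroup.mk (T 1 2 ω2 * N 1 2 * H * T 1 2 ω2)
  apply mk_eq 1
  show (tm 1 2 1 * tm 2 1 1 * tm 1 2 1) * tm 1 2 ω * (tm 1 2 1 * tm 2 1 1 * tm 1 2 1) =
    tm 1 2 ω2 * (tm 1 2 1 * tm 2 1 1 * tm 1 2 1) * hm * tm 1 2 ω2 * Matrix.diagonal (fun _ => 1)
  decide +kernel

theorem bru12_v : nn 1 2 * t 1 2 ω2 * nn 1 2 = t 1 2 ω * nn 1 2 * (hh * hh) * t 1 2 ω := by
  show (QuotientGroup.mk (N 1 2 * T 1 2 ω2 * N 1 2) : PSL3) =
    QuotientGroup.mk (T 1 2 ω * N 1 2 * (H * H) * T 1 2 ω)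
  apply mk_eq 1
  show (tm 1 2 1 * tm 2 1 1 * tm 1 2 1) * tm 1 2 ω2 * (tm 1 2 1 * tm 2 1 1 * tm 1 2 1) =
    tm 1 2 ω * (tm 1 2 1 * tm 2 1 1 * tm 1 2 1) * (hm * hm) * tm 1 2 ω * Matrix.diagonal (fun _ => 1)
  decide +kernel

theorem bru01_one : nn 0 1 * t 0 1 1 * nn 0 1 = t 0 1 1 * nn 0 1 * t 0 1 1 := by
  show (QuotientGroup.mk (N 0 1 * T 0 1 1 * N 0 1) : PSL3) =
    QuotientGroup.mk (T 0 1 1 * N 0 1 * T 0 1 1)
  apply mk_eq 1
  show (tm 0 1 1 * tm 1 0 1 * tm 0 1 1) * tm 0 1 1 * (tm 0 1 1 * tm 1 0 1 * tm 0 1 1) =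
    tm 0 1 1 * (tm 0 1 1 * tm 1 0 1 * tm 0 1 1) * tm 0 1 1 * Matrix.diagonal (fun _ => 1)
  decide +kernel

theorem bru01_w : nn 0 1 * t 0 1 ω * nn 0 1 = t 0 1 ω2 * nn 0 1 * hh * t 0 1 ω2 := by
  show (QuotientGroup.mk (N 0 1 * T 0 1 ω * N 0 1) : PSL3) =
    QuotientGroup.mk (T 0 1 ω2 * N 0 1 * H * T 0 1 ω2)
  apply mk_eq ω
  show (tm 0 1 1 * tm 1 0 1 * tm 0 1 1) * tm 0 1 ω * (tm 0 1 1 * tm 1 0 1 * tm 0 1 1) =
    tm 0 1 ω2 * (tm 0 1 1 * tm 1 0 1 * tm 0 1 1) * hm * tm 0 1 ω2 * Matrix.diagonal (fun _ => ω)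
  decide +kernel

theorem bru01_v : nn 0 1 * t 0 1 ω2 * nn 0 1 = t 0 1 ω * nn 0 1 * (hh * hh) * t 0 1 ω := by
  show (QuotientGroup.mk (N 0 1 * T 0 1 ω2 * N 0 1) : PSL3) =
    QuotientGroup.mk (T 0 1 ω * N 0 1 * (H * H) * T 0 1 ω)
  apply mk_eq ω2
  show (tm 0 1 1 * tm 1 0 1 * tm 0 1 1) * tm 0 1 ω2 * (tm 0 1 1 * tm 1 0 1 * tm 0 1 1) =
    tm 0 1 ω * (tm 0 1 1 * tm 1 0 1 * tm 0 1 1) * (hm * hm) * tm 0 1 ω *
      Matrix.diagonal (fun _ => ω2)
  decide +kernel

variable {X : Type*} [Group X] {ι : L0 →* X} {r n : F4 → X} {κ : F4}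

/-- the vectors of `A_1` -/
def aa1 (ι : L0 →* X) (v : V) : X := ι (t 0 1 v.1 * t 0 2 v.2)
/-- the vectors of `A_2` -/
def aa2 (ι : L0 →* X) (v : V) : X := ι (t 1 2 v.1 * t 0 2 v.2)

theorem nn12_01 (u : F4) : nn 1 2 * t 0 1 u = t 0 2 u * nn 1 2 := by
  have h := t_n 1 2 0 2 u (by decide) (by decide)
  have e1 : Equiv.swap (1 : Fin 3) 2 0 = 0 := by decide
  have e2 : Equiv.swap (1 : Fin 3) 2 2 = 1 := by decide
  rw [e1, e2] at h
  exact h.symm

theorem nn12_02 (u : F4) : nn 1 2 * t 0 2 u = t 0 1 u * nn 1 2 := by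
  have h := t_n 1 2 0 1 u (by decide) (by decide)
  have e1 : Equiv.swap (1 : Fin 3) 2 0 = 0 := by decide
  have e2 : Equiv.swap (1 : Fin 3) 2 1 = 2 := by decide
  rw [e1, e2] at h
  exact h.symm

theorem nn01_12 (u : F4) : nn 0 1 * t 1 2 u = t 0 2 u * nn 0 1 := by
  have h := t_n 0 1 0 2 u (by decide) (by decide)
  have e1 : Equiv.swap (0 : Fin 3) 1 0 = 1 := by decide
  have e2 : Equiv.swap (0 : Fin 3) 1 2 = 2 := by decide
  rw [e1, e2] at h
  exact h.symm

theorem nn01_02 (u : F4) : nn 0 1 * t 0 2 u = t 1 2 u * nn 0 1 := by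
  have h := t_n 0 1 1 2 u (by decide) (by decide)
  have e1 : Equiv.swap (0 : Fin 3) 1 1 = 0 := by decide
  have e2 : Equiv.swap (0 : Fin 3) 1 2 = 2 := by decide
  rw [e1, e2] at h
  exact h.symm

theorem t0102 (u v : F4) : t 0 1 u * t 0 2 v = t 0 2 v * t 0 1 u := t_row 0 1 2 u v (by decide) (by decide)

theorem t0212 (u v : F4) : t 0 2 u * t 1 2 v = t 1 2 v * t 0 2 u := t_col 0 2 1 u v (by decide) (by decide)

theorem e_eq1 (v : V) : t 0 1 v.1 * t 0 2 v.2 = e v.1 0 v.2 := by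
  unfold e; rw [t_zero, mul_one]

theorem e_eq2 (v : V) : t 1 2 v.1 * t 0 2 v.2 = e 0 v.1 v.2 := by
  unfold e; rw [t_zero, one_mul]

theorem n_hh' (h : TOne ι r n κ) (l : F4) : ι hh * n l = n (ω * l) * ι hh := by
  have h1 := h.n_hh (ω * l)
  have h2 : ∀ l : F4, ω2 * (ω * l) = l := by decide
  rw [h2] at h1
  rw [← h1]; group

theorem n_hh'' (h : TOne ι r n κ) (l : F4) : ι (hh * hh) * n l = n (ω2 * l) * ι (hh * hh) := by
  rw [map_mul, mul_assoc, n_hh' h, ← mul_assoc, n_hh' h, mul_assoc]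
  have h2 : ∀ l : F4, ω * (ω * l) = ω2 * l := by decide
  rw [h2]

theorem one_or (s : F4) (hs : s ≠ 0) : s = 1 ∨ s = ω ∨ s = ω2 := by
  revert s; decide

theorem side1 (h : TOne ι r n κ) :
    Side (aa1 ι) (fun s => ι (t 1 2 s)) (ι (nn 1 2)) r n κ where
  aa_add v w := by
    unfold aa1
    rw [← map_mul]
    congr 1
    rw [Prod.fst_add, Prod.snd_add, ← t_add 0 1 _ _ (by decide), ← t_add 0 2 _ _ (by decide)]
    calc t 0 1 v.1 * t 0 1 w.1 * (t 0 2 v.2 * t 0 2 w.2)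
        = t 0 1 v.1 * (t 0 1 w.1 * t 0 2 v.2) * t 0 2 w.2 := by group
      _ = _ := by rw [t0102]; group
  r_add := h.r_add
  r_aa m v := h.r_L m _
  ra_inj m v hm := by
    unfold aa1 at hm
    have h1 : r m = ι (t 0 1 v.1 * t 0 2 v.2)⁻¹ := by
      rw [map_inv]; exact eq_inv_of_mul_eq_one_left hm
    have h2 := h.r_notL _ _ h1
    subst h2
    have h3 : r 0 = 1 := by
      have := h.r_add 0 0
      rw [add_zero] at this
      exact left_eq_mul.mp this
    rw [h3, one_mul] at hm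
    have h4 := h.inj (hm.trans (map_one ι).symm)
    rw [e_eq1] at h4
    obtain ⟨h5, -, h6⟩ := Facts1.e_one h4
    exact ⟨rfl, Prod.ext h5 h6⟩
  U_add s s' := by
    show ι _ = ι _ * ι _
    rw [← map_mul, t_add 1 2 _ _ (by decide)]
  U_aa s v := by
    unfold aa1 act
    show ι _ * ι _ = ι _ * ι _
    rw [← map_mul, ← map_mul]
    congr 1
    simp only [one_mul, zero_mul, add_zero]
    have h1 := swap v.1 s
    rw [← mul_assoc, h1, ← t_add 0 2 _ _ (by decide)]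
    have h2 := t0212 (v.1 * s) s
    have h3 := t0212 v.2 s
    rw [mul_comm s v.1]
    calc t 0 1 v.1 * t 1 2 s * t 0 2 (v.1 * s) * t 0 2 v.2
        = t 0 1 v.1 * (t 1 2 s * t 0 2 (v.1 * s)) * t 0 2 v.2 := by group
      _ = t 0 1 v.1 * t 0 2 (v.1 * s) * (t 1 2 s * t 0 2 v.2) := by rw [← h2]; group
      _ = _ := by rw [← h3]; group
  U_r s m := (h.r_L m _).symm
  U_n s l := (h.n_S l _ ⟨0, s, 0, (e_12 s).symm⟩).symm
  W_sq := by rw [← map_mul, nn_sq 1 2 (by decide), map_one]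
  W_aa v := by
    unfold aa1 act
    show ι _ * ι _ = ι _ * ι _
    rw [← map_mul, ← map_mul]
    congr 1
    simp only [one_mul, zero_mul, add_zero, zero_add]
    rw [← mul_assoc, nn12_01, mul_assoc, nn12_02, ← mul_assoc, t0102]
  W_r m := (h.r_L m _).symm
  bru s hs := by
    have e1 : (1 : F4)⁻¹ = 1 := by decide
    have e2 : (ω : F4)⁻¹ = ω2 := by decide
    have e3 : (ω2 : F4)⁻¹ = ω := by decide
    rcases one_or s hs with rfl | rfl | rfl
    · refine ⟨1, ?_, fun a => by simp⟩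
      show ι _ * ι _ * ι _ = ι _ * ι _ * 1 * ι _
      rw [e1, ← map_mul, ← map_mul, bru12_one, map_mul, map_mul, mul_one]
    · refine ⟨ι hh, ?_, fun a => n_hh' h a⟩
      show ι _ * ι _ * ι _ = ι _ * ι _ * ι _ * ι _
      rw [e2, ← map_mul, ← map_mul, bru12_w, map_mul, map_mul, map_mul]
    · refine ⟨ι (hh * hh), ?_, fun a => n_hh'' h a⟩
      show ι _ * ι _ * ι _ = ι _ * ι _ * ι _ * ι _
      rw [e3, ← map_mul, ← map_mul, bru12_v, map_mul, map_mul, map_mul]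
  n_aa l v := h.n_S l _ ⟨v.1, 0, v.2, e_eq1 v⟩
  rn m l := by
    rw [h.rn]
    unfold aa1
    rw [t_zero, one_mul]
  n_zero := h.n_zero
  nn_sq l := by
    rw [h.nn_sq]
    unfold aa1
    rw [t_zero, one_mul]
  n_comm := h.n_comm
  n3 := h.n3
  cent x h1 h2 := by
    obtain ⟨m, a, ⟨u, c, rfl⟩, hx⟩ := h.cent_RA false x h1 (by
      rintro _ ⟨u, c, rfl⟩
      have := h2 (u, c)
      unfold aa1 at this
      rw [e_eq1] at this
      exact this)
    refine ⟨m, (u, c), ?_⟩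
    rw [hx]
    unfold aa1
    rw [e_eq1]
    rfl

theorem side2 (h : TOne ι r n κ) :
    Side (aa2 ι) (fun s => ι (t 0 1 s)) (ι (nn 0 1)) r n κ where
  aa_add v w := by
    unfold aa2
    rw [← map_mul]
    congr 1
    rw [Prod.fst_add, Prod.snd_add, ← t_add 1 2 _ _ (by decide), ← t_add 0 2 _ _ (by decide)]
    calc t 1 2 v.1 * t 1 2 w.1 * (t 0 2 v.2 * t 0 2 w.2)
        = t 1 2 v.1 * (t 1 2 w.1 * t 0 2 v.2) * t 0 2 w.2 := by group
      _ = _ := by rw [← t0212]; group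
  r_add := h.r_add
  r_aa m v := h.r_L m _
  ra_inj m v hm := by
    unfold aa2 at hm
    have h1 : r m = ι (t 1 2 v.1 * t 0 2 v.2)⁻¹ := by
      rw [map_inv]; exact eq_inv_of_mul_eq_one_left hm
    have h2 := h.r_notL _ _ h1
    subst h2
    have h3 : r 0 = 1 := by
      have := h.r_add 0 0
      rw [add_zero] at this
      exact left_eq_mul.mp this
    rw [h3, one_mul] at hm
    have h4 := h.inj (hm.trans (map_one ι).symm)
    rw [e_eq2] at h4
    obtain ⟨-, h5, h6⟩ := Facts1.e_one h4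
    exact ⟨rfl, Prod.ext h5 h6⟩
  U_add s s' := by
    show ι _ = ι _ * ι _
    rw [← map_mul, t_add 0 1 _ _ (by decide)]
  U_aa s v := by
    unfold aa2 act
    show ι _ * ι _ = ι _ * ι _
    rw [← map_mul, ← map_mul]
    congr 1
    simp only [one_mul, zero_mul, add_zero]
    have h1 : t 0 1 s * t 1 2 v.1 = t 1 2 v.1 * t 0 1 s * t 0 2 (s * v.1) := by
      rw [swap s v.1, mul_assoc, t_add 0 2 _ _ (by decide), RFourCocyc.add_self, t_zero, mul_one]
    rw [← mul_assoc, h1, ← t_add 0 2 _ _ (by decide)]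
    have h2 := t0102 s (s * v.1)
    have h3 := t0102 s v.2
    calc t 1 2 v.1 * t 0 1 s * t 0 2 (s * v.1) * t 0 2 v.2
        = t 1 2 v.1 * (t 0 1 s * t 0 2 (s * v.1)) * t 0 2 v.2 := by group
      _ = t 1 2 v.1 * t 0 2 (s * v.1) * (t 0 1 s * t 0 2 v.2) := by rw [h2]; group
      _ = _ := by rw [h3]; group
  U_r s m := (h.r_L m _).symm
  U_n s l := (h.n_S l _ ⟨s, 0, 0, (e_01 s).symm⟩).symm
  W_sq := by rw [← map_mul, nn_sq 0 1 (by decide), map_one]
  W_aa v := by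
    unfold aa2 act
    show ι _ * ι _ = ι _ * ι _
    rw [← map_mul, ← map_mul]
    congr 1
    simp only [one_mul, zero_mul, add_zero, zero_add]
    rw [← mul_assoc, nn01_12, mul_assoc, nn01_02, ← mul_assoc, t0212]
  W_r m := (h.r_L m _).symm
  bru s hs := by
    have e1 : (1 : F4)⁻¹ = 1 := by decide
    have e2 : (ω : F4)⁻¹ = ω2 := by decide
    have e3 : (ω2 : F4)⁻¹ = ω := by decide
    rcases one_or s hs with rfl | rfl | rfl
    · refine ⟨1, ?_, fun a => by simp⟩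
      show ι _ * ι _ * ι _ = ι _ * ι _ * 1 * ι _
      rw [e1, ← map_mul, ← map_mul, bru01_one, map_mul, map_mul, mul_one]
    · refine ⟨ι hh, ?_, fun a => n_hh' h a⟩
      show ι _ * ι _ * ι _ = ι _ * ι _ * ι _ * ι _
      rw [e2, ← map_mul, ← map_mul, bru01_w, map_mul, map_mul, map_mul]
    · refine ⟨ι (hh * hh), ?_, fun a => n_hh'' h a⟩
      show ι _ * ι _ * ι _ = ι _ * ι _ * ι _ * ι _
      rw [e3, ← map_mul, ← map_mul, bru01_v, map_mul, map_mul, map_mul]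
  n_aa l v := h.n_S l _ ⟨0, v.1, v.2, e_eq2 v⟩
  rn m l := by
    rw [h.rn]
    unfold aa2
    rw [t_zero, one_mul]
  n_zero := h.n_zero
  nn_sq l := by
    rw [h.nn_sq]
    unfold aa2
    rw [t_zero, one_mul]
  n_comm := h.n_comm
  n3 := h.n3
  cent x h1 h2 := by
    obtain ⟨m, a, ⟨u, c, rfl⟩, hx⟩ := h.cent_RA true x h1 (by
      rintro _ ⟨u, c, rfl⟩
      have := h2 (u, c)
      unfold aa2 at this
      rw [e_eq2] at this
      exact this)
    refine ⟨m, (u, c), ?_⟩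
    rw [hx]
    unfold aa2
    rw [e_eq2]
    rfl

section

variable {aa : V → X} {U : F4 → X} {W : X}

/-- consequences of the cocycle relation -/
theorem cons (S : Side aa U W r n κ) (c : F4) (hc : ∀ v w, Side.el U W n v * Side.el U W n w =
    Side.el U W n (v + w) * (r (c * det v w) * aa (sm (c * det v w) v))) :
    (∀ l l', n (l + l') = n l * n l') ∧
    (∀ a b, U b * (W * n a * W⁻¹) * (U b)⁻¹ = (W * n a * W⁻¹) * n (a * b) * r (c * (a * a * b)) *
      aa (c * (a * a * a * b), 0)) ∧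
    (∀ l a, n l * (W * n a * W⁻¹) = (W * n a * W⁻¹) * n l * aa (c * (l * a * a), c * (l * l * a))) := by
  have hP : ∀ a, W * n a * W⁻¹ = Side.el U W n (a, 0) := by
    intro a
    have h1 := S.el_W (0, a)
    rw [S.el_zero_fst] at h1
    have e : act 0 1 1 0 (0, a) = (a, 0) := by unfold act; ext <;> simp
    rw [e] at h1
    rw [h1, mul_inv_cancel_right]
  refine ⟨?_, ?_, ?_⟩
  · intro l l'
    have h1 := hc (0, l) (0, l')
    have e0 : ((0, l) + (0, l') : V) = (0, l + l') := by ext <;> simp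
    have e1 : RFourCocyc.det (0, l) (0, l') = 0 := by unfold RFourCocyc.det; simp
    have e2 : sm 0 (0, l) = 0 := by unfold sm; simp
    rw [e0, e1, mul_zero, e2, S.r_zero, S.aa_zero, mul_one, mul_one, S.el_zero_fst, S.el_zero_fst,
      S.el_zero_fst] at h1
    exact h1.symm
  · intro a b
    rw [hP]
    have h1 := S.el_U b (a, 0)
    have e1 : act 1 0 b 1 (a, 0) = (a, a * b) := by
      unfold act; ext
      · simp
      · simp [mul_comm]
    rw [h1, e1, mul_inv_cancel_right]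
    have h2 := hc (a, 0) (0, a * b)
    have e2 : ((a, 0) + (0, a * b) : V) = (a, a * b) := by ext <;> simp
    have e3 : RFourCocyc.det (a, 0) (0, a * b) = a * a * b := by unfold RFourCocyc.det; simp only; ring
    have e4 : sm (c * (a * a * b)) (a, 0) = (c * (a * a * a * b), 0) := by
      unfold sm; ext
      · simp only; ring
      · simp
    rw [e2, e3, e4, S.el_zero_fst] at h2
    rw [h2]
    have h3 := S.r_aa (c * (a * a * b)) (c * (a * a * a * b), 0)
    have h4 : r (c * (a * a * b)) * r (c * (a * a * b)) = 1 := by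
      rw [← S.r_add, RFourCocyc.add_self, S.r_zero]
    have h5 : aa (c * (a * a * a * b), 0) * aa (c * (a * a * a * b), 0) = 1 := by
      rw [← S.aa_add, V_add_self, S.aa_zero]
    calc Side.el U W n (a, a * b) = Side.el U W n (a, a * b) * r (c * (a * a * b)) *
          (aa (c * (a * a * a * b), 0) * aa (c * (a * a * a * b), 0)) * r (c * (a * a * b)) := by
          rw [h5, mul_one, mul_assoc, h4, mul_one]
      _ = Side.el U W n (a, a * b) * (r (c * (a * a * b)) * aa (c * (a * a * a * b), 0)) *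
          (aa (c * (a * a * a * b), 0) * r (c * (a * a * b))) := by group
      _ = _ := by rw [← h3.eq]; group
  · intro l a
    rw [hP]
    have h1 := hc (0, l) (a, 0)
    have h2 := hc (a, 0) (0, l)
    have e1 : ((0, l) + (a, 0) : V) = (a, l) := by ext <;> simp
    have e2 : ((a, 0) + (0, l) : V) = (a, l) := by ext <;> simp
    have e3 : RFourCocyc.det (0, l) (a, 0) = l * a := by unfold RFourCocyc.det; simp
    have e4 : RFourCocyc.det (a, 0) (0, l) = l * a := by unfold RFourCocyc.det; simp [mul_comm]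
    rw [e1, e3, S.el_zero_fst] at h1
    rw [e2, e4, S.el_zero_fst] at h2
    rw [h1, h2]
    have e5 : aa (sm (c * (l * a)) (0, l)) = aa (sm (c * (l * a)) (a, 0)) *
        aa (c * (l * a * a), c * (l * l * a)) := by
      rw [← S.aa_add]
      congr 1
      unfold sm
      ext
      · have : ∀ x y : F4, x = 0 → x = y + y := by decide
        simp only [mul_zero, Prod.fst_add]
        rw [mul_assoc c, RFourCocyc.add_self]
      · simp only [mul_zero, Prod.snd_add, zero_add]; ring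
    rw [e5]
    group

end

theorem main (h : TOne ι r n κ) : κ = 0 ∧ ∃ c₁ c₂, UOne ι r n c₁ c₂ := by
  obtain ⟨hκ, c₁, h1⟩ := (side1 h).main
  obtain ⟨-, c₂, h2⟩ := (side2 h).main
  refine ⟨hκ, c₁, c₂, ?_⟩
  obtain ⟨a1, a2, a3⟩ := cons (side1 h) c₁ h1
  obtain ⟨-, b2, b3⟩ := cons (side2 h) c₂ h2
  refine ⟨a1, ?_, ?_, ?_, ?_⟩
  · intro a b
    have := a2 a b
    unfold aa1 at this
    rw [t_zero, mul_one] at this
    exact this
  · intro a b
    have := b2 a b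
    unfold aa2 at this
    rw [t_zero, mul_one] at this
    exact this
  · intro l a
    have := a3 l a
    unfold aa1 at this
    rw [this, map_mul]
    simp only [mul_assoc]
  · intro l a
    have := b3 l a
    unfold aa2 at this
    rw [this, map_mul]
    simp only [mul_assoc]

end Cfsg.Agent.StdLThreeFour.RFourU
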