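import Cfsg.Agent.StdLThreeFour.RFourT
import Cfsg.Agent.StdLThreeFour.RFourActs
import Cfsg.Agent.StdLThreeFour.RFourU

/-!
# Standard `L3(4)`, case `|R| = 4`: the coordinates, final form
-/

set_option autoImplicit false

namespace Cfsg.Agent.StdLThreeFour.RFourTone

open Cfsg.Agent.StdLThreeFour.Base Cfsg.Agent.StdLThreeFour.RFour0 Cfsg.Agent.StdLThreeFour.RFourA
open Cfsg.Agent.StdLThreeFour.RFourDefs Cfsg.Agent.StdLThreeFour.RFourActs0
open Cfsg.Agent.SporadicA.FieldFour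
open Cfsg.Agent.ONType.Psl

variable {X : Type*} [Group X]

/-- **[T1]** -/
theorem tone_of_acts (F : FourN X) {g : X} (hg : Acts F.toFour g) :
    ∃ (r n : F4 → X) (κ : F4), TOne F.ι r n κ ∧ Set.range r = F.R := by
  obtain ⟨r, n, κ, h, h1, h2⟩ := RFourT.exists_tone_of_acts F hg.gz hg.g1 hg.g2 hg.gr hg.nr
  refine ⟨r, n, κ, h, ?_⟩
  ext x
  constructor
  · rintro ⟨m, rfl⟩; exact h1 m
  · intro hx
    obtain ⟨m, rfl⟩ := h2 x hx
    exact ⟨m, rfl⟩

/-- **[T1] + [U]**: the coordinates with all the local relations. -/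
theorem exists_tone (F : FourN X) : ∃ (r n : F4 → X) (c₁ c₂ : F4),
    TOne F.ι r n 0 ∧ UOne F.ι r n c₁ c₂ ∧ Set.range r = F.R := by
  obtain ⟨g, hg⟩ := RFourActs.exists_acts F
  obtain ⟨r, n, κ, h, hR⟩ := tone_of_acts F hg
  obtain ⟨hκ, c₁, c₂, hu⟩ := RFourU.main h
  subst hκ
  exact ⟨r, n, c₁, c₂, h, hu, hR⟩

end Cfsg.Agent.StdLThreeFour.RFourTone
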