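import Cfsg.Agent.StdLThreeFour.RFourRhoB
import Cfsg.Agent.StdLThreeFour.RFourTI
import Cfsg.Agent.StdLThreeFour.RFourTone
import Cfsg.Agent.StdLThreeFour.RFourC
import Cfsg.Agent.StdLThreeFour.RFourNorm

/-!
# Standard `L3(4)`, case `|R| = 4`: from `FourN` to the coordinates with `ρ`
-/

set_option autoImplicit false
set_option linter.unusedVariables false

namespace Cfsg.Agent.StdLThreeFour.RFourMain

open Cfsg.Agent.StdLThreeFour.Base Cfsg.Agent.StdLThreeFour.RFourDefs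
open Cfsg.Agent.StdLThreeFour.RFour0 Cfsg.Agent.StdLThreeFour.RFourA
open Cfsg.Agent.StdLThreeFour.RFourRho Cfsg.Agent.StdLThreeFour.RFourRhoB
open Cfsg.Agent.SporadicA.FieldFour
open Cfsg.Agent.ONType.Psl

variable {X : Type*} [Group X]

/-- **The local configuration.** -/
theorem exists_rho (F : FourN X) : ∃ (ι : L0 →* X) (r n : F4 → X) (ρ : X), Rho ι r n ρ ∧
    Set.range r = F.R ∧ ι.range = F.ι.range ∧ (∀ j, (A j).map ι = (A j).map F.ι) ∧
    S0.map ι = S0.map F.ι := by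
  obtain ⟨r, n, c₁, c₂, ht, hu, hr⟩ := RFourTone.exists_tone F
  have hc := RFourC.mul_eq_one ht hu
  obtain ⟨β, hβ, ht', hu'⟩ := RFourNorm.exists_norm ht hu ω2 ω (by decide)
  have hr' : Set.range (fun m => r (β * m)) = F.R := by
    rw [← hr]
    ext x
    constructor
    · rintro ⟨m, rfl⟩; exact ⟨_, rfl⟩
    · rintro ⟨m, rfl⟩
      refine ⟨β⁻¹ * m, ?_⟩
      show r (β * (β⁻¹ * m)) = r m
      rw [mul_inv_cancel_left₀ hβ]
  have mem : ∀ m, r (β * m) ∈ F.R := fun m => by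
    have : r (β * m) ∈ (F.R : Set X) := by rw [← hr']; exact ⟨m, rfl⟩
    exact this
  have mem' : ∀ s ∈ F.R, ∃ m, r (β * m) = s := fun s hs => by
    have : s ∈ (F.R : Set X) := hs
    rw [← hr'] at this
    exact this
  have hyp : RHyp (F.ι.comp (RFourNorm.δ β hβ)) (fun m => r (β * m)) n := by
    refine ⟨ht', hu', ?_, ?_⟩
    · intro x m m' hm hx m₁
      have h1 : r (β * m) ≠ 1 := by
        intro h
        apply hm
        exact ht'.r_notL m 1 (by rw [map_one]; exact h)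
      obtain ⟨m₂, h2⟩ := mem' _ (RFourTI.ti F (mem m) h1 (by
        show x * r (β * m) * x⁻¹ ∈ F.R
        have hx' : x * r (β * m) * x⁻¹ = r (β * m') := hx
        rw [hx']; exact mem m') _ (mem m₁))
      exact ⟨m₂, h2.symm⟩
    · intro x hx
      obtain ⟨α, hα⟩ := F.actR x (by
        intro s hs
        obtain ⟨m, rfl⟩ := mem' s hs
        obtain ⟨m', hm'⟩ := hx m
        have hm2 : x * r (β * m) * x⁻¹ = r (β * m') := hm'
        rw [hm2]; exact mem m')
      let δe : L0 ≃* L0 := MulEquiv.ofBijective (RFourNorm.δ β hβ)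
        ⟨RFourNorm.δ_inj β hβ, RFourNorm.δ_surj β hβ⟩
      refine ⟨(δe.trans α).trans δe.symm, fun y => ?_⟩
      show x * F.ι (RFourNorm.δ β hβ y) * x⁻¹ = F.ι (δe (δe.symm (α (δe y))))
      rw [hα, MulEquiv.apply_symm_apply]
      rfl
  obtain ⟨n', ρ, hρ⟩ := RFourRhoB.exists_rho hyp
  exact ⟨_, _, n', ρ, hρ, hr', RFourNorm.range_comp _ β hβ, fun j => RFourNorm.map_A _ β hβ j,
    RFourNorm.map_S _ β hβ⟩

end Cfsg.Agent.StdLThreeFour.RFourMain
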