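import Cfsg.Agent.StdLThreeFour.OutType
import Cfsg.Agent.StdLThreeFour.RFourMain

/-!
# Standard `L3(4)`, case `|R| = 4`: the involution of graph type
-/

set_option autoImplicit false
set_option linter.unusedVariables false
set_option linter.constructorNameAsVariable false

namespace Cfsg.Agent.StdLThreeFour.OutInv

open Cfsg.Agent.StdLThreeFour.Base Cfsg.Agent.StdLThreeFour.RFourDefs
open Cfsg.Agent.SporadicA.FieldFour
open Cfsg.Agent.ONType.Psl Cfsg.Agent.ONType.OuterL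
open Cfsg.Agent.StdLThreeFour.RFourU Cfsg.Agent.StdLThreeFour.OutType
open Cfsg.Agent.StdLThreeFour.RFour0 Cfsg.Agent.StdLThreeFour.RFourRhoB

variable {X : Type*} [Group X] {ι : L0 →* X} {r n : F4 → X}

/-- commuting with the root elements -/
theorem comm_of_t {x : X} (h : ∀ i j : Fin 3, i ≠ j → ∀ u, x * ι (t i j u) * x⁻¹ = ι (t i j u)) (v : L0) :
    Commute x (ι v) := by
  have key : ∀ v ∈ Subgroup.closure {A : PSL3 | ∃ (i j : Fin 3) (_ : i ≠ j) (c : F4), A = t i j c},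
      Commute x (ι v) := by
    intro v hv
    induction hv using Subgroup.closure_induction with
    | mem v hv =>
      obtain ⟨i, j, hij, u, rfl⟩ := hv
      exact mul_inv_eq_iff_eq_mul.mp (h i j hij u)
    | one => rw [map_one]; exact Commute.one_right _
    | mul a b _ _ ha hb => rw [map_mul]; exact ha.mul_right hb
    | inv a _ ha => rw [map_inv]; exact ha.inv_right
  exact key v (by rw [Cfsg.Agent.ONType.PslCard.closure_t]; trivial)

/-- normalising `ι L` -/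
theorem norm_of_t {x : X} (h : ∀ i j : Fin 3, i ≠ j → ∀ u, ∃ v, x * ι (t i j u) * x⁻¹ = ι v) (v : L0) :
    ∃ v', x * ι v * x⁻¹ = ι v' := by
  have key : ∀ v ∈ Subgroup.closure {A : PSL3 | ∃ (i j : Fin 3) (_ : i ≠ j) (c : F4), A = t i j c},
      ∃ v', x * ι v * x⁻¹ = ι v' := by
    intro v hv
    induction hv using Subgroup.closure_induction with
    | mem v hv =>
      obtain ⟨i, j, hij, u, rfl⟩ := hv
      exact h i j hij u
    | one => exact ⟨1, by simp⟩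
    | mul a b _ _ ha hb =>
      obtain ⟨a', ha⟩ := ha
      obtain ⟨b', hb⟩ := hb
      refine ⟨a' * b', ?_⟩
      rw [map_mul, map_mul, ← ha, ← hb]; group
    | inv a _ ha =>
      obtain ⟨a', ha⟩ := ha
      refine ⟨a'⁻¹, ?_⟩
      rw [map_inv, map_inv, ← ha]; group
  exact key v (by rw [Cfsg.Agent.ONType.PslCard.closure_t]; trivial)

/-- an element of graph type, corrected by an element of the torus, has its square in the centraliser of `L` -/
theorem exists_sq {d : F4} (hd : d ≠ 0) {x : X} (hx : Gr ι r n d x) :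
    ∃ l : L0, ∀ y, Commute (ι l * x * (ι l * x)) (ι y) := by
  have h1 : ∀ (i j : Fin 3), i ≠ j → ∀ u, (ι hh)⁻¹ * ι (t i j u) * ι hh = ι (t i j (kap i j * u)) := by
    intro i j hij u
    rw [mul_assoc, ← map_mul, t_h i j u hij, map_mul]; group
  have h2 : ∀ (i j : Fin 3), i ≠ j → ∀ u, ι hh * ι (t i j u) * (ι hh)⁻¹ =
      ι (t i j ((kap i j)⁻¹ * u)) := by
    intro i j hij u
    have h3 := t_h i j ((kap i j)⁻¹ * u) hij
    have h4 : ∀ (i j : Fin 3) (u : F4), kap i j * ((kap i j)⁻¹ * u) = u := by decide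
    rw [h4] at h3
    rw [← map_mul, ← h3, map_mul]; group
  have hcases : ∀ d : F4, d ≠ 0 → d = 1 ∨ d = ω ∨ d = ω2 := by decide
  rcases hcases d hd with rfl | rfl | rfl
  · refine ⟨1, comm_of_t (fun i j hij u => ?_)⟩
    rw [map_one, one_mul]
    calc x * x * ι (t i j u) * (x * x)⁻¹ = x * (x * ι (t i j u) * x⁻¹) * x⁻¹ := by group
      _ = _ := by
        rw [hx.act i j hij, hx.act _ _ (rv_ne hij.symm), rv_rv, rv_rv]
        have h4 : ∀ (i j : Fin 3) (u : F4),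
            dd 1 i * (dd 1 j)⁻¹ * (dd 1 (rv j) * (dd 1 (rv i))⁻¹ * u) = u := by decide
        rw [h4]
  · refine ⟨hh⁻¹, comm_of_t (fun i j hij u => ?_)⟩
    rw [map_inv]
    have h5 : ∀ (i j : Fin 3), i ≠ j → ∀ u, ((ι hh)⁻¹ * x) * ι (t i j u) * ((ι hh)⁻¹ * x)⁻¹ =
        ι (t (rv j) (rv i) (kap (rv j) (rv i) * (dd ω (rv j) * (dd ω (rv i))⁻¹ * u))) := by
      intro i j hij u
      rw [← h1 _ _ (rv_ne hij.symm), ← hx.act i j hij]; group
    calc (ι hh)⁻¹ * x * ((ι hh)⁻¹ * x) * ι (t i j u) * ((ι hh)⁻¹ * x * ((ι hh)⁻¹ * x))⁻¹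
        = ((ι hh)⁻¹ * x) * (((ι hh)⁻¹ * x) * ι (t i j u) * ((ι hh)⁻¹ * x)⁻¹) * ((ι hh)⁻¹ * x)⁻¹ := by
          group
      _ = _ := by
        rw [h5 i j hij, h5 _ _ (rv_ne hij.symm), rv_rv, rv_rv]
        have h4 : ∀ (i j : Fin 3), i ≠ j → ∀ (u : F4),
            kap i j * (dd ω i * (dd ω j)⁻¹ * (kap (rv j) (rv i) *
              (dd ω (rv j) * (dd ω (rv i))⁻¹ * u))) = u := by decide
        rw [h4 i j hij]
  · refine ⟨hh, comm_of_t (fun i j hij u => ?_)⟩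
    have h5 : ∀ (i j : Fin 3), i ≠ j → ∀ u, (ι hh * x) * ι (t i j u) * (ι hh * x)⁻¹ =
        ι (t (rv j) (rv i) ((kap (rv j) (rv i))⁻¹ * (dd ω2 (rv j) * (dd ω2 (rv i))⁻¹ * u))) := by
      intro i j hij u
      rw [← h2 _ _ (rv_ne hij.symm), ← hx.act i j hij]; group
    calc ι hh * x * (ι hh * x) * ι (t i j u) * (ι hh * x * (ι hh * x))⁻¹
        = (ι hh * x) * ((ι hh * x) * ι (t i j u) * (ι hh * x)⁻¹) * (ι hh * x)⁻¹ := by
          group
      _ = _ := by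
        rw [h5 i j hij, h5 _ _ (rv_ne hij.symm), rv_rv, rv_rv]
        have h4 : ∀ (i j : Fin 3), i ≠ j → ∀ (u : F4),
            (kap i j)⁻¹ * (dd ω2 i * (dd ω2 j)⁻¹ * ((kap (rv j) (rv i))⁻¹ *
              (dd ω2 (rv j) * (dd ω2 (rv i))⁻¹ * u))) = u := by decide
        rw [h4 i j hij]

/-- the data used for the exclusion of the outer part -/
structure OInp (F : Four X) (ι : L0 →* X) (r n : F4 → X) (ρ τ : X) (Y : Subgroup X) : Prop where
  rho : Rho ι r n ρ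
  rng : Set.range r = F.R
  -- the subgroup `Y`
  ιY : ∀ y, ι y ∈ Y
  rY : ∀ m, r m ∈ Y
  nY : ∀ l, n l ∈ Y
  ρY : ρ ∈ Y
  gen : Y ≤ Subgroup.closure (Set.range ι ∪ Set.range r ∪ Set.range n ∪ {ρ})
  -- the transposition
  τY : τ ∈ Y
  τ1 : Commute τ (r 1)
  τw : ¬ Commute τ (r ω)

variable {F : Four X} {ρ τ : X} {Y : Subgroup X}

namespace OInp

theorem tone (h : OInp F ι r n ρ τ Y) : TOne ι r n 0 := h.rho.hyp.t

theorem uone (h : OInp F ι r n ρ τ Y) : UOne ι r n ω2 ω := h.rho.hyp.u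

theorem ρL (h : OInp F ι r n ρ τ Y) : ∀ y, Commute ρ (ι y) := h.rho.comm

theorem ρr (h : OInp F ι r n ρ τ Y) (m : F4) : ρ⁻¹ * r m * ρ = r (ω * m) := by
  have h1 := h.rho.act_r (ω * m)
  have h2 : ∀ m : F4, ω2 * (ω * m) = m := by decide
  rw [h2] at h1
  rw [← h1]; group

theorem r_mem (h : OInp F ι r n ρ τ Y) (m : F4) : r m ∈ F.R := by
  have : r m ∈ (F.R : Set X) := by rw [← h.rng]; exact ⟨m, rfl⟩
  exact this

theorem exists_r (h : OInp F ι r n ρ τ Y) {x : X} (hx : x ∈ F.R) : ∃ m, x = r m := by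
  have : x ∈ Set.range r := by rw [h.rng]; exact hx
  obtain ⟨m, rfl⟩ := this
  exact ⟨m, rfl⟩

theorem r_ne (h : OInp F ι r n ρ τ Y) {m : F4} (hm : m ≠ 0) : r m ≠ 1 := by
  intro h1
  apply hm
  apply r_inj h.tone.toROne
  rw [h1, r_zero h.tone.toROne]

/-- `ρ` on the left -/
theorem ρr' (h : OInp F ι r n ρ τ Y) (m : F4) : ρ * r m * ρ⁻¹ = r (ω2 * m) := by
  have h1 := h.ρr (ω2 * m)
  have h2 : ∀ m : F4, ω * (ω2 * m) = m := by decide
  rw [h2] at h1
  rw [← h1]; group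

/-- **The involution.** -/
theorem exists_o (h : OInp F ι r n ρ τ Y) {d : F4} (hd : d ≠ 0) {x : X} (hx : Gr ι r n d x) :
    ∃ (l : L0) (m : F4), ∃ o : X, o = r m * (ι l * x) ∧ o * o = 1 ∧ Commute o ρ ∧
      (∀ m, Commute o (r m)) := by
  obtain ⟨l, hl⟩ := exists_sq hd hx
  have hone := h.tone.toROne
  set y := ι l * x with hy
  have hyr : ∀ m, Commute y (r m) := fun m => ((hone.r_L m _).symm).mul_left (hx.comm m)
  -- `y` normalises `ι L`
  have hyn : ∀ v, ∃ v', y * ι v * y⁻¹ = ι v' := by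
    apply norm_of_t
    intro i j hij u
    refine ⟨l * t (rv j) (rv i) (dd d (rv j) * (dd d (rv i))⁻¹ * u) * l⁻¹, ?_⟩
    rw [map_mul, map_mul, map_inv, ← hx.act i j hij, hy]; group
  have hyn' : ∀ v, ∃ v', ι v = y * ι v' * y⁻¹ := by
    intro v
    obtain ⟨v', hv'⟩ := hyn v
    refine ⟨v', ?_⟩
    rw [← hv']
    have := (hl v).eq
    calc ι v = y * y * ι v * (y * y)⁻¹ := by rw [this]; group
      _ = _ := by group
  -- the square
  obtain ⟨a, ha⟩ : ∃ a, y * y = r a :=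
    cent_RL hone (fun m => (hyr m).mul_left (hyr m)) hl
  -- the commutator with `ρ`
  obtain ⟨b, hb⟩ : ∃ b, y * ρ * y⁻¹ * ρ⁻¹ = r b := by
    apply cent_RL hone
    · intro m
      have e1 : y * ρ * y⁻¹ * ρ⁻¹ * r m * (y * ρ * y⁻¹ * ρ⁻¹)⁻¹ = r m := by
        calc y * ρ * y⁻¹ * ρ⁻¹ * r m * (y * ρ * y⁻¹ * ρ⁻¹)⁻¹
            = y * ρ * (y⁻¹ * (ρ⁻¹ * r m * ρ) * y) * ρ⁻¹ * y⁻¹ := by group
          _ = y * ρ * (y⁻¹ * (r (ω * m) * y)) * ρ⁻¹ * y⁻¹ := by rw [h.ρr, mul_assoc y⁻¹]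
          _ = y * (ρ * r (ω * m) * ρ⁻¹) * y⁻¹ := by rw [← (hyr _).eq]; group
          _ = y * r m * y⁻¹ := by
              rw [h.ρr']
              have h2 : ∀ m : F4, ω2 * (ω * m) = m := by decide
              rw [h2]
          _ = r m := by rw [(hyr m).eq]; group
      exact mul_inv_eq_iff_eq_mul.mp e1
    · intro v
      have h1 : Commute (y * ρ * y⁻¹) (ι v) := by
        obtain ⟨v', hv'⟩ := hyn' v
        rw [hv']
        show y * ρ * y⁻¹ * (y * ι v' * y⁻¹) = y * ι v' * y⁻¹ * (y * ρ * y⁻¹)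
        calc y * ρ * y⁻¹ * (y * ι v' * y⁻¹) = y * (ρ * ι v') * y⁻¹ := by group
          _ = _ := by rw [(h.ρL v').eq]; group
      exact h1.mul_left (h.ρL v).inv_left
  have hb' : y * ρ * y⁻¹ = r b * ρ := by rw [← hb]; group
  refine ⟨l, ω2 * b, r (ω2 * b) * y, rfl, ?_, ?_, fun m => ?_⟩
  · -- the square
    set s := r (ω2 * b) with hs
    have hsq : s * y * (s * y) = r a := by
      calc s * y * (s * y) = s * (y * s) * y := by group
        _ = s * (s * y) * y := by rw [(hyr _).eq]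
        _ = (s * s) * (y * y) := by group
        _ = r a := by rw [hs, r_sq hone, one_mul, ha]
    have hcρ : (s * y) * ρ * (s * y)⁻¹ = ρ := by
      calc (s * y) * ρ * (s * y)⁻¹ = s * (y * ρ * y⁻¹) * s⁻¹ := by group
        _ = s * r b * (ρ * s * ρ⁻¹) * ρ := by rw [hb', hs, r_inv hone]; group
        _ = ρ := by
            rw [hs, h.ρr', ← hone.r_add, ← hone.r_add]
            have h2 : ∀ b : F4, ω2 * b + b + ω2 * (ω2 * b) = 0 := by decide
            rw [h2, r_zero hone, one_mul]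
    have hc2 : ρ⁻¹ * r a * ρ = r a := by
      have h3 : Commute (s * y * (s * y)) ρ := by
        have h4 : Commute (s * y) ρ := mul_inv_eq_iff_eq_mul.mp hcρ
        exact h4.mul_left h4
      rw [hsq] at h3
      rw [mul_assoc, h3.eq]; group
    rw [h.ρr] at hc2
    have h5 := r_inj hone hc2
    have h6 : ∀ a : F4, ω * a = a → a = 0 := by decide
    rw [hsq, h6 a h5, r_zero hone]
  · have hcρ : (r (ω2 * b) * y) * ρ * (r (ω2 * b) * y)⁻¹ = ρ := by
      set s := r (ω2 * b) with hs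
      calc (s * y) * ρ * (s * y)⁻¹ = s * (y * ρ * y⁻¹) * s⁻¹ := by group
        _ = s * r b * (ρ * s * ρ⁻¹) * ρ := by rw [hb', hs, r_inv hone]; group
        _ = ρ := by
            rw [hs, h.ρr', ← hone.r_add, ← hone.r_add]
            have h2 : ∀ b : F4, ω2 * b + b + ω2 * (ω2 * b) = 0 := by decide
            rw [h2, r_zero hone, one_mul]
    exact mul_inv_eq_iff_eq_mul.mp hcρ
  · have h1 : Commute (r (ω2 * b)) (r m) := r_comm hone _ _
    exact h1.mul_left (hyr m)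

/-- an element normalising `R`, up to an element of `Y`, commutes with `R` -/
theorem exists_cent (h : OInp F ι r n ρ τ Y) {x : X} (hx : ∀ s ∈ F.R, x * s * x⁻¹ ∈ F.R) :
    ∃ y ∈ Y, ∀ m, Commute (y * x) (r m) := by
  have hone := h.tone.toROne
  -- first step: fix `r 1`
  obtain ⟨m₁, hm₁⟩ := h.exists_r (hx _ (h.r_mem 1))
  have hm0 : m₁ ≠ 0 := by
    rintro rfl
    rw [r_zero hone] at hm₁
    exact h.r_ne one_ne_zero (conj_eq_one_iff.mp hm₁)
  have h1 : ∃ y ∈ Y, (y * x) * r 1 * (y * x)⁻¹ = r 1 := by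
    have hcase : ∀ m : F4, m ≠ 0 → m = 1 ∨ ω2 * m = 1 ∨ ω2 * (ω2 * m) = 1 := by decide
    rcases hcase m₁ hm0 with h2 | h2 | h2
    · exact ⟨1, Y.one_mem, by rw [one_mul, hm₁, h2]⟩
    · refine ⟨ρ, h.ρY, ?_⟩
      calc ρ * x * r 1 * (ρ * x)⁻¹ = ρ * (x * r 1 * x⁻¹) * ρ⁻¹ := by group
        _ = r 1 := by rw [hm₁, h.ρr', h2]
    · refine ⟨ρ * ρ, Y.mul_mem h.ρY h.ρY, ?_⟩
      calc ρ * ρ * x * r 1 * (ρ * ρ * x)⁻¹ = ρ * (ρ * (x * r 1 * x⁻¹) * ρ⁻¹) * ρ⁻¹ := by group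
        _ = r 1 := by rw [hm₁, h.ρr', h.ρr', h2]
  obtain ⟨y, hy, hy1⟩ := h1
  -- `y x` normalises `R`
  have hyn : ∀ s ∈ F.R, (y * x) * s * (y * x)⁻¹ ∈ F.R := by
    intro s hs
    exact F.normR (r 1) (h.r_mem 1) (h.r_ne one_ne_zero) (y * x)
      (mul_inv_eq_iff_eq_mul.mp hy1) s hs
  -- second step
  have key : ∀ z : X, z * r 1 * z⁻¹ = r 1 → z * r ω * z⁻¹ = r ω → ∀ m, Commute z (r m) := by
    intro z h1 h2 m
    have hc : ∀ m : F4, m = 0 ∨ m = 1 ∨ m = ω ∨ m = 1 + ω := by decide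
    rcases hc m with rfl | rfl | rfl | rfl
    · rw [r_zero hone]; exact Commute.one_right _
    · exact mul_inv_eq_iff_eq_mul.mp h1
    · exact mul_inv_eq_iff_eq_mul.mp h2
    · rw [hone.r_add]
      have h3 : Commute z (r 1) := mul_inv_eq_iff_eq_mul.mp h1
      have h4 : Commute z (r ω) := mul_inv_eq_iff_eq_mul.mp h2
      exact h3.mul_right h4
  have himg : ∀ z : X, Commute z (r 1) → z * r ω * z⁻¹ = r ω ∨ z * r ω * z⁻¹ = r ω2 := by
    intro z hz
    obtain ⟨m, hm⟩ := h.exists_r (F.normR (r 1) (h.r_mem 1) (h.r_ne one_ne_zero) z hz _ (h.r_mem ω))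
    have hc : ∀ m : F4, m = 0 ∨ m = 1 ∨ m = ω ∨ m = ω2 := by decide
    rcases hc m with rfl | rfl | rfl | rfl
    · rw [r_zero hone] at hm
      exact absurd (conj_eq_one_iff.mp hm) (h.r_ne (by decide))
    · exfalso
      have h3 : z * r ω * z⁻¹ = z * r 1 * z⁻¹ := by rw [hm, hz.eq]; group
      have h4 : r ω = r 1 := mul_left_cancel (mul_right_cancel h3)
      exact absurd (r_inj hone h4) (by decide)
    · exact Or.inl hm
    · exact Or.inr hm
  rcases himg _ (mul_inv_eq_iff_eq_mul.mp hy1) with h2 | h2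
  · exact ⟨y, hy, key _ hy1 h2⟩
  · have h3 : τ * r ω * τ⁻¹ = r ω2 := by
      rcases himg τ h.τ1 with h3 | h3
      · exact absurd (mul_inv_eq_iff_eq_mul.mp h3) h.τw
      · exact h3
    have h4 : τ * r ω2 * τ⁻¹ = r ω := by
      have e1 : (ω2 : F4) = 1 + ω := by decide
      have h5 : τ * r 1 * τ⁻¹ = r 1 := by rw [h.τ1.eq]; group
      calc τ * r ω2 * τ⁻¹ = (τ * r 1 * τ⁻¹) * (τ * r ω * τ⁻¹) := by rw [e1, hone.r_add]; group
        _ = r ω := by
            rw [h5, h3, ← hone.r_add]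
            have e2 : (1 : F4) + ω2 = ω := by decide
            rw [e2]
    refine ⟨τ * y, Y.mul_mem h.τY hy, key _ ?_ ?_⟩
    · calc τ * y * x * r 1 * (τ * y * x)⁻¹ = τ * ((y * x) * r 1 * (y * x)⁻¹) * τ⁻¹ := by group
        _ = r 1 := by rw [hy1, h.τ1.eq]; group
    · calc τ * y * x * r ω * (τ * y * x)⁻¹ = τ * ((y * x) * r ω * (y * x)⁻¹) * τ⁻¹ := by group
        _ = r ω := by rw [h2, h4]

/-- **Dichotomy**: either every element normalising `R` lies in `Y`, or there is an involution `o ∉ Y` commuting with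
`R`, normalising `Y`, such that `Y ∪ Y o` contains every element normalising `R`. -/
theorem dichotomy (h : OInp F ι r n ρ τ Y) :
    (∀ x, (∀ s ∈ F.R, x * s * x⁻¹ ∈ F.R) → x ∈ Y) ∨
    ∃ o : X, o ∉ Y ∧ o * o = 1 ∧ (∀ s ∈ F.R, Commute o s) ∧ (∀ y ∈ Y, o * y * o⁻¹ ∈ Y) ∧
      ∀ x, (∀ s ∈ F.R, x * s * x⁻¹ ∈ F.R) → x ∈ Y ∨ x * o ∈ Y := by
  have hone := h.tone.toROne
  set d : F4 := ω2 * ω⁻¹ with hd
  have hd0 : d ≠ 0 := by decide
  -- every element commuting with `R`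
  have hC : ∀ x, (∀ m, Commute x (r m)) → x ∈ Y ∨ ∃ l, Gr ι r n d (ι l * x) := by
    intro x hx
    obtain ⟨α, hα⟩ := h.rho.hyp.actR x (fun m => ⟨m, by rw [(hx m).eq, mul_inv_cancel_right]⟩)
    obtain ⟨l, ⟨m, hm⟩ | hl⟩ := OutType.main (by decide) (by decide) h.tone h.uone hx hα
    · left
      have e1 : x = (ι l)⁻¹ * r m := by rw [← hm]; group
      rw [e1]
      exact Y.mul_mem (Y.inv_mem (h.ιY l)) (h.rY m)
    · exact Or.inr ⟨l, hl⟩
  by_cases hex : ∃ x, (∀ m, Commute x (r m)) ∧ x ∉ Y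
  · right
    obtain ⟨x, hx, hxY⟩ := hex
    obtain ⟨l, hl⟩ := (hC x hx).resolve_left hxY
    obtain ⟨l', m, o, ho, ho2, hoρ, hor⟩ := h.exists_o hd0 hl
    have hoY : o ∉ Y := by
      intro hoY
      apply hxY
      have e1 : x = (ι l)⁻¹ * ((ι l')⁻¹ * ((r m)⁻¹ * o)) := by rw [ho]; group
      rw [e1]
      exact Y.mul_mem (Y.inv_mem (h.ιY l)) (Y.mul_mem (Y.inv_mem (h.ιY l'))
        (Y.mul_mem (Y.inv_mem (h.rY m)) hoY))
    -- `o` normalises `Y`
    have hon : ∀ y ∈ Subgroup.closure (Set.range ι ∪ Set.range r ∪ Set.range n ∪ {ρ}),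
        o * y * o⁻¹ ∈ Y := by
      intro y hy
      induction hy using Subgroup.closure_induction with
      | mem v hv =>
        rcases hv with ((⟨v, rfl⟩ | ⟨v, rfl⟩) | ⟨v, rfl⟩) | hv
        · obtain ⟨α, hα⟩ := h.rho.hyp.actR o
            (fun m => ⟨m, by rw [(hor m).eq, mul_inv_cancel_right]⟩)
          rw [hα]; exact h.ιY _
        · rw [(hor v).eq, mul_inv_cancel_right]; exact h.rY _
        · obtain ⟨q, hq⟩ := hl.ex
          have e1 : o * n v * o⁻¹ = r m * ι l' * ((ι l * x) * n v * (ι l * x)⁻¹) *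
              (r m * ι l')⁻¹ := by rw [ho]; group
          rw [e1, hq]
          have h1 : r m * ι l' ∈ Y := Y.mul_mem (h.rY _) (h.ιY _)
          exact Y.mul_mem (Y.mul_mem h1 (Y.mul_mem (h.nY _) (h.ιY _))) (Y.inv_mem h1)
        · rw [Set.mem_singleton_iff] at hv
          subst hv
          rw [hoρ.eq, mul_inv_cancel_right]; exact h.ρY
      | one => simp [Y.one_mem]
      | mul a b _ _ iha ihb =>
        have e1 : o * (a * b) * o⁻¹ = (o * a * o⁻¹) * (o * b * o⁻¹) := by group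
        rw [e1]; exact Y.mul_mem iha ihb
      | inv a _ iha =>
        have e1 : o * a⁻¹ * o⁻¹ = (o * a * o⁻¹)⁻¹ := by group
        rw [e1]; exact Y.inv_mem iha
    refine ⟨o, hoY, ho2, ?_, fun y hy => hon y (h.gen hy), ?_⟩
    · intro s hs
      obtain ⟨m, rfl⟩ := h.exists_r hs
      exact hor m
    · intro x₁ hx₁
      obtain ⟨y, hy, hc⟩ := h.exists_cent hx₁
      rcases hC _ hc with h1 | ⟨l₂, hl₂⟩
      · left
        have e1 : x₁ = y⁻¹ * (y * x₁) := by group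
        rw [e1]
        exact Y.mul_mem (Y.inv_mem hy) h1
      · right
        obtain ⟨m', hm'⟩ := hl.unique h.tone hl₂
        have e1 : ι l * x = (r m * ι l')⁻¹ * o := by rw [ho]; group
        have e2 : x₁ * o = y⁻¹ * ((ι l₂)⁻¹ * ((r m * ι l')⁻¹ * r m')) := by
          have e3 : y * x₁ = (ι l₂)⁻¹ * ((ι l * x) * r m') := by rw [← hm']; group
          have e4 : x₁ = y⁻¹ * ((ι l₂)⁻¹ * ((ι l * x) * r m')) := by rw [← e3]; group
          calc x₁ * o = y⁻¹ * ((ι l₂)⁻¹ * ((ι l * x) * r m')) * o := by rw [← e4]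
            _ = y⁻¹ * ((ι l₂)⁻¹ * ((r m * ι l')⁻¹ * (o * r m'))) * o := by rw [e1]; group
            _ = y⁻¹ * ((ι l₂)⁻¹ * ((r m * ι l')⁻¹ * (r m' * (o * o)))) := by
                rw [(hor m').eq]; group
            _ = _ := by rw [ho2, mul_one]
        rw [e2]
        exact Y.mul_mem (Y.inv_mem hy) (Y.mul_mem (Y.inv_mem (h.ιY _))
          (Y.mul_mem (Y.inv_mem (Y.mul_mem (h.rY _) (h.ιY _))) (h.rY _)))
  · left
    intro x hx
    obtain ⟨y, hy, hc⟩ := h.exists_cent hx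
    have h1 : y * x ∈ Y := by
      by_contra h2
      exact hex ⟨y * x, hc, h2⟩
    have e1 : x = y⁻¹ * (y * x) := by group
    rw [e1]
    exact Y.mul_mem (Y.inv_mem hy) h1

end OInp

end Cfsg.Agent.StdLThreeFour.OutInv
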