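import Cfsg.Agent.StdLThreeFour.RFourU
import Cfsg.Agent.ONType.OuterL
import Cfsg.Agent.StdLThreeFour.Codes

/-!
# Standard `L3(4)`, case `|R| = 4`: the elements commuting with `R`

An element commuting with `R` acts on `L3(4)` as an inner automorphism or as an inner automorphism times the graph
automorphism `x₀₁(u) ↔ x₁₂(u)`.
-/

set_option autoImplicit false
set_option linter.unusedVariables false
set_option linter.constructorNameAsVariable false

namespace Cfsg.Agent.StdLThreeFour.OutType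

open Cfsg.Agent.StdLThreeFour.Base Cfsg.Agent.StdLThreeFour.RFourDefs
open Cfsg.Agent.SporadicA.FieldFour
open Cfsg.Agent.ONType.Psl Cfsg.Agent.ONType.OuterL
open Cfsg.Agent.StdLThreeFour.RFourU

variable {X : Type*} [Group X] {ι : L0 →* X} {r n : F4 → X}

theorem r_zero (h : ROne ι r) : r 0 = 1 := by
  have := h.r_add 0 0
  rw [add_zero] at this
  exact left_eq_mul.mp this

theorem r_sq (h : ROne ι r) (m : F4) : r m * r m = 1 := by
  rw [← h.r_add, Base.add_self, r_zero h]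

theorem r_inv (h : ROne ι r) (m : F4) : (r m)⁻¹ = r m := inv_eq_of_mul_eq_one_right (r_sq h m)

theorem r_comm (h : ROne ι r) (a b : F4) : r a * r b = r b * r a := by
  rw [← h.r_add, ← h.r_add, add_comm]

theorem r_inj (h : ROne ι r) {a b : F4} (hab : r a = r b) : a = b := by
  have h1 : r (a + b) = ι 1 := by rw [h.r_add, hab, r_sq h, map_one]
  have h2 := h.r_notL _ _ h1
  have : ∀ a b : F4, a + b = 0 → a = b := by decide
  exact this a b h2

theorem t_sq (i j : Fin 3) (hij : i ≠ j) (u : F4) : t i j u * t i j u = 1 := by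
  rw [t_add i j _ _ hij, Base.add_self, t_zero]

theorem t_inv (i j : Fin 3) (hij : i ≠ j) (u : F4) : (t i j u)⁻¹ = t i j u :=
  inv_eq_of_mul_eq_one_right (t_sq i j hij u)

/-- the elements `x₀₂(u)` of `X` -/
abbrev zz (ι : L0 →* X) (u : F4) : X := ι (t 0 2 u)

theorem zz_add (u v : F4) : zz ι (u + v) = zz ι u * zz ι v := by
  unfold zz; rw [← map_mul, t_add 0 2 _ _ (by decide)]

theorem zz_sq (u : F4) : zz ι u * zz ι u = 1 := by
  unfold zz; rw [← map_mul, t_sq 0 2 (by decide), map_one]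

theorem zz_inv (u : F4) : (zz ι u)⁻¹ = zz ι u := inv_eq_of_mul_eq_one_right (zz_sq u)

theorem t02_mem (u : F4) : t 0 2 u ∈ S0 := ⟨0, 0, u, (e_02 u).symm⟩
theorem t01_mem (u : F4) : t 0 1 u ∈ S0 := ⟨u, 0, 0, (e_01 u).symm⟩
theorem t12_mem (u : F4) : t 1 2 u ∈ S0 := ⟨0, u, 0, (e_12 u).symm⟩

theorem zz_inj (h : ROne ι r) {u v : F4} (huv : zz ι u = zz ι v) : u = v := by
  have h1 := h.inj huv
  rw [← e_02, ← e_02] at h1
  have h2 : (e 0 0 u)⁻¹ * e 0 0 v = 1 := by rw [h1]; group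
  rw [e_inv, e_mul] at h2
  have h3 := (Facts1.e_one h2).2.2
  have h4 : ∀ u v : F4, 0 * 0 + (u + 0 * 0) + v = 0 → u = v := by decide
  exact h4 u v h3

/-- **Elements commuting with `R` and `ι S0`.** -/
theorem cent_RS (h : ROne ι r) {x : X} (hx : ∀ m, Commute x (r m)) (hs : ∀ s ∈ S0, Commute x (ι s)) :
    ∃ m q, x = r m * zz ι q := by
  obtain ⟨m, a, ha, h1⟩ := h.cent_RA false x hx (fun a ha => hs a (Facts1.A_le false ha))
  obtain ⟨m', a', ha', h1'⟩ := h.cent_RA true x hx (fun a ha => hs a (Facts1.A_le true ha))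
  have h2 : r (m' + m) = ι (a' * a⁻¹) := by
    rw [h.r_add, map_mul, map_inv, eq_mul_inv_iff_mul_eq, mul_assoc, ← h1, h1', ← mul_assoc,
      r_sq h, one_mul]
  have h3 := h.r_notL _ _ h2
  have h4 : a' = a := by
    rw [h3, r_zero h] at h2
    have := h.inj (h2.symm.trans (map_one ι).symm)
    exact mul_inv_eq_one.mp this
  subst h4
  obtain ⟨u, c, rfl⟩ := mem_A_false.mp ha
  obtain ⟨u', c', h5⟩ := mem_A_true.mp ha'
  have h6 : (e u 0 c)⁻¹ * e 0 u' c' = 1 := by rw [h5]; group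
  rw [e_inv, e_mul] at h6
  have h7 := (Facts1.e_one h6).1
  rw [add_zero] at h7
  refine ⟨m, c, ?_⟩
  rw [h1, h7, e_02]

variable {κ : F4}

theorem n_zz (h : TOne ι r n κ) (l u : F4) : n l * zz ι u = zz ι u * n l :=
  (h.n_S l _ (t02_mem u)).eq

theorem zz_r (h : ROne ι r) (m u : F4) : zz ι u * r m = r m * zz ι u := ((h.r_L m _).eq).symm

theorem n_sq (h : TOne ι r n 0) (l : F4) : n l * n l = 1 := by
  rw [h.nn_sq, zero_mul, t_zero, map_one]

theorem n_inv (h : TOne ι r n 0) (l : F4) : (n l)⁻¹ = n l := inv_eq_of_mul_eq_one_right (n_sq h l)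

/-- The action on the elements `n l` of an element commuting with `R` and normalising `ι S0`. -/
theorem conj_n (h : TOne ι r n 0) {x : X} (hx : ∀ m, Commute x (r m)) {F : F4 → F4}
    (hF : ∀ u, x * zz ι u * x⁻¹ = zz ι (F u))
    (hS : ∀ s ∈ S0, ∃ s' ∈ S0, x * ι s' * x⁻¹ = ι s) :
    ∃ d, (∀ u, F u = d * u) ∧ ∃ q : F4 → F4, ∀ l, x * n l * x⁻¹ = n (d * l) * zz ι (q l) := by
  have hxr : ∀ m, x * r m * x⁻¹ = r m := fun m => by rw [(hx m).eq]; group
  -- the commutator with `R`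
  have h1 : ∀ l m, r m * (x * n l * x⁻¹) = (x * n l * x⁻¹) * r m * zz ι (F (l * m)) := by
    intro l m
    calc r m * (x * n l * x⁻¹) = (x * r m * x⁻¹) * (x * n l * x⁻¹) := by rw [hxr]
      _ = x * (r m * n l) * x⁻¹ := by group
      _ = x * (n l * r m * zz ι (l * m)) * x⁻¹ := by rw [h.rn]
      _ = (x * n l * x⁻¹) * (x * r m * x⁻¹) * (x * zz ι (l * m) * x⁻¹) := by group
      _ = _ := by rw [hxr, hF]
  have h2 : ∀ l m, (x * n l * x⁻¹)⁻¹ * r m * (x * n l * x⁻¹) = r m * zz ι (F (l * m)) := by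
    intro l m
    rw [mul_assoc, h1]; group
  obtain ⟨d, hd⟩ : ∃ d, ∀ u, F u = d * u := by
    obtain ⟨d, hd⟩ := h.ti (x * n 1 * x⁻¹)⁻¹ (fun m => F (1 * m)) (fun m => by
      rw [inv_inv]; exact h2 1 m)
    exact ⟨d, fun u => by have := hd u; rwa [one_mul] at this⟩
  refine ⟨d, hd, ?_⟩
  have key : ∀ l, ∃ q, x * n l * x⁻¹ = n (d * l) * zz ι q := by
    intro l
    set P := n (d * l) * (x * n l * x⁻¹)⁻¹ with hP
    have hPr : ∀ m, Commute P (r m) := by
      intro m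
      have e1 : P * r m * P⁻¹ = r m := by
        calc P * r m * P⁻¹ =
            n (d * l) * ((x * n l * x⁻¹)⁻¹ * r m * (x * n l * x⁻¹)) * (n (d * l))⁻¹ := by
              rw [hP]; group
          _ = n (d * l) * (r m * zz ι (F (l * m))) * (n (d * l))⁻¹ := by rw [h2]
          _ = (n (d * l) * r m * zz ι (d * l * m)) * (n (d * l))⁻¹ := by
              rw [hd, mul_assoc d, mul_assoc (n (d * (l))) (r m)]
          _ = r m := by rw [← h.rn]; group
      exact mul_inv_eq_iff_eq_mul.mp e1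
    have hPs : ∀ s ∈ S0, Commute P (ι s) := by
      intro s hs
      obtain ⟨s', hs', he⟩ := hS s hs
      have h3 : Commute (x * n l * x⁻¹) (ι s) := by
        rw [← he]
        have := (h.n_S l s' hs').eq
        show x * n l * x⁻¹ * (x * ι s' * x⁻¹) = x * ι s' * x⁻¹ * (x * n l * x⁻¹)
        calc x * n l * x⁻¹ * (x * ι s' * x⁻¹) = x * (n l * ι s') * x⁻¹ := by group
          _ = _ := by rw [this]; group
      exact (h.n_S _ s hs).mul_left h3.inv_left
    obtain ⟨m, q, hmq⟩ := cent_RS h.toROne hPr hPs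
    -- `x n x⁻¹ = r m zz q n (d l)`
    have h4 : x * n l * x⁻¹ = r m * zz ι q * n (d * l) := by
      have e1 : x * n l * x⁻¹ = P⁻¹ * n (d * l) := by rw [hP]; group
      rw [e1, hmq, mul_inv_rev, zz_inv, r_inv h.toROne, zz_r h.toROne]
    have h5 : (x * n l * x⁻¹) * (x * n l * x⁻¹) = 1 := by
      calc (x * n l * x⁻¹) * (x * n l * x⁻¹) = x * (n l * n l) * x⁻¹ := by group
        _ = 1 := by rw [n_sq h]; group
    have h6 : (r m * zz ι q * n (d * l)) * (r m * zz ι q * n (d * l)) = zz ι (d * l * m) := by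
      calc (r m * zz ι q * n (d * l)) * (r m * zz ι q * n (d * l))
          = r m * (zz ι q * n (d * l)) * (r m * (zz ι q * n (d * l))) := by group
        _ = r m * (n (d * l) * zz ι q) * (r m * (n (d * l) * zz ι q)) := by rw [n_zz h]
        _ = r m * n (d * l) * (zz ι q * r m) * (n (d * l) * zz ι q) := by group
        _ = r m * n (d * l) * (r m * zz ι q) * (zz ι q * n (d * l)) := by
            rw [zz_r h.toROne, n_zz h]
        _ = r m * n (d * l) * r m * (zz ι q * zz ι q) * n (d * l) := by group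
        _ = (r m * n (d * l)) * r m * n (d * l) := by rw [zz_sq]; group
        _ = (n (d * l) * r m * zz ι (d * l * m)) * r m * n (d * l) := by rw [h.rn]
        _ = n (d * l) * r m * (zz ι (d * l * m) * r m) * n (d * l) := by group
        _ = n (d * l) * (r m * r m) * (zz ι (d * l * m) * n (d * l)) := by
            rw [zz_r h.toROne]; group
        _ = n (d * l) * n (d * l) * zz ι (d * l * m) := by rw [r_sq h.toROne, ← n_zz h]; group
        _ = zz ι (d * l * m) := by rw [n_sq h, one_mul]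
    rw [h4] at h5
    rw [h5] at h6
    have h7 : d * l * m = 0 := by
      have h8 : zz ι 0 = (1 : X) := by unfold zz; rw [t_zero, map_one]
      exact (zz_inj h.toROne (h8.trans h6)).symm
    rcases mul_eq_zero.mp h7 with h8 | h8
    · -- `d l = 0`: `x n l x⁻¹` commutes with `R`, so `l = 0`
      have hdl : n (d * l) = 1 := by rw [h8, h.n_zero]
      have h9 : F (l * 1) = 0 := by
        have h10 := h1 l 1
        rw [h4, hdl, mul_one] at h10
        have h11 : r 1 * (r m * zz ι q) = (r m * zz ι q) * r 1 := by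
          rw [mul_assoc, zz_r h.toROne, ← mul_assoc, ← mul_assoc, r_comm h.toROne]
        rw [h11] at h10
        have h12 := left_eq_mul.mp h10
        have h13 : zz ι 0 = (1 : X) := by unfold zz; rw [t_zero, map_one]
        exact (zz_inj h.toROne (h13.trans h12.symm)).symm
      have hl0 : l = 0 := by
        by_contra hne
        have h10 : zz ι l = 1 := by
          have h11 := hF (l * 1)
          rw [h9, mul_one] at h11
          have h12 : zz ι 0 = (1 : X) := by unfold zz; rw [t_zero, map_one]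
          rw [h12] at h11
          have h13 : x * zz ι l = x := by
            calc x * zz ι l = x * zz ι l * x⁻¹ * x := by group
              _ = x := by rw [h11, one_mul]
          exact mul_eq_left.mp h13
        apply hne
        have h13 : zz ι 0 = (1 : X) := by unfold zz; rw [t_zero, map_one]
        exact zz_inj h.toROne (h10.trans h13.symm)
      refine ⟨0, ?_⟩
      rw [hl0, mul_zero, h.n_zero]
      unfold zz
      rw [t_zero, map_one]; group
    · refine ⟨q, ?_⟩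
      rw [h4, h8, r_zero h.toROne, one_mul, n_zz h]
  exact ⟨fun l => (key l).choose, fun l => (key l).choose_spec⟩

/-! ### The diagonal part -/

/-- `nn 1 2` conjugates of `n` -/
abbrev p1 (ι : L0 →* X) (n : F4 → X) (a : F4) : X := ι (nn 1 2) * n a * (ι (nn 1 2))⁻¹
/-- `nn 0 1` conjugates of `n` -/
abbrev p2 (ι : L0 →* X) (n : F4 → X) (a : F4) : X := ι (nn 0 1) * n a * (ι (nn 0 1))⁻¹

theorem p1_01 (h : TOne ι r n κ) (a u : F4) : p1 ι n a * ι (t 0 1 u) = ι (t 0 1 u) * p1 ι n a := by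
  have e1 : ι (t 0 1 u) = ι (nn 1 2) * zz ι u * (ι (nn 1 2))⁻¹ := by
    unfold zz; rw [← map_mul, nn12_02, map_mul]; group
  rw [e1]
  unfold p1
  calc ι (nn 1 2) * n a * (ι (nn 1 2))⁻¹ * (ι (nn 1 2) * zz ι u * (ι (nn 1 2))⁻¹)
      = ι (nn 1 2) * (n a * zz ι u) * (ι (nn 1 2))⁻¹ := by group
    _ = _ := by rw [n_zz h]; group

theorem p1_02 (h : TOne ι r n κ) (a u : F4) : p1 ι n a * ι (t 0 2 u) = ι (t 0 2 u) * p1 ι n a := by
  have e1 : ι (t 0 2 u) = ι (nn 1 2) * ι (t 0 1 u) * (ι (nn 1 2))⁻¹ := by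
    rw [← map_mul, nn12_01, map_mul]; group
  rw [e1]
  unfold p1
  calc ι (nn 1 2) * n a * (ι (nn 1 2))⁻¹ * (ι (nn 1 2) * ι (t 0 1 u) * (ι (nn 1 2))⁻¹)
      = ι (nn 1 2) * (n a * ι (t 0 1 u)) * (ι (nn 1 2))⁻¹ := by group
    _ = _ := by rw [(h.n_S a _ (t01_mem u)).eq]; group

theorem p2_12 (h : TOne ι r n κ) (a u : F4) : p2 ι n a * ι (t 1 2 u) = ι (t 1 2 u) * p2 ι n a := by
  have e1 : ι (t 1 2 u) = ι (nn 0 1) * zz ι u * (ι (nn 0 1))⁻¹ := by
    unfold zz; rw [← map_mul, nn01_02, map_mul]; group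
  rw [e1]
  unfold p2
  calc ι (nn 0 1) * n a * (ι (nn 0 1))⁻¹ * (ι (nn 0 1) * zz ι u * (ι (nn 0 1))⁻¹)
      = ι (nn 0 1) * (n a * zz ι u) * (ι (nn 0 1))⁻¹ := by group
    _ = _ := by rw [n_zz h]; group

theorem p2_02 (h : TOne ι r n κ) (a u : F4) : p2 ι n a * ι (t 0 2 u) = ι (t 0 2 u) * p2 ι n a := by
  have e1 : ι (t 0 2 u) = ι (nn 0 1) * ι (t 1 2 u) * (ι (nn 0 1))⁻¹ := by
    rw [← map_mul, nn01_12, map_mul]; group
  rw [e1]
  unfold p2
  calc ι (nn 0 1) * n a * (ι (nn 0 1))⁻¹ * (ι (nn 0 1) * ι (t 1 2 u) * (ι (nn 0 1))⁻¹)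
      = ι (nn 0 1) * (n a * ι (t 1 2 u)) * (ι (nn 0 1))⁻¹ := by group
    _ = _ := by rw [(h.n_S a _ (t12_mem u)).eq]; group

theorem n_01 (h : TOne ι r n κ) (l u : F4) : n l * ι (t 0 1 u) = ι (t 0 1 u) * n l :=
  (h.n_S l _ (t01_mem u)).eq
theorem n_02 (h : TOne ι r n κ) (l u : F4) : n l * ι (t 0 2 u) = ι (t 0 2 u) * n l :=
  (h.n_S l _ (t02_mem u)).eq
theorem n_12 (h : TOne ι r n κ) (l u : F4) : n l * ι (t 1 2 u) = ι (t 1 2 u) * n l :=
  (h.n_S l _ (t12_mem u)).eq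

theorem cc {a b s t c d e f : X} (h1 : a * s = s * a) (h2 : a * t = t * a)
    (h3 : b * s = s * b) (h4 : b * t = t * b) (h5 : s * t = t * s)
    (h : a * s * (b * t) = (b * t) * (a * s) * c * d) (hc : s * c = c * s) (hd : s * d = d * s)
    (hc' : t * c = c * t) (hd' : t * d = d * t) (h' : a * b = b * a * e * f)
    : c * d = e * f := by
  have e1 : a * s * (b * t) = a * b * (s * t) := by
    calc a * s * (b * t) = a * (s * b) * t := by group
      _ = _ := by rw [← h3]; group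
  have e2 : (b * t) * (a * s) * c * d = b * a * (c * d) * (s * t) := by
    calc (b * t) * (a * s) * c * d = b * (t * a) * (s * c) * d := by group
      _ = b * a * (t * c) * (s * d) := by rw [← h2, hc]; group
      _ = b * a * c * (t * d) * s := by rw [hd, hc']; group
      _ = b * a * (c * d) * (t * s) := by rw [hd']; group
      _ = _ := by rw [h5]
  rw [e1, e2] at h
  have h6 := mul_right_cancel h
  have h7 : b * a * (e * f) = b * a * (c * d) := by rw [← h6, h']; group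
  exact (mul_left_cancel h7).symm

theorem t01_conj_hh (u : F4) : hh * t 0 1 (ω * u) = t 0 1 u * hh := by
  have h := t_h 0 1 u (by decide)
  have e1 : kap 0 1 = ω := by decide
  rw [e1] at h
  exact h.symm

theorem t10_conj_hh (u : F4) : hh * t 1 0 (ω2 * u) = t 1 0 u * hh := by
  have h := t_h 1 0 u (by decide)
  have e1 : kap 1 0 = ω2 := by decide
  rw [e1] at h
  exact h.symm

/-- the Weyl elements `x₀₁(d) x₁₀(d⁻¹) x₀₁(d)` -/
def n01 (d d' : F4) : L0 := t 0 1 d * t 1 0 d' * t 0 1 d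

theorem n01_hh (d d' : F4) : hh * n01 (ω * d) (ω2 * d') = n01 d d' * hh := by
  unfold n01
  calc hh * (t 0 1 (ω * d) * t 1 0 (ω2 * d') * t 0 1 (ω * d))
      = (hh * t 0 1 (ω * d)) * t 1 0 (ω2 * d') * t 0 1 (ω * d) := by group
    _ = t 0 1 d * (hh * t 1 0 (ω2 * d')) * t 0 1 (ω * d) := by rw [t01_conj_hh]; group
    _ = t 0 1 d * t 1 0 d' * (hh * t 0 1 (ω * d)) := by rw [t10_conj_hh]; group
    _ = _ := by rw [t01_conj_hh]; group

theorem hh_nn01 : ι hh * ι (nn 0 1) = ι (nn 0 1) * (ι hh)⁻¹ := by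
  rw [← map_inv, ← map_mul, ← map_mul]
  congr 1
  rw [eq_mul_inv_iff_mul_eq]
  exact hnh 0 1 (by decide)

/-- `hh` acts on the elements `p2 a` -/
theorem hh_p2 (h : TOne ι r n κ) (a : F4) : (ι hh)⁻¹ * p2 ι n a * ι hh = p2 ι n (ω * a) := by
  have h1 : (ι hh)⁻¹ * ι (nn 0 1) = ι (nn 0 1) * ι hh := by
    rw [inv_mul_eq_iff_eq_mul, ← mul_assoc, hh_nn01 (ι := ι), inv_mul_cancel_right]
  have h2 : (ι (nn 0 1))⁻¹ * ι hh = (ι hh)⁻¹ * (ι (nn 0 1))⁻¹ := by
    have h3 := congrArg (fun x => x⁻¹) h1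
    simpa only [mul_inv_rev, inv_inv] using h3
  unfold p2
  calc (ι hh)⁻¹ * (ι (nn 0 1) * n a * (ι (nn 0 1))⁻¹) * ι hh
      = ((ι hh)⁻¹ * ι (nn 0 1)) * n a * ((ι (nn 0 1))⁻¹ * ι hh) := by group
    _ = ι (nn 0 1) * (ι hh * n a) * (ι hh)⁻¹ * (ι (nn 0 1))⁻¹ := by rw [h1, h2]; group
    _ = _ := by rw [n_hh' h]; group

theorem hh_n (h : TOne ι r n κ) (a : F4) : ι hh * n a * (ι hh)⁻¹ = n (ω * a) := by
  rw [n_hh' h]; group

/-- conjugation of `n` by `n01 d d⁻¹` -/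
theorem n01_n (h : TOne ι r n κ) (d : F4) (hd : d ≠ 0) (a : F4) :
    ι (n01 d d⁻¹) * n (d * a) * (ι (n01 d d⁻¹))⁻¹ = p2 ι n a := by
  -- step: from `d` to `ω d`
  have step : ∀ d : F4, (∀ a, ι (n01 d d⁻¹) * n (d * a) * (ι (n01 d d⁻¹))⁻¹ = p2 ι n a) →
      ∀ a, ι (n01 (ω * d) (ω2 * d⁻¹)) * n (ω * d * a) * (ι (n01 (ω * d) (ω2 * d⁻¹)))⁻¹ =
        p2 ι n a := by
    intro d ih a
    have e1 : ι (n01 (ω * d) (ω2 * d⁻¹)) = (ι hh)⁻¹ * ι (n01 d d⁻¹) * ι hh := by
      rw [mul_assoc, ← map_mul, ← n01_hh, map_mul]; group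
    rw [e1]
    have e2 : ∀ d a : F4, ω * (ω * d * a) = d * (ω2 * a) := by decide
    calc (ι hh)⁻¹ * ι (n01 d d⁻¹) * ι hh * n (ω * d * a) * ((ι hh)⁻¹ * ι (n01 d d⁻¹) * ι hh)⁻¹
        = (ι hh)⁻¹ * (ι (n01 d d⁻¹) * (ι hh * n (ω * d * a) * (ι hh)⁻¹) * (ι (n01 d d⁻¹))⁻¹) *
            ι hh := by group
      _ = (ι hh)⁻¹ * p2 ι n (ω2 * a) * ι hh := by rw [hh_n h, e2, ih]
      _ = p2 ι n a := by
          rw [hh_p2 h]
          have : ∀ a : F4, ω * (ω2 * a) = a := by decide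
          rw [this]
  have h1 : ∀ a, ι (n01 1 (1 : F4)⁻¹) * n (1 * a) * (ι (n01 1 (1 : F4)⁻¹))⁻¹ = p2 ι n a := by
    intro a
    rw [one_mul]; rfl
  have h2 := step 1 h1
  have h3 := step (ω * 1) (by
    have e1 : (ω * 1 : F4)⁻¹ = ω2 * (1 : F4)⁻¹ := by decide
    rw [e1]; exact h2)
  have h4 : ∀ d : F4, d ≠ 0 → d = 1 ∨ d = ω * 1 ∨ d = ω * (ω * 1) := by decide
  rcases h4 d hd with h5 | h5 | h5
  · rw [h5]; exact h1 a
  · rw [h5]
    have e1 : (ω * 1 : F4)⁻¹ = ω2 * (1 : F4)⁻¹ := by decide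
    rw [e1]; exact h2 a
  · rw [h5]
    have e1 : (ω * (ω * 1) : F4)⁻¹ = ω2 * (ω * 1 : F4)⁻¹ := by decide
    rw [e1]; exact h3 a

/-- the elements acting trivially on `ι L0` and `R` -/
theorem cent_RL (h : ROne ι r) {x : X} (hx : ∀ m, Commute x (r m)) (hL : ∀ y, Commute x (ι y)) :
    ∃ m, x = r m := by
  obtain ⟨m, q, hmq⟩ := cent_RS h hx (fun s _ => hL s)
  refine ⟨m, ?_⟩
  have h1 : Commute (zz ι q) (ι (nn 1 2)) := by
    have e1 : zz ι q = (r m)⁻¹ * x := by rw [hmq]; group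
    rw [e1]
    exact ((h.r_L m _).inv_left).mul_left (hL _)
  have h2 : t 0 2 q * nn 1 2 = nn 1 2 * t 0 2 q := h.inj (by rw [map_mul, map_mul]; exact h1.eq)
  rw [nn12_02] at h2
  have h3 := mul_right_cancel h2
  rw [← e_02, ← e_01] at h3
  have h4 : (e 0 0 q)⁻¹ * e q 0 0 = 1 := by rw [h3]; group
  rw [e_inv, e_mul] at h4
  have h5 := (Facts1.e_one h4).1
  rw [zero_add] at h5
  rw [hmq, h5]
  unfold zz
  rw [t_zero, map_one, mul_one]

theorem k0101 (u v : F4) : ι (t 0 1 u) * ι (t 0 1 v) = ι (t 0 1 v) * ι (t 0 1 u) := by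
  rw [← map_mul, ← map_mul, t_add 0 1 _ _ (by decide), t_add 0 1 _ _ (by decide), add_comm]
theorem k0202 (u v : F4) : ι (t 0 2 u) * ι (t 0 2 v) = ι (t 0 2 v) * ι (t 0 2 u) := by
  rw [← map_mul, ← map_mul, t_add 0 2 _ _ (by decide), t_add 0 2 _ _ (by decide), add_comm]
theorem k1212 (u v : F4) : ι (t 1 2 u) * ι (t 1 2 v) = ι (t 1 2 v) * ι (t 1 2 u) := by
  rw [← map_mul, ← map_mul, t_add 1 2 _ _ (by decide), t_add 1 2 _ _ (by decide), add_comm]
theorem k0102 (u v : F4) : ι (t 0 1 u) * ι (t 0 2 v) = ι (t 0 2 v) * ι (t 0 1 u) := by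
  rw [← map_mul, ← map_mul, t0102]
theorem k0212 (u v : F4) : ι (t 0 2 u) * ι (t 1 2 v) = ι (t 1 2 v) * ι (t 0 2 u) := by
  rw [← map_mul, ← map_mul, t0212]

theorem inj_01 (h : ROne ι r) {a b a' b' : F4}
    (he : ι (t 0 1 a) * ι (t 0 2 b) = ι (t 0 1 a') * ι (t 0 2 b')) : a = a' := by
  rw [← map_mul, ← map_mul] at he
  have h1 := h.inj he
  have e1 : ∀ a b : F4, t 0 1 a * t 0 2 b = e a 0 b := fun a b => by
    unfold e; rw [t_zero, mul_one]
  rw [e1, e1] at h1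
  have h2 : (e a 0 b)⁻¹ * e a' 0 b' = 1 := by rw [h1]; group
  rw [e_inv, e_mul] at h2
  have h3 := (Facts1.e_one h2).1
  have : ∀ a b : F4, a + b = 0 → a = b := by decide
  exact this _ _ h3

theorem inj_12 (h : ROne ι r) {a b a' b' : F4}
    (he : ι (t 1 2 a) * ι (t 0 2 b) = ι (t 1 2 a') * ι (t 0 2 b')) : a = a' := by
  rw [← map_mul, ← map_mul] at he
  have h1 := h.inj he
  have e1 : ∀ a b : F4, t 1 2 a * t 0 2 b = e 0 a b := fun a b => by
    unfold e; rw [t_zero, one_mul]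
  rw [e1, e1] at h1
  have h2 : (e 0 a b)⁻¹ * e 0 a' b' = 1 := by rw [h1]; group
  rw [e_inv, e_mul] at h2
  have h3 := (Facts1.e_one h2).2.1
  have : ∀ a b : F4, a + b = 0 → a = b := by decide
  exact this _ _ h3

/-- `x` acts on `L` as the graph automorphism times `diag(d,1,1)`, and commutes with `R` -/
structure Gr (ι : L0 →* X) (r n : F4 → X) (d : F4) (x : X) : Prop where
  comm : ∀ m, Commute x (r m)
  act : ∀ i j : Fin 3, i ≠ j → ∀ u, x * ι (t i j u) * x⁻¹ =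
    ι (t (rv j) (rv i) (dd d (rv j) * (dd d (rv i))⁻¹ * u))
  ex : ∃ q : F4 → F4, ∀ l, x * n l * x⁻¹ = n (d * l) * zz ι (q l)

/-- **The elements commuting with `R`.** -/
theorem main {c₁ c₂ : F4} (hc₁ : c₁ ≠ 0) (hc₂ : c₂ ≠ 0) (h : TOne ι r n 0)
    (u : UOne ι r n c₁ c₂) {x : X}
    (hx : ∀ m, Commute x (r m)) {α : MulAut L0} (hα : ∀ y, x * ι y * x⁻¹ = ι (α y)) :
    ∃ l : L0, (∃ m, ι l * x = r m) ∨ Gr ι r n (c₁ * c₂⁻¹) (ι l * x) := by
  obtain ⟨l, d, hd, σ, hσ⟩ := exists_std α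
  refine ⟨l, ?_⟩
  set x' := ι l * x with hx'
  set β := MulAut.conj l * α with hβ
  have hxr : ∀ m, Commute x' (r m) := fun m => ((h.r_L m _).symm).mul_left (hx m)
  have hxβ : ∀ y, x' * ι y * x'⁻¹ = ι (β y) := by
    intro y
    rw [hx', hβ, MulAut.mul_apply, MulAut.conj_apply, map_mul, map_mul, map_inv, ← hα]; group
  have dd02 : ∀ d v : F4, dd d 0 * (dd d 2)⁻¹ * v = d * v := by decide
  have dd01 : ∀ d v : F4, dd d 0 * (dd d 1)⁻¹ * v = d * v := by decide
  have dd12 : ∀ d v : F4, dd d 1 * (dd d 2)⁻¹ * v = v := by decide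
  have dd21 : ∀ d v : F4, dd d 2 * (dd d 1)⁻¹ * v = v := by decide
  have dd10 : ∀ d v : F4, dd d 1 * (dd d 0)⁻¹ * v = d⁻¹ * v := by decide
  have r0 : rv 0 = 2 := by decide
  have r1 : rv 1 = 1 := by decide
  have r2 : rv 2 = 0 := by decide
  have σ1 : σ 1 = 1 := map_one σ
  rcases hσ with hσ | hσ
  · -- no graph automorphism
    have b01 : ∀ v, β (t 0 1 v) = t 0 1 (d * σ v) := fun v => by rw [hσ 0 1 (by decide), dd01]
    have b02 : ∀ v, β (t 0 2 v) = t 0 2 (d * σ v) := fun v => by rw [hσ 0 2 (by decide), dd02]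
    have b12 : ∀ v, β (t 1 2 v) = t 1 2 (σ v) := fun v => by rw [hσ 1 2 (by decide), dd12]
    have b21 : ∀ v, β (t 2 1 v) = t 2 1 (σ v) := fun v => by rw [hσ 2 1 (by decide), dd21]
    obtain ⟨d', hd', q, hq⟩ := conj_n h hxr (F := fun v => d * σ v)
      (fun v => by unfold zz; rw [hxβ, b02]) (by
        rintro _ ⟨a, b, e', rfl⟩
        refine ⟨e (σ.symm (d⁻¹ * a)) (σ.symm b) (σ.symm (d⁻¹ * e')), ⟨_, _, _, rfl⟩, ?_⟩
        rw [hxβ]
        congr 1
        unfold e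
        rw [map_mul, map_mul, b01, b12, b02, RingEquiv.apply_symm_apply,
          RingEquiv.apply_symm_apply, RingEquiv.apply_symm_apply, mul_inv_cancel_left₀ hd,
          mul_inv_cancel_left₀ hd])
    have hd1 : d' = d := by
      have := hd' 1
      simp only [σ1, mul_one] at this
      exact this.symm
    have hσid : ∀ v, σ v = v := by
      intro v
      have := hd' v
      simp only [hd1] at this
      exact mul_left_cancel₀ hd this
    rw [hd1] at hq
    have bnn : β (nn 1 2) = nn 1 2 := by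
      unfold nn
      rw [map_mul, map_mul, b12, b21, σ1]
    have hP : ∀ a, x' * p1 ι n a * x'⁻¹ = p1 ι n (d * a) * ι (t 0 1 (q a)) := by
      intro a
      calc x' * p1 ι n a * x'⁻¹ = (x' * ι (nn 1 2) * x'⁻¹) * (x' * n a * x'⁻¹) *
            (x' * ι (nn 1 2) * x'⁻¹)⁻¹ := by unfold p1; group
        _ = ι (nn 1 2) * (n (d * a) * zz ι (q a)) * (ι (nn 1 2))⁻¹ := by rw [hxβ, hq, bnn]
        _ = p1 ι n (d * a) * (ι (nn 1 2) * zz ι (q a) * (ι (nn 1 2))⁻¹) := by unfold p1; group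
        _ = _ := by
            congr 1
            unfold zz
            rw [← map_mul, nn12_02, map_mul]; group
    have hd11 : d = 1 := by
      have h1 := u.np₁ 1 1
      have h2 : (x' * n 1 * x'⁻¹) * (x' * p1 ι n 1 * x'⁻¹) =
          (x' * p1 ι n 1 * x'⁻¹) * (x' * n 1 * x'⁻¹) *
            (x' * ι (t 0 1 (c₁ * (1 * 1 * 1))) * x'⁻¹) *
            (x' * ι (t 0 2 (c₁ * (1 * 1 * 1))) * x'⁻¹) := by
        calc (x' * n 1 * x'⁻¹) * (x' * p1 ι n 1 * x'⁻¹) = x' * (n 1 * p1 ι n 1) * x'⁻¹ := by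
              group
          _ = x' * (p1 ι n 1 * n 1 * ι (t 0 1 (c₁ * (1 * 1 * 1))) * ι (t 0 2 (c₁ * (1 * 1 * 1)))) *
                x'⁻¹ := by rw [h1]
          _ = _ := by group
      rw [hq, hP, hxβ, hxβ, b01, b02] at h2
      have h3 := cc (n_02 h _ _) (n_01 h _ _) (p1_02 h _ _) (p1_01 h _ _) (k0102 _ _).symm
        h2 (k0102 _ _).symm (k0202 _ _) (k0101 _ _) (k0102 _ _) (u.np₁ (d * 1) (d * 1))
      have h4 := inj_01 h.toROne h3
      rw [hσid] at h4
      have h5 : ∀ c d : F4, c ≠ 0 → d ≠ 0 → d * (c * (1 * 1 * 1)) = c * (d * 1 * (d * 1) * (d * 1)) →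
          d = 1 := by decide
      exact h5 c₁ d hc₁ hd h4
    left
    have hone : β = 1 := by
      apply Codes.hom_ext
      intro i j hij v
      rw [hσ i j hij, hσid, hd11, MulAut.one_apply]
      have : ∀ (i j : Fin 3) (v : F4), dd 1 i * (dd 1 j)⁻¹ * v = v := by decide
      rw [this]
    apply cent_RL h.toROne hxr
    intro y
    have h1 := hxβ y
    rw [hone, MulAut.one_apply] at h1
    exact mul_inv_eq_iff_eq_mul.mp h1
  · -- graph automorphism
    have b01 : ∀ v, β (t 0 1 v) = t 1 2 (σ v) := fun v => by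
      rw [hσ 0 1 (by decide), r0, r1, dd12]
    have b10 : ∀ v, β (t 1 0 v) = t 2 1 (σ v) := fun v => by
      rw [hσ 1 0 (by decide), r0, r1, dd21]
    have b12 : ∀ v, β (t 1 2 v) = t 0 1 (d * σ v) := fun v => by
      rw [hσ 1 2 (by decide), r1, r2, dd01]
    have b21 : ∀ v, β (t 2 1 v) = t 1 0 (d⁻¹ * σ v) := fun v => by
      rw [hσ 2 1 (by decide), r1, r2, dd10]
    have b02 : ∀ v, β (t 0 2 v) = t 0 2 (d * σ v) := fun v => by
      rw [hσ 0 2 (by decide), r0, r2, dd02]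
    obtain ⟨d', hd', q, hq⟩ := conj_n h hxr (F := fun v => d * σ v)
      (fun v => by unfold zz; rw [hxβ, b02]) (by
        rintro _ ⟨a, b, e', rfl⟩
        refine ⟨t 1 2 (σ.symm (d⁻¹ * a)) * t 0 1 (σ.symm b) * t 0 2 (σ.symm (d⁻¹ * e')),
          S0.mul_mem (S0.mul_mem (t12_mem _) (t01_mem _)) (t02_mem _), ?_⟩
        rw [hxβ]
        congr 1
        unfold e
        rw [map_mul, map_mul, b01, b12, b02, RingEquiv.apply_symm_apply,
          RingEquiv.apply_symm_apply, RingEquiv.apply_symm_apply, mul_inv_cancel_left₀ hd,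
          mul_inv_cancel_left₀ hd])
    have hd1 : d' = d := by
      have := hd' 1
      simp only [σ1, mul_one] at this
      exact this.symm
    have hσid : ∀ v, σ v = v := by
      intro v
      have := hd' v
      simp only [hd1] at this
      exact mul_left_cancel₀ hd this
    rw [hd1] at hq
    have bnn : β (nn 1 2) = n01 d d⁻¹ := by
      unfold nn n01
      rw [map_mul, map_mul, b12, b21, σ1, mul_one, mul_one]
    have hP : ∀ a, x' * p1 ι n a * x'⁻¹ = p2 ι n a *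
        (ι (n01 d d⁻¹) * zz ι (q a) * (ι (n01 d d⁻¹))⁻¹) := by
      intro a
      calc x' * p1 ι n a * x'⁻¹ = (x' * ι (nn 1 2) * x'⁻¹) * (x' * n a * x'⁻¹) *
            (x' * ι (nn 1 2) * x'⁻¹)⁻¹ := by unfold p1; group
        _ = ι (n01 d d⁻¹) * (n (d * a) * zz ι (q a)) * (ι (n01 d d⁻¹))⁻¹ := by rw [hxβ, hq, bnn]
        _ = (ι (n01 d d⁻¹) * n (d * a) * (ι (n01 d d⁻¹))⁻¹) *
            (ι (n01 d d⁻¹) * zz ι (q a) * (ι (n01 d d⁻¹))⁻¹) := by group
        _ = _ := by rw [n01_n h d hd]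
    have hz : ∀ v, ∃ v', ι (n01 d d⁻¹) * zz ι v * (ι (n01 d d⁻¹))⁻¹ = ι (t 1 2 v') := by
      intro v
      refine ⟨d⁻¹ * v, ?_⟩
      have e1 : t 0 2 v = β (t 0 2 (d⁻¹ * v)) := by
        rw [b02, hσid, mul_inv_cancel_left₀ hd]
      have e2 : nn 1 2 * t 0 2 (d⁻¹ * v) * (nn 1 2)⁻¹ = t 0 1 (d⁻¹ * v) := by
        rw [nn12_02]; group
      unfold zz
      rw [← bnn, e1, ← map_inv, ← map_inv, ← map_mul, ← map_mul, ← map_mul, ← map_mul, e2, b01,
        hσid]
    have hd11 : d = c₁ * c₂⁻¹ := by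
      have h1 := u.np₁ 1 1
      have h2 : (x' * n 1 * x'⁻¹) * (x' * p1 ι n 1 * x'⁻¹) =
          (x' * p1 ι n 1 * x'⁻¹) * (x' * n 1 * x'⁻¹) *
            (x' * ι (t 0 1 (c₁ * (1 * 1 * 1))) * x'⁻¹) *
            (x' * ι (t 0 2 (c₁ * (1 * 1 * 1))) * x'⁻¹) := by
        calc (x' * n 1 * x'⁻¹) * (x' * p1 ι n 1 * x'⁻¹) = x' * (n 1 * p1 ι n 1) * x'⁻¹ := by
              group
          _ = x' * (p1 ι n 1 * n 1 * ι (t 0 1 (c₁ * (1 * 1 * 1))) * ι (t 0 2 (c₁ * (1 * 1 * 1)))) *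
                x'⁻¹ := by rw [h1]
          _ = _ := by group
      obtain ⟨v', hv'⟩ := hz (q 1)
      rw [hq, hP, hxβ, hxβ, b01, b02, hv'] at h2
      have h3 := cc (n_02 h _ _) (n_12 h _ _) (p2_02 h _ _) (p2_12 h _ _) (k0212 _ _)
        h2 (k0212 _ _) (k0202 _ _) (k1212 _ _) (k0212 _ _).symm (u.np₂ (d * 1) 1)
      have h4 := inj_12 h.toROne h3
      rw [hσid] at h4
      have h5 : ∀ c c' d : F4, c' ≠ 0 → c * (1 * 1 * 1) = c' * (d * 1 * 1 * 1) →
          d = c * c'⁻¹ := by decide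
      exact h5 c₁ c₂ d hc₂ h4
    right
    rw [← hd11]
    refine ⟨hxr, fun i j hij v => ?_, q, hq⟩
    rw [hxβ, hσ i j hij, hσid]

/-- two elements with the same action -/
theorem Gr.unique (h : TOne ι r n 0) {d : F4} {x y : X} (hx : Gr ι r n d x) (hy : Gr ι r n d y) :
    ∃ m, x⁻¹ * y = r m := by
  apply cent_RL h.toROne
  · intro m
    exact ((hx.comm m).inv_left).mul_left (hy.comm m)
  · have key : ∀ v ∈ Subgroup.closure {A : PSL3 | ∃ (i j : Fin 3) (_ : i ≠ j) (c : F4), A = t i j c},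
        Commute (x⁻¹ * y) (ι v) := by
      intro v hv
      induction hv using Subgroup.closure_induction with
      | mem v hv =>
        obtain ⟨i, j, hij, u, rfl⟩ := hv
        have h1 : y * ι (t i j u) * y⁻¹ = x * ι (t i j u) * x⁻¹ := by
          rw [hx.act i j hij, hy.act i j hij]
        have h2 : (x⁻¹ * y) * ι (t i j u) * (x⁻¹ * y)⁻¹ = ι (t i j u) := by
          calc (x⁻¹ * y) * ι (t i j u) * (x⁻¹ * y)⁻¹ = x⁻¹ * (y * ι (t i j u) * y⁻¹) * x := by group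
            _ = ι (t i j u) := by rw [h1]; group
        exact mul_inv_eq_iff_eq_mul.mp h2
      | one => rw [map_one]; exact Commute.one_right _
      | mul a b _ _ ha hb => rw [map_mul]; exact ha.mul_right hb
      | inv a _ ha => rw [map_inv]; exact ha.inv_right
    intro v
    exact key v (by rw [Cfsg.Agent.ONType.PslCard.closure_t]; trivial)

end Cfsg.Agent.StdLThreeFour.OutType
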