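import Cfsg.Agent.StdLThreeFour.RFourA

/-!
# Standard `L3(4)`, case `|R| = 4`: an element of `T1`
-/

set_option autoImplicit false

namespace Cfsg.Agent.StdLThreeFour.RFourActs0

open Cfsg.Agent.StdLThreeFour.Base Cfsg.Agent.StdLThreeFour.RFour0
open Cfsg.Agent.SporadicA.FieldFour
open Cfsg.Agent.ONType.Psl

/-- `g` normalises `T0 = R × S`, is trivial on `Z`, on `T0 / (R × Z)` (with values in `S`), and moves `r ∈ R`
to `r z`; it does not centralise `R`. -/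
structure Acts {X : Type*} [Group X] (F : Four X) (g : X) : Prop where
  gz : ∀ c, g * F.ι (t 0 2 c) * g⁻¹ = F.ι (t 0 2 c)
  g1 : ∀ a, ∃ c, g * F.ι (t 0 1 a) * g⁻¹ = F.ι (t 0 1 a) * F.ι (t 0 2 c)
  g2 : ∀ b, ∃ c, g * F.ι (t 1 2 b) * g⁻¹ = F.ι (t 1 2 b) * F.ι (t 0 2 c)
  gr : ∀ r ∈ F.R, ∃ c, g * r * g⁻¹ = r * F.ι (t 0 2 c)
  nr : ∃ r ∈ F.R, g * r * g⁻¹ ≠ r

end Cfsg.Agent.StdLThreeFour.RFourActs0
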