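import Cfsg.Agent.StdLThreeFour.RFourDefs

/-!
# Standard `L3(4)`, case `|R| = 4`: the `SL(2,4)`-equivariant cocycle
-/

set_option autoImplicit false
set_option linter.unusedVariables false
set_option linter.constructorNameAsVariable false

namespace Cfsg.Agent.StdLThreeFour.RFourCocyc

open Cfsg.Agent.SporadicA.FieldFour
open Cfsg.Agent.ONType.Psl

/-- the natural module -/
abbrev V : Type := F4 × F4

/-- the determinant form -/
def det (v w : V) : F4 := v.1 * w.2 + v.2 * w.1

/-- action of a 2x2 matrix -/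
def act (p q s t : F4) (v : V) : V := (p * v.1 + q * v.2, s * v.1 + t * v.2)

/-- scalar multiplication -/
def sm (c : F4) (v : V) : V := (c * v.1, c * v.2)

theorem act_mul (p q s t p' q' s' t' : F4) (v : V) :
    act p q s t (act p' q' s' t' v) =
      act (p * p' + q * s') (p * q' + q * t') (s * p' + t * s') (s * q' + t * t') v := by
  unfold act
  ext
  · ring
  · ring

theorem act_add (p q s t : F4) (v w : V) : act p q s t (v + w) = act p q s t v + act p q s t w := by
  unfold act
  ext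
  · simp only [Prod.fst_add, Prod.snd_add]; ring
  · simp only [Prod.fst_add, Prod.snd_add]; ring

theorem act_det : ∀ p q s t : F4, p * t + q * s = 1 → ∀ v w : V,
    det (act p q s t v) (act p q s t w) = det v w := by
  intro p q s t h v w
  have h2 : (2 : F4) = 0 := by decide
  unfold det act
  simp only
  linear_combination (v.1 * w.2 + v.2 * w.1) * h + (p * s * v.1 * w.1 + q * t * v.2 * w.2) * h2

theorem frame_aux : ∀ v1 v2 w1 w2 : F4, v1 * w2 + v2 * w1 ≠ 0 →
    v1 * ((v1 * w2 + v2 * w1)⁻¹ * w2) + ((v1 * w2 + v2 * w1)⁻¹ * w1) * v2 = 1 ∧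
    ((v1 * w2 + v2 * w1)⁻¹ * w1) * (v1 * w2 + v2 * w1) = w1 ∧
    ((v1 * w2 + v2 * w1)⁻¹ * w2) * (v1 * w2 + v2 * w1) = w2 := by decide

theorem add_self (x : F4) : x + x = 0 := by revert x; decide

theorem V_add_self (v : V) : v + v = 0 := by
  ext
  · exact add_self _
  · exact add_self _

theorem cocyc (G : V → V → F4) (A : V → V → V) (κ : F4)
    (e1 : ∀ p q s t, p * t + q * s = 1 → ∀ v w,
      G (act p q s t v) (act p q s t w) = G v w ∧
      A (act p q s t v) (act p q s t w) = act p q s t (A v w))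
    (c1 : ∀ v w u, G v w + G (v + w) u = G w u + G v (w + u))
    (c2 : ∀ v w u, A (v + w) u + A v w + sm (G v w) u = A v (w + u) + A w u)
    (d1 : ∀ l l', G (0, l) (0, l') = 0)
    (d2 : ∀ l, A (0, l) (0, l) = (0, κ * l))
    (z1 : ∀ u, A 0 u = 0) :
    ∃ c, κ = 0 ∧ ∀ v w, G v w = c * det v w ∧ A v w = sm (c * det v w) v := by
  set g : F4 → F4 := fun d => G (1, 0) (0, d) with hg
  set α : F4 → F4 := fun d => (A (1, 0) (0, d)).1 with hα
  set β : F4 → F4 := fun d => d⁻¹ * (A (1, 0) (0, d)).2 with hβ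
  have key : ∀ v w, det v w ≠ 0 → G v w = g (det v w) ∧
      A v w = (α (det v w) * v.1 + β (det v w) * w.1, α (det v w) * v.2 + β (det v w) * w.2) := by
    intro v w hd
    obtain ⟨h1, h2, h3⟩ := frame_aux v.1 v.2 w.1 w.2 hd
    obtain ⟨h4, h5⟩ := e1 v.1 ((det v w)⁻¹ * w.1) v.2 ((det v w)⁻¹ * w.2) h1 (1, 0) (0, det v w)
    have e2 : act v.1 ((det v w)⁻¹ * w.1) v.2 ((det v w)⁻¹ * w.2) (1, 0) = v := by
      unfold act; ext
      · simp
      · simp
    have e3 : act v.1 ((det v w)⁻¹ * w.1) v.2 ((det v w)⁻¹ * w.2) (0, det v w) = w := by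
      unfold act; ext
      · simp only [mul_zero, zero_add]; exact h2
      · simp only [mul_zero, zero_add]; exact h3
    rw [e2, e3] at h4 h5
    refine ⟨h4, ?_⟩
    rw [h5]
    unfold act
    ext
    · simp only [hα, hβ]; ring
    · simp only [hα, hβ]; ring
  have gadd : ∀ x y, g x + g y = g (x + y) := by
    intro x y
    have h := c1 (1, 0) (0, x) (0, y)
    rw [d1, zero_add] at h
    have e2 : ((0, x) + (0, y) : V) = (0, x + y) := by ext <;> simp
    rw [e2] at h
    rw [← show G (1, 0) (0, x + y) = g (x + y) from rfl, ← h]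
    congr 1
    have e3 : ((1, 0) + (0, x) : V) = (1, x) := by ext <;> simp
    rw [e3]
    by_cases hy : y = 0
    · subst hy
      have h5 := c1 (1, x) (0, 0) (0, 0)
      have e4 : ((1, x) + (0, 0) : V) = (1, x) := by ext <;> simp
      have e5 : ((0, 0) + (0, 0) : V) = (0, 0) := by ext <;> simp
      rw [e4, e5, d1, zero_add] at h5
      have h6 := c1 (1, 0) (0, 0) (0, 0)
      have e6 : ((1, 0) + (0, 0) : V) = (1, 0) := by ext <;> simp
      rw [e6, e5, d1, zero_add] at h6
      have h7 : ∀ a : F4, a + a = a → a = 0 := by decide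
      rw [h7 _ h5]
      exact h7 _ h6
    · have hd : det (1, x) (0, y) = y := by unfold det; simp
      rw [(key (1, x) (0, y) (by rw [hd]; exact hy)).1, hd]
  have t2 : (2 : F4) = 0 := by decide
  have inst : ∀ y z, y ≠ 0 → z ≠ 0 → z ≠ 1 → α (z * y) + β (z * y) = g (z * y) ∧
      (z * y) * (α (z * y + y) + β (z * y + y) + g (z * y)) = y * α (z * y) := by
    intro y z hy hz hz1
    have h := c2 (1, 0) (z, z * y) (0, y)
    have hx : z * y ≠ 0 := mul_ne_zero hz hy
    have hxy : z * y + y ≠ 0 := by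
      have : ∀ z y : F4, z ≠ 1 → y ≠ 0 → z * y + y ≠ 0 := by decide
      exact this z y hz1 hy
    have a1 : det ((1, 0) + (z, z * y)) (0, y) = z * y + y := by
      unfold det; simp only [Prod.fst_add, Prod.snd_add]; ring
    have a2 : det (1, 0) (z, z * y) = z * y := by unfold det; simp
    have a3 : det (1, 0) ((z, z * y) + (0, y)) = z * y + y := by unfold det; simp
    have a4 : det (z, z * y) (0, y) = z * y := by
      unfold det; simp
    rw [(key _ _ (by rw [a1]; exact hxy)).2, (key _ _ (by rw [a2]; exact hx)).2,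
      (key _ _ (by rw [a2]; exact hx)).1, (key _ _ (by rw [a3]; exact hxy)).2,
      (key _ _ (by rw [a4]; exact hx)).2, a1, a2, a3, a4] at h
    have h1 := congrArg Prod.fst h
    have h2 := congrArg Prod.snd h
    simp only [sm, Prod.fst_add, Prod.snd_add] at h1 h2
    generalize α (z * y + y) = a at h1 h2 ⊢
    generalize β (z * y + y) = b at h1 h2 ⊢
    generalize α (z * y) = a' at h1 h2 ⊢
    generalize β (z * y) = b' at h1 h2 ⊢
    generalize g (z * y) = g' at h1 h2 ⊢
    have hs : a' + b' = g' := by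
      have : y * (a' + b' + g') = 0 := by
        linear_combination h2 + y * h1 + (b' * y - a * (z * y) - b' * (z * y) + b * (z * y) +
          a' * (z * y)) * t2
      have h3 := (mul_eq_zero.mp this).resolve_left hy
      have : ∀ u v w : F4, u + v + w = 0 → u + v = w := by decide
      exact this _ _ _ h3
    refine ⟨hs, ?_⟩
    rw [← hs]
    linear_combination y * h1 + (b * (z * y) + a' * (z * y) - y * a') * t2
  have inst' : ∀ y z, y ≠ 0 → z ≠ 0 → z ≠ 1 →  (z * y) * g y = y * α (z * y) := by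
    intro y z hy hz hz1
    obtain ⟨-, h2⟩ := inst y z hy hz hz1
    have h3 : z * y + y = (z + 1) * y := by ring
    have hz2 : ∀ z : F4, z ≠ 0 → z ≠ 1 → z ≠ 0 ∧ ∃ u v : F4, v ≠ 0 ∧ u ≠ 0 ∧ u ≠ 1 ∧
      ∀ y : F4, y ≠ 0 → v * y ≠ 0 ∧ u * (v * y) = z * y + y := by decide
    obtain ⟨-, u, v, hv, hu, hu1, huv⟩ := hz2 z hz hz1
    obtain ⟨hvy, he⟩ := huv y hy
    have h4 := (inst (v * y) u hvy hu hu1).1
    rw [he] at h4
    rw [← h2, h4, ← gadd]
    linear_combination -(z * y * g (z * y)) * t2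
  have ω0 : F4.w ≠ 0 := by decide
  have v0 : F4.v ≠ 0 := by decide
  have w1 : F4.w ≠ 1 := by decide
  have v1 : F4.v ≠ 1 := by decide
  have m1 := inst' 1 F4.v one_ne_zero v0 v1
  have m2 := inst' F4.w F4.w ω0 ω0 w1
  have m3 := inst' 1 F4.w one_ne_zero ω0 w1
  have m4 := inst' F4.v F4.v v0 v0 v1
  have m5 := inst' F4.w F4.v ω0 v0 v1
  have k1 : F4.w * F4.w = F4.v := by decide
  have k2 : F4.v * F4.v = F4.w := by decide
  have k3 : F4.v * F4.w = 1 := by decide
  have k4 : (1 : F4) + F4.w = F4.v := by decide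
  simp only [mul_one] at m1 m3
  rw [k1] at m2
  rw [k2] at m4
  rw [k3, one_mul] at m5
  have ga := gadd 1 F4.w
  rw [k4] at ga
  have q4 : α F4.v = g 1 * F4.v := by rw [← one_mul (α F4.v), ← m1, mul_comm]
  have q3 : α F4.w = g 1 * F4.w := by rw [← one_mul (α F4.w), ← m3, mul_comm]
  have q1 : g F4.w = g 1 * F4.w := by
    rw [q4] at m2
    have : ∀ a b : F4, F4.v * a = F4.w * (b * F4.v) → a = b * F4.w := by decide
    exact this _ _ m2
  have q2 : g F4.v = g 1 * F4.v := by
    rw [← ga, q1]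
    have : ∀ b : F4, b + b * F4.w = b * F4.v := by decide
    exact this _
  have q5 : α 1 = g 1 := by
    rw [q1] at m5
    have : ∀ a b : F4, a * F4.w = F4.w * b → b = a := by decide
    exact this _ _ m5
  have g0 : g 0 = 0 := by
    have := gadd 0 0
    rw [zero_add] at this
    have h7 : ∀ a : F4, a + a = a → a = 0 := by decide
    exact h7 _ this
  have gc : ∀ d, g d = g 1 * d := by
    intro d
    rcases (show ∀ d : F4, d = 0 ∨ d = 1 ∨ d = F4.w ∨ d = F4.v by decide) d with rfl | rfl | rfl | rfl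
    · rw [g0, mul_zero]
    · rw [mul_one]
    · exact q1
    · exact q2
  have αc : ∀ d, d ≠ 0 → α d = g 1 * d := by
    intro d hd
    rcases (show ∀ d : F4, d = 0 ∨ d = 1 ∨ d = F4.w ∨ d = F4.v by decide) d with rfl | rfl | rfl | rfl
    · exact absurd rfl hd
    · rw [mul_one]; exact q5
    · exact q3
    · exact q4
  have βc : ∀ d, d ≠ 0 → β d = 0 := by
    intro d hd
    have : ∀ d : F4, d ≠ 0 → ∃ y z : F4, y ≠ 0 ∧ z ≠ 0 ∧ z ≠ 1 ∧ z * y = d := by decide
    obtain ⟨y, z, hy, hz, hz1, he⟩ := this d hd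
    have h1 := (inst y z hy hz hz1).1
    rw [he, αc d hd, gc d] at h1
    have : ∀ a b : F4, a + b = a → b = 0 := by decide
    exact this _ _ h1
  have main : ∀ v w, det v w ≠ 0 → G v w = g 1 * det v w ∧ A v w = sm (g 1 * det v w) v := by
    intro v w hd
    obtain ⟨h1, h2⟩ := key v w hd
    refine ⟨by rw [h1, gc], ?_⟩
    rw [h2, αc _ hd, βc _ hd]
    unfold sm
    simp
  have hκ : κ = 0 := by
    have h := c2 (0, 1) (0, 1) (1, 0)
    have e1 : ((0, 1) + (0, 1) : V) = 0 := by decide
    rw [e1, z1, d1, d2, (main (0,1) ((0,1) + (1,0)) (by decide)).2, (main (0,1) (1,0) (by decide)).2] at h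
    have h2 := congrArg Prod.snd h
    simp only [sm, Prod.snd_add] at h2
    have e3 : det (0, 1) ((0, 1) + (1, 0)) = 1 := by decide
    have e4 : det (0, 1) (1, 0) = 1 := by decide
    rw [e3, e4] at h2
    have : ∀ k c : F4, (0 : V).2 + k * 1 + 0 * 0 = c * 1 * 1 + c * 1 * 1 → k = 0 := by decide
    exact this _ _ h2
  subst hκ
  refine ⟨g 1, rfl, ?_⟩
  -- dependent pairs
  have P0 : ∀ v u, v = 0 ∨ det v u ≠ 0 → A v u = sm (g 1 * det v u) v := by
    rintro v u (rfl | h)
    · rw [z1]
      unfold sm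
      simp
      rfl
    · exact (main v u h).2
  have G0 : ∀ u, G 0 u = 0 := by
    intro u
    have h := c1 0 0 u
    have h5 : G 0 0 = 0 := d1 0 0
    rw [add_zero, h5, zero_add, zero_add] at h
    have h7 : ∀ a : F4, a = a + a → a = 0 := by decide
    exact h7 _ h
  intro v w
  by_cases hd : det v w = 0
  · rw [hd, mul_zero]
    by_cases hv : v = 0
    · subst hv
      refine ⟨G0 w, ?_⟩
      rw [z1]; unfold sm; simp; rfl
    obtain ⟨μ, hμ⟩ : ∃ μ, w = sm μ v := by
      have : ∀ v1 v2 w1 w2 : F4, ¬ (v1 = 0 ∧ v2 = 0) → v1 * w2 + v2 * w1 = 0 →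
          ∃ μ, w1 = μ * v1 ∧ w2 = μ * v2 := by decide
      obtain ⟨μ, h1, h2⟩ := this v.1 v.2 w.1 w.2 (fun h => hv (Prod.ext h.1 h.2)) hd
      exact ⟨μ, Prod.ext h1 h2⟩
    obtain ⟨p, q, s, t, hM, hMv⟩ : ∃ p q s t : F4, p * t + q * s = 1 ∧ act p q s t (0, 1) = v := by
      have : ∀ v1 v2 : F4, ¬ (v1 = 0 ∧ v2 = 0) → ∃ p q s t : F4, p * t + q * s = 1 ∧
          p * 0 + q * 1 = v1 ∧ s * 0 + t * 1 = v2 := by decide
      obtain ⟨p, q, s, t, h1, h2, h3⟩ := this v.1 v.2 (fun h => hv (Prod.ext h.1 h.2))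
      exact ⟨p, q, s, t, h1, Prod.ext h2 h3⟩
    have hGv : G v w = 0 := by
      have h := (e1 p q s t hM (0, 1) (0, μ)).1
      have e2 : act p q s t (0, μ) = w := by
        rw [hμ, ← hMv]
        unfold act sm
        ext
        · simp only; ring
        · simp only; ring
      rw [e2, hMv, d1] at h
      exact h
    refine ⟨hGv, ?_⟩
    obtain ⟨u, hu⟩ : ∃ u, det v u ≠ 0 := by
      have : ∀ v1 v2 : F4, ¬ (v1 = 0 ∧ v2 = 0) → ∃ u1 u2 : F4, v1 * u2 + v2 * u1 ≠ 0 := by decide
      obtain ⟨u1, u2, h⟩ := this v.1 v.2 (fun h => hv (Prod.ext h.1 h.2))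
      exact ⟨(u1, u2), h⟩
    have h := c2 v w u
    have dwu : det w u = μ * det v u := by rw [hμ]; unfold det sm; simp only; ring
    have dvwu : det (v + w) u = (1 + μ) * det v u := by
      rw [hμ]; unfold det sm; simp only [Prod.fst_add, Prod.snd_add]; ring
    have dvw : det v (w + u) = det v u := by
      have : det v (w + u) = det v w + det v u := by
        unfold det; simp only [Prod.fst_add, Prod.snd_add]; ring
      rw [this, hd, zero_add]
    rw [P0 (v + w) u ?_, P0 v (w + u) (Or.inr (by rw [dvw]; exact hu)), P0 w u ?_, hGv, dvw, dwu,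
      dvwu, hμ] at h
    · rw [hμ]
      have h1 := congrArg Prod.fst h
      have h2 := congrArg Prod.snd h
      simp only [sm, Prod.fst_add, Prod.snd_add] at h1 h2
      ext
      · simp only [sm]
        linear_combination h1 + (-g 1 * μ * det v u * v.1) * t2 
      · simp only [sm]
        linear_combination h2 + (-g 1 * μ * det v u * v.2) * t2
    · by_cases hm : μ = 0
      · left; rw [hμ, hm]; unfold sm; simp
      · right; rw [dwu]; exact mul_ne_zero hm hu
    · by_cases hm : μ = 1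
      · left; rw [hμ, hm]; unfold sm
        ext
        · simp only [Prod.fst_add, one_mul]; exact add_self _
        · simp only [Prod.snd_add, one_mul]; exact add_self _
      · right; rw [dvwu]
        refine mul_ne_zero ?_ hu
        have : ∀ m : F4, m ≠ 1 → 1 + m ≠ 0 := by decide
        exact this _ hm
  · exact main v w hd

end Cfsg.Agent.StdLThreeFour.RFourCocyc
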