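import Cfsg.Agent.StdLThreeFour.Base

/-!
# Standard `L3(4)`, case `|R| = 4`: interfaces

`TOne ι r n κ`: `R = {r m}` is a four-group, `n l` centralises the Sylow 2-subgroup `ι S0`, and
`[r m, n l] = x₀₂(l m)`.

`UOne ι r n j c`: the relation between `n` and its conjugates under the parabolic subgroup of `A j`.
-/

set_option autoImplicit false

namespace Cfsg.Agent.StdLThreeFour.RFourDefs

open Cfsg.Agent.StdLThreeFour.Base
open Cfsg.Agent.SporadicA.FieldFour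
open Cfsg.Agent.ONType.Psl

/-- the facts on `X` used below: `R = {r m}` commutes with `L`, elements commuting with `R` normalise `L`,
`C_X(R A_j) = R A_j`, and the TI-property of `R` inside `R × Z` -/
structure ROne {X : Type*} [Group X] (ι : L0 →* X) (r : F4 → X) : Prop where
  inj : Function.Injective ι
  r_add : ∀ a b, r (a + b) = r a * r b
  r_L : ∀ m y, Commute (r m) (ι y)
  r_notL : ∀ m y, r m = ι y → m = 0
  norm_L : ∀ x : X, (∀ m, Commute x (r m)) → ∀ y, ∃ y', x * ι y * x⁻¹ = ι y'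
  cent_RA : ∀ (j : Bool) (x : X), (∀ m, Commute x (r m)) → (∀ a ∈ A j, Commute x (ι a)) →
    ∃ m, ∃ a ∈ A j, x = r m * ι a
  ti : ∀ (x : X) (f : F4 → F4), (∀ m, x * r m * x⁻¹ = r m * ι (t 0 2 (f m))) → ∃ l, ∀ m, f m = l * m

/-- the group `T1`: the elements `n l` -/
structure TOne {X : Type*} [Group X] (ι : L0 →* X) (r n : F4 → X) (κ : F4) : Prop
    extends ROne ι r where
  n_zero : n 0 = 1
  n_S : ∀ l, ∀ s ∈ S0, Commute (n l) (ι s)
  n_hh : ∀ l, (ι hh)⁻¹ * n l * ι hh = n (ω2 * l)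
  rn : ∀ m l, r m * n l = n l * r m * ι (t 0 2 (l * m))
  nn_sq : ∀ l, n l * n l = ι (t 0 2 (κ * l))
  n_comm : ∀ l l', Commute (n l) (n l')
  n3 : ∀ l, n l * n (ω * l) * n (ω2 * l) = 1

/-- the two relations (for `j = false`: `A_1 = x₀₁ x₀₂`, Weyl element `nn 1 2`, opposite root element `x₁₂`;
`j = true`: `A_2 = x₁₂ x₀₂`, Weyl element `nn 0 1`, opposite root element `x₀₁`). `P j a` is the conjugate of
`n a` attached to the vector `a e₁` of `A_j = F4²`. -/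
structure UOne {X : Type*} [Group X] (ι : L0 →* X) (r n : F4 → X) (c₁ c₂ : F4) : Prop where
  n_add : ∀ l l', n (l + l') = n l * n l'
  -- `P₁ a = nn12⁻¹ n(a) nn12`
  u₁ : ∀ a b, ι (t 1 2 b) * (ι (nn 1 2) * n a * (ι (nn 1 2))⁻¹) * (ι (t 1 2 b))⁻¹ =
    (ι (nn 1 2) * n a * (ι (nn 1 2))⁻¹) * n (a * b) * r (c₁ * (a * a * b)) *
      ι (t 0 1 (c₁ * (a * a * a * b)))
  u₂ : ∀ a b, ι (t 0 1 b) * (ι (nn 0 1) * n a * (ι (nn 0 1))⁻¹) * (ι (t 0 1 b))⁻¹ =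
    (ι (nn 0 1) * n a * (ι (nn 0 1))⁻¹) * n (a * b) * r (c₂ * (a * a * b)) *
      ι (t 1 2 (c₂ * (a * a * a * b)))
  np₁ : ∀ l a, n l * (ι (nn 1 2) * n a * (ι (nn 1 2))⁻¹) =
    (ι (nn 1 2) * n a * (ι (nn 1 2))⁻¹) * n l * ι (t 0 1 (c₁ * (l * a * a))) *
      ι (t 0 2 (c₁ * (l * l * a)))
  np₂ : ∀ l a, n l * (ι (nn 0 1) * n a * (ι (nn 0 1))⁻¹) =
    (ι (nn 0 1) * n a * (ι (nn 0 1))⁻¹) * n l * ι (t 1 2 (c₂ * (l * a * a))) *
      ι (t 0 2 (c₂ * (l * l * a)))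

end Cfsg.Agent.StdLThreeFour.RFourDefs
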