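import Cfsg.Agent.StdLThreeFour.RFourU
import Cfsg.Agent.StdLThreeFour.Codes

/-!
# Standard `L3(4)`, case `|R| = 4`: the element `ρ` of order 3
-/

set_option autoImplicit false
set_option linter.unusedVariables false
set_option linter.unusedSectionVars false
set_option linter.constructorNameAsVariable false

namespace Cfsg.Agent.StdLThreeFour.RFourRho

open Cfsg.Agent.StdLThreeFour.Base Cfsg.Agent.StdLThreeFour.RFourDefs Cfsg.Agent.StdLThreeFour.RFourU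
open Cfsg.Agent.StdLThreeFour.Codes
open Cfsg.Agent.SporadicA.FieldFour
open Cfsg.Agent.ONType.Psl

variable {X : Type*} [Group X] {ι : L0 →* X} {r n : F4 → X}

/-- the hypotheses -/
structure RHyp (ι : L0 →* X) (r n : F4 → X) : Prop where
  t : TOne ι r n 0
  u : UOne ι r n ω2 ω
  tiR : ∀ (x : X) m m', m ≠ 0 → x * r m * x⁻¹ = r m' → ∀ m₁, ∃ m₂, x * r m₁ * x⁻¹ = r m₂
  actR : ∀ x : X, (∀ m, ∃ m', x * r m * x⁻¹ = r m') → ∃ α : MulAut L0, ∀ y, x * ι y * x⁻¹ = ι (α y)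

/-- coordinates modulo `Z` -/
abbrev W4 : Type := F4 × F4 × F4 × F4

/-- the elements of `Z` -/
def zz (ι : L0 →* X) (c : F4) : X := ι (t 0 2 c)

/-- elements of `T1` modulo `Z` -/
def TE (ι : L0 →* X) (r n : F4 → X) (v : W4) : X :=
  ι (t 0 1 v.1) * ι (t 1 2 v.2.1) * (r v.2.2.1 * n v.2.2.2)

/-- congruence modulo `Z` -/
def Cg (ι : L0 →* X) (x y : X) : Prop := ∃ c, x = y * zz ι c

/-- `g` centralises `Z` and acts on `T1 / Z` by `M` -/
structure ActsBy (ι : L0 →* X) (r n : F4 → X) (g : X) (M : W4 → W4) : Prop where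
  z : ∀ c, Commute g (zz ι c)
  a : ∀ v, Cg ι (g * TE ι r n v * g⁻¹) (TE ι r n (M v))

/-- `P₁ a` -/
def P1 (ι : L0 →* X) (n : F4 → X) (a : F4) : X := ι (nn 1 2) * n a * (ι (nn 1 2))⁻¹
/-- `P₂ a` -/
def P2 (ι : L0 →* X) (n : F4 → X) (a : F4) : X := ι (nn 0 1) * n a * (ι (nn 0 1))⁻¹

/-- the matrix of `P₁ a` -/
def M1 (α : F4) (v : W4) : W4 :=
  (v.1 + (α * v.2.2.1 + (ω2 * (v.2.2.2 * α * α) + ω2 * (α * α * α * v.2.1))), v.2.1,
    v.2.2.1 + ω2 * (α * α * v.2.1), v.2.2.2 + α * v.2.1)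

/-- the matrix of `P₂ a` -/
def M2 (α : F4) (v : W4) : W4 :=
  (v.1, v.2.1 + (α * v.2.2.1 + (ω * (v.2.2.2 * α * α) + ω * (α * α * α * v.1))),
    v.2.2.1 + ω * (α * α * v.1), v.2.2.2 + α * v.1)

theorem zz_add (ι : L0 →* X) (c d : F4) : zz ι (c + d) = zz ι c * zz ι d := by
  unfold zz; rw [← t_add 0 2 _ _ (by decide), map_mul]

theorem zz_zero (ι : L0 →* X) : zz ι 0 = 1 := by unfold zz; rw [t_zero, map_one]

theorem zz_inv (ι : L0 →* X) (c : F4) : (zz ι c)⁻¹ = zz ι c := by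
  rw [inv_eq_iff_mul_eq_one, ← zz_add, RFourCocyc.add_self, zz_zero]

theorem Cg.refl (x : X) : Cg ι x x := ⟨0, by rw [zz_zero, mul_one]⟩

theorem Cg.symm {x y : X} (h : Cg ι x y) : Cg ι y x := by
  obtain ⟨c, rfl⟩ := h
  exact ⟨c, by rw [mul_assoc, ← zz_add, RFourCocyc.add_self, zz_zero, mul_one]⟩

theorem Cg.trans {x y z : X} (h : Cg ι x y) (h' : Cg ι y z) : Cg ι x z := by
  obtain ⟨c, rfl⟩ := h
  obtain ⟨d, rfl⟩ := h'
  exact ⟨d + c, by rw [zz_add, mul_assoc]⟩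

theorem Cg.of_eq {x y : X} (h : x = y) : Cg ι x y := h ▸ Cg.refl x

theorem Cg.mul {x y x' y' : X} (h : Cg ι x x') (h' : Cg ι y y') (hy : ∀ c, Commute y' (zz ι c)) :
    Cg ι (x * y) (x' * y') := by
  obtain ⟨c, rfl⟩ := h
  obtain ⟨d, rfl⟩ := h'
  refine ⟨c + d, ?_⟩
  rw [zz_add]
  calc x' * zz ι c * (y' * zz ι d) = x' * (zz ι c * y') * zz ι d := by group
    _ = _ := by rw [← (hy c).eq]; group

section T

variable {κ : F4} (h : TOne ι r n κ)

include h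

theorem n_z (l c : F4) : Commute (n l) (zz ι c) := h.n_S l _ ⟨0, 0, c, (e_02 c).symm⟩

theorem n_01 (l c : F4) : Commute (n l) (ι (t 0 1 c)) := h.n_S l _ ⟨c, 0, 0, (e_01 c).symm⟩

theorem n_12 (l c : F4) : Commute (n l) (ι (t 1 2 c)) := h.n_S l _ ⟨0, c, 0, (e_12 c).symm⟩

theorem r_z (m c : F4) : Commute (r m) (zz ι c) := h.r_L m _

theorem z_01 (a c : F4) : Commute (ι (t 0 1 a)) (zz ι c) := by
  show _ * _ = _ * _
  unfold zz
  rw [← map_mul, ← map_mul, t0102]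

theorem z_12 (a c : F4) : Commute (ι (t 1 2 a)) (zz ι c) := by
  show _ * _ = _ * _
  unfold zz
  rw [← map_mul, ← map_mul, t0212]

theorem TE_z (v : W4) (c : F4) : Commute (TE ι r n v) (zz ι c) := by
  unfold TE
  exact ((z_01 h _ c).mul_left (z_12 h _ c)).mul_left ((r_z h _ c).mul_left (n_z h _ c))

theorem r_zero : r 0 = 1 := by
  have := h.r_add 0 0
  rw [add_zero] at this
  exact left_eq_mul.mp this

theorem r_inv (m : F4) : (r m)⁻¹ = r m := by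
  rw [inv_eq_iff_mul_eq_one, ← h.r_add, RFourCocyc.add_self, r_zero h]

theorem r_comm (a b : F4) : Commute (r a) (r b) := by
  show r a * r b = r b * r a
  rw [← h.r_add, ← h.r_add, add_comm]

theorem TE_zero : TE ι r n 0 = 1 := by
  unfold TE
  show ι (t 0 1 0) * ι (t 1 2 0) * (r 0 * n 0) = 1
  rw [t_zero, t_zero, map_one, r_zero h, h.n_zero]; simp

end T

variable (h : TOne ι r n 0) (hadd : ∀ l l', n (l + l') = n l * n l')

include h hadd

theorem TE_mul (v w : W4) : TE ι r n v * TE ι r n w =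
    TE ι r n (v + w) * zz ι (w.1 * v.2.1 + v.2.2.2 * w.2.2.1) := by
  obtain ⟨a, b, m, l⟩ := v
  obtain ⟨a', b', m', l'⟩ := w
  show ι (t 0 1 a) * ι (t 1 2 b) * (r m * n l) * (ι (t 0 1 a') * ι (t 1 2 b') * (r m' * n l')) =
    ι (t 0 1 (a + a')) * ι (t 1 2 (b + b')) * (r (m + m') * n (l + l')) * zz ι (a' * b + l * m')
  have c1 : Commute (r m * n l) (ι (t 0 1 a') * ι (t 1 2 b')) :=
    ((h.r_L _ _).mul_left (n_01 h _ _)).mul_right ((h.r_L _ _).mul_left (n_12 h _ _))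
  have c2 : ι (t 1 2 b) * ι (t 0 1 a') = ι (t 0 1 a') * ι (t 1 2 b) * zz ι (a' * b) := by
    unfold zz
    rw [← map_mul, swap, map_mul, map_mul]
  have c3 : n l * r m' = r m' * n l * zz ι (l * m') := by
    have := h.rn m' l
    unfold zz
    rw [this, mul_assoc _ (ι _), ← map_mul, t_add 0 2 _ _ (by decide), RFourCocyc.add_self, t_zero,
      map_one, mul_one]
  rw [← t_add 0 1 _ _ (by decide), ← t_add 1 2 _ _ (by decide), map_mul, map_mul, h.r_add, hadd,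
    zz_add]
  calc ι (t 0 1 a) * ι (t 1 2 b) * (r m * n l) * (ι (t 0 1 a') * ι (t 1 2 b') * (r m' * n l'))
      = ι (t 0 1 a) * ι (t 1 2 b) * ((r m * n l) * (ι (t 0 1 a') * ι (t 1 2 b'))) * (r m' * n l') := by
        group
    _ = ι (t 0 1 a) * (ι (t 1 2 b) * ι (t 0 1 a')) * ι (t 1 2 b') * (r m * (n l * r m') * n l') := by
        rw [c1.eq]; group
    _ = ι (t 0 1 a) * ι (t 0 1 a') * ι (t 1 2 b) * (zz ι (a' * b) * ι (t 1 2 b')) *
          (r m * r m' * n l * (zz ι (l * m') * n l')) := by rw [c2, c3]; group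
    _ = ι (t 0 1 a) * ι (t 0 1 a') * ι (t 1 2 b) * ι (t 1 2 b') * (zz ι (a' * b) *
          (r m * r m' * n l * n l')) * zz ι (l * m') := by
        rw [← (z_12 h b' (a' * b)).eq, ← (n_z h l' (l * m')).eq]; group
    _ = _ := by
        have c4 : Commute (r m * r m' * n l * n l') (zz ι (a' * b)) :=
          (((r_z h _ _).mul_left (r_z h _ _)).mul_left (n_z h _ _)).mul_left (n_z h _ _)
        rw [← c4.eq]; group

theorem cg_mul {x y : X} {v w : W4} (hx : Cg ι x (TE ι r n v)) (hy : Cg ι y (TE ι r n w)) :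
    Cg ι (x * y) (TE ι r n (v + w)) :=
  (hx.mul hy (TE_z h w)).trans ⟨_, TE_mul h hadd v w⟩

omit hadd

theorem ActsBy.one : ActsBy ι r n 1 id := ⟨fun c => Commute.one_left _, fun v => by
  rw [one_mul, inv_one, mul_one]; exact Cg.refl _⟩

theorem ActsBy.mul {g g' : X} {M M' : W4 → W4} (hg : ActsBy ι r n g M) (hg' : ActsBy ι r n g' M') :
    ActsBy ι r n (g * g') (M ∘ M') := by
  refine ⟨fun c => (hg.z c).mul_left (hg'.z c), fun v => ?_⟩
  obtain ⟨c, hc⟩ := hg'.a v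
  obtain ⟨d, hd⟩ := hg.a (M' v)
  refine ⟨d + c, ?_⟩
  calc g * g' * TE ι r n v * (g * g')⁻¹ = g * (g' * TE ι r n v * g'⁻¹) * g⁻¹ := by group
    _ = (g * TE ι r n (M' v) * g⁻¹) * (g * zz ι c * g⁻¹) := by rw [hc]; group
    _ = _ := by
      rw [hd, (hg.z c).eq, mul_inv_cancel_right, zz_add, mul_assoc]; rfl

theorem ActsBy.inv {g : X} {M M' : W4 → W4} (hg : ActsBy ι r n g M) (hM : ∀ v, M (M' v) = v) :
    ActsBy ι r n g⁻¹ M' := by
  refine ⟨fun c => (hg.z c).inv_left, fun v => ?_⟩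
  obtain ⟨d, hd⟩ := hg.a (M' v)
  rw [hM] at hd
  refine ⟨d, ?_⟩
  rw [inv_inv]
  have h1 : TE ι r n v = g * TE ι r n (M' v) * g⁻¹ * zz ι d := by
    rw [hd, mul_assoc, ← zz_add, RFourCocyc.add_self, zz_zero, mul_one]
  rw [h1]
  have h2 := (hg.z d).inv_left
  calc g⁻¹ * (g * TE ι r n (M' v) * g⁻¹ * zz ι d) * g = TE ι r n (M' v) * (g⁻¹ * zz ι d) * g := by group
    _ = _ := by rw [h2.eq]; group

omit h in
theorem ActsBy.congr {g : X} {M M' : W4 → W4} (hg : ActsBy ι r n g M) (hM : ∀ v, M v = M' v) :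
    ActsBy ι r n g M' := ⟨hg.z, fun v => by rw [← hM]; exact hg.a v⟩

omit h in
theorem nn12_conj_02 (u : F4) : nn 1 2 * t 0 2 u * (nn 1 2)⁻¹ = t 0 1 u := by
  rw [nn12_02, mul_inv_cancel_right]

omit h in
theorem nn12_conj_01 (u : F4) : nn 1 2 * t 0 1 u * (nn 1 2)⁻¹ = t 0 2 u := by
  rw [nn12_01, mul_inv_cancel_right]

omit h in
theorem nn01_conj_02 (u : F4) : nn 0 1 * t 0 2 u * (nn 0 1)⁻¹ = t 1 2 u := by
  rw [nn01_02, mul_inv_cancel_right]

omit h in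
theorem nn01_conj_12 (u : F4) : nn 0 1 * t 1 2 u * (nn 0 1)⁻¹ = t 0 2 u := by
  rw [nn01_12, mul_inv_cancel_right]

theorem P1_01 (a u : F4) : Commute (P1 ι n a) (ι (t 0 1 u)) := by
  have h1 := (n_z h a u).conj (ι (nn 1 2))
  unfold zz at h1
  have h2 : ι (nn 1 2) * ι (t 0 2 u) * (ι (nn 1 2))⁻¹ = ι (t 0 1 u) := by
    rw [← nn12_conj_02, map_mul, map_mul, map_inv]
  rwa [h2] at h1

theorem P1_z (a u : F4) : Commute (P1 ι n a) (zz ι u) := by
  have h1 := (n_01 h a u).conj (ι (nn 1 2))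
  have h2 : ι (nn 1 2) * ι (t 0 1 u) * (ι (nn 1 2))⁻¹ = zz ι u := by
    unfold zz
    rw [← nn12_conj_01 u, map_mul, map_mul, map_inv]
  rwa [h2] at h1

theorem P2_12 (a u : F4) : Commute (P2 ι n a) (ι (t 1 2 u)) := by
  have h1 := (n_z h a u).conj (ι (nn 0 1))
  unfold zz at h1
  have h2 : ι (nn 0 1) * ι (t 0 2 u) * (ι (nn 0 1))⁻¹ = ι (t 1 2 u) := by
    rw [← nn01_conj_02, map_mul, map_mul, map_inv]
  rwa [h2] at h1

theorem P2_z (a u : F4) : Commute (P2 ι n a) (zz ι u) := by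
  have h1 := (n_12 h a u).conj (ι (nn 0 1))
  have h2 : ι (nn 0 1) * ι (t 1 2 u) * (ι (nn 0 1))⁻¹ = zz ι u := by
    unfold zz
    rw [← nn01_conj_12 u, map_mul, map_mul, map_inv]
  rwa [h2] at h1

theorem P1_sq (a : F4) : P1 ι n a * P1 ι n a = 1 := by
  unfold P1
  have : n a * n a = 1 := by rw [h.nn_sq, zero_mul, t_zero, map_one]
  calc ι (nn 1 2) * n a * (ι (nn 1 2))⁻¹ * (ι (nn 1 2) * n a * (ι (nn 1 2))⁻¹)
      = ι (nn 1 2) * (n a * n a) * (ι (nn 1 2))⁻¹ := by group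
    _ = 1 := by rw [this]; group

theorem P2_sq (a : F4) : P2 ι n a * P2 ι n a = 1 := by
  unfold P2
  have : n a * n a = 1 := by rw [h.nn_sq, zero_mul, t_zero, map_one]
  calc ι (nn 0 1) * n a * (ι (nn 0 1))⁻¹ * (ι (nn 0 1) * n a * (ι (nn 0 1))⁻¹)
      = ι (nn 0 1) * (n a * n a) * (ι (nn 0 1))⁻¹ := by group
    _ = 1 := by rw [this]; group

theorem P1_r (m a : F4) : P1 ι n a * r m * (P1 ι n a)⁻¹ = r m * ι (t 0 1 (a * m)) := by
  have h0 := P1_sq h a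
  have h1 : r m * P1 ι n a = P1 ι n a * r m * ι (t 0 1 (a * m)) := by
    unfold P1
    have h2 := (h.r_L m (nn 1 2)).eq
    have h3 : ι (nn 1 2) * ι (t 0 2 (a * m)) * (ι (nn 1 2))⁻¹ = ι (t 0 1 (a * m)) := by
      rw [← nn12_conj_02, map_mul, map_mul, map_inv]
    have h4 := (h.r_L m (nn 1 2)).inv_right.eq
    calc r m * (ι (nn 1 2) * n a * (ι (nn 1 2))⁻¹) = (r m * ι (nn 1 2)) * n a * (ι (nn 1 2))⁻¹ := by
          group
      _ = ι (nn 1 2) * (r m * n a) * (ι (nn 1 2))⁻¹ := by rw [h2]; group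
      _ = ι (nn 1 2) * n a * r m * ι (t 0 2 (a * m)) * (ι (nn 1 2))⁻¹ := by rw [h.rn]; group
      _ = ι (nn 1 2) * n a * (r m * (ι (nn 1 2))⁻¹) *
          (ι (nn 1 2) * ι (t 0 2 (a * m)) * (ι (nn 1 2))⁻¹) := by group
      _ = _ := by rw [h3, h4]; group
  rw [inv_eq_of_mul_eq_one_right h0, mul_assoc, h1, ← mul_assoc, ← mul_assoc, h0, one_mul]

theorem P2_r (m a : F4) : P2 ι n a * r m * (P2 ι n a)⁻¹ = r m * ι (t 1 2 (a * m)) := by
  have h0 := P2_sq h a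
  have h1 : r m * P2 ι n a = P2 ι n a * r m * ι (t 1 2 (a * m)) := by
    unfold P2
    have h2 := (h.r_L m (nn 0 1)).eq
    have h3 : ι (nn 0 1) * ι (t 0 2 (a * m)) * (ι (nn 0 1))⁻¹ = ι (t 1 2 (a * m)) := by
      rw [← nn01_conj_02, map_mul, map_mul, map_inv]
    have h4 := (h.r_L m (nn 0 1)).inv_right.eq
    calc r m * (ι (nn 0 1) * n a * (ι (nn 0 1))⁻¹) = (r m * ι (nn 0 1)) * n a * (ι (nn 0 1))⁻¹ := by
          group
      _ = ι (nn 0 1) * (r m * n a) * (ι (nn 0 1))⁻¹ := by rw [h2]; group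
      _ = ι (nn 0 1) * n a * r m * ι (t 0 2 (a * m)) * (ι (nn 0 1))⁻¹ := by rw [h.rn]; group
      _ = ι (nn 0 1) * n a * (r m * (ι (nn 0 1))⁻¹) *
          (ι (nn 0 1) * ι (t 0 2 (a * m)) * (ι (nn 0 1))⁻¹) := by group
      _ = _ := by rw [h3, h4]; group
  rw [inv_eq_of_mul_eq_one_right h0, mul_assoc, h1, ← mul_assoc, ← mul_assoc, h0, one_mul]

theorem split4 (g : X) (v : W4) : g * TE ι r n v * g⁻¹ =
    (g * ι (t 0 1 v.1) * g⁻¹) * (g * ι (t 1 2 v.2.1) * g⁻¹) *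
      ((g * r v.2.2.1 * g⁻¹) * (g * n v.2.2.2 * g⁻¹)) := by
  unfold TE; group

theorem TE_1 (a : F4) : TE ι r n (a, 0, 0, 0) = ι (t 0 1 a) := by
  unfold TE
  show ι (t 0 1 a) * ι (t 1 2 0) * (r 0 * n 0) = _
  rw [t_zero, map_one, r_zero h, h.n_zero]; simp

theorem TE_2 (a : F4) : TE ι r n (0, a, 0, 0) = ι (t 1 2 a) := by
  unfold TE
  show ι (t 0 1 0) * ι (t 1 2 a) * (r 0 * n 0) = _
  rw [t_zero, map_one, r_zero h, h.n_zero]; simp

theorem TE_3 (a : F4) : TE ι r n (0, 0, a, 0) = r a := by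
  unfold TE
  show ι (t 0 1 0) * ι (t 1 2 0) * (r a * n 0) = _
  rw [t_zero, t_zero, map_one, h.n_zero]; simp

theorem TE_4 (a : F4) : TE ι r n (0, 0, 0, a) = n a := by
  unfold TE
  show ι (t 0 1 0) * ι (t 1 2 0) * (r 0 * n a) = _
  rw [t_zero, t_zero, map_one, r_zero h]; simp

/-- an automorphism of `T1 / Z` is determined by its values on the four coordinate subgroups -/
theorem acts_of (hadd : ∀ l l', n (l + l') = n l * n l') {g : X} (hz : ∀ c, Commute g (zz ι c))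
    {M : W4 → W4} (f1 f2 f3 f4 : F4 → W4)
    (h1 : ∀ a, Cg ι (g * ι (t 0 1 a) * g⁻¹) (TE ι r n (f1 a)))
    (h2 : ∀ a, Cg ι (g * ι (t 1 2 a) * g⁻¹) (TE ι r n (f2 a)))
    (h3 : ∀ a, Cg ι (g * r a * g⁻¹) (TE ι r n (f3 a)))
    (h4 : ∀ a, Cg ι (g * n a * g⁻¹) (TE ι r n (f4 a)))
    (hM : ∀ v, f1 v.1 + f2 v.2.1 + (f3 v.2.2.1 + f4 v.2.2.2) = M v) : ActsBy ι r n g M := by
  refine ⟨hz, fun v => ?_⟩
  rw [split4 h, ← hM]
  exact cg_mul h hadd (cg_mul h hadd (h1 _) (h2 _)) (cg_mul h hadd (h3 _) (h4 _))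

theorem acts_P1 (hu : UOne ι r n ω2 ω) (α : F4) : ActsBy ι r n (P1 ι n α) (M1 α) := by
  have h0 := P1_sq h α
  have hinv : (P1 ι n α)⁻¹ = P1 ι n α := inv_eq_of_mul_eq_one_right h0
  apply acts_of h hu.n_add (fun c => P1_z h α c) (fun a => (a, 0, 0, 0))
    (fun b => (ω2 * (α * α * α * b), b, ω2 * (α * α * b), α * b)) (fun m => (α * m, 0, m, 0))
    (fun l => (ω2 * (l * α * α), 0, 0, l))
  · intro a
    rw [TE_1 h, (P1_01 h α a).eq, mul_inv_cancel_right]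
    exact Cg.refl _
  · intro b
    have h1 := hu.u₁ α b
    have h2 : P1 ι n α * ι (t 1 2 b) * (P1 ι n α)⁻¹ = n (α * b) * r (ω2 * (α * α * b)) *
        ι (t 0 1 (ω2 * (α * α * α * b))) * ι (t 1 2 b) := by
      have h3 : ι (t 1 2 b) * P1 ι n α = P1 ι n α * n (α * b) * r (ω2 * (α * α * b)) *
          ι (t 0 1 (ω2 * (α * α * α * b))) * ι (t 1 2 b) := by
        have := congrArg (· * ι (t 1 2 b)) h1
        simp only [inv_mul_cancel_right] at this
        exact this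
      rw [hinv, mul_assoc, h3]
      simp only [← mul_assoc]
      rw [h0, one_mul]
    rw [h2]
    have e1 : Cg ι (n (α * b) * r (ω2 * (α * α * b)) *
        ι (t 0 1 (ω2 * (α * α * α * b))) * ι (t 1 2 b))
        (TE ι r n ((((0, 0, 0, α * b) : W4) + (0, 0, ω2 * (α * α * b), 0)) +
          (ω2 * (α * α * α * b), 0, 0, 0) + (0, b, 0, 0))) := by
      refine cg_mul h hu.n_add (cg_mul h hu.n_add (cg_mul h hu.n_add ?_ ?_) ?_) ?_
      · exact Cg.of_eq (TE_4 h _).symm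
      · exact Cg.of_eq (TE_3 h _).symm
      · exact Cg.of_eq (TE_1 h _).symm
      · exact Cg.of_eq (TE_2 h _).symm
    convert e1 using 2
    simp
  · intro m
    rw [P1_r h]
    have e1 : Cg ι (r m * ι (t 0 1 (α * m))) (TE ι r n (((0, 0, m, 0) : W4) + (α * m, 0, 0, 0))) := by
      refine cg_mul h hu.n_add ?_ ?_
      · exact Cg.of_eq (TE_3 h _).symm
      · exact Cg.of_eq (TE_1 h _).symm
    convert e1 using 2
    simp
  · intro l
    have h1 := hu.np₁ l α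
    have h2 : P1 ι n α * n l * (P1 ι n α)⁻¹ = n l * ι (t 0 1 (ω2 * (l * α * α))) *
        zz ι (ω2 * (l * l * α)) := by
      rw [hinv, mul_assoc]
      show P1 ι n α * (n l * (ι (nn 1 2) * n α * (ι (nn 1 2))⁻¹)) = _
      rw [h1]
      show P1 ι n α * (P1 ι n α * n l * ι (t 0 1 (ω2 * (l * α * α))) * zz ι (ω2 * (l * l * α))) = _
      simp only [← mul_assoc]
      rw [h0, one_mul]
    rw [h2]
    have e1 : Cg ι (n l * ι (t 0 1 (ω2 * (l * α * α))) * zz ι (ω2 * (l * l * α)))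
        (TE ι r n (((0, 0, 0, l) : W4) + (ω2 * (l * α * α), 0, 0, 0))) := by
      refine Cg.trans ⟨_, rfl⟩ (cg_mul h hu.n_add ?_ ?_)
      · exact Cg.of_eq (TE_4 h _).symm
      · exact Cg.of_eq (TE_1 h _).symm
    convert e1 using 2
    simp
  · intro v
    unfold M1
    ext <;> simp [Prod.fst_add, Prod.snd_add] <;> ring

theorem acts_P2 (hu : UOne ι r n ω2 ω) (α : F4) : ActsBy ι r n (P2 ι n α) (M2 α) := by
  have h0 := P2_sq h α
  have hinv : (P2 ι n α)⁻¹ = P2 ι n α := inv_eq_of_mul_eq_one_right h0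
  apply acts_of h hu.n_add (fun c => P2_z h α c)
    (fun b => (b, ω * (α * α * α * b), ω * (α * α * b), α * b)) (fun a => (0, a, 0, 0))
    (fun m => (0, α * m, m, 0)) (fun l => (0, ω * (l * α * α), 0, l))
  · intro b
    have h1 := hu.u₂ α b
    have h2 : P2 ι n α * ι (t 0 1 b) * (P2 ι n α)⁻¹ = n (α * b) * r (ω * (α * α * b)) *
        ι (t 1 2 (ω * (α * α * α * b))) * ι (t 0 1 b) := by
      have h3 : ι (t 0 1 b) * P2 ι n α = P2 ι n α * n (α * b) * r (ω * (α * α * b)) *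
          ι (t 1 2 (ω * (α * α * α * b))) * ι (t 0 1 b) := by
        have := congrArg (· * ι (t 0 1 b)) h1
        simp only [inv_mul_cancel_right] at this
        exact this
      rw [hinv, mul_assoc, h3]
      simp only [← mul_assoc]
      rw [h0, one_mul]
    rw [h2]
    have e1 : Cg ι (n (α * b) * r (ω * (α * α * b)) *
        ι (t 1 2 (ω * (α * α * α * b))) * ι (t 0 1 b))
        (TE ι r n ((((0, 0, 0, α * b) : W4) + (0, 0, ω * (α * α * b), 0)) +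
          (0, ω * (α * α * α * b), 0, 0) + (b, 0, 0, 0))) := by
      refine cg_mul h hu.n_add (cg_mul h hu.n_add (cg_mul h hu.n_add ?_ ?_) ?_) ?_
      · exact Cg.of_eq (TE_4 h _).symm
      · exact Cg.of_eq (TE_3 h _).symm
      · exact Cg.of_eq (TE_2 h _).symm
      · exact Cg.of_eq (TE_1 h _).symm
    convert e1 using 2
    simp
  · intro a
    rw [TE_2 h, (P2_12 h α a).eq, mul_inv_cancel_right]
    exact Cg.refl _
  · intro m
    rw [P2_r h]
    have e1 : Cg ι (r m * ι (t 1 2 (α * m))) (TE ι r n (((0, 0, m, 0) : W4) + (0, α * m, 0, 0))) := by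
      refine cg_mul h hu.n_add ?_ ?_
      · exact Cg.of_eq (TE_3 h _).symm
      · exact Cg.of_eq (TE_2 h _).symm
    convert e1 using 2
    simp
  · intro l
    have h1 := hu.np₂ l α
    have h2 : P2 ι n α * n l * (P2 ι n α)⁻¹ = n l * ι (t 1 2 (ω * (l * α * α))) *
        zz ι (ω * (l * l * α)) := by
      rw [hinv, mul_assoc]
      show P2 ι n α * (n l * (ι (nn 0 1) * n α * (ι (nn 0 1))⁻¹)) = _
      rw [h1]
      show P2 ι n α * (P2 ι n α * n l * ι (t 1 2 (ω * (l * α * α))) * zz ι (ω * (l * l * α))) = _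
      simp only [← mul_assoc]
      rw [h0, one_mul]
    rw [h2]
    have e1 : Cg ι (n l * ι (t 1 2 (ω * (l * α * α))) * zz ι (ω * (l * l * α)))
        (TE ι r n (((0, 0, 0, l) : W4) + (0, ω * (l * α * α), 0, 0))) := by
      refine Cg.trans ⟨_, rfl⟩ (cg_mul h hu.n_add ?_ ?_)
      · exact Cg.of_eq (TE_4 h _).symm
      · exact Cg.of_eq (TE_2 h _).symm
    convert e1 using 2
    simp
  · intro v
    unfold M2
    ext <;> simp [Prod.fst_add, Prod.snd_add] <;> ring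

end Cfsg.Agent.StdLThreeFour.RFourRho
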