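import Cfsg.Agent.StdLThreeFour.RFourRho

/-!
# Standard `L3(4)`, case `|R| = 4`: the element `ρ` of order 3 (construction)
-/

set_option autoImplicit false
set_option linter.unusedVariables false
set_option linter.unusedSectionVars false
set_option linter.constructorNameAsVariable false

namespace Cfsg.Agent.StdLThreeFour.RFourRhoA

open Cfsg.Agent.StdLThreeFour.Base Cfsg.Agent.StdLThreeFour.RFourDefs Cfsg.Agent.StdLThreeFour.RFourU
open Cfsg.Agent.StdLThreeFour.Codes Cfsg.Agent.StdLThreeFour.RFourRho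
open Cfsg.Agent.SporadicA.FieldFour
open Cfsg.Agent.ONType.Psl

variable {X : Type*} [Group X] {ι : L0 →* X} {r n : F4 → X}

/-- the matrix of `ρ` -/
def Mρ (v : W4) : W4 := (v.1, v.2.1, ω2 * v.2.2.1, ω * v.2.2.2)
/-- its inverse -/
def Mρ' (v : W4) : W4 := (v.1, v.2.1, ω * v.2.2.1, ω2 * v.2.2.2)

/-- the word `ρ₀` -/
def rho0 (ι : L0 →* X) (n : F4 → X) : X :=
  (P1 ι n 1 * P2 ι n ω * P1 ι n 1) * (P1 ι n ω * P2 ι n ω2 * P1 ι n ω)

theorem Mrho_eq : ∀ v : W4, ((M1 1 ∘ M2 ω ∘ M1 1) ∘ (M1 ω ∘ M2 ω2 ∘ M1 ω)) v = Mρ v := by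
  decide +kernel

theorem Mρ_Mρ' : ∀ v : W4, Mρ (Mρ' v) = v := by decide +kernel

theorem Mρ'_Mρ : ∀ v : W4, Mρ' (Mρ v) = v := by decide +kernel

theorem pq3_eq : ∀ v : W4, ((M1 1 ∘ M2 ω) ∘ (M1 1 ∘ M2 ω) ∘ (M1 1 ∘ M2 ω)) v = id v := by
  decide +kernel

theorem acts_rho0 (h : TOne ι r n 0) (hu : UOne ι r n ω2 ω) : ActsBy ι r n (rho0 ι n) Mρ := by
  have a1 := acts_P1 h hu 1
  have a2 := acts_P2 h hu ω
  have a3 := acts_P1 h hu ω
  have a4 := acts_P2 h hu ω2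
  have b1 := (a1.mul h a2).mul h a1
  have b2 := (a3.mul h a4).mul h a3
  exact (b1.mul h b2).congr Mrho_eq

theorem zz_inj (h : TOne ι r n 0) {c d : F4} (hc : zz ι c = zz ι d) : c = d := by
  have h1 := h.inj hc
  rw [← e_02, ← e_02] at h1
  exact (Facts1.e_inj h1).2.2

theorem n_r (h : TOne ι r n 0) (l m : F4) : n l * r m * (n l)⁻¹ = r m * zz ι (l * m) := by
  have h1 := h.rn m l
  have h2 : r m * n l * zz ι (l * m) = n l * r m := by
    rw [h1]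
    show n l * r m * zz ι (l * m) * zz ι (l * m) = _
    rw [mul_assoc, ← zz_add, RFourCocyc.add_self, zz_zero, mul_one]
  rw [← h2, mul_assoc (r m), (n_z h l (l * m)).eq]
  group

theorem r_n (h : TOne ι r n 0) (m l : F4) : r m * n l * (r m)⁻¹ = n l * zz ι (l * m) := by
  rw [h.rn]
  show n l * r m * zz ι (l * m) * (r m)⁻¹ = _
  rw [mul_assoc (n l), (r_z h m (l * m)).eq]
  group

theorem acts_n (h : TOne ι r n 0) (hu : UOne ι r n ω2 ω) (l : F4) : ActsBy ι r n (n l) id := by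
  apply acts_of h hu.n_add (fun c => n_z h l c) (fun a => (a, 0, 0, 0)) (fun a => (0, a, 0, 0))
    (fun a => (0, 0, a, 0)) (fun a => (0, 0, 0, a))
  · intro a
    rw [TE_1 h, (n_01 h l a).eq, mul_inv_cancel_right]
    exact Cg.refl _
  · intro a
    rw [TE_2 h, (n_12 h l a).eq, mul_inv_cancel_right]
    exact Cg.refl _
  · intro a
    rw [TE_3 h, n_r h]
    exact ⟨_, rfl⟩
  · intro a
    rw [TE_4 h, (h.n_comm l a).eq, mul_inv_cancel_right]
    exact Cg.refl _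
  · intro v
    ext <;> simp

theorem acts_01 (h : TOne ι r n 0) (hu : UOne ι r n ω2 ω) (u : F4) :
    ActsBy ι r n (ι (t 0 1 u)) id := by
  apply acts_of h hu.n_add (fun c => z_01 h u c) (fun a => (a, 0, 0, 0)) (fun a => (0, a, 0, 0))
    (fun a => (0, 0, a, 0)) (fun a => (0, 0, 0, a))
  · intro a
    rw [TE_1 h, ← map_mul, t_add 0 1 _ _ (by decide), add_comm, ← t_add 0 1 _ _ (by decide), map_mul,
      mul_inv_cancel_right]
    exact Cg.refl _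
  · intro a
    rw [TE_2 h]
    refine ⟨u * a, ?_⟩
    unfold zz
    have h1 := swap u a
    have h2 : t 0 1 u * t 1 2 a = t 1 2 a * t 0 1 u * t 0 2 (u * a) := by
      rw [h1, mul_assoc, t_add 0 2 _ _ (by decide), RFourCocyc.add_self, t_zero, mul_one]
    rw [← map_mul, h2, ← map_inv, ← map_mul, ← map_mul]
    congr 1
    rw [mul_assoc (t 1 2 a), t0102]
    group
  · intro a
    rw [TE_3 h, ← (h.r_L a _).eq, mul_inv_cancel_right]
    exact Cg.refl _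
  · intro a
    rw [TE_4 h, ← (n_01 h a u).eq, mul_inv_cancel_right]
    exact Cg.refl _
  · intro v
    ext <;> simp

theorem acts_12 (h : TOne ι r n 0) (hu : UOne ι r n ω2 ω) (u : F4) :
    ActsBy ι r n (ι (t 1 2 u)) id := by
  apply acts_of h hu.n_add (fun c => z_12 h u c) (fun a => (a, 0, 0, 0)) (fun a => (0, a, 0, 0))
    (fun a => (0, 0, a, 0)) (fun a => (0, 0, 0, a))
  · intro a
    rw [TE_1 h]
    refine ⟨a * u, ?_⟩
    unfold zz
    have h1 := swap a u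
    rw [← map_mul, h1, ← map_inv, ← map_mul, ← map_mul]
    congr 1
    rw [mul_assoc (t 0 1 a), ← t0212]
    group
  · intro a
    rw [TE_2 h, ← map_mul, t_add 1 2 _ _ (by decide), add_comm, ← t_add 1 2 _ _ (by decide), map_mul,
      mul_inv_cancel_right]
    exact Cg.refl _
  · intro a
    rw [TE_3 h, ← (h.r_L a _).eq, mul_inv_cancel_right]
    exact Cg.refl _
  · intro a
    rw [TE_4 h, ← (n_12 h a u).eq, mul_inv_cancel_right]
    exact Cg.refl _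
  · intro v
    ext <;> simp

theorem acts_z (h : TOne ι r n 0) (hu : UOne ι r n ω2 ω) (u : F4) :
    ActsBy ι r n (zz ι u) id := by
  refine ⟨fun c => ?_, fun v => ?_⟩
  · show zz ι u * zz ι c = zz ι c * zz ι u
    rw [← zz_add, ← zz_add, add_comm]
  · rw [← (TE_z h v u).eq, mul_inv_cancel_right]
    exact Cg.refl _

theorem acts_e (h : TOne ι r n 0) (hu : UOne ι r n ω2 ω) (a b c : F4) :
    ActsBy ι r n (ι (e a b c)) id := by
  have h1 := ((acts_01 h hu a).mul h (acts_12 h hu b)).mul h (acts_z h hu c)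
  unfold e
  rw [map_mul, map_mul]
  exact h1

/-- an automorphism of `L0` trivial on `Z` and on `S / Z` is inner by an element of `S` -/
theorem inner_of {α : MulAut L0} (h1 : ∀ a, ∃ c, α (t 0 1 a) = t 0 1 a * t 0 2 c)
    (h2 : ∀ a, ∃ c, α (t 1 2 a) = t 1 2 a * t 0 2 c) (h3 : ∀ c, α (t 0 2 c) = t 0 2 c) :
    ∃ a b c, α = MulAut.conj (e a b c) := by
  have hS : ∀ s ∈ S0, α s ∈ S0 := by
    rintro _ ⟨a, b, c, rfl⟩
    unfold e
    rw [map_mul, map_mul, h3]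
    obtain ⟨c1, hc1⟩ := h1 a
    obtain ⟨c2, hc2⟩ := h2 b
    rw [hc1, hc2]
    have m1 : ∀ a, t 0 1 a ∈ S0 := fun a => ⟨a, 0, 0, (e_01 a).symm⟩
    have m2 : ∀ a, t 1 2 a ∈ S0 := fun a => ⟨0, a, 0, (e_12 a).symm⟩
    have m3 : ∀ a, t 0 2 a ∈ S0 := fun a => ⟨0, 0, a, (e_02 a).symm⟩
    exact S0.mul_mem (S0.mul_mem (S0.mul_mem (m1 _) (m3 _)) (S0.mul_mem (m2 _) (m3 _))) (m3 _)
  obtain ⟨a, b, c, τ, hτ⟩ := exists_cd hS
  refine ⟨a, b, c, ?_⟩
  have k1 : ∀ x, tx τ x 0 = x := by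
    intro x
    obtain ⟨d, hd⟩ := h1 x
    have h4 := hτ.apply x 0 0
    rw [e_01, hd, ← e_01, ← e_02, e_mul] at h4
    have h5 := (Facts1.e_inj h4).1
    rw [← h5, add_zero]
  have k2 : ∀ x, ty τ 0 x = x := by
    intro x
    obtain ⟨d, hd⟩ := h2 x
    have h4 := hτ.apply 0 x 0
    rw [e_12, hd, ← e_12, ← e_02, e_mul] at h4
    have h5 := (Facts1.e_inj h4).2.1
    rw [← h5, add_zero]
  have k3 : τ = tone := by
    obtain ⟨la, mu, e', f⟩ := τ
    have key : ∀ (la mu : F4) (e' f : Bool), tx ⟨la, mu, e', f⟩ 1 0 = 1 → tx ⟨la, mu, e', f⟩ ω 0 = ω →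
      ty ⟨la, mu, e', f⟩ 0 1 = 1 → la = 1 ∧ mu = 1 ∧ e' = false ∧ f = false := by decide
    obtain ⟨rfl, rfl, rfl, rfl⟩ := key la mu e' f (k1 1) (k1 ω) (k2 1)
    rfl
  rw [k3] at hτ
  exact hτ.inner

/-- elements acting as the identity or as `Mρ` and normalising `R` -/
theorem exists_inner (hh : RHyp ι r n) {g : X} {M : W4 → W4} (hg : ActsBy ι r n g M)
    (hM1 : ∀ a, M (a, 0, 0, 0) = (a, 0, 0, 0)) (hM2 : ∀ a, M (0, a, 0, 0) = (0, a, 0, 0))
    (hr : ∀ m, ∃ m', g * r m * g⁻¹ = r m') :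
    ∃ a b c, ∀ y, Commute ((ι (e a b c))⁻¹ * g) (ι y) := by
  obtain ⟨α, hα⟩ := hh.actR g hr
  have h1 : ∀ a, ∃ c, α (t 0 1 a) = t 0 1 a * t 0 2 c := by
    intro a
    obtain ⟨c, hc⟩ := hg.a (a, 0, 0, 0)
    rw [hM1, TE_1 hh.t, hα] at hc
    refine ⟨c, hh.t.inj ?_⟩
    rw [hc, map_mul]; rfl
  have h2 : ∀ a, ∃ c, α (t 1 2 a) = t 1 2 a * t 0 2 c := by
    intro a
    obtain ⟨c, hc⟩ := hg.a (0, a, 0, 0)
    rw [hM2, TE_2 hh.t, hα] at hc
    refine ⟨c, hh.t.inj ?_⟩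
    rw [hc, map_mul]; rfl
  have h3 : ∀ c, α (t 0 2 c) = t 0 2 c := by
    intro c
    apply hh.t.inj
    rw [← hα]
    have := (hg.z c).eq
    unfold zz at this
    rw [this, mul_inv_cancel_right]
  obtain ⟨a, b, c, hαe⟩ := inner_of h1 h2 h3
  refine ⟨a, b, c, fun y => ?_⟩
  have h4 := hα y
  rw [hαe, MulAut.conj_apply, map_mul, map_mul, map_inv] at h4
  show (ι (e a b c))⁻¹ * g * ι y = ι y * ((ι (e a b c))⁻¹ * g)
  have h5 : g * ι y = ι (e a b c) * ι y * (ι (e a b c))⁻¹ * g := by rw [← h4]; group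
  rw [mul_assoc, h5]; group

theorem eq_r (h : TOne ι r n 0) {g : X} (h1 : ∀ m, Commute g (r m)) (h2 : ∀ y, Commute g (ι y)) :
    ∃ m, g = r m := by
  obtain ⟨m, a, ha, hx⟩ := h.cent_RA false g h1 (fun a _ => h2 a)
  have h3 : ∀ y, a * y = y * a := by
    intro y
    apply h.inj
    rw [map_mul, map_mul]
    have h4 : Commute (ι a) (ι y) := by
      have h5 : ι a = (r m)⁻¹ * g := by rw [hx]; group
      rw [h5]
      exact ((h.r_L m y).inv_left).mul_left (h2 y)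
    exact h4
  refine ⟨m, ?_⟩
  rw [hx, Facts1.center_trivial h3, map_one, mul_one]

/-- first form of `ρ` -/
theorem exists_rho2 (hh : RHyp ι r n) : ∃ ρ : X, ActsBy ι r n ρ Mρ ∧ (∀ y, Commute ρ (ι y)) ∧
    (∀ m, ρ * r m * ρ⁻¹ = r (ω2 * m)) ∧ ρ * ρ * ρ = 1 := by
  have h := hh.t
  have hu := hh.u
  have hρ0 := acts_rho0 h hu
  set ρ0 := rho0 ι n with hρ0d
  obtain ⟨d, hd⟩ := hρ0.a (0, 0, 1, 0)
  rw [TE_3 h] at hd
  have e1 : Mρ (0, 0, 1, 0) = (0, 0, ω2, 0) := by decide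
  rw [e1, TE_3 h] at hd
  set ρ1 := n (ω * d) * ρ0 with hρ1
  have hρ1a : ActsBy ι r n ρ1 Mρ := ((acts_n h hu (ω * d)).mul h hρ0).congr (fun v => rfl)
  have h1 : ρ1 * r 1 * ρ1⁻¹ = r ω2 := by
    calc ρ1 * r 1 * ρ1⁻¹ = n (ω * d) * (ρ0 * r 1 * ρ0⁻¹) * (n (ω * d))⁻¹ := by rw [hρ1]; group
      _ = (n (ω * d) * r ω2 * (n (ω * d))⁻¹) * (n (ω * d) * zz ι d * (n (ω * d))⁻¹) := by
        rw [hd]; group
      _ = r ω2 * (zz ι (ω * d * ω2) * zz ι d) := by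
        rw [n_r h, (n_z h _ _).eq, mul_inv_cancel_right, mul_assoc]
      _ = _ := by
        rw [← zz_add]
        have : ∀ d : F4, ω * d * ω2 + d = 0 := by decide
        rw [this, zz_zero, mul_one]
  have h2 := hh.tiR ρ1 1 ω2 one_ne_zero h1
  have h3 : ∀ m, ρ1 * r m * ρ1⁻¹ = r (ω2 * m) := by
    intro m
    obtain ⟨m', hm'⟩ := h2 m
    obtain ⟨c, hc⟩ := hρ1a.a (0, 0, m, 0)
    have e2 : Mρ (0, 0, m, 0) = (0, 0, ω2 * m, 0) := by unfold Mρ; simp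
    rw [TE_3 h, e2, TE_3 h, hm'] at hc
    rw [hm']
    have h4 : r (ω2 * m + m') = ι (t 0 2 c) := by
      rw [h.r_add, hc, ← mul_assoc, ← h.r_add, RFourCocyc.add_self, r_zero h, one_mul]; rfl
    have h5 := h.r_notL _ _ h4
    have : ∀ a b : F4, a + b = 0 → b = a := by decide
    rw [this _ _ h5]
  obtain ⟨a, b, c, hc⟩ := exists_inner hh hρ1a (fun a => by unfold Mρ; simp)
    (fun a => by unfold Mρ; simp) (fun m => ⟨_, h3 m⟩)
  set ρ := (ι (e a b c))⁻¹ * ρ1 with hρ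
  have hr : ∀ m, ρ * r m * ρ⁻¹ = r (ω2 * m) := by
    intro m
    calc ρ * r m * ρ⁻¹ = (ι (e a b c))⁻¹ * (ρ1 * r m * ρ1⁻¹) * ι (e a b c) := by rw [hρ]; group
      _ = _ := by rw [h3, mul_assoc, (h.r_L _ _).eq, inv_mul_cancel_left]
  refine ⟨ρ, ?_, hc, hr, ?_⟩
  · exact (((acts_e h hu a b c).inv h (fun v => rfl)).mul h hρ1a).congr (fun v => rfl)
  · have k1 : ∀ m, Commute (ρ * ρ * ρ) (r m) := by
      intro m
      have e3 : ρ * ρ * ρ * r m * (ρ * ρ * ρ)⁻¹ = r m := by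
        calc ρ * ρ * ρ * r m * (ρ * ρ * ρ)⁻¹ = ρ * (ρ * (ρ * r m * ρ⁻¹) * ρ⁻¹) * ρ⁻¹ := by group
          _ = _ := by
            rw [hr, hr, hr]
            have : ∀ m : F4, ω2 * (ω2 * (ω2 * m)) = m := by decide
            rw [this]
      exact mul_inv_eq_iff_eq_mul.mp e3
    obtain ⟨m, hm⟩ := eq_r h k1 (fun y => ((hc y).mul_left (hc y)).mul_left (hc y))
    have k2 : r (ω2 * m) = r m := by
      rw [← hr m, ← hm]; group
    have k3 : r (ω2 * m + m) = ι 1 := by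
      rw [h.r_add, k2, ← h.r_add, RFourCocyc.add_self, r_zero h, map_one]
    have k4 := h.r_notL _ _ k3
    have : ∀ m : F4, ω2 * m + m = 0 → m = 0 := by decide
    rw [hm, this _ k4, r_zero h]

end Cfsg.Agent.StdLThreeFour.RFourRhoA
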