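import Cfsg.Agent.StdLThreeFour.RFourRhoA

/-!
# Standard `L3(4)`, case `|R| = 4`: the element `ρ` of order 3 (exact relations)
-/

set_option autoImplicit false
set_option linter.unusedVariables false
set_option linter.unusedSectionVars false
set_option linter.constructorNameAsVariable false

namespace Cfsg.Agent.StdLThreeFour.RFourRhoB

open Cfsg.Agent.StdLThreeFour.Base Cfsg.Agent.StdLThreeFour.RFourDefs Cfsg.Agent.StdLThreeFour.RFourU
open Cfsg.Agent.StdLThreeFour.Codes Cfsg.Agent.StdLThreeFour.RFourRho Cfsg.Agent.StdLThreeFour.RFourRhoA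
open Cfsg.Agent.SporadicA.FieldFour
open Cfsg.Agent.ONType.Psl

variable {X : Type*} [Group X] {ι : L0 →* X} {r n : F4 → X}

/-! ### conjugating `n` -/

section conj

variable {κ c₁ c₂ : F4} {k : X} (hkr : ∀ m, Commute k (r m)) (hkι : ∀ y, Commute k (ι y))

include hkr hkι

theorem conj_tone (h : TOne ι r n κ) : TOne ι r (fun l => k * n l * k⁻¹) κ where
  toROne := h.toROne
  n_zero := by rw [h.n_zero]; group
  n_S l s hs := by
    have h1 := (h.n_S l s hs).conj k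
    rwa [(hkι s).eq, mul_inv_cancel_right] at h1
  n_hh l := by
    rw [← h.n_hh]
    have h1 := (hkι hh).eq
    calc (ι hh)⁻¹ * (k * n l * k⁻¹) * ι hh = (k⁻¹ * ι hh)⁻¹ * n l * (k⁻¹ * ι hh) := by group
      _ = (ι hh * k⁻¹)⁻¹ * n l * (ι hh * k⁻¹) := by rw [(hkι hh).inv_left.eq]
      _ = _ := by group
  rn m l := by
    have h1 := congrArg (fun x => k * x * k⁻¹) (h.rn m l)
    have e1 := (hkr m).eq
    have e2 := (hkι (t 0 2 (l * m))).eq
    have e3 := (hkι (t 0 2 (l * m))).inv_left.eq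
    calc r m * (k * n l * k⁻¹) = (r m * k) * n l * k⁻¹ := by group
      _ = k * (r m * n l) * k⁻¹ := by rw [← e1]; group
      _ = k * n l * (r m * (ι (t 0 2 (l * m)) * k⁻¹)) := by rw [h.rn]; group
      _ = k * n l * (r m * k⁻¹) * ι (t 0 2 (l * m)) := by rw [← e3]; group
      _ = _ := by rw [← (hkr m).inv_left.eq]; group
  nn_sq l := by
    rw [← h.nn_sq]
    have e2 := (hkι (t 0 2 (κ * l))).eq
    calc k * n l * k⁻¹ * (k * n l * k⁻¹) = k * (n l * n l) * k⁻¹ := by group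
      _ = _ := by rw [h.nn_sq, e2, mul_inv_cancel_right]
  n_comm l l' := (h.n_comm l l').conj k
  n3 l := by
    have h1 := h.n3 l
    calc k * n l * k⁻¹ * (k * n (ω * l) * k⁻¹) * (k * n (ω2 * l) * k⁻¹) =
        k * (n l * n (ω * l) * n (ω2 * l)) * k⁻¹ := by group
      _ = 1 := by rw [h1]; group

theorem conj_uone (h : UOne ι r n c₁ c₂) : UOne ι r (fun l => k * n l * k⁻¹) c₁ c₂ := by
  have aux : ∀ (y : L0) (x : X), ι y * (k * x * k⁻¹) * (ι y)⁻¹ = k * (ι y * x * (ι y)⁻¹) * k⁻¹ := by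
    intro y x
    have e1 := (hkι y).eq
    have e2 := (hkι y).inv_inv.eq
    calc ι y * (k * x * k⁻¹) * (ι y)⁻¹ = (ι y * k) * x * (k⁻¹ * (ι y)⁻¹) := by group
      _ = _ := by rw [← e1, e2]; group
  have auy : ∀ y : L0, k * ι y * k⁻¹ = ι y := fun y => by rw [(hkι y).eq, mul_inv_cancel_right]
  have aur : ∀ m, k * r m * k⁻¹ = r m := fun m => by rw [(hkr m).eq, mul_inv_cancel_right]
  refine ⟨?_, ?_, ?_, ?_, ?_⟩
  · intro l l'
    rw [h.n_add]; group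
  · intro a b
    simp only [aux]
    rw [h.u₁]
    calc _ = (k * (ι (nn 1 2) * n a * (ι (nn 1 2))⁻¹) * k⁻¹) * (k * n (a * b) * k⁻¹) *
          (k * r (c₁ * (a * a * b)) * k⁻¹) * (k * ι (t 0 1 (c₁ * (a * a * a * b))) * k⁻¹) := by group
      _ = _ := by rw [auy, aur]
  · intro a b
    simp only [aux]
    rw [h.u₂]
    calc _ = (k * (ι (nn 0 1) * n a * (ι (nn 0 1))⁻¹) * k⁻¹) * (k * n (a * b) * k⁻¹) *
          (k * r (c₂ * (a * a * b)) * k⁻¹) * (k * ι (t 1 2 (c₂ * (a * a * a * b))) * k⁻¹) := by group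
      _ = _ := by rw [auy, aur]
  · intro l a
    simp only [aux]
    have h1 := congrArg (fun x => k * x * k⁻¹) (h.np₁ l a)
    calc k * n l * k⁻¹ * (k * (ι (nn 1 2) * n a * (ι (nn 1 2))⁻¹) * k⁻¹)
        = k * (n l * (ι (nn 1 2) * n a * (ι (nn 1 2))⁻¹)) * k⁻¹ := by group
      _ = k * (ι (nn 1 2) * n a * (ι (nn 1 2))⁻¹) * k⁻¹ * (k * n l * k⁻¹) *
          (k * ι (t 0 1 (c₁ * (l * a * a))) * k⁻¹) * (k * ι (t 0 2 (c₁ * (l * l * a))) * k⁻¹) := by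
        rw [h1]; group
      _ = _ := by rw [auy, auy]
  · intro l a
    simp only [aux]
    have h1 := congrArg (fun x => k * x * k⁻¹) (h.np₂ l a)
    calc k * n l * k⁻¹ * (k * (ι (nn 0 1) * n a * (ι (nn 0 1))⁻¹) * k⁻¹)
        = k * (n l * (ι (nn 0 1) * n a * (ι (nn 0 1))⁻¹)) * k⁻¹ := by group
      _ = k * (ι (nn 0 1) * n a * (ι (nn 0 1))⁻¹) * k⁻¹ * (k * n l * k⁻¹) *
          (k * ι (t 1 2 (c₂ * (l * a * a))) * k⁻¹) * (k * ι (t 0 2 (c₂ * (l * l * a))) * k⁻¹) := by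
        rw [h1]; group
      _ = _ := by rw [auy, auy]

theorem conj_rhyp (h : RHyp ι r n) : RHyp ι r (fun l => k * n l * k⁻¹) where
  t := conj_tone hkr hkι h.t
  u := conj_uone hkr hkι h.u
  tiR := h.tiR
  actR := h.actR

end conj

/-- `ρ` with the exact action on `n` -/
structure Rho (ι : L0 →* X) (r n : F4 → X) (ρ : X) : Prop where
  hyp : RHyp ι r n
  comm : ∀ y, Commute ρ (ι y)
  act_r : ∀ m, ρ * r m * ρ⁻¹ = r (ω2 * m)
  act_n : ∀ l, ρ * n l * ρ⁻¹ = n (ω * l)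
  cube : ρ * ρ * ρ = 1

theorem hh_n (h : TOne ι r n 0) (l : F4) : ι hh * n l * (ι hh)⁻¹ = n (ω * l) := by
  rw [n_hh' h, mul_inv_cancel_right]

theorem exists_rho (hy : RHyp ι r n) : ∃ (n' : F4 → X) (ρ : X), Rho ι r n' ρ := by
  obtain ⟨ρ, h1, h2, h3, h4⟩ := exists_rho2 hy
  have h := hy.t
  have hu := hy.u
  have hg : ∀ l, ∃ c, ρ * n l * ρ⁻¹ = n (ω * l) * zz ι c := by
    intro l
    obtain ⟨c, hc⟩ := h1.a (0, 0, 0, l)
    have e2 : Mρ (0, 0, 0, l) = (0, 0, 0, ω * l) := by unfold Mρ; simp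
    rw [TE_4 h, e2, TE_4 h] at hc
    exact ⟨c, hc⟩
  choose g hg using hg
  have g0 : g 0 = 0 := by
    have := hg 0
    rw [mul_zero, h.n_zero, mul_one, mul_inv_cancel, one_mul] at this
    apply zz_inj h
    rw [← this, zz_zero]
  have hgω : ∀ l, g (ω2 * l) = ω2 * g l := by
    intro l
    apply zz_inj h
    have e1 := hg (ω2 * l)
    rw [← h.n_hh] at e1
    have e2 : ρ * ((ι hh)⁻¹ * n l * ι hh) * ρ⁻¹ =
        (ι hh)⁻¹ * (ρ * n l * ρ⁻¹) * ι hh := by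
      have e3 := (h2 hh).eq
      have e4 := (h2 hh).inv_right.eq
      have e5 := (h2 hh).inv_left.eq
      calc ρ * ((ι hh)⁻¹ * n l * ι hh) * ρ⁻¹
          = (ρ * (ι hh)⁻¹) * n l * (ι hh * ρ⁻¹) := by group
        _ = _ := by rw [e4, ← e5]; group
    rw [e2, hg] at e1
    have e6 : (ι hh)⁻¹ * (n (ω * l) * zz ι (g l)) * ι hh =
        ((ι hh)⁻¹ * n (ω * l) * ι hh) * ((ι hh)⁻¹ * zz ι (g l) * ι hh) := by group
    have e7 : (ι hh)⁻¹ * zz ι (g l) * ι hh = zz ι (ω2 * g l) := by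
      unfold zz
      rw [← map_inv, ← map_mul, ← map_mul, Facts1.hh_conj 0 2 (g l) (by decide)]
      rfl
    rw [e6, h.n_hh, e7] at e1
    have e8 : ∀ l : F4, ω2 * (ω * l) = ω * (ω2 * l) := by decide
    rw [e8] at e1
    exact (mul_left_cancel e1).symm
  have hgl : ∀ l, g l = g 1 * l := by
    intro l
    have a1 := hgω 1
    have a2 := hgω ω2
    rw [mul_one] at a1
    have e1 : (ω2 : F4) * ω2 = ω := by decide
    rw [e1, a1] at a2
    rcases (show ∀ l : F4, l = 0 ∨ l = 1 ∨ l = ω ∨ l = ω2 by decide) l with rfl | rfl | rfl | rfl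
    · rw [g0, mul_zero]
    · rw [mul_one]
    · rw [a2]
      have : ∀ x : F4, ω2 * (ω2 * x) = x * ω := by decide
      exact this _
    · rw [a1, mul_comm]
  set d := ω * g 1 with hd
  refine ⟨fun l => r d * n l * (r d)⁻¹, ρ,
    conj_rhyp (fun m => r_comm h d m) (fun y => h.r_L d y) hy, h2, h3, ?_, h4⟩
  intro l
  show ρ * (r d * n l * (r d)⁻¹) * ρ⁻¹ = r d * n (ω * l) * (r d)⁻¹
  rw [r_n h, r_n h]
  have e1 : ρ * (n l * zz ι (l * d)) * ρ⁻¹ = (ρ * n l * ρ⁻¹) * (ρ * zz ι (l * d) * ρ⁻¹) := by group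
  have e2 : ρ * zz ι (l * d) * ρ⁻¹ = zz ι (l * d) := by
    unfold zz; rw [(h2 _).eq, mul_inv_cancel_right]
  rw [e1, e2, hg, mul_assoc, ← zz_add, hgl, hd]
  congr 2
  have : ∀ x l : F4, x * l + l * (ω * x) = ω * l * (ω * x) := by decide
  exact this _ _

/-! ### exact relations -/

theorem hh_nn (i j : Fin 3) (hij : i ≠ j) : hh * nn i j = nn i j * hh⁻¹ := by
  rw [eq_mul_inv_iff_mul_eq, hnh i j hij]

namespace Rho

variable {ρ : X} (R : Rho ι r n ρ)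

include R

theorem ρ_P1 (a : F4) : ρ * P1 ι n a * ρ⁻¹ = P1 ι n (ω * a) := by
  unfold P1
  rw [← R.act_n]
  have e1 := (R.comm (nn 1 2)).eq
  have e2 := (R.comm (nn 1 2)).inv_inv.eq
  calc ρ * (ι (nn 1 2) * n a * (ι (nn 1 2))⁻¹) * ρ⁻¹
      = (ρ * ι (nn 1 2)) * n a * ((ι (nn 1 2))⁻¹ * ρ⁻¹) := by group
    _ = _ := by rw [e1, ← e2]; group

theorem ρ_P2 (a : F4) : ρ * P2 ι n a * ρ⁻¹ = P2 ι n (ω * a) := by
  unfold P2
  rw [← R.act_n]
  have e1 := (R.comm (nn 0 1)).eq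
  have e2 := (R.comm (nn 0 1)).inv_inv.eq
  calc ρ * (ι (nn 0 1) * n a * (ι (nn 0 1))⁻¹) * ρ⁻¹
      = (ρ * ι (nn 0 1)) * n a * ((ι (nn 0 1))⁻¹ * ρ⁻¹) := by group
    _ = _ := by rw [e1, ← e2]; group

theorem hh_P1 (a : F4) : ι hh * P1 ι n a * (ι hh)⁻¹ = P1 ι n (ω2 * a) := by
  unfold P1
  rw [← R.hyp.t.n_hh]
  calc ι hh * (ι (nn 1 2) * n a * (ι (nn 1 2))⁻¹) * (ι hh)⁻¹
      = (ι hh * ι (nn 1 2)) * n a * (ι hh * ι (nn 1 2))⁻¹ := by group
    _ = _ := by rw [← map_mul, hh_nn 1 2 (by decide), map_mul, map_inv]; group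

theorem hh_P2 (a : F4) : ι hh * P2 ι n a * (ι hh)⁻¹ = P2 ι n (ω2 * a) := by
  unfold P2
  rw [← R.hyp.t.n_hh]
  calc ι hh * (ι (nn 0 1) * n a * (ι (nn 0 1))⁻¹) * (ι hh)⁻¹
      = (ι hh * ι (nn 0 1)) * n a * (ι hh * ι (nn 0 1))⁻¹ := by group
    _ = _ := by rw [← map_mul, hh_nn 0 1 (by decide), map_mul, map_inv]; group

theorem θ_P1 (a : F4) : Commute (P1 ι n a) (ι hh * ρ) := by
  have h1 : ι hh * ρ * P1 ι n a * (ι hh * ρ)⁻¹ = P1 ι n a := by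
    calc ι hh * ρ * P1 ι n a * (ι hh * ρ)⁻¹ = ι hh * (ρ * P1 ι n a * ρ⁻¹) * (ι hh)⁻¹ := by group
      _ = _ := by
        rw [R.ρ_P1, R.hh_P1]
        have : ∀ a : F4, ω2 * (ω * a) = a := by decide
        rw [this]
  exact (mul_inv_eq_iff_eq_mul.mp h1).symm

theorem θ_P2 (a : F4) : Commute (P2 ι n a) (ι hh * ρ) := by
  have h1 : ι hh * ρ * P2 ι n a * (ι hh * ρ)⁻¹ = P2 ι n a := by
    calc ι hh * ρ * P2 ι n a * (ι hh * ρ)⁻¹ = ι hh * (ρ * P2 ι n a * ρ⁻¹) * (ι hh)⁻¹ := by group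
      _ = _ := by
        rw [R.ρ_P2, R.hh_P2]
        have : ∀ a : F4, ω2 * (ω * a) = a := by decide
        rw [this]
  exact (mul_inv_eq_iff_eq_mul.mp h1).symm

theorem θ_ρ : Commute ρ (ι hh * ρ) := (R.comm hh).mul_right (Commute.refl ρ)

theorem TE_inj {v : W4} {c : F4} (hv : TE ι r n v * zz ι c = 1) : v = 0 ∧ c = 0 := by
  have h := R.hyp.t
  have hu := R.hyp.u
  obtain ⟨a, b, m, l⟩ := v
  have hTE : TE ι r n (a, b, m, l) = zz ι c := by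
    rw [← zz_inv ι c]; exact eq_inv_of_mul_eq_one_left hv
  have key : ∀ w : W4, zz ι (w.1 * b + l * w.2.2.1) = zz ι (a * w.2.1 + w.2.2.2 * m) := by
    intro w
    have h1 := TE_mul h hu.n_add (a, b, m, l) w
    have h2 := TE_mul h hu.n_add w (a, b, m, l)
    rw [hTE] at h1 h2
    rw [← (TE_z h w c).eq, h2, add_comm] at h1
    exact (mul_left_cancel h1).symm
  have kl := zz_inj h (key (0, 0, 1, 0))
  have km := zz_inj h (key (0, 0, 0, 1))
  have kb := zz_inj h (key (1, 0, 0, 0))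
  have ka := zz_inj h (key (0, 1, 0, 0))
  simp at kl km kb ka
  have ka' := ka.symm
  subst kl; subst kb
  have hm : m = 0 := by
    first
    | exact km
    | exact km.symm
  have ha : a = 0 := by
    first
    | exact ka
    | exact ka.symm
  subst hm; subst ha
  refine ⟨rfl, ?_⟩
  have h3 := TE_zero h
  have h4 : TE ι r n (0, 0, 0, 0) = 1 := h3
  rw [h4, one_mul] at hv
  apply zz_inj h
  rw [hv, zz_zero]

/-- an element acting trivially on `T1 / Z` and `Z` is in `T1` -/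
theorem mem_T1 {g : X} (hg : ActsBy ι r n g id) : ∃ v c, g = TE ι r n v * zz ι c := by
  have h := R.hyp.t
  have hu := R.hyp.u
  have h1 : ∀ m, ∃ c, g * r m * g⁻¹ = r m * ι (t 0 2 c) := by
    intro m
    obtain ⟨c, hc⟩ := hg.a (0, 0, m, 0)
    have e2 : (id (0, 0, m, 0) : W4) = (0, 0, m, 0) := rfl
    rw [TE_3 h, e2, TE_3 h] at hc
    exact ⟨c, hc⟩
  choose f hf using h1
  obtain ⟨l, hl⟩ := h.ti g f hf
  set g1 := n l * g with hg1
  have hg1r : ∀ m, g1 * r m * g1⁻¹ = r m := by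
    intro m
    calc g1 * r m * g1⁻¹ = n l * (g * r m * g⁻¹) * (n l)⁻¹ := by rw [hg1]; group
      _ = (n l * r m * (n l)⁻¹) * (n l * zz ι (f m) * (n l)⁻¹) := by
        rw [hf]; unfold zz; group
      _ = r m * (zz ι (l * m) * zz ι (f m)) := by
        rw [n_r h, (n_z h _ _).eq, mul_inv_cancel_right, mul_assoc]
      _ = _ := by rw [hl, ← zz_add, RFourCocyc.add_self, zz_zero, mul_one]
  have hg1a : ActsBy ι r n g1 id := ((acts_n h hu l).mul h hg).congr (fun v => rfl)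
  obtain ⟨a, b, c, hc⟩ := exists_inner R.hyp hg1a (fun a => rfl) (fun a => rfl)
    (fun m => ⟨m, hg1r m⟩)
  obtain ⟨m, hm⟩ := eq_r h (g := (ι (e a b c))⁻¹ * g1) (fun m => by
    have e1 : Commute g1 (r m) := mul_inv_eq_iff_eq_mul.mp (hg1r m)
    exact ((h.r_L m _).symm.inv_left).mul_left e1) hc
  -- `n l * g = ι (e a b c) * r m`
  have h2 : n l * n l = 1 := by rw [h.nn_sq, zero_mul, t_zero, map_one]
  have h3 : g = n l * (ι (e a b c) * r m) := by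
    have : g1 = ι (e a b c) * r m := by rw [← hm]; group
    rw [← this, hg1, ← mul_assoc, h2, one_mul]
  obtain ⟨c2, hc2⟩ : ∃ c2, g = TE ι r n ((0, 0, 0, l) + ((a, 0, 0, 0) + (0, b, 0, 0) +
      (0, 0, m, 0))) * zz ι c2 := by
    have e1 : Cg ι g (TE ι r n ((0, 0, 0, l) + ((a, 0, 0, 0) + (0, b, 0, 0) + (0, 0, m, 0)))) := by
      rw [h3]
      unfold e
      rw [map_mul, map_mul]
      refine cg_mul h hu.n_add (Cg.of_eq (TE_4 h _).symm) (cg_mul h hu.n_add ?_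
        (Cg.of_eq (TE_3 h _).symm))
      refine Cg.trans ⟨c, rfl⟩ (cg_mul h hu.n_add (Cg.of_eq (TE_1 h _).symm)
        (Cg.of_eq (TE_2 h _).symm))
    exact e1
  exact ⟨_, c2, hc2⟩

theorem θ_TE (v : W4) : (ι hh * ρ) * TE ι r n v * (ι hh * ρ)⁻¹ =
    TE ι r n (ω2 * v.1, ω2 * v.2.1, ω2 * v.2.2.1, ω2 * v.2.2.2) := by
  have h := R.hyp.t
  rw [split4 h]
  have aux : ∀ y : L0, (ι hh * ρ) * ι y * (ι hh * ρ)⁻¹ = ι (hh * y * hh⁻¹) := by
    intro y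
    rw [map_mul, map_mul, map_inv]
    calc ι hh * ρ * ι y * (ι hh * ρ)⁻¹ = ι hh * (ρ * ι y) * ρ⁻¹ * (ι hh)⁻¹ := by group
      _ = _ := by rw [(R.comm y).eq]; group
  have k1 : ∀ a, hh * t 0 1 a * hh⁻¹ = t 0 1 (ω2 * a) := by
    intro a
    have h1 := Facts1.hh_conj 0 1 (ω2 * a) (by decide)
    have h2 : ∀ a : F4, kap 0 1 * (ω2 * a) = a := by decide
    rw [h2] at h1
    rw [← h1]; group
  have k2 : ∀ a, hh * t 1 2 a * hh⁻¹ = t 1 2 (ω2 * a) := by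
    intro a
    have h1 := Facts1.hh_conj 1 2 (ω2 * a) (by decide)
    have h2 : ∀ a : F4, kap 1 2 * (ω2 * a) = a := by decide
    rw [h2] at h1
    rw [← h1]; group
  have k3 : ∀ m, ι hh * ρ * r m * (ι hh * ρ)⁻¹ = r (ω2 * m) := by
    intro m
    calc ι hh * ρ * r m * (ι hh * ρ)⁻¹ = ι hh * (ρ * r m * ρ⁻¹) * (ι hh)⁻¹ := by group
      _ = _ := by rw [R.act_r, ← (h.r_L _ hh).eq, mul_inv_cancel_right]
  have k4 : ∀ l, ι hh * ρ * n l * (ι hh * ρ)⁻¹ = n (ω2 * l) := by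
    intro l
    calc ι hh * ρ * n l * (ι hh * ρ)⁻¹ = ι hh * (ρ * n l * ρ⁻¹) * (ι hh)⁻¹ := by group
      _ = _ := by
        rw [R.act_n, hh_n h]
        have : ∀ a : F4, ω * (ω * a) = ω2 * a := by decide
        rw [this]
  rw [aux, aux, k1, k2, k3, k4]
  rfl

theorem θ_z (c : F4) : (ι hh * ρ) * zz ι c * (ι hh * ρ)⁻¹ = zz ι (ω * c) := by
  unfold zz
  have h1 : hh * t 0 2 c * hh⁻¹ = t 0 2 (ω * c) := by
    have h1 := Facts1.hh_conj 0 2 (ω * c) (by decide)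
    have h2 : ∀ c : F4, kap 0 2 * (ω * c) = c := by decide
    rw [h2] at h1
    rw [← h1]; group
  rw [← h1, map_mul, map_mul, map_inv]
  calc ι hh * ρ * ι (t 0 2 c) * (ι hh * ρ)⁻¹ = ι hh * (ρ * ι (t 0 2 c)) * ρ⁻¹ * (ι hh)⁻¹ := by group
    _ = _ := by rw [(R.comm _).eq]; group

/-- **Exactness**: an element commuting with `θ = hh ρ` and acting trivially on `T1 / Z` and `Z` is trivial. -/
theorem exact {g : X} (hg : ActsBy ι r n g id) (hθ : Commute g (ι hh * ρ)) : g = 1 := by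
  have h := R.hyp.t
  have hu := R.hyp.u
  obtain ⟨⟨a, b, m, l⟩, c, hvc⟩ := R.mem_T1 hg
  have h1 : (ι hh * ρ) * g * (ι hh * ρ)⁻¹ = g := by rw [← hθ.eq, mul_inv_cancel_right]
  have h2 : (ι hh * ρ) * g * (ι hh * ρ)⁻¹ =
      TE ι r n (ω2 * a, ω2 * b, ω2 * m, ω2 * l) * zz ι (ω * c) := by
    rw [hvc]
    calc (ι hh * ρ) * (TE ι r n (a, b, m, l) * zz ι c) * (ι hh * ρ)⁻¹ =
        ((ι hh * ρ) * TE ι r n (a, b, m, l) * (ι hh * ρ)⁻¹) *
          ((ι hh * ρ) * zz ι c * (ι hh * ρ)⁻¹) := by group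
      _ = _ := by rw [R.θ_TE, R.θ_z]
  rw [h1, hvc] at h2
  have h3 := TE_mul h hu.n_add (a, b, m, l) (ω2 * a, ω2 * b, ω2 * m, ω2 * l)
  have h4 := TE_mul h hu.n_add (ω2 * a, ω2 * b, ω2 * m, ω2 * l) (ω2 * a, ω2 * b, ω2 * m, ω2 * l)
  have e0 : ((ω2 * a, ω2 * b, ω2 * m, ω2 * l) + (ω2 * a, ω2 * b, ω2 * m, ω2 * l) : W4) = 0 := by
    ext <;> exact RFourCocyc.add_self _
  rw [e0, TE_zero h, one_mul] at h4
  set V : W4 := (ω2 * a, ω2 * b, ω2 * m, ω2 * l) with hV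
  have h5 : TE ι r n (a, b, m, l) = TE ι r n V * zz ι (ω * c + c) := by
    rw [zz_add, ← mul_assoc, ← h2, mul_assoc, ← zz_add, RFourCocyc.add_self, zz_zero, mul_one]
  have h6 : TE ι r n ((a, b, m, l) + V) * zz ι (V.1 * b + l * V.2.2.1) =
      zz ι (V.1 * V.2.1 + V.2.2.2 * V.2.2.1 + (ω * c + c)) := by
    rw [← h3, h5, mul_assoc, ← (TE_z h V _).eq, ← mul_assoc, h4, ← zz_add]
  have h7 : TE ι r n ((a, b, m, l) + V) *
      zz ι (V.1 * b + l * V.2.2.1 + (V.1 * V.2.1 + V.2.2.2 * V.2.2.1 + (ω * c + c))) = 1 := by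
    rw [zz_add, ← mul_assoc, h6, ← zz_add, RFourCocyc.add_self, zz_zero]
  have h8 := (R.TE_inj h7).1
  have aux : ∀ x : F4, x + ω2 * x = 0 → x = 0 := by decide
  have ha : a = 0 := aux a (congrArg Prod.fst h8)
  have hb : b = 0 := aux b (congrArg (fun v : W4 => v.2.1) h8)
  have hm : m = 0 := aux m (congrArg (fun v : W4 => v.2.2.1) h8)
  have hl : l = 0 := aux l (congrArg (fun v : W4 => v.2.2.2) h8)
  subst ha; subst hb; subst hm; subst hl
  have h9 : TE ι r n (0, 0, 0, 0) = 1 := TE_zero h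
  have hV0 : V = 0 := by rw [hV]; ext <;> simp
  rw [hV0, TE_zero h, h9, one_mul, one_mul] at h2
  have h10 := zz_inj h h2
  have h11 : ∀ c : F4, c = ω * c → c = 0 := by decide
  rw [hvc, h9, h11 c h10, zz_zero, one_mul]

theorem pq3 : (P1 ι n 1 * P2 ι n ω) * ((P1 ι n 1 * P2 ι n ω) * (P1 ι n 1 * P2 ι n ω)) = 1 := by
  have h := R.hyp.t
  have hu := R.hyp.u
  have a1 := acts_P1 h hu 1
  have a2 := acts_P2 h hu ω
  have a3 := a1.mul h a2
  have b : Commute (P1 ι n 1 * P2 ι n ω) (ι hh * ρ) := (R.θ_P1 1).mul_left (R.θ_P2 ω)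
  exact R.exact ((a3.mul h (a3.mul h a3)).congr pq3_eq) (b.mul_left (b.mul_left b))

theorem eq_rho0 : ρ = rho0 ι n := by
  have h := R.hyp.t
  have hu := R.hyp.u
  have hρa : ActsBy ι r n ρ Mρ := by
    apply acts_of h hu.n_add (fun c => R.comm _) (fun a => (a, 0, 0, 0)) (fun a => (0, a, 0, 0))
      (fun a => (0, 0, ω2 * a, 0)) (fun a => (0, 0, 0, ω * a))
    · intro a
      rw [TE_1 h, (R.comm _).eq, mul_inv_cancel_right]; exact Cg.refl _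
    · intro a
      rw [TE_2 h, (R.comm _).eq, mul_inv_cancel_right]; exact Cg.refl _
    · intro a
      rw [TE_3 h, R.act_r]; exact Cg.refl _
    · intro a
      rw [TE_4 h, R.act_n]; exact Cg.refl _
    · intro v
      unfold Mρ
      ext <;> simp
  have h1 := (hρa.inv h (M' := Mρ') Mρ_Mρ').mul h (acts_rho0 h hu)
  have h2 : ActsBy ι r n (ρ⁻¹ * rho0 ι n) id := h1.congr Mρ'_Mρ
  have h3 : Commute (rho0 ι n) (ι hh * ρ) := by
    unfold rho0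
    exact (((R.θ_P1 1).mul_left (R.θ_P2 ω)).mul_left (R.θ_P1 1)).mul_left
      (((R.θ_P1 ω).mul_left (R.θ_P2 ω2)).mul_left (R.θ_P1 ω))
  have h4 := R.exact h2 (R.θ_ρ.inv_left.mul_left h3)
  exact inv_mul_eq_one.mp h4

theorem pqpρ : (P1 ι n 1 * P2 ι n ω * P1 ι n 1 * ρ) * (P1 ι n 1 * P2 ι n ω * P1 ι n 1 * ρ) = 1 := by
  have h := R.hyp.t
  have e1 := P1_sq h 1
  have e2 := P2_sq h ω
  have e3 := P1_sq h ω
  have e4 := P2_sq h ω2
  have h1 : P1 ι n 1 * P2 ι n ω * P1 ι n 1 * ρ = P1 ι n ω * P2 ι n ω2 * P1 ι n ω := by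
    rw [R.eq_rho0]
    unfold rho0
    calc P1 ι n 1 * P2 ι n ω * P1 ι n 1 * ((P1 ι n 1 * P2 ι n ω * P1 ι n 1) *
          (P1 ι n ω * P2 ι n ω2 * P1 ι n ω))
        = P1 ι n 1 * (P2 ι n ω * (P1 ι n 1 * P1 ι n 1) * P2 ι n ω) * P1 ι n 1 *
          (P1 ι n ω * P2 ι n ω2 * P1 ι n ω) := by group
      _ = _ := by rw [e1, mul_one, e2, mul_one, e1, one_mul]
  rw [h1]
  calc P1 ι n ω * P2 ι n ω2 * P1 ι n ω * (P1 ι n ω * P2 ι n ω2 * P1 ι n ω)
      = P1 ι n ω * (P2 ι n ω2 * (P1 ι n ω * P1 ι n ω) * P2 ι n ω2) * P1 ι n ω := by group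
    _ = 1 := by rw [e3, mul_one, e4, mul_one, e3]

end Rho

end Cfsg.Agent.StdLThreeFour.RFourRhoB
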