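import Cfsg.Agent.StdLThreeFour.RFourCocyc

/-!
# Standard `L3(4)`, case `|R| = 4`: one side

`aa v` (`v ∈ F4²`) is the elementary abelian group `A_j`, `U s` and `W` generate an `SL(2,4)` acting on it,
`n l` commutes with `aa` and `U`. The conjugates of the `n l` satisfy the cocycle relation.
-/

set_option autoImplicit false
set_option linter.unusedVariables false
set_option linter.constructorNameAsVariable false

namespace Cfsg.Agent.StdLThreeFour.RFourSide

open Cfsg.Agent.SporadicA.FieldFour
open Cfsg.Agent.ONType.Psl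
open Cfsg.Agent.StdLThreeFour.RFourCocyc

variable {X : Type*} [Group X]

structure Side (aa : V → X) (U : F4 → X) (W : X) (r n : F4 → X) (κ : F4) : Prop where
  aa_add : ∀ v w, aa (v + w) = aa v * aa w
  r_add : ∀ a b, r (a + b) = r a * r b
  r_aa : ∀ m v, Commute (r m) (aa v)
  ra_inj : ∀ m v, r m * aa v = 1 → m = 0 ∧ v = 0
  U_add : ∀ s s', U (s + s') = U s * U s'
  U_aa : ∀ s v, U s * aa v = aa (act 1 0 s 1 v) * U s
  U_r : ∀ s m, Commute (U s) (r m)
  U_n : ∀ s l, Commute (U s) (n l)
  W_sq : W * W = 1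
  W_aa : ∀ v, W * aa v = aa (act 0 1 1 0 v) * W
  W_r : ∀ m, Commute W (r m)
  bru : ∀ s, s ≠ 0 → ∃ k : X, W * U s * W = U s⁻¹ * W * k * U s⁻¹ ∧ (∀ a, k * n a = n (s * a) * k)
  n_aa : ∀ l v, Commute (n l) (aa v)
  rn : ∀ m l, r m * n l = n l * r m * aa (0, l * m)
  n_zero : n 0 = 1
  nn_sq : ∀ l, n l * n l = aa (0, κ * l)
  n_comm : ∀ l l', Commute (n l) (n l')
  n3 : ∀ l, n l * n (ω * l) * n (ω2 * l) = 1
  cent : ∀ x : X, (∀ m, Commute x (r m)) → (∀ v, Commute x (aa v)) → ∃ m v, x = r m * aa v

namespace Side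

variable {aa : V → X} {U : F4 → X} {W : X} {r n : F4 → X} {κ : F4}

/-- the `SL(2,4)`-equivariant section -/
noncomputable def el (U : F4 → X) (W : X) (n : F4 → X) (v : V) : X :=
  if v.1 = 0 then n v.2 else
    U (v.2 * v.1⁻¹) * (W * n v.1 * W⁻¹) * (U (v.2 * v.1⁻¹))⁻¹

/-- `k` acts as the matrix `p q s t` -/
def Equi (aa : V → X) (U : F4 → X) (W : X) (r n : F4 → X) (p q s t : F4) : Prop :=
  ∃ k : X, (∀ m, k * r m = r m * k) ∧ (∀ v, k * aa v = aa (act p q s t v) * k) ∧
    (∀ v, k * el U W n v = el U W n (act p q s t v) * k)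

variable (S : Side aa U W r n κ)

include S

theorem aa_zero : aa 0 = 1 := by
  have := S.aa_add 0 0
  rw [add_zero] at this
  exact left_eq_mul.mp this

theorem r_zero : r 0 = 1 := by
  have := S.r_add 0 0
  rw [add_zero] at this
  exact left_eq_mul.mp this

theorem U_zero : U 0 = 1 := by
  have := S.U_add 0 0
  rw [add_zero] at this
  exact left_eq_mul.mp this

theorem aa_comm (v w : V) : Commute (aa v) (aa w) := by
  show aa v * aa w = aa w * aa v
  rw [← S.aa_add, ← S.aa_add, add_comm]

theorem r_comm (a b : F4) : Commute (r a) (r b) := by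
  show r a * r b = r b * r a
  rw [← S.r_add, ← S.r_add, add_comm]

theorem aa_inv (v : V) : (aa v)⁻¹ = aa v := by
  rw [inv_eq_iff_mul_eq_one, ← S.aa_add, V_add_self, S.aa_zero]

theorem r_inv (m : F4) : (r m)⁻¹ = r m := by
  rw [inv_eq_iff_mul_eq_one, ← S.r_add, RFourCocyc.add_self, S.r_zero]

theorem U_inv (m : F4) : (U m)⁻¹ = U m := by
  rw [inv_eq_iff_mul_eq_one, ← S.U_add, RFourCocyc.add_self, S.U_zero]

theorem W_inv : W⁻¹ = W := by
  rw [inv_eq_iff_mul_eq_one, S.W_sq]

theorem ra_eq {m m' : F4} {v v' : V} (h : r m * aa v = r m' * aa v') : m = m' ∧ v = v' := by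
  have h1 : r (m + m') * aa (v + v') = 1 := by
    rw [S.r_add, S.aa_add]
    calc r m * r m' * (aa v * aa v') = (r m' * r m) * aa v * aa v' := by
          rw [(S.r_comm m m').eq]; group
      _ = r m' * (r m * aa v) * aa v' := by group
      _ = (r m' * r m') * (aa v' * aa v') := by rw [h]; group
      _ = 1 := by
        rw [← S.r_add, ← S.aa_add, RFourCocyc.add_self, V_add_self, S.r_zero, S.aa_zero, one_mul]
  obtain ⟨h2, h3⟩ := S.ra_inj _ _ h1
  have a1 : ∀ a b : F4, a + b = 0 → a = b := by decide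
  refine ⟨a1 _ _ h2, ?_⟩
  have h4 := congrArg Prod.fst h3
  have h5 := congrArg Prod.snd h3
  exact Prod.ext (a1 _ _ h4) (a1 _ _ h5)

/-- action on the section -/
theorem el_U (s : F4) (v : V) : U s * el U W n v = el U W n (act 1 0 s 1 v) * U s := by
  have h1 : (act 1 0 s 1 v).1 = v.1 := by unfold act; simp
  have h2 : (act 1 0 s 1 v).2 = s * v.1 + v.2 := by unfold act; simp
  unfold el
  rw [h1, h2]
  by_cases hv : v.1 = 0
  · rw [if_pos hv, if_pos hv, hv, mul_zero, zero_add]
    exact S.U_n s _
  · rw [if_neg hv, if_neg hv]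
    have h3 : (s * v.1 + v.2) * v.1⁻¹ = s + v.2 * v.1⁻¹ := by field_simp
    rw [h3, S.U_add]
    group

theorem el_W (v : V) : W * el U W n v = el U W n (act 0 1 1 0 v) * W := by
  have h1 : (act 0 1 1 0 v).1 = v.2 := by unfold act; simp
  have h2 : (act 0 1 1 0 v).2 = v.1 := by unfold act; simp
  unfold el
  rw [h1, h2]
  by_cases hv : v.1 = 0
  · by_cases hv2 : v.2 = 0
    · rw [if_pos hv, if_pos hv2, hv, hv2, S.n_zero, mul_one, one_mul]
    · rw [if_pos hv, if_neg hv2, hv, zero_mul, S.U_zero, inv_one, one_mul, mul_one, S.W_inv]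
      simp only [mul_assoc]
      rw [S.W_sq, mul_one]
  · by_cases hv2 : v.2 = 0
    · rw [if_neg hv, if_pos hv2, hv2, zero_mul, S.U_zero, inv_one, one_mul, mul_one, S.W_inv]
      calc W * (W * n v.1 * W) = (W * W) * n v.1 * W := by group
        _ = _ := by rw [S.W_sq, one_mul]
    · rw [if_neg hv, if_neg hv2]
      have hs : v.2 * v.1⁻¹ ≠ 0 := mul_ne_zero hv2 (inv_ne_zero hv)
      obtain ⟨k, hk1, hk2⟩ := S.bru _ hs
      have e1 : (v.2 * v.1⁻¹)⁻¹ = v.1 * v.2⁻¹ := by rw [mul_inv, inv_inv, mul_comm]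
      have e2 : v.2 * v.1⁻¹ * v.1 = v.2 := by field_simp
      rw [e1] at hk1
      generalize v.2 * v.1⁻¹ = s at *
      generalize v.1 * v.2⁻¹ = s' at *
      have e3 : W * (U s * (W * n v.1 * W⁻¹) * (U s)⁻¹) =
          (W * U s * W) * n v.1 * (W * U s * W)⁻¹ * W := by
        group
      rw [e3, hk1]
      have e4 : U s' * W * k * U s' * n v.1 * (U s' * W * k * U s')⁻¹ =
          U s' * (W * (k * n v.1 * k⁻¹) * W⁻¹) * (U s')⁻¹ := by
        calc _ = U s' * W * k * (U s' * n v.1 * (U s')⁻¹) * k⁻¹ * W⁻¹ * (U s')⁻¹ := by group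
          _ = U s' * W * k * (n v.1) * k⁻¹ * W⁻¹ * (U s')⁻¹ := by
            rw [(S.U_n s' v.1).eq, mul_inv_cancel_right]
          _ = _ := by group
      rw [e4, hk2, mul_inv_cancel_right, e2]

theorem equi_U (s : F4) : Equi aa U W r n 1 0 s 1 :=
  ⟨U s, fun m => (S.U_r s m).eq, S.U_aa s, S.el_U s⟩

theorem equi_W : Equi aa U W r n 0 1 1 0 := ⟨W, fun m => (S.W_r m).eq, S.W_aa, S.el_W⟩

omit S in
theorem Equi.mul {p q s t p' q' s' t' : F4} (h : Equi aa U W r n p q s t)
    (h' : Equi aa U W r n p' q' s' t') :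
    Equi aa U W r n (p * p' + q * s') (p * q' + q * t') (s * p' + t * s') (s * q' + t * t') := by
  obtain ⟨k, k1, k2, k3⟩ := h
  obtain ⟨l, l1, l2, l3⟩ := h'
  refine ⟨k * l, fun m => ?_, fun v => ?_, fun v => ?_⟩
  · rw [mul_assoc, l1, ← mul_assoc, k1, mul_assoc]
  · rw [mul_assoc, l2, ← mul_assoc, k2, mul_assoc, act_mul]
  · rw [mul_assoc, l3, ← mul_assoc, k3, mul_assoc, act_mul]

theorem equi (p q s t : F4) (h : p * t + q * s = 1) : Equi aa U W r n p q s t := by
  have hw : ∀ x y : F4, Equi aa U W r n (1 * 0 + 0 * 1) (1 * 1 + 0 * 0) (x * 0 + 1 * 1) (x * 1 + 1 * 0) :=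
    fun x y => (S.equi_U x).mul S.equi_W
  have h1 : ∀ x, Equi aa U W r n 0 1 1 x := by
    intro x
    have := hw x x
    simpa using this
  -- products of `(0 1; 1 x)`
  have h2 : ∀ x y, Equi aa U W r n 1 y x (1 + x * y) := by
    intro x y
    have := (h1 x).mul (h1 y)
    simpa using this
  have h3 : ∀ x y z, Equi aa U W r n y (1 + y * z) (1 + x * y) (x + (1 + x * y) * z) := by
    intro x y z
    have := (h2 x y).mul (h1 z)
    simpa using this
  have h4 : ∀ x y z u, Equi aa U W r n (1 + y * z) (y + (1 + y * z) * u) (x + (1 + x * y) * z)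
      (1 + x * y + (x + (1 + x * y) * z) * u) := by
    intro x y z u
    have := (h3 x y z).mul (h1 u)
    simpa using this
  have key : ∀ p q s t : F4, p * t + q * s = 1 → ∃ x y z u : F4, p = 1 + y * z ∧
      q = y + (1 + y * z) * u ∧ s = x + (1 + x * y) * z ∧
      t = 1 + x * y + (x + (1 + x * y) * z) * u := by decide +kernel
  obtain ⟨x, y, z, u, rfl, rfl, rfl, rfl⟩ := key p q s t h
  exact h4 x y z u

theorem el_aa (v w : V) : Commute (el U W n v) (aa w) := by
  unfold el
  by_cases hv : v.1 = 0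
  · rw [if_pos hv]; exact S.n_aa _ _
  · rw [if_neg hv]
    have h1 : ∀ s (x : X), (∀ w, Commute x (aa w)) → ∀ w, Commute (U s * x * (U s)⁻¹) (aa w) := by
      intro s x hx w
      have h2 := (hx (act 1 0 s 1 w)).conj (U s)
      rw [S.U_aa, mul_inv_cancel_right] at h2
      have e : act 1 0 s 1 (act 1 0 s 1 w) = w := by
        rw [act_mul]
        unfold act
        ext
        · simp
        · simp only [mul_one, mul_zero, zero_mul, add_zero, one_mul, zero_add]
          rw [RFourCocyc.add_self, zero_mul, zero_add]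
      rwa [e] at h2
    have h2 : ∀ w, Commute (W * n v.1 * W⁻¹) (aa w) := by
      intro w
      have h2 := (S.n_aa v.1 (act 0 1 1 0 w)).conj W
      rw [S.W_aa, mul_inv_cancel_right] at h2
      have e : act 0 1 1 0 (act 0 1 1 0 w) = w := by
        rw [act_mul]
        unfold act
        ext
        · simp
        · simp
      rwa [e] at h2
    exact h1 _ _ h2 w

theorem exists_equi_frame (v : V) (hv : v ≠ 0) : ∃ p q s t, p * t + q * s = 1 ∧
    act p q s t (0, 1) = v := by
  have : ∀ v1 v2 : F4, ¬ (v1 = 0 ∧ v2 = 0) → ∃ p q s t : F4, p * t + q * s = 1 ∧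
      p * 0 + q * 1 = v1 ∧ s * 0 + t * 1 = v2 := by decide
  obtain ⟨p, q, s, t, h1, h2, h3⟩ := this v.1 v.2 (fun h => hv (Prod.ext h.1 h.2))
  exact ⟨p, q, s, t, h1, Prod.ext h2 h3⟩

theorem el_zero_fst (l : F4) : el U W n (0, l) = n l := by
  unfold el; rw [if_pos rfl]

theorem el_zero : el U W n 0 = 1 := by
  have := S.el_zero_fst 0
  rw [S.n_zero] at this
  exact this

theorem act_sm (p q s t c : F4) (v : V) : act p q s t (sm c v) = sm c (act p q s t v) := by
  unfold act sm
  ext
  · simp only; ring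
  · simp only; ring

theorem el_r (m : F4) (v : V) : r m * el U W n v = el U W n v * r m * aa (sm m v) := by
  by_cases hv : v = 0
  · rw [hv, S.el_zero]
    have : sm m (0 : V) = 0 := by unfold sm; simp
    rw [this, S.aa_zero]; simp
  obtain ⟨p, q, s, t, h, he⟩ := S.exists_equi_frame v hv
  obtain ⟨k, k1, k2, k3⟩ := S.equi p q s t h
  have h1 : r m * el U W n (0, 1) = el U W n (0, 1) * r m * aa (sm m (0, 1)) := by
    rw [S.el_zero_fst, S.rn]
    congr 2
    unfold sm
    ext
    · simp
    · simp
  have h2 : k * (r m * el U W n (0, 1)) = k * (el U W n (0, 1) * r m * aa (sm m (0, 1))) := by rw [h1]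
  rw [← mul_assoc, k1, mul_assoc, k3, he, ← mul_assoc, mul_assoc _ (r m), ← mul_assoc, k3, he,
    mul_assoc _ k, ← mul_assoc k, k1, mul_assoc (r m) k, k2, S.act_sm, he] at h2
  have h3 : r m * el U W n v * k = el U W n v * r m * aa (sm m v) * k := by
    rw [h2]; group
  exact mul_right_cancel h3

theorem exists_GA (v w : V) : ∃ m a, el U W n v * el U W n w = el U W n (v + w) * (r m * aa a) := by
  have h1 : ∀ m, Commute ((el U W n (v + w))⁻¹ * (el U W n v * el U W n w)) (r m) := by
    intro m
    have e1 : r m * (el U W n v * el U W n w) =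
        (el U W n v * el U W n w) * r m * aa (sm m (v + w)) := by
      calc r m * (el U W n v * el U W n w) = (r m * el U W n v) * el U W n w := by group
        _ = el U W n v * r m * (aa (sm m v) * el U W n w) := by rw [S.el_r]; group
        _ = el U W n v * (r m * el U W n w) * aa (sm m v) := by
          rw [← (S.el_aa w (sm m v)).eq]; group
        _ = el U W n v * el U W n w * r m * (aa (sm m w) * aa (sm m v)) := by
          rw [S.el_r]; group
        _ = _ := by
          rw [← S.aa_add]
          congr 2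
          unfold sm
          ext
          · simp only [Prod.fst_add]; ring
          · simp only [Prod.snd_add]; ring
    have e2 := S.el_r m (v + w)
    show _ * r m = r m * _
    have e3 : r m * (el U W n (v + w))⁻¹ = (el U W n (v + w))⁻¹ * r m * aa (sm m (v + w)) := by
      have h3 : Commute (el U W n (v + w)) (aa (sm m (v + w))) := S.el_aa _ _
      have h4 : Commute (r m) (aa (sm m (v + w))) := S.r_aa _ _
      have h5 : r m = el U W n (v + w) * r m * aa (sm m (v + w)) * (el U W n (v + w))⁻¹ := by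
        rw [← e2]; group
      have h6 : r m * (el U W n (v + w)) * aa (sm m (v + w)) = el U W n (v + w) * r m := by
        rw [e2, mul_assoc, ← S.aa_add, V_add_self, S.aa_zero, mul_one]
      rw [eq_comm, ← mul_left_inj (el U W n (v + w)), ← mul_right_inj (el U W n (v + w))]
      calc el U W n (v + w) * ((el U W n (v + w))⁻¹ * r m * aa (sm m (v + w)) * el U W n (v + w))
          = r m * (aa (sm m (v + w)) * el U W n (v + w)) := by group
        _ = r m * el U W n (v + w) * aa (sm m (v + w)) := by rw [← h3.eq]; group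
        _ = el U W n (v + w) * r m := h6
        _ = _ := by group
    calc (el U W n (v + w))⁻¹ * (el U W n v * el U W n w) * r m
        = (el U W n (v + w))⁻¹ * ((el U W n v * el U W n w) * r m * aa (sm m (v + w))) *
            (aa (sm m (v + w)))⁻¹ := by group
      _ = (el U W n (v + w))⁻¹ * (r m * (el U W n v * el U W n w)) * aa (sm m (v + w)) := by
          rw [← e1, S.aa_inv]
      _ = (el U W n (v + w))⁻¹ * r m * (el U W n v * el U W n w * aa (sm m (v + w))) := by group
      _ = (el U W n (v + w))⁻¹ * r m * (aa (sm m (v + w)) * (el U W n v * el U W n w)) := by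
          rw [((S.el_aa v _).mul_left (S.el_aa w _)).eq]
      _ = ((el U W n (v + w))⁻¹ * r m * aa (sm m (v + w))) * (el U W n v * el U W n w) := by group
      _ = _ := by rw [← e3]; group
  have h2 : ∀ u, Commute ((el U W n (v + w))⁻¹ * (el U W n v * el U W n w)) (aa u) := fun u =>
    ((S.el_aa (v + w) u).inv_left).mul_left ((S.el_aa v u).mul_left (S.el_aa w u))
  obtain ⟨m, a, h3⟩ := S.cent _ h1 h2
  exact ⟨m, a, by rw [← h3]; group⟩

theorem el_inj_aux {m m' : F4} {a a' v : V} {k : X}
    (h : el U W n v * (r m * aa a) * k = el U W n v * (r m' * aa a') * k) : m = m' ∧ a = a' :=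
  S.ra_eq (mul_left_cancel (mul_right_cancel h))

/-- **The structure of `O₂(N(A_j))`.** -/
theorem main : κ = 0 ∧ ∃ c, ∀ v w, el U W n v * el U W n w =
    el U W n (v + w) * (r (c * det v w) * aa (sm (c * det v w) v)) := by
  choose G A hGA using S.exists_GA
  have uniq : ∀ v w m a, el U W n v * el U W n w = el U W n (v + w) * (r m * aa a) →
      G v w = m ∧ A v w = a := by
    intro v w m a h
    rw [hGA] at h
    exact S.ra_eq (mul_left_cancel h)
  have e1 : ∀ p q s t, p * t + q * s = 1 → ∀ v w,
      G (act p q s t v) (act p q s t w) = G v w ∧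
      A (act p q s t v) (act p q s t w) = act p q s t (A v w) := by
    intro p q s t h v w
    obtain ⟨k, k1, k2, k3⟩ := S.equi p q s t h
    apply uniq
    rw [← act_add]
    apply mul_right_cancel (b := k)
    calc el U W n (act p q s t v) * el U W n (act p q s t w) * k
        = k * (el U W n v * el U W n w) := by
          rw [mul_assoc, ← k3, ← mul_assoc, ← k3, mul_assoc]
      _ = k * (el U W n (v + w) * (r (G v w) * aa (A v w))) := by rw [hGA]
      _ = _ := by
          rw [← mul_assoc, k3, mul_assoc, ← mul_assoc k, k1, mul_assoc (r _) k, k2]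
          simp only [mul_assoc]
  have c12 : ∀ v w u, G v w + G (v + w) u = G w u + G v (w + u) ∧
      A (v + w) u + A v w + sm (G v w) u = A v (w + u) + A w u := by
    intro v w u
    have h1 : el U W n v * el U W n w * el U W n u =
        el U W n (v + w + u) * (r (G v w + G (v + w) u) *
          aa (A (v + w) u + A v w + sm (G v w) u)) := by
      rw [hGA, S.r_add, S.aa_add, S.aa_add]
      have a1 : Commute (aa (A v w)) (el U W n u) := (S.el_aa u _).symm
      have a2 : ∀ v', Commute (r (G v w)) (aa v') := fun v' => S.r_aa _ _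
      calc el U W n (v + w) * (r (G v w) * aa (A v w)) * el U W n u
          = el U W n (v + w) * r (G v w) * (aa (A v w) * el U W n u) := by group
        _ = el U W n (v + w) * (r (G v w) * el U W n u) * aa (A v w) := by rw [a1.eq]; group
        _ = (el U W n (v + w) * el U W n u) * r (G v w) * aa (sm (G v w) u) * aa (A v w) := by
          rw [S.el_r]; group
        _ = el U W n (v + w + u) * r (G (v + w) u) * (aa (A (v + w) u) * r (G v w)) *
            (aa (sm (G v w) u) * aa (A v w)) := by rw [hGA]; group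
        _ = el U W n (v + w + u) * (r (G (v + w) u) * r (G v w)) * (aa (A (v + w) u) *
            (aa (sm (G v w) u) * aa (A v w))) := by
          rw [← (S.r_aa (G v w) (A (v + w) u)).eq]; group
        _ = _ := by
          rw [(S.r_comm (G (v + w) u) (G v w)).eq, (S.aa_comm (sm (G v w) u) (A v w)).eq]
          group
    have h2 : el U W n v * el U W n w * el U W n u =
        el U W n (v + w + u) * (r (G w u + G v (w + u)) *
          aa (A v (w + u) + A w u)) := by
      rw [mul_assoc, hGA w u, ← mul_assoc, hGA v (w + u), S.r_add, S.aa_add, add_assoc]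
      calc el U W n (v + (w + u)) * (r (G v (w + u)) * aa (A v (w + u))) * (r (G w u) * aa (A w u))
          = el U W n (v + (w + u)) * r (G v (w + u)) * (aa (A v (w + u)) * r (G w u)) * aa (A w u) := by
            group
        _ = el U W n (v + (w + u)) * (r (G v (w + u)) * r (G w u)) * aa (A v (w + u)) * aa (A w u) := by
            rw [← (S.r_aa (G w u) (A v (w + u))).eq]; group
        _ = _ := by rw [(S.r_comm (G v (w + u)) (G w u)).eq]; group
    rw [h1] at h2
    exact S.ra_eq (mul_left_cancel h2)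
  have hn : ∀ l l', G (0, l) (0, l') = 0 := by
    intro l l'
    have e0 : ∀ a b : F4, ((0, a) + (0, b) : V) = (0, a + b) := by
      intro a b; ext <;> simp
    have h0 : ∀ m a, n l * n l' = n (l + l') * (r m * aa a) → G (0, l) (0, l') = m := by
      intro m a h
      refine (uniq (0, l) (0, l') m a ?_).1
      rw [e0, S.el_zero_fst, S.el_zero_fst, S.el_zero_fst]
      exact h
    by_cases hl : l = 0
    · subst hl
      apply h0 0 0
      rw [S.n_zero, S.r_zero, S.aa_zero]; simp
    by_cases hl' : l' = 0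
    · subst hl'
      apply h0 0 0
      rw [S.n_zero, S.r_zero, S.aa_zero]; simp
    by_cases hll : l = l'
    · subst hll
      apply h0 0 (0, κ * l)
      rw [S.nn_sq, RFourCocyc.add_self, S.n_zero, S.r_zero]; simp
    · -- `n l * n l' = n (l + l')⁻¹`
      have h3 : n l * n l' * n (l + l') = 1 := by
        have : ∀ a b : F4, a ≠ 0 → b ≠ 0 → a ≠ b →
            (b = ω * a ∧ a + b = ω2 * a) ∨ (b = ω2 * a ∧ a + b = ω * a) := by decide
        rcases this l l' hl hl' hll with ⟨h1, h2⟩ | ⟨h1, h2⟩
        · rw [h1, ← h1, h2, h1]; exact S.n3 l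
        · rw [h1, ← h1, h2, h1, mul_assoc, (S.n_comm (ω2 * l) (ω * l)).eq, ← mul_assoc]
          exact S.n3 l
      apply h0 0 (0, κ * (l + l'))
      rw [S.r_zero, one_mul, ← S.nn_sq]
      have h4 := S.nn_sq (l + l')
      have h5 : n (l + l') * (n (l + l') * n (l + l')) * n (l + l') = 1 := by
        have : n (l + l') * (n (l + l') * n (l + l')) * n (l + l') =
          (n (l + l') * n (l + l')) * (n (l + l') * n (l + l')) := by group
        rw [this, h4, ← S.aa_add, V_add_self, S.aa_zero]
      have h6 := h3.trans h5.symm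
      exact mul_right_cancel h6
  have hd2 : ∀ l, A (0, l) (0, l) = (0, κ * l) := by
    intro l
    refine (uniq (0, l) (0, l) 0 (0, κ * l) ?_).2
    rw [V_add_self, S.el_zero, S.el_zero_fst, S.nn_sq, S.r_zero, one_mul, one_mul]
  have hz1 : ∀ u, A 0 u = 0 := by
    intro u
    refine (uniq 0 u 0 0 ?_).2
    rw [S.el_zero, S.r_zero, S.aa_zero, zero_add]
    simp
  obtain ⟨c, h1, h2⟩ := cocyc G A κ e1 (fun v w u => (c12 v w u).1) (fun v w u => (c12 v w u).2)
    hn hd2 hz1
  refine ⟨h1, c, fun v w => ?_⟩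
  rw [hGA, (h2 v w).1, (h2 v w).2]

end Side

end Cfsg.Agent.StdLThreeFour.RFourSide
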