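import Cfsg.Agent.StdLThreeFour.RFourA
import Cfsg.Agent.StdLThreeFour.RFourDefs
import Cfsg.Agent.StdLThreeFour.Facts3

/-!
# Standard `L3(4)`, case `|R| = 4`: the coordinates `n l`

From an element `g` acting trivially on `Z`, on `S/Z` and nontrivially on `R` modulo `Z` we construct
`r, n : F4 → X` with `TOne F.ι r n κ`.
-/

set_option autoImplicit false
set_option linter.constructorNameAsVariable false
set_option linter.unusedVariables false

namespace Cfsg.Agent.StdLThreeFour.RFourT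

open Cfsg.Agent.StdLThreeFour.Base Cfsg.Agent.StdLThreeFour.RFour0 Cfsg.Agent.StdLThreeFour.RFourA
open Cfsg.Agent.StdLThreeFour.RFourDefs
open Cfsg.Agent.StdLThreeFour.Facts1
open Cfsg.Agent.SporadicA.FieldFour
open Cfsg.Agent.ONType.Psl

variable {X : Type*} [Group X]

theorem add_self (u : F4) : u + u = 0 := by revert u; decide

theorem eq_of_add {a b : F4} (h : a + b = 0) : a = b := by
  have : ∀ a b : F4, a + b = 0 → a = b := by decide
  exact this a b h

/-- the semilinear part disappears -/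
theorem semi (α : F4 → F4) (h : ∀ a b, α (a + b) = α a + α b) (a : F4) :
    α a + F4.v * α (F4.v * a) = (α 1 + F4.v * α F4.v) * a := by
  have h0 : α 0 = 0 := by
    have := h 0 0
    rw [add_zero] at this
    exact left_eq_add.1 this
  have hv : α F4.v = α 1 + α F4.w := by rw [← h]; rfl
  cases a
  · change α 0 + F4.v * α 0 = _ * 0
    rw [h0]; ring
  · change α 1 + F4.v * α F4.v = _ * 1
    ring
  · change α F4.w + F4.v * α 1 = (α 1 + F4.v * α F4.v) * F4.w
    rw [hv]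
    have : ∀ p q : F4, q + F4.v * p = (p + F4.v * (p + q)) * F4.w := by decide
    exact this _ _
  · change α F4.v + F4.v * α F4.w = (α 1 + F4.v * α F4.v) * F4.v
    rw [hv]
    have : ∀ p q : F4, (p + q) + F4.v * q = (p + F4.v * (p + q)) * F4.v := by decide
    exact this _ _

section Basic

variable (F : FourN X)

theorem exists_ne : ∃ r ∈ F.R, r ≠ 1 := by
  obtain ⟨r, hr, h⟩ := F.nR
  refine ⟨r, hr, ?_⟩
  rintro rfl
  apply h
  rw [mul_one, mul_inv_cancel]
  exact F.R.one_mem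

theorem notL {r : X} (hr : r ∈ F.R) {y : L0} (h : r = F.ι y) : r = 1 := by
  by_contra h1
  exact F.noL r hr h1 y (h ▸ IsConj.refl r)

theorem t_inj02 {u v : F4} (h : F.ι (t 0 2 u) = F.ι (t 0 2 v)) : u = v := by
  have h1 := F.inj h
  rw [← e_02, ← e_02] at h1
  exact (e_inj h1).2.2

theorem z_notR {u : F4} (h : F.ι (t 0 2 u) ∈ F.R) : u = 0 := by
  have h1 := notL F h rfl
  rw [← map_one F.ι, ← t_zero 0 2] at h1
  exact t_inj02 F h1

/-- `x` centralising `R` and acting on `L` as `conj a` is `r a` -/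
theorem eq_mul {x : X} (h1 : ∀ r ∈ F.R, Commute x r) {a : L0}
    (h : ∀ y, x * F.ι y * x⁻¹ = F.ι (a * y * a⁻¹)) : ∃ r ∈ F.R, x = r * F.ι a := by
  obtain ⟨r0, hr0, hne⟩ := exists_ne F
  have h2 : ∀ y, Commute ((F.ι a)⁻¹ * x) (F.ι y) := by
    intro y
    have h3 := h y
    rw [map_mul, map_mul, map_inv] at h3
    have h4 : (F.ι a)⁻¹ * (x * F.ι y * x⁻¹) * F.ι a = F.ι y := by rw [h3]; group
    change (F.ι a)⁻¹ * x * F.ι y = F.ι y * ((F.ι a)⁻¹ * x)
    calc (F.ι a)⁻¹ * x * F.ι y = ((F.ι a)⁻¹ * (x * F.ι y * x⁻¹) * F.ι a) * ((F.ι a)⁻¹ * x) := by group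
      _ = _ := by rw [h4]
  have h5 : (F.ι a)⁻¹ * x ∈ F.R := by
    apply F.centK r0 hr0 hne _ _ h2
    exact ((F.comm r0 hr0 a).symm.inv_left).mul_left (h1 r0 hr0)
  refine ⟨_, h5, ?_⟩
  rw [(F.comm _ h5 a).eq]; group

theorem act_of_commR {x : X} (h1 : ∀ r ∈ F.R, Commute x r) :
    ∃ α : MulAut L0, ∀ y, x * F.ι y * x⁻¹ = F.ι (α y) := by
  obtain ⟨r0, hr0, hne⟩ := exists_ne F
  exact F.act r0 hr0 hne x (h1 r0 hr0)

theorem cent_RS {x : X} (h1 : ∀ r ∈ F.R, Commute x r) (h2 : ∀ s ∈ S0, Commute x (F.ι s)) :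
    ∃ r ∈ F.R, ∃ c, x = r * F.ι (t 0 2 c) := by
  obtain ⟨α, hα⟩ := act_of_commR F h1
  have h3 : ∀ s ∈ S0, α s = s := by
    intro s hs
    apply F.inj
    rw [← hα, (h2 s hs).eq]; group
  obtain ⟨z, ⟨c, rfl⟩, hz⟩ := Facts3.aut_cent_S0 h3
  rw [e_02] at hz
  obtain ⟨r, hr, h4⟩ := eq_mul F h1 (a := t 0 2 c) (fun y => by rw [hα, hz]; rfl)
  exact ⟨r, hr, c, h4⟩

theorem cent_RA {x : X} (h1 : ∀ r ∈ F.R, Commute x r) (j : Bool)
    (h2 : ∀ s ∈ A j, Commute x (F.ι s)) : ∃ r ∈ F.R, ∃ a ∈ A j, x = r * F.ι a := by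
  obtain ⟨α, hα⟩ := act_of_commR F h1
  have h3 : ∀ s ∈ A j, α s = s := by
    intro s hs
    apply F.inj
    rw [← hα, (h2 s hs).eq]; group
  obtain ⟨z, hzA, hz⟩ := Facts3.aut_cent_A h3
  obtain ⟨r, hr, h4⟩ := eq_mul F h1 (a := z) (fun y => by rw [hα, hz]; rfl)
  exact ⟨r, hr, z, hzA, h4⟩

theorem el_comm {a b : X} (ha : a ∈ F.R) (hb : b ∈ F.R) : a * b = b * a := by
  have h1 := F.el _ (F.R.mul_mem ha hb)
  have h2 : a⁻¹ = a := inv_eq_of_mul_eq_one_right (F.el _ ha)
  have h3 : b⁻¹ = b := inv_eq_of_mul_eq_one_right (F.el _ hb)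
  calc a * b = (a * b)⁻¹ := (inv_eq_of_mul_eq_one_right h1).symm
    _ = b⁻¹ * a⁻¹ := by group
    _ = b * a := by rw [h2, h3]

end Basic

/-- conjugation by `ι hh` -/
def tau (ι : L0 →* X) (x : X) : X := (ι hh)⁻¹ * x * ι hh

theorem tau_mul (ι : L0 →* X) (x y : X) : tau ι (x * y) = tau ι x * tau ι y := by
  unfold tau; group

theorem tau_inv (ι : L0 →* X) (x : X) : tau ι x⁻¹ = (tau ι x)⁻¹ := by
  unfold tau; group

theorem tau_one (ι : L0 →* X) : tau ι (1 : X) = 1 := by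
  unfold tau; group

theorem tau3 (ι : L0 →* X) (x : X) : tau ι (tau ι (tau ι x)) = x := by
  have h3 : ι hh * ι hh * ι hh = 1 := by
    rw [← map_mul, ← map_mul]
    have := hh_pow
    rw [pow_succ, pow_two] at this
    rw [this, map_one]
  unfold tau
  calc (ι hh)⁻¹ * ((ι hh)⁻¹ * ((ι hh)⁻¹ * x * ι hh) * ι hh) * ι hh
      = (ι hh * ι hh * ι hh)⁻¹ * x * (ι hh * ι hh * ι hh) := by group
    _ = x := by rw [h3]; group

theorem tau_t (ι : L0 →* X) {i j : Fin 3} (h : i ≠ j) (u : F4) :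
    tau ι (ι (t i j u)) = ι (t i j (kap i j * u)) := by
  unfold tau
  have h1 := congrArg ι (t_h i j u h)
  rw [map_mul, map_mul] at h1
  rw [mul_assoc, h1]; group

theorem tau_R (F : FourN X) {r : X} (hr : r ∈ F.R) : tau F.ι r = r := by
  unfold tau
  rw [mul_assoc, (F.comm r hr hh).eq]; group

/-- **Step 1**: kill the semilinear part and correct by an element of `S`. -/
theorem step1 (F : FourN X) {g : X}
    (gz : ∀ c, g * F.ι (t 0 2 c) * g⁻¹ = F.ι (t 0 2 c))
    (g1 : ∀ a, ∃ c, g * F.ι (t 0 1 a) * g⁻¹ = F.ι (t 0 1 a) * F.ι (t 0 2 c))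
    (g2 : ∀ b, ∃ c, g * F.ι (t 1 2 b) * g⁻¹ = F.ι (t 1 2 b) * F.ι (t 0 2 c))
    (gr : ∀ r ∈ F.R, ∃ c, g * r * g⁻¹ = r * F.ι (t 0 2 c))
    (nr : ∃ r ∈ F.R, g * r * g⁻¹ ≠ r) :
    ∃ k : X, (∀ s ∈ S0, Commute k (F.ι s)) ∧
      (∀ r ∈ F.R, ∃ c, k * r * k⁻¹ = r * F.ι (t 0 2 c)) ∧ ∃ r ∈ F.R, k * r * k⁻¹ ≠ r := by
  set z : F4 → X := fun c => F.ι (t 0 2 c) with hz
  have zA : ∀ u v, z (u + v) = z u * z v := fun u v => by
    simp only [hz]; rw [← map_mul, t_add 0 2 u v (by decide)]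
  have zinj : ∀ {u v}, z u = z v → u = v := fun h => t_inj02 F h
  have zz : ∀ u, z u * z u = 1 := fun u => by
    rw [← zA, add_self]; simp only [hz]; rw [t_zero, map_one]
  have zcomm : ∀ u v, z u * z v = z v * z u := fun u v => by rw [← zA, ← zA, add_comm]
  -- the conjugate of an automorphism by `tau`
  have tc : ∀ (g x : X), tau F.ι g * x * (tau F.ι g)⁻¹ =
      tau F.ι (g * (tau F.ι (tau F.ι x)) * g⁻¹) := by
    intro g x
    rw [tau_mul, tau_mul, tau3, tau_inv]
  have kv : ∀ x : X, (g⁻¹ * tau F.ι g) * x * (g⁻¹ * tau F.ι g)⁻¹ =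
      g⁻¹ * (tau F.ι g * x * (tau F.ι g)⁻¹) * g := fun x => by group
  have gz' : ∀ c, g⁻¹ * z c * g = z c := fun c => by
    have := gz c
    calc g⁻¹ * z c * g = g⁻¹ * (g * z c * g⁻¹) * g := by rw [this]
      _ = z c := by group
  -- general: `g x g⁻¹ = x z(c)` for `x = y a` with weight `p`
  have root : ∀ (y : F4 → X) (p : F4), (∀ u v, y (u + v) = y u * y v) →
      (∀ u v, y u * z v = z v * y u) →
      (∀ u, tau F.ι (y u) = y (F4.w * u)) → (∀ u, ∃ c, g * y u * g⁻¹ = y u * z c) →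
      ∃ l : F4, ∀ u, (g⁻¹ * tau F.ι g) * y u * (g⁻¹ * tau F.ι g)⁻¹ = y u * z (l * u) := by
    intro y p yA yz yt hy
    choose α hα using hy
    have αA : ∀ u v, α (u + v) = α u + α v := by
      intro u v
      apply zinj
      have e1 : g * y (u + v) * g⁻¹ = y (u + v) * z (α u + α v) := by
        rw [yA]
        calc g * (y u * y v) * g⁻¹ = (g * y u * g⁻¹) * (g * y v * g⁻¹) := by group
          _ = y u * (z (α u) * y v) * z (α v) := by rw [hα, hα]; group
          _ = _ := by rw [← yz, zA]; group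
      rw [hα] at e1
      exact mul_left_cancel e1
    refine ⟨α 1 + F4.v * α F4.v, ?_⟩
    intro u
    have hginv : ∀ u, g⁻¹ * y u * g = y u * z (α u) := by
      intro u
      have h1 := hα u
      have h2 : y u = g⁻¹ * (y u * z (α u)) * g := by rw [← h1]; group
      have h3 : y u = (g⁻¹ * y u * g) * (g⁻¹ * z (α u) * g) := by
        rw [h2]; rw [← h2]; rw [show g⁻¹ * y u * g * (g⁻¹ * z (α u) * g) =
          g⁻¹ * (y u * z (α u)) * g by group]; exact h2
      rw [gz'] at h3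
      calc g⁻¹ * y u * g = (g⁻¹ * y u * g) * (z (α u) * z (α u)) := by rw [zz, mul_one]
        _ = ((g⁻¹ * y u * g) * z (α u)) * z (α u) := by group
        _ = y u * z (α u) := by rw [← h3]
    rw [kv, tc, yt, yt]
    have hw2 : F4.w * (F4.w * u) = F4.v * u := by revert u; decide
    rw [hw2, hα, tau_mul, yt]
    have hw3 : F4.w * (F4.v * u) = u := by revert u; decide
    have hz3 : tau F.ι (z (α (F4.v * u))) = z (F4.v * α (F4.v * u)) := tau_t F.ι (by decide) _
    rw [hw3, hz3]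
    calc g⁻¹ * (y u * z (F4.v * α (F4.v * u))) * g
        = (g⁻¹ * y u * g) * (g⁻¹ * z (F4.v * α (F4.v * u)) * g) := by group
      _ = y u * z (α u) * z (F4.v * α (F4.v * u)) := by rw [hginv, gz']
      _ = y u * z (α u + F4.v * α (F4.v * u)) := by rw [zA]; group
      _ = _ := by rw [semi α αA u]
  obtain ⟨l1, hl1⟩ := root (fun u => F.ι (t 0 1 u)) 1
    (fun u v => by rw [← map_mul, t_add 0 1 u v (by decide)])
    (fun u v => by simp only [hz]; rw [← map_mul, ← map_mul, t_row 0 1 2 u v (by decide) (by decide)])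
    (fun u => tau_t F.ι (by decide) u) g1
  obtain ⟨l2, hl2⟩ := root (fun u => F.ι (t 1 2 u)) 1
    (fun u v => by rw [← map_mul, t_add 1 2 u v (by decide)])
    (fun u v => by simp only [hz]; rw [← map_mul, ← map_mul, t_col 1 2 0 u v (by decide) (by decide)])
    (fun u => tau_t F.ι (by decide) u) g2
  have rz : ∀ r ∈ F.R, ∀ u, r * z u = z u * r := fun r hr u => (F.comm r hr _).eq
  -- action of `k0 = g⁻¹ g^τ` on `R`
  set k0 := g⁻¹ * tau F.ι g with hk0
  have hR : ∀ r ∈ F.R, ∀ c, g * r * g⁻¹ = r * z c → k0 * r * k0⁻¹ = r * z (F4.w * c) := by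
    intro r hr c hc
    have h1 : g⁻¹ * r * g = r * z c := by
      have h2 : g * (r * z c) * g⁻¹ = r := by
        calc g * (r * z c) * g⁻¹ = (g * r * g⁻¹) * (g * z c * g⁻¹) := by group
          _ = r * (z c * z c) := by
            rw [hc]
            have h0 : g * z c * g⁻¹ = z c := gz c
            rw [h0]; group
          _ = r := by rw [zz, mul_one]
      have h3 : g⁻¹ * r * g = g⁻¹ * (g * (r * z c) * g⁻¹) * g := by rw [h2]
      rw [h3]; group
    have h4 : tau F.ι (z c) = z (F4.v * c) := tau_t F.ι (by decide) _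
    rw [kv, tc, tau_R F hr, tau_R F hr, hc, tau_mul, tau_R F hr, h4]
    have h5 : ∀ c : F4, c + F4.v * c = F4.w * c := by decide
    calc g⁻¹ * (r * z (F4.v * c)) * g = (g⁻¹ * r * g) * (g⁻¹ * z (F4.v * c) * g) := by group
      _ = r * (z c * z (F4.v * c)) := by rw [h1, gz']; group
      _ = _ := by rw [← zA, h5]
  have k0z : ∀ c, k0 * z c * k0⁻¹ = z c := by
    intro c
    rw [kv, tc]
    have h4 : ∀ c, tau F.ι (z c) = z (F4.v * c) := fun c => tau_t F.ι (by decide) _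
    rw [h4, h4]
    have h5 := gz (F4.v * (F4.v * c))
    have h6 : g * z (F4.v * (F4.v * c)) * g⁻¹ = z (F4.v * (F4.v * c)) := h5
    rw [h6, h4]
    have h7 : ∀ c : F4, F4.v * (F4.v * (F4.v * c)) = c := by decide
    rw [h7]; exact gz' c
  -- correction by an element of `S`
  set p := F.ι (t 0 1 l2) with hp
  set q := F.ι (t 1 2 l1) with hq
  have pz : ∀ c, p * z c = z c * p := fun c => by
    simp only [hp, hz]; rw [← map_mul, ← map_mul, t_row 0 1 2 _ _ (by decide) (by decide)]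
  have qz : ∀ c, q * z c = z c * q := fun c => by
    simp only [hq, hz]; rw [← map_mul, ← map_mul, t_col 1 2 0 _ _ (by decide) (by decide)]
  have p1 : ∀ u, p * F.ι (t 0 1 u) = F.ι (t 0 1 u) * p := fun u => by
    simp only [hp]; rw [← map_mul, ← map_mul, t_add 0 1 _ _ (by decide), t_add 0 1 _ _ (by decide),
      add_comm]
  have q2 : ∀ u, q * F.ι (t 1 2 u) = F.ι (t 1 2 u) * q := fun u => by
    simp only [hq]; rw [← map_mul, ← map_mul, t_add 1 2 _ _ (by decide), t_add 1 2 _ _ (by decide),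
      add_comm]
  have p2 : ∀ u, p * F.ι (t 1 2 u) = F.ι (t 1 2 u) * p * z (l2 * u) := fun u => by
    simp only [hp, hz]
    rw [← map_mul, ← map_mul, ← map_mul, t_sum 0 2 1 _ _ (by decide) (by decide) (by decide)]
  have q1 : ∀ u, q * F.ι (t 0 1 u) = F.ι (t 0 1 u) * q * z (l1 * u) := fun u => by
    have h1 := t_sum 0 2 1 u l1 (by decide) (by decide) (by decide)
    simp only [hq, hz]
    rw [← map_mul, ← map_mul, ← map_mul, h1, mul_comm l1 u, mul_assoc (t 1 2 l1 * t 0 1 u),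
      t_add 0 2 _ _ (by decide), add_self, t_zero, mul_one]
  have xz : ∀ u v, F.ι (t 0 1 u) * z v = z v * F.ι (t 0 1 u) := fun u v => by
    simp only [hz]; rw [← map_mul, ← map_mul, t_row 0 1 2 _ _ (by decide) (by decide)]
  have yz : ∀ u v, F.ι (t 1 2 u) * z v = z v * F.ι (t 1 2 u) := fun u v => by
    simp only [hz]; rw [← map_mul, ← map_mul, t_col 1 2 0 _ _ (by decide) (by decide)]
  have split : ∀ x y : X, ∀ c, k0 * x * k0⁻¹ = y → p * q * y = x * (p * q) * c → c = 1 →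
      (p * q * k0) * x = x * (p * q * k0) := by
    intro x y c h1 h2 h3
    rw [h3, mul_one] at h2
    calc p * q * k0 * x = p * q * (k0 * x * k0⁻¹) * k0 := by group
      _ = p * q * y * k0 := by rw [h1]
      _ = _ := by rw [h2]; group
  refine ⟨p * q * k0, ?_, ?_, ?_⟩
  · rintro _ ⟨a, b, c, rfl⟩
    have c1 : Commute (p * q * k0) (F.ι (t 0 1 a)) := by
      apply split _ _ 1 (hl1 a) _ rfl
      calc p * q * (F.ι (t 0 1 a) * z (l1 * a)) = p * (q * F.ι (t 0 1 a)) * z (l1 * a) := by group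
        _ = (p * F.ι (t 0 1 a)) * q * (z (l1 * a) * z (l1 * a)) := by rw [q1]; group
        _ = _ := by rw [p1, zz]; group
    have c2 : Commute (p * q * k0) (F.ι (t 1 2 b)) := by
      apply split _ _ 1 (hl2 b) _ rfl
      calc p * q * (F.ι (t 1 2 b) * z (l2 * b)) = p * (q * F.ι (t 1 2 b)) * z (l2 * b) := by group
        _ = (p * F.ι (t 1 2 b)) * (q * z (l2 * b)) := by rw [q2]; group
        _ = F.ι (t 1 2 b) * p * (z (l2 * b) * z (l2 * b)) * q := by rw [p2, qz]; group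
        _ = _ := by rw [zz]; group
    have c3 : Commute (p * q * k0) (F.ι (t 0 2 c)) := by
      apply split _ _ 1 (k0z c) _ rfl
      calc p * q * z c = p * (q * z c) := by group
        _ = (p * z c) * q := by rw [qz]; group
        _ = z c * (p * q) * 1 := by rw [pz]; group
    change Commute _ (F.ι (t 0 1 a * t 1 2 b * t 0 2 c))
    rw [map_mul, map_mul]
    exact (c1.mul_right c2).mul_right c3
  · intro r hr
    obtain ⟨c, hc⟩ := gr r hr
    refine ⟨F4.w * c, ?_⟩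
    have h1 := hR r hr c hc
    have h2 : p * r = r * p := (F.comm r hr _).symm.eq
    have h3 : q * r = r * q := (F.comm r hr _).symm.eq
    calc p * q * k0 * r * (p * q * k0)⁻¹ = p * q * (k0 * r * k0⁻¹) * (p * q)⁻¹ := by group
      _ = p * (q * r) * z (F4.w * c) * (p * q)⁻¹ := by rw [h1]; group
      _ = (p * r) * (q * z (F4.w * c)) * (p * q)⁻¹ := by rw [h3]; group
      _ = r * (p * z (F4.w * c)) * q * (p * q)⁻¹ := by rw [h2, qz]; group
      _ = r * z (F4.w * c) := by rw [pz]; group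
  · obtain ⟨r, hr, hne⟩ := nr
    obtain ⟨c, hc⟩ := gr r hr
    refine ⟨r, hr, ?_⟩
    have h1 := hR r hr c hc
    have h2 : p * r = r * p := (F.comm r hr _).symm.eq
    have h3 : q * r = r * q := (F.comm r hr _).symm.eq
    have h4 : p * q * k0 * r * (p * q * k0)⁻¹ = r * z (F4.w * c) := by
      calc p * q * k0 * r * (p * q * k0)⁻¹ = p * q * (k0 * r * k0⁻¹) * (p * q)⁻¹ := by group
        _ = p * (q * r) * z (F4.w * c) * (p * q)⁻¹ := by rw [h1]; group
        _ = (p * r) * (q * z (F4.w * c)) * (p * q)⁻¹ := by rw [h3]; group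
        _ = r * (p * z (F4.w * c)) * q * (p * q)⁻¹ := by rw [h2, qz]; group
        _ = _ := by rw [pz]; group
    rw [h4]
    intro h5
    have h6 : z (F4.w * c) = z 0 := by
      have : z 0 = 1 := by simp only [hz]; rw [t_zero, map_one]
      rw [this]; exact mul_eq_left.1 h5
    have h7 := zinj h6
    have h8 : c = 0 := by
      have : ∀ c : F4, F4.w * c = 0 → c = 0 := by decide
      exact this c h7
    apply hne
    rw [hc, h8, t_zero, map_one, mul_one]

/-! ### coordinates on `R` -/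

/-- **Step 2**: coordinates on `R`. -/
theorem step2 (F : FourN X) {k : X}
    (kr : ∀ r ∈ F.R, ∃ c, k * r * k⁻¹ = r * F.ι (t 0 2 c)) (nr : ∃ r ∈ F.R, k * r * k⁻¹ ≠ r) :
    ∃ r : F4 → X, (∀ m, r m ∈ F.R) ∧ (∀ x ∈ F.R, ∃ m, x = r m) ∧
      (∀ a b, r (a + b) = r a * r b) ∧ (∀ m, k * r m * k⁻¹ = r m * F.ι (t 0 2 m)) ∧
      (∀ m, r m = 1 → m = 0) := by
  have zmul : ∀ u v, F.ι (t 0 2 u) * F.ι (t 0 2 v) = F.ι (t 0 2 (u + v)) := fun u v => by
    rw [← map_mul, t_add 0 2 u v (by decide)]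
  have hmul : ∀ r ∈ F.R, ∀ r' ∈ F.R, ∀ c c', k * r * k⁻¹ = r * F.ι (t 0 2 c) →
      k * r' * k⁻¹ = r' * F.ι (t 0 2 c') →
      k * (r * r') * k⁻¹ = (r * r') * F.ι (t 0 2 (c + c')) := by
    intro r hr r' hr' c c' h h'
    have h1 := (F.comm r' hr' (t 0 2 c)).eq
    calc k * (r * r') * k⁻¹ = (k * r * k⁻¹) * (k * r' * k⁻¹) := by group
      _ = r * (F.ι (t 0 2 c) * r') * F.ι (t 0 2 c') := by rw [h, h']; group
      _ = (r * r') * (F.ι (t 0 2 c) * F.ι (t 0 2 c')) := by rw [← h1]; group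
      _ = _ := by rw [zmul]
  choose! φ hφ using kr
  have inj : ∀ r ∈ F.R, φ r = 0 → r = 1 := by
    intro r hr h0
    by_contra h1
    have h2 : Commute k r := by
      have h3 := hφ r hr
      rw [h0, t_zero, map_one, mul_one] at h3
      calc k * r = (k * r * k⁻¹) * k := by group
        _ = r * k := by rw [h3]
    have h3 := F.normR r hr h1 k h2
    obtain ⟨r', hr', hne⟩ := nr
    have h4 := h3 r' hr'
    rw [hφ r' hr'] at h4
    have h5 : F.ι (t 0 2 (φ r')) ∈ F.R := by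
      have := F.R.mul_mem (F.R.inv_mem hr') h4
      rwa [inv_mul_cancel_left] at this
    have h6 := z_notR F h5
    apply hne
    rw [hφ r' hr', h6, t_zero, map_one, mul_one]
  have uniq : ∀ r ∈ F.R, ∀ r' ∈ F.R, φ r = φ r' → r = r' := by
    intro r hr r' hr' h
    have h1 := hmul r hr r' hr' _ _ (hφ r hr) (hφ r' hr')
    have h2 := hφ _ (F.R.mul_mem hr hr')
    have h3 : φ (r * r') = φ r + φ r' := t_inj02 F (mul_left_cancel (h2.symm.trans h1))
    rw [h, add_self] at h3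
    have h4 := inj _ (F.R.mul_mem hr hr') h3
    have h5 := eq_inv_of_mul_eq_one_left h4
    rw [h5]; exact inv_eq_of_mul_eq_one_right (F.el r' hr')
  -- bijectivity
  have hfin : Finite F.R := Nat.finite_of_card_ne_zero (by rw [F.card]; norm_num)
  have hI : Function.Injective (fun r : F.R => φ r.1) := by
    rintro ⟨r, hr⟩ ⟨r', hr'⟩ h
    exact Subtype.ext (uniq r hr r' hr' h)
  have hB := hI.bijective_of_nat_card_le (by
    rw [F.card, Nat.card_eq_fintype_card]; exact le_of_eq rfl)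
  choose ψ hψ using hB.2
  refine ⟨fun m => (ψ m).1, fun m => (ψ m).2, ?_, ?_, ?_, ?_⟩
  · intro x hx
    refine ⟨φ x, uniq x hx _ (ψ _).2 ?_⟩
    exact (hψ (φ x)).symm
  · intro a b
    apply uniq _ (ψ _).2 _ (F.R.mul_mem (ψ a).2 (ψ b).2)
    have h1 := hmul _ (ψ a).2 _ (ψ b).2 _ _ (hφ _ (ψ a).2) (hφ _ (ψ b).2)
    have h2 := hφ _ (F.R.mul_mem (ψ a).2 (ψ b).2)
    have h3 := t_inj02 F (mul_left_cancel (h2.symm.trans h1))
    have e1 : φ (ψ a).1 = a := hψ a
    have e2 : φ (ψ b).1 = b := hψ b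
    have e3 : φ (ψ (a + b)).1 = a + b := hψ (a + b)
    rw [e3, h3, e1, e2]
  · intro m
    have e1 : φ (ψ m).1 = m := hψ m
    have h1 := hφ _ (ψ m).2
    rw [e1] at h1
    exact h1
  · intro m hm
    have e1 : φ (ψ m).1 = m := hψ m
    have hm' : (ψ m).1 = 1 := hm
    have h1 := hφ _ (ψ m).2
    rw [e1, hm', mul_one, mul_inv_cancel, one_mul] at h1
    have h2 : F.ι (t 0 2 0) = F.ι (t 0 2 m) := by rw [t_zero, map_one]; exact h1
    exact (t_inj02 F h2).symm

/-! ### type of an element centralising `S` -/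

/-- `x` centralises `S`, and `[r m, x] = x₀₂(l m)`. -/
structure Ty (ι : L0 →* X) (r : F4 → X) (x : X) (l : F4) : Prop where
  S : ∀ s ∈ S0, Commute x (ι s)
  R : ∀ m, r m * x = x * r m * ι (t 0 2 (l * m))

section Ty

variable (F : FourN X) {r : F4 → X} (hr : ∀ m, r m ∈ F.R) {x y : X} {l l' : F4}

theorem Ty.z {ι : L0 →* X} (h : Ty ι r x l) (c : F4) : Commute x (ι (t 0 2 c)) := by
  apply h.S
  exact ⟨0, 0, c, (e_02 c).symm⟩

theorem zmul' (ι : L0 →* X) (u v : F4) :
    ι (t 0 2 u) * ι (t 0 2 v) = ι (t 0 2 (u + v)) := by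
  rw [← map_mul, t_add 0 2 u v (by decide)]

theorem Ty.mul {ι : L0 →* X} (h : Ty ι r x l) (h' : Ty ι r y l') : Ty ι r (x * y) (l + l') where
  S s hs := (h.S s hs).mul_left (h'.S s hs)
  R m := by
    have h1 := (h'.z (l * m)).eq
    calc r m * (x * y) = (r m * x) * y := by group
      _ = x * r m * (ι (t 0 2 (l * m)) * y) := by rw [h.R]; group
      _ = x * (r m * y) * ι (t 0 2 (l * m)) := by rw [← h1]; group
      _ = x * y * r m * (ι (t 0 2 (l' * m)) * ι (t 0 2 (l * m))) := by rw [h'.R]; group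
      _ = _ := by rw [zmul', add_comm (l' * m), ← add_mul]

include hr in
theorem Ty.tau (h : Ty F.ι r x l) : Ty F.ι r (tau F.ι x) (F4.v * l) where
  S := by
    rintro _ ⟨a, b, c, rfl⟩
    have key : ∀ {i j : Fin 3}, i ≠ j → (∀ u, Commute x (F.ι (t i j u))) →
        ∀ u, Commute (RFourT.tau F.ι x) (F.ι (t i j u)) := by
      intro i j hij hc u
      have h1 : ∀ u, ∃ v, F.ι (t i j u) = RFourT.tau F.ι (F.ι (t i j v)) := by
        intro u
        refine ⟨kap i j * kap i j * u, ?_⟩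
        rw [tau_t F.ι hij]
        have hk : ∀ (i j : Fin 3) (u : F4), u = kap i j * (kap i j * kap i j * u) := by decide
        rw [← hk]
      obtain ⟨v, hv⟩ := h1 u
      rw [hv]
      change _ * _ = _ * _
      rw [← tau_mul, ← tau_mul, (hc v).eq]
    have k1 := key (i := 0) (j := 1) (by decide) (fun u => h.S _ ⟨u, 0, 0, (e_01 u).symm⟩) a
    have k2 := key (i := 1) (j := 2) (by decide) (fun u => h.S _ ⟨0, u, 0, (e_12 u).symm⟩) b
    have k3 := key (i := 0) (j := 2) (by decide) (fun u => h.S _ ⟨0, 0, u, (e_02 u).symm⟩) c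
    change Commute _ (F.ι (t 0 1 a * t 1 2 b * t 0 2 c))
    rw [map_mul, map_mul]
    exact (k1.mul_right k2).mul_right k3
  R m := by
    have h1 := congrArg (RFourT.tau F.ι) (h.R m)
    rw [tau_mul, tau_mul, tau_mul, tau_R F (hr m), tau_t F.ι (by decide)] at h1
    rw [h1]
    congr 3
    change F4.v * (l * m) = _
    ring

include hr in
theorem Ty.of_r (rA : ∀ a b, r (a + b) = r a * r b) (a : F4) : Ty F.ι r (r a) 0 where
  S s hs := F.comm _ (hr a) s
  R m := by
    rw [zero_mul, t_zero, map_one, mul_one, ← rA, ← rA, add_comm]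

theorem Ty.eq (hx : Ty F.ι r x 0) (hs : ∀ x ∈ F.R, ∃ m, x = r m) :
    ∃ a b, x = r a * F.ι (t 0 2 b) := by
  obtain ⟨r0, hr0, c, h⟩ := cent_RS F (x := x) (by
    intro s hs'
    obtain ⟨m, rfl⟩ := hs s hs'
    have h1 := hx.R m
    rw [zero_mul, t_zero, map_one, mul_one] at h1
    exact h1.symm) hx.S
  obtain ⟨m, rfl⟩ := hs r0 hr0
  exact ⟨m, c, h⟩

end Ty

theorem Ty.zc {F : FourN X} {r : F4 → X} (hr : ∀ m, r m ∈ F.R) (c : F4) :
    Ty F.ι r (F.ι (t 0 2 c)) 0 where
  S := by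
    rintro _ ⟨a, b, d, rfl⟩
    change _ * _ = _ * _
    rw [← map_mul, ← map_mul]
    congr 1
    have h1 : t 0 2 c = e 0 0 c := (e_02 c).symm
    rw [h1, e_mul, e_mul]
    congr 1
    · ring
    · ring
    · ring
  R m := by
    rw [zero_mul, t_zero, map_one, mul_one, (F.comm _ (hr m) _).eq]

theorem Ty.inv {ι : L0 →* X} {r : F4 → X} {x : X} {l : F4} (h : Ty ι r x l) : Ty ι r x⁻¹ l where
  S s hs := (h.S s hs).inv_left
  R m := by
    have h1 := h.R m
    have h2 := (h.z (l * m)).inv_left.eq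
    have hz : ι (t 0 2 (l * m)) * ι (t 0 2 (l * m)) = 1 := by
      rw [zmul', add_self, t_zero, map_one]
    have h3 : x⁻¹ * r m = r m * ι (t 0 2 (l * m)) * x⁻¹ := by
      calc x⁻¹ * r m = x⁻¹ * (r m * x) * x⁻¹ := by group
        _ = _ := by rw [h1]; group
    calc r m * x⁻¹ = r m * x⁻¹ * (ι (t 0 2 (l * m)) * ι (t 0 2 (l * m))) := by rw [hz, mul_one]
      _ = r m * (x⁻¹ * ι (t 0 2 (l * m))) * ι (t 0 2 (l * m)) := by group
      _ = (r m * ι (t 0 2 (l * m)) * x⁻¹) * ι (t 0 2 (l * m)) := by rw [h2]; group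
      _ = _ := by rw [← h3]

theorem Ty.one {ι : L0 →* X} {r : F4 → X} : Ty ι r 1 0 where
  S s hs := Commute.one_left _
  R m := by rw [zero_mul, t_zero, map_one, mul_one, mul_one, one_mul]

theorem Ty.conj {ι : L0 →* X} {r : F4 → X} {x : X} {l : F4} (h : Ty ι r x l) (m : F4) :
    x * r m * x⁻¹ = r m * ι (t 0 2 (l * m)) := by
  have h1 := h.R m
  have h2 := (h.z (l * m)).eq
  have hz : ι (t 0 2 (l * m)) * ι (t 0 2 (l * m)) = 1 := by
    rw [zmul', add_self, t_zero, map_one]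
  calc x * r m * x⁻¹ = (x * r m) * (ι (t 0 2 (l * m)) * ι (t 0 2 (l * m))) * x⁻¹ := by
        rw [hz, mul_one]
    _ = (x * r m * ι (t 0 2 (l * m))) * ι (t 0 2 (l * m)) * x⁻¹ := by group
    _ = r m * (x * ι (t 0 2 (l * m))) * x⁻¹ := by rw [← h1]; group
    _ = _ := by rw [h2]; group

/-- **Step 3.** -/
theorem step3 (F : FourN X) {r : F4 → X} {k : X} (hr : ∀ m, r m ∈ F.R)
    (hs : ∀ x ∈ F.R, ∃ m, x = r m) (rA : ∀ a b, r (a + b) = r a * r b)
    (rinj : ∀ m, r m = 1 → m = 0) (hk : Ty F.ι r k 1) :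
    ∃ (n : F4 → X) (κ : F4), TOne F.ι r n κ := by
  have zmul := zmul' F.ι
  have z1 : F.ι (t 0 2 0) = 1 := by rw [t_zero, map_one]
  have zsq : ∀ u, F.ι (t 0 2 u) * F.ι (t 0 2 u) = 1 := fun u => by rw [zmul, add_self, z1]
  have rsq : ∀ u, r u * r u = 1 := fun u => F.el _ (hr u)
  -- the product
  have hP : Ty F.ι r (k * tau F.ι (tau F.ι k) * tau F.ι k) 0 := by
    have h1 := (hk.mul ((hk.tau F hr).tau F hr)).mul (hk.tau F hr)
    have h2 : (1 : F4) + F4.v * (F4.v * 1) + F4.v * 1 = 0 := by decide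
    rw [h2] at h1
    exact h1
  obtain ⟨m0, c0, hP0⟩ := hP.eq F hs
  -- the corrected element
  set k' := k * r m0 with hk'
  have Tk : Ty F.ι r k' 1 := by
    have h1 := hk.mul (Ty.of_r F hr rA m0)
    rw [add_zero] at h1
    exact h1
  set kv := tau F.ι k' with hkv
  set kw := tau F.ι kv with hkw
  have Tv : Ty F.ι r kv F4.v := by
    have h1 := Tk.tau F hr
    rw [mul_one] at h1
    exact h1
  have Tw : Ty F.ι r kw F4.w := by
    have h1 := Tv.tau F hr
    have h2 : F4.v * F4.v = F4.w := rfl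
    rw [h2] at h1
    exact h1
  have tw : tau F.ι kw = k' := tau3 F.ι k'
  have ekv : kv = tau F.ι k * r m0 := by rw [hkv, hk', tau_mul, tau_R F (hr m0)]
  have ekw : kw = tau F.ι (tau F.ι k) * r m0 := by rw [hkw, ekv, tau_mul, tau_R F (hr m0)]
  have hprod : k' * kw * kv = 1 := by
    have h1 : k' * kw * kv = F.ι (t 0 2 (c0 + F4.w * m0)) := by
      have Tw0 : Ty F.ι r (tau F.ι (tau F.ι k)) F4.w := by
        have h1 := (hk.tau F hr).tau F hr
        have h2 : F4.v * (F4.v * 1) = F4.w := rfl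
        rw [h2] at h1
        exact h1
      have h2 := Tw0.R m0
      have h3 := (hk.tau F hr).z (F4.w * m0)
      have h4 := (F.comm _ (hr m0) (t 0 2 (F4.w * m0))).eq
      rw [hk', ekw, ekv]
      set A := tau F.ι (tau F.ι k)
      set B := tau F.ι k
      have h5 : r m0 * (A * r m0) = A * F.ι (t 0 2 (F4.w * m0)) := by
        calc r m0 * (A * r m0) = (r m0 * A) * r m0 := by group
          _ = A * r m0 * (F.ι (t 0 2 (F4.w * m0)) * r m0) := by rw [h2]; group
          _ = A * (r m0 * r m0) * F.ι (t 0 2 (F4.w * m0)) := by rw [← h4]; group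
          _ = _ := by rw [rsq, mul_one]
      calc k * r m0 * (A * r m0) * (B * r m0) = k * (r m0 * (A * r m0)) * (B * r m0) := by group
        _ = k * A * (F.ι (t 0 2 (F4.w * m0)) * B) * r m0 := by rw [h5]; group
        _ = (k * A * B) * (F.ι (t 0 2 (F4.w * m0)) * r m0) := by rw [← h3.eq]; group
        _ = r m0 * F.ι (t 0 2 c0) * (r m0 * F.ι (t 0 2 (F4.w * m0))) := by rw [hP0, ← h4]
        _ = (r m0 * r m0) * (F.ι (t 0 2 c0) * F.ι (t 0 2 (F4.w * m0))) := by
            have h6 := (F.comm _ (hr m0) (t 0 2 c0)).eq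
            calc r m0 * F.ι (t 0 2 c0) * (r m0 * F.ι (t 0 2 (F4.w * m0)))
                = r m0 * (F.ι (t 0 2 c0) * r m0) * F.ι (t 0 2 (F4.w * m0)) := by group
              _ = _ := by rw [← h6]; group
        _ = _ := by rw [rsq, one_mul, zmul]
    set c1 := c0 + F4.w * m0
    have h2 : tau F.ι (k' * kw * kv) = k' * kw * kv := by
      rw [tau_mul, tau_mul, tw]
      change kv * k' * kw = k' * kw * kv
      have h3 := (Tv.z c1).eq
      calc kv * k' * kw = kv * (k' * kw * kv) * kv⁻¹ := by group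
        _ = kv * F.ι (t 0 2 c1) * kv⁻¹ := by rw [h1]
        _ = F.ι (t 0 2 c1) := by rw [h3]; group
        _ = _ := h1.symm
    rw [h1, tau_t F.ι (by decide)] at h2
    have h3 := t_inj02 F h2
    have h4 : c1 = 0 := by
      have : ∀ c : F4, kap 0 2 * c = c → c = 0 := by decide
      exact this _ h3
    rw [h1, h4, z1]
  -- squares
  have hsq : ∃ κ, k' * k' = F.ι (t 0 2 κ) := by
    have h1 : Ty F.ι r (k' * k') 0 := by
      have h1 := Tk.mul Tk
      have h2 : (1 : F4) + 1 = 0 := rfl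
      rw [h2] at h1
      exact h1
    obtain ⟨a, b, h2⟩ := h1.eq F hs
    have h3 : k' * (r a * F.ι (t 0 2 b)) = r a * F.ι (t 0 2 b) * k' := by rw [← h2]; group
    have h4 := Tk.R a
    have h5 := (Tk.z b).eq
    have h6 : k' * (r a * F.ι (t 0 2 b)) * F.ι (t 0 2 (1 * a)) = k' * (r a * F.ι (t 0 2 b)) := by
      have h7 := zmul b (1 * a)
      have h8 := zmul (1 * a) b
      calc k' * (r a * F.ι (t 0 2 b)) * F.ι (t 0 2 (1 * a))
          = k' * r a * (F.ι (t 0 2 b) * F.ι (t 0 2 (1 * a))) := by group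
        _ = (k' * r a * F.ι (t 0 2 (1 * a))) * F.ι (t 0 2 b) := by
            rw [h7, add_comm, ← h8]; group
        _ = r a * (k' * F.ι (t 0 2 b)) := by rw [← h4]; group
        _ = r a * F.ι (t 0 2 b) * k' := by rw [h5]; group
        _ = _ := h3.symm
    have h7 := mul_eq_left.1 h6
    rw [← z1] at h7
    have h8 := t_inj02 F h7
    rw [one_mul] at h8
    subst h8
    have r0 : r 0 = 1 := by
      have := rA 0 0
      rw [add_zero] at this
      exact left_eq_mul.1 this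
    rw [r0, one_mul] at h2
    exact ⟨b, h2⟩
  obtain ⟨κ, hκ⟩ := hsq
  have hκv : kv * kv = F.ι (t 0 2 (κ * F4.v)) := by
    rw [hkv, ← tau_mul, hκ, tau_t F.ι (by decide), mul_comm]; rfl
  have hκw : kw * kw = F.ι (t 0 2 (κ * F4.w)) := by
    rw [hkw, ← tau_mul, hκv, tau_t F.ι (by decide)]
    congr 2
    have : ∀ κ : F4, kap 0 2 * (κ * F4.v) = κ * F4.w := by decide
    exact this κ
  have r0 : r 0 = 1 := by
    have := rA 0 0
    rw [add_zero] at this
    exact left_eq_mul.1 this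
  clear_value kw kv k'
  -- commutators
  have hcomm : k' * kw = kw * k' := by
    have hK : Ty F.ι r ((kw * k')⁻¹ * (k' * kw)) 0 := by
      have h1 := ((Tw.mul Tk).inv).mul (Tk.mul Tw)
      have h2 : F4.w + 1 + (1 + F4.w) = 0 := rfl
      rw [h2] at h1
      exact h1
    obtain ⟨a, b, hab⟩ := hK.eq F hs
    have h1 : k' * kw = kw * k' * (r a * F.ι (t 0 2 b)) := by rw [← hab]; group
    -- `a = 0`
    have h2 : k' * k' * kw = kw * (k' * k') := by
      rw [hκ]; exact (Tw.z κ).eq.symm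
    have ra := (F.comm _ (hr a) (t 0 2 b)).eq
    have h3 : kw * (k' * k') * F.ι (t 0 2 (1 * a)) = kw * (k' * k') := by
      have h4 : (r a * F.ι (t 0 2 b)) * k' = k' * r a * (F.ι (t 0 2 (1 * a)) * F.ι (t 0 2 b)) := by
        calc (r a * F.ι (t 0 2 b)) * k' = r a * (F.ι (t 0 2 b) * k') := by group
          _ = (r a * k') * F.ι (t 0 2 b) := by rw [← (Tk.z b).eq]; group
          _ = _ := by rw [Tk.R]; group
      have h5 : (F.ι (t 0 2 (1 * a)) * F.ι (t 0 2 b)) * (r a * F.ι (t 0 2 b)) =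
          r a * F.ι (t 0 2 (1 * a)) := by
        have h6 := (F.comm _ (hr a) (t 0 2 (1 * a + b))).eq
        calc (F.ι (t 0 2 (1 * a)) * F.ι (t 0 2 b)) * (r a * F.ι (t 0 2 b))
            = (F.ι (t 0 2 (1 * a + b)) * r a) * F.ι (t 0 2 b) := by rw [zmul]; group
          _ = r a * (F.ι (t 0 2 (1 * a + b)) * F.ι (t 0 2 b)) := by rw [← h6]; group
          _ = r a * F.ι (t 0 2 (1 * a)) := by rw [zmul, add_assoc, add_self, add_zero]
      have h7 : k' * k' * kw = kw * (k' * k') * F.ι (t 0 2 (1 * a)) := by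
        calc k' * k' * kw = k' * (k' * kw) := by group
          _ = k' * (kw * k' * (r a * F.ι (t 0 2 b))) := by rw [h1]
          _ = (k' * kw) * k' * (r a * F.ι (t 0 2 b)) := by group
          _ = kw * k' * ((r a * F.ι (t 0 2 b)) * k') * (r a * F.ι (t 0 2 b)) := by rw [h1]; group
          _ = kw * k' * k' * r a * ((F.ι (t 0 2 (1 * a)) * F.ι (t 0 2 b)) * (r a * F.ι (t 0 2 b))) := by
              rw [h4]; group
          _ = kw * k' * k' * (r a * r a) * F.ι (t 0 2 (1 * a)) := by rw [h5]; group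
          _ = _ := by rw [rsq]; group
      rw [← h7, h2]
    have h4 := mul_eq_left.1 h3
    rw [← z1] at h4
    have h5 := t_inj02 F h4
    rw [one_mul] at h5
    subst h5
    rw [r0, one_mul] at h1
    -- `b = 0`
    have h6 := congrArg (tau F.ι) h1
    rw [tau_mul, tau_mul, tau_mul, tw, ← hkv, tau_t F.ι (by decide)] at h6
    have h7 : kv * k' = k' * kv * F.ι (t 0 2 (F4.v * b)) := h6
    have h8 : kv = (k' * kw)⁻¹ := eq_inv_of_mul_eq_one_right hprod
    have h9 : kw = k' * kw * k'⁻¹ * F.ι (t 0 2 b) := by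
      have hb := ((Tk.z b).inv_left).eq
      calc kw = kw * k' * (F.ι (t 0 2 b) * F.ι (t 0 2 b)) * k'⁻¹ := by rw [zsq]; group
        _ = (kw * k' * F.ι (t 0 2 b)) * (F.ι (t 0 2 b) * k'⁻¹) := by group
        _ = _ := by rw [← h1, ← hb]; group
    have h10 : kw⁻¹ = k' * kw⁻¹ * k'⁻¹ * F.ι (t 0 2 (F4.v * b)) := by
      calc kw⁻¹ = kv * k' := by rw [h8]; group
        _ = k' * kv * F.ι (t 0 2 (F4.v * b)) := h7
        _ = _ := by rw [h8]; group
    have h11 : F.ι (t 0 2 b) * F.ι (t 0 2 (F4.v * b)) = 1 := by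
      -- `kw⁻¹ = (z b)⁻¹ (k' kw⁻¹ k'⁻¹)`
      have hb : (F.ι (t 0 2 b))⁻¹ = F.ι (t 0 2 b) := inv_eq_of_mul_eq_one_right (zsq b)
      have h12 : kw⁻¹ = F.ι (t 0 2 b) * (k' * kw⁻¹ * k'⁻¹) := by
        calc kw⁻¹ = (k' * kw * k'⁻¹ * F.ι (t 0 2 b))⁻¹ := by rw [← h9]
          _ = (F.ι (t 0 2 b))⁻¹ * (k' * kw⁻¹ * k'⁻¹) := by group
          _ = _ := by rw [hb]
      have hz2 : ∀ u, F.ι (t 0 2 u) * (k' * kw⁻¹ * k'⁻¹) = (k' * kw⁻¹ * k'⁻¹) * F.ι (t 0 2 u) :=
        fun u => (((Tk.z u).mul_left (Tw.z u).inv_left).mul_left (Tk.z u).inv_left).symm.eq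
      have h13 : (k' * kw⁻¹ * k'⁻¹) * F.ι (t 0 2 b) =
          (k' * kw⁻¹ * k'⁻¹) * F.ι (t 0 2 (F4.v * b)) := by
        rw [← hz2, ← h12, ← h10]
      rw [mul_left_cancel h13, zsq]
    rw [zmul, ← z1] at h11
    have h12 := t_inj02 F h11
    have h13 : b = 0 := by
      have : ∀ b : F4, b + F4.v * b = 0 → b = 0 := by decide
      exact this b h12
    rw [h1, h13, z1, mul_one]
  have c1 : Commute k' kw := hcomm
  have c2 : Commute kv k' := by
    have h1 := congrArg (tau F.ι) hcomm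
    rw [tau_mul, tau_mul, tw, ← hkv] at h1
    exact h1
  have c3 : Commute kw kv := by
    have h1 := congrArg (tau F.ι) c2.eq
    rw [tau_mul, tau_mul, ← hkv, ← hkw] at h1
    exact h1
  have p1 : kw * kv * k' = 1 := by
    calc kw * kv * k' = k'⁻¹ * (k' * kw * kv) * k' := by group
      _ = 1 := by rw [hprod]; group
  have p2 : kv * k' * kw = 1 := by
    calc kv * k' * kw = kv * (k' * kw * kv) * kv⁻¹ := by group
      _ = 1 := by rw [hprod]; group
  -- the family
  let n : F4 → X := fun l => match l with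
    | F4.z => 1
    | F4.o => k'
    | F4.w => kw
    | F4.v => kv
  have T : ∀ l, Ty F.ι r (n l) l := by
    intro l
    cases l
    · exact Ty.one
    · exact Tk
    · exact Tw
    · exact Tv
  refine ⟨n, κ, ⟨⟨F.inj, rA, fun m y => F.comm _ (hr m) y, fun m y h => rinj m (notL F (hr m) h),
    ?_, ?_, ?_⟩, rfl, fun l s hs' => (T l).S s hs', ?_, fun m l => (T l).R m, ?_, ?_, ?_⟩⟩
  · intro x hx y
    obtain ⟨α, hα⟩ := act_of_commR F (x := x) (by
      intro s hs'
      obtain ⟨m, rfl⟩ := hs s hs'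
      exact hx m)
    exact ⟨α y, hα y⟩
  · intro j x hx hA
    obtain ⟨s, hs', a, ha, h⟩ := cent_RA F (x := x) (by
      intro s hs'
      obtain ⟨m, rfl⟩ := hs s hs'
      exact hx m) j hA
    obtain ⟨m, rfl⟩ := hs s hs'
    exact ⟨m, a, ha, h⟩
  · intro x f hf
    refine ⟨f 1, fun m => ?_⟩
    have h1 : ∀ m, (n (f 1) * x) * r m * (n (f 1) * x)⁻¹ =
        r m * F.ι (t 0 2 (f 1 * m + f m)) := by
      intro m
      have h2 := ((T (f 1)).z (f m)).eq
      calc (n (f 1) * x) * r m * (n (f 1) * x)⁻¹ = n (f 1) * (x * r m * x⁻¹) * (n (f 1))⁻¹ := by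
            group
        _ = n (f 1) * r m * (F.ι (t 0 2 (f m)) * (n (f 1))⁻¹) := by rw [hf]; group
        _ = (n (f 1) * r m * (n (f 1))⁻¹) * F.ι (t 0 2 (f m)) := by
            rw [← (((T (f 1)).z (f m)).inv_left).eq]; group
        _ = _ := by rw [(T (f 1)).conj, mul_assoc, zmul]
    have hne : r 1 ≠ 1 := fun h => by
      have := rinj 1 h
      exact absurd this (by decide)
    have hc : Commute (n (f 1) * x) (r 1) := by
      have h2 := h1 1
      rw [mul_one, add_self, z1, mul_one] at h2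
      change _ * _ = _ * _
      calc n (f 1) * x * r 1 = (n (f 1) * x * r 1 * (n (f 1) * x)⁻¹) * (n (f 1) * x) := by group
        _ = _ := by rw [h2]
    have h3 := F.normR _ (hr 1) hne _ hc _ (hr m)
    rw [h1] at h3
    have h4 : F.ι (t 0 2 (f 1 * m + f m)) ∈ F.R := by
      have := F.R.mul_mem (F.R.inv_mem (hr m)) h3
      rwa [inv_mul_cancel_left] at this
    exact (eq_of_add (z_notR F h4)).symm
  · intro l
    cases l
    · exact tau_one F.ι
    · exact hkv.symm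
    · exact tw
    · exact hkw.symm
  · intro l
    cases l
    · change (1 : X) * 1 = F.ι (t 0 2 (κ * 0))
      rw [mul_zero, z1, mul_one]
    · change k' * k' = F.ι (t 0 2 (κ * 1))
      rw [mul_one, hκ]
    · exact hκw
    · exact hκv
  · intro l l'
    cases l <;> cases l'
    · exact Commute.one_left _
    · exact Commute.one_left _
    · exact Commute.one_left _
    · exact Commute.one_left _
    · exact Commute.one_right _
    · exact Commute.refl _
    · exact c1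
    · exact c2.symm
    · exact Commute.one_right _
    · exact c1.symm
    · exact Commute.refl _
    · exact c3
    · exact Commute.one_right _
    · exact c2
    · exact c3.symm
    · exact Commute.refl _
  · intro l
    cases l
    · change (1 : X) * 1 * 1 = 1
      rw [mul_one, mul_one]
    · exact hprod
    · exact p1
    · exact p2

/-- **[T1]**: the coordinates. -/
theorem exists_tone_of_acts (F : FourN X) {g : X}
    (gz : ∀ c, g * F.ι (t 0 2 c) * g⁻¹ = F.ι (t 0 2 c))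
    (g1 : ∀ a, ∃ c, g * F.ι (t 0 1 a) * g⁻¹ = F.ι (t 0 1 a) * F.ι (t 0 2 c))
    (g2 : ∀ b, ∃ c, g * F.ι (t 1 2 b) * g⁻¹ = F.ι (t 1 2 b) * F.ι (t 0 2 c))
    (gr : ∀ r ∈ F.R, ∃ c, g * r * g⁻¹ = r * F.ι (t 0 2 c))
    (nr : ∃ r ∈ F.R, g * r * g⁻¹ ≠ r) :
    ∃ (r n : F4 → X) (κ : F4), TOne F.ι r n κ ∧ (∀ m, r m ∈ F.R) ∧ (∀ x ∈ F.R, ∃ m, x = r m) := by
  obtain ⟨k, hkS, hkr, hkn⟩ := step1 F gz g1 g2 gr nr
  obtain ⟨r, hr, hs, rA, hc, rinj⟩ := step2 F hkr hkn
  have hk : Ty F.ι r k 1 := by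
    refine ⟨hkS, fun m => ?_⟩
    have h1 : Commute k (F.ι (t 0 2 m)) := hkS _ ⟨0, 0, m, (e_02 m).symm⟩
    have h2 := hc m
    have hz : F.ι (t 0 2 m) * F.ι (t 0 2 m) = 1 := by
      rw [zmul', add_self, t_zero, map_one]
    rw [one_mul]
    calc r m * k = (r m * F.ι (t 0 2 m)) * F.ι (t 0 2 m) * k := by
          rw [mul_assoc (r m), hz, mul_one]
      _ = (k * r m * k⁻¹) * (F.ι (t 0 2 m) * k) := by rw [h2]; group
      _ = _ := by rw [← h1.eq]; group
  obtain ⟨n, κ, h⟩ := step3 F hr hs rA rinj hk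
  exact ⟨r, n, κ, h, hr, hs⟩

end Cfsg.Agent.StdLThreeFour.RFourT
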