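import Cfsg.Agent.StdLThreeFour.Red1
import Cfsg.Agent.StdLThreeFour.Facts3

/-!
# Standard `L3(4)`: a pair with inner involutions on both sides
-/

set_option autoImplicit false

namespace Cfsg.Agent.StdLThreeFour.Red2a

open Cfsg.Agent.StdLThreeFour.Base Cfsg.Agent.StdLThreeFour.Syl Cfsg.Agent.StdLThreeFour.Emb
open Cfsg.Agent.StdLThreeFour.Emb.SEmb Cfsg.Agent.StdLThreeFour.Red1
open scoped commutatorElement

variable {G : Type*} [Group G] {E E' : SEmb G}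

/-- an involution of the centraliser of `E'` acts on `E` as an inner automorphism -/
def Inn (E E' : SEmb G) : Prop :=
  ∃ u ∈ E'.K, u ≠ 1 ∧ u * u = 1 ∧ ∃ l, E.Act u (MulAut.conj l)

/-- the centraliser of `E'` has an involution in `E.M` -/
def Ev (E E' : SEmb G) : Prop := ∃ u ∈ E'.K, u ≠ 1 ∧ u * u = 1 ∧ u ∈ E.M

theorem Ev.symm [Finite G] (h : Ev E E') (hK : 2 ∣ Nat.card E.K) : Ev E' E := by
  obtain ⟨u, hu, hu1, hu2, huM⟩ := h
  have h1 : Subgroup.zpowers u ≤ E.M := (Subgroup.zpowers_le).mpr huM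
  obtain ⟨r, hr, hr1, hr2, hru⟩ := exists_invol_commute (Q := Subgroup.zpowers u) (H := E.K)
    (isPGroup_zpowers (n := 1) (by rw [pow_one, pow_two, hu2]))
    (fun q hq x hx => conj_mem_K (h1 hq) hx) hK
  exact ⟨r, hr, hr1, hr2, mem_M_of_commute hu1 hu2 hu (hru u (Subgroup.mem_zpowers u)).symm⟩

theorem mem_commutator_of_act {x : G} (hx : x ∈ ⁅E.M, E.M⁆) {β : MulAut L0} (h : E.Act x β) :
    β ∈ commutator (MulAut L0) := by
  have key : ∀ x ∈ ⁅E.M, E.M⁆, ∃ γ ∈ commutator (MulAut L0), E.Act x γ := by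
    intro x hx
    rw [Subgroup.commutator_def] at hx
    induction hx using Subgroup.closure_induction with
    | mem y hy =>
      obtain ⟨a, ⟨α, ha⟩, b, ⟨β, hb⟩, rfl⟩ := hy
      refine ⟨⁅α, β⁆, Subgroup.commutator_mem_commutator (Subgroup.mem_top _) (Subgroup.mem_top _), ?_⟩
      rw [commutatorElement_def, commutatorElement_def]
      exact ((ha.mul hb).mul ha.inv).mul hb.inv
    | one => exact ⟨1, Subgroup.one_mem _, Act.one⟩
    | mul a b _ _ ha hb =>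
      obtain ⟨α, h1, h2⟩ := ha
      obtain ⟨β, h3, h4⟩ := hb
      exact ⟨_, Subgroup.mul_mem _ h1 h3, h2.mul h4⟩
    | inv a _ ha =>
      obtain ⟨α, h1, h2⟩ := ha
      exact ⟨_, Subgroup.inv_mem _ h1, h2.inv⟩
  obtain ⟨γ, hγ, h'⟩ := key x hx
  rwa [h.unique h']

/-- the outer case -/
theorem outer_case (_h : Pr E E') {r : G} (hr : r ∈ E.K) (hr1 : r ≠ 1) (hr2 : r * r = 1)
    {α : MulAut L0} (hα : E'.Act r α) (hout : ¬ IsInn α) :
    Inn E' E ∨ ∃ g, Pr E (E.conj g) ∧ Inn E (E.conj g) ∧ Inn (E.conj g) E := by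
  have hα2 : α * α = 1 := (hα.mul hα).unique (by rw [hr2]; exact Act.one)
  obtain ⟨l, z, hz1, hz2, hαz, hlz, -, hconj, hC⟩ := Facts3.aut_outer_inv hα2 hout
  have hζM : E'.ι z ∈ ⁅E.M, E.M⁆ := by
    have h1 := hC (E.M.comap E'.ι) (fun y hy =>
      mem_M_of_commute hr1 hr2 hr ((hα.commute_iff y).mpr hy).symm)
    have h2 : E'.ι z ∈ (⁅E.M.comap E'.ι, E.M.comap E'.ι⁆).map E'.ι := ⟨z, h1, rfl⟩
    rw [Subgroup.map_commutator] at h2
    exact Subgroup.commutator_mono (Subgroup.map_comap_le _ _) (Subgroup.map_comap_le _ _) h2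
  have hζM' : E'.ι z ∈ E.M := by
    have : ⁅E.M, E.M⁆ ≤ E.M := Subgroup.commutator_le.mpr (fun a ha b hb => by
      rw [commutatorElement_def]
      exact E.M.mul_mem (E.M.mul_mem (E.M.mul_mem ha hb) (E.M.inv_mem ha)) (E.M.inv_mem hb))
    exact this hζM
  obtain ⟨β, hβ⟩ := hζM'
  have hζ2 : E'.ι z * E'.ι z = 1 := by rw [← map_mul, hz2, map_one]
  have hζ1 : E'.ι z ≠ 1 := fun h3 => hz1 (E'.inj (by rw [h3, map_one]))
  have hβ2 : β * β = 1 := (hβ.mul hβ).unique (by rw [hζ2]; exact Act.one)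
  obtain ⟨b, rfl⟩ := Facts3.aut_derived (n := 1) (mem_commutator_of_act hζM hβ)
    (by rw [pow_one, pow_two, hβ2])
  by_cases hζK : E'.ι z ∈ E.K
  · left
    exact ⟨_, hζK, hζ1, hζ2, z, act_ι z⟩
  right
  -- the conjugating element
  have hαl : α l = l * z := by
    have h1 : α * MulAut.conj l = MulAut.conj (l * z) * α := by
      have h2 : α * MulAut.conj z = MulAut.conj z * α := by
        ext y
        rw [MulAut.mul_apply, MulAut.mul_apply, MulAut.conj_apply, MulAut.conj_apply, map_mul, map_mul,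
          map_inv, hαz]
      calc α * MulAut.conj l = MulAut.conj l * (MulAut.conj l⁻¹ * α * MulAut.conj l) := by
            rw [map_inv]; group
        _ = MulAut.conj l * (α * MulAut.conj z) := by rw [hconj]
        _ = MulAut.conj (l * z) * α := by rw [h2, map_mul, mul_assoc]
    have h3 : MulAut.conj (α l) * α = MulAut.conj (l * z) * α := by
      rw [← h1]
      ext y
      rw [MulAut.mul_apply, MulAut.mul_apply, MulAut.conj_apply, MulAut.conj_apply, map_mul, map_mul,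
        map_inv]
    have h4 := mul_right_cancel h3
    have h5 : MulAut.conj ((α l)⁻¹ * (l * z)) = 1 := by
      rw [map_mul, map_inv, h4, inv_mul_cancel]
    have h6 := Facts1.conj_inj h5
    exact (inv_mul_eq_one.mp h6)
  have hrl : r * E'.ι l = E'.ι l * E'.ι z * r := by
    have := hα l
    rw [hαl, map_mul] at this
    exact mul_inv_eq_iff_eq_mul.mp this
  have hrz : Commute r (E'.ι z) := (hα.commute_iff z).mpr hαz
  have hlz' : Commute (E'.ι l) (E'.ι z) := by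
    show E'.ι l * E'.ι z = E'.ι z * E'.ι l
    rw [← map_mul, ← map_mul, hlz]
  -- `λ⁻¹ r λ = r ζ` and `λ r λ⁻¹ = r ζ`
  have e1 : (E'.ι l)⁻¹ * r * E'.ι l = r * E'.ι z := by
    rw [mul_assoc, hrl, hrz.eq]; group
  have e2 : E'.ι l * r * (E'.ι l)⁻¹ = r * E'.ι z := by
    have h1 : E'.ι l * (r * E'.ι z) * (E'.ι l)⁻¹ = r := by
      rw [← e1]; group
    have h2 : E'.ι l * (r * E'.ι z) * (E'.ι l)⁻¹ = E'.ι l * r * (E'.ι l)⁻¹ * E'.ι z := by
      have h3 : E'.ι z * (E'.ι l)⁻¹ = (E'.ι l)⁻¹ * E'.ι z := hlz'.inv_left.eq.symm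
      calc E'.ι l * (r * E'.ι z) * (E'.ι l)⁻¹ = E'.ι l * r * (E'.ι z * (E'.ι l)⁻¹) := by group
        _ = _ := by rw [h3]; group
    rw [h2] at h1
    calc E'.ι l * r * (E'.ι l)⁻¹ = (E'.ι l * r * (E'.ι l)⁻¹ * E'.ι z) * E'.ι z := by
          rw [mul_assoc _ (E'.ι z), hζ2, mul_one]
      _ = r * E'.ι z := by rw [h1]
  have hact : E.Act (r * E'.ι z) (MulAut.conj b) := by
    have := (act_one_iff.mpr hr).mul hβ
    rwa [one_mul] at this
  have hu1 : r * E'.ι z ≠ 1 := by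
    intro h3
    apply hζK
    have : E'.ι z = r⁻¹ := (inv_eq_of_mul_eq_one_right h3).symm
    rw [this]
    exact E.K.inv_mem hr
  have hu2 : (r * E'.ι z) * (r * E'.ι z) = 1 := by
    calc (r * E'.ι z) * (r * E'.ι z) = r * (E'.ι z * r) * E'.ι z := by group
      _ = (r * r) * (E'.ι z * E'.ι z) := by rw [← hrz.eq]; group
      _ = 1 := by rw [hr2, hζ2, one_mul]
  have huK : r * E'.ι z ∈ (E.conj (E'.ι l)⁻¹).K := by
    rw [mem_conj_K, inv_inv]
    have : E'.ι l * (r * E'.ι z) * (E'.ι l)⁻¹ = r := by rw [← e1]; group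
    rwa [this]
  have hnot : (E'.ι l)⁻¹ ∉ E.M := by
    intro h3
    rw [conj_K h3] at huK
    apply hζK
    have := E.K.mul_mem (E.K.inv_mem hr) huK
    rwa [inv_mul_cancel_left] at this
  refine ⟨(E'.ι l)⁻¹, Pr.of_not_mem hnot, ⟨_, huK, hu1, hu2, b, hact⟩, ⟨r, hr, hr1, hr2, b, ?_⟩⟩
  rw [act_conj_iff, inv_inv, e2]
  exact hact

/-- **A pair with inner involutions on both sides.** -/
theorem exists_good [Finite G] (E : SEmb G) (hK : 2 ∣ Nat.card E.K) (hSC : ¬ SC E) :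
    ∃ E1 E2 : SEmb G, (∃ a, E1 = E.conj a) ∧ Pr E1 E2 ∧ Inn E1 E2 ∧ Inn E2 E1 := by
  unfold SC at hSC
  push Not at hSC
  obtain ⟨g, u, hu1, hu2, hu, huM, hg⟩ := hSC
  have hpr : Pr E (E.conj g) := Pr.of_not_mem hg
  have hev : Ev E (E.conj g) := ⟨u, hu, hu1, hu2, huM⟩
  obtain ⟨r, hr, hr1, hr2, hrM⟩ := hev.symm hK
  have h1 : Inn (E.conj g) E ∨ ∃ g, Pr E (E.conj g) ∧ Inn E (E.conj g) ∧ Inn (E.conj g) E := by
    obtain ⟨α, hα⟩ := hrM
    by_cases hi : IsInn α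
    · obtain ⟨l, rfl⟩ := hi
      exact Or.inl ⟨r, hr, hr1, hr2, l, hα⟩
    · exact outer_case hpr hr hr1 hr2 hα hi
  rcases h1 with h1 | ⟨g', h2, h3, h4⟩
  · have h2 : Inn E (E.conj g) ∨ ∃ g', Pr (E.conj g) ((E.conj g).conj g') ∧
        Inn (E.conj g) ((E.conj g).conj g') ∧ Inn ((E.conj g).conj g') (E.conj g) := by
      obtain ⟨α, hα⟩ := huM
      by_cases hi : IsInn α
      · obtain ⟨l, rfl⟩ := hi
        exact Or.inl ⟨u, hu, hu1, hu2, l, hα⟩
      · exact outer_case hpr.symm hu hu1 hu2 hα hi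
    rcases h2 with h2 | ⟨g', h3, h4, h5⟩
    · exact ⟨E, E.conj g, ⟨1, conj_one.symm⟩, hpr, h2, h1⟩
    · exact ⟨E.conj g, _, ⟨g, rfl⟩, h3, h4, h5⟩
  · exact ⟨E, _, ⟨1, conj_one.symm⟩, h2, h3, h4⟩

end Cfsg.Agent.StdLThreeFour.Red2a
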