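import Cfsg.Agent.StdLThreeFour.Red2a

/-!
# Standard `L3(4)`: the configuration of a pair with a common Sylow 2-subgroup
-/

set_option autoImplicit false

namespace Cfsg.Agent.StdLThreeFour.Red2b

open Cfsg.Agent.StdLThreeFour.Base Cfsg.Agent.StdLThreeFour.Syl Cfsg.Agent.StdLThreeFour.Emb
open Cfsg.Agent.StdLThreeFour.Emb.SEmb Cfsg.Agent.StdLThreeFour.Red1 Cfsg.Agent.StdLThreeFour.Red2a

theorem isPGroup_S0 : IsPGroup 2 S0 := IsPGroup.of_card (n := 6) (by rw [Facts1.card_S0]; norm_num)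

theorem isSyl_S0 : IsSyl S0 (⊤ : Subgroup L0) := by
  have h2 : ¬ 2 ∣ S0.index := by rw [Facts1.index_S0]; decide
  refine ⟨le_top, isPGroup_S0, fun Q _ hQ hle => ?_⟩
  exact (isPGroup_S0.toSylow h2).is_maximal' hQ hle

variable {G : Type*} [Group G]

/-- The configuration: two conjugate components, `P` a Sylow 2-subgroup of the intersection of the
normalisers which contains Sylow 2-subgroups of both components, in standard coordinates. -/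
structure Cf (E1 E2 : SEmb G) (P : Subgroup G) : Prop where
  pr : Pr E1 E2
  syl : IsSyl P (E1.M ⊓ E2.M)
  s1 : P ⊓ E1.L = S0.map E1.ι
  s2 : P ⊓ E2.L = S0.map E2.ι
  ev1 : 2 ∣ Nat.card (E1.K ⊓ E2.M : Subgroup G)
  ev2 : 2 ∣ Nat.card (E2.K ⊓ E1.M : Subgroup G)

theorem Cf.symm {E1 E2 : SEmb G} {P : Subgroup G} (h : Cf E1 E2 P) : Cf E2 E1 P :=
  ⟨h.pr.symm, by rw [inf_comm]; exact h.syl, h.s2, h.s1, h.ev2, h.ev1⟩

theorem conj_ι_ι {E : SEmb G} (m y : L0) : (E.conj (E.ι m)).ι y = E.ι (m * y * m⁻¹) := by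
  rw [conj_ι, map_mul, map_mul, map_inv]

theorem exists_std_sylow [Finite G] {E1 E2 : SEmb G} {P : Subgroup G} (hpr : Pr E1 E2)
    (hP : IsSyl P (E1.M ⊓ E2.M)) (h : Inn E1 E2) :
    ∃ m : L0, P ⊓ E1.L = S0.map (E1.conj (E1.ι m)).ι := by
  obtain ⟨u, hu, hu1, hu2, l, hl⟩ := h
  have hl1 : l ≠ 1 := by
    rintro rfl
    rw [map_one] at hl
    exact hpr.sep u hu1 hu2 (act_one_iff.mp hl) hu
  have hl2 : l * l = 1 := by
    apply Facts1.conj_inj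
    rw [map_mul]
    exact (hl.mul hl).unique (by rw [hu2]; exact Act.one)
  obtain ⟨m, hm⟩ := Facts1.inv_conj hl1 hl2
  -- the image of the centraliser of `l`
  set C : Subgroup G := (S0.map (MulAut.conj m⁻¹).toMonoidHom).map E1.ι with hC
  have hmemC : ∀ x, x ∈ C ↔ ∃ s ∈ S0, E1.ι (m⁻¹ * s * m) = x := by
    intro x
    rw [hC, Subgroup.mem_map]
    constructor
    · rintro ⟨_, ⟨s, hs, rfl⟩, rfl⟩
      exact ⟨s, hs, by simp⟩
    · rintro ⟨s, hs, rfl⟩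
      exact ⟨_, ⟨s, hs, rfl⟩, by simp⟩
  have hCle : C ≤ E1.M ⊓ E2.M ⊓ E1.L := by
    intro x hx
    obtain ⟨s, hs, rfl⟩ := (hmemC x).mp hx
    refine ⟨⟨ι_mem_M _, ?_⟩, ι_mem_L _⟩
    apply mem_M_of_commute hu1 hu2 hu
    symm
    rw [hl.commute_iff, MulAut.conj_apply]
    have h1 : l = m⁻¹ * Cfsg.Agent.ONType.Psl.t 0 2 1 * m := by rw [← hm]; group
    have h2 : s * Cfsg.Agent.ONType.Psl.t 0 2 1 = Cfsg.Agent.ONType.Psl.t 0 2 1 * s :=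
      Facts1.Z0_comm ⟨1, (e_02 1).symm⟩ hs
    rw [h1]
    calc m⁻¹ * Cfsg.Agent.ONType.Psl.t 0 2 1 * m * (m⁻¹ * s * m) *
          (m⁻¹ * Cfsg.Agent.ONType.Psl.t 0 2 1 * m)⁻¹
        = m⁻¹ * (Cfsg.Agent.ONType.Psl.t 0 2 1 * s) * (Cfsg.Agent.ONType.Psl.t 0 2 1)⁻¹ * m := by
          group
      _ = m⁻¹ * s * m := by rw [← h2]; group
  have hCcard : Nat.card C = 64 := by
    rw [hC, ← Facts1.card_S0]
    rw [← Nat.card_congr ((S0.map (MulAut.conj m⁻¹).toMonoidHom).equivMapOfInjective E1.ι E1.inj).toEquiv]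
    exact card_conj S0 m⁻¹
  have hC2 : IsPGroup 2 C := IsPGroup.of_card (n := 6) (by rw [hCcard]; norm_num)
  have hP1 : IsSyl (P ⊓ E1.L) (E1.M ⊓ E2.M ⊓ E1.L) := by
    have h1 := hP.inf_normal (N := E1.M ⊓ E2.M ⊓ E1.L) inf_le_left (by
      rintro d ⟨hd1, hd2⟩ n ⟨⟨hn1, hn2⟩, hn3⟩
      exact ⟨⟨E1.M.mul_mem (E1.M.mul_mem hd1 hn1) (E1.M.inv_mem hd1),
        E2.M.mul_mem (E2.M.mul_mem hd2 hn2) (E2.M.inv_mem hd2)⟩, conj_mem_L hd1 hn3⟩)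
    have e : P ⊓ (E1.M ⊓ E2.M ⊓ E1.L) = P ⊓ E1.L := by
      rw [← inf_assoc, inf_eq_left.mpr hP.le]
    rwa [e] at h1
  obtain ⟨d, hd, hdC⟩ := hP1.exists_conj_mem hCle hC2
  have hcard : 64 ≤ Nat.card (P ⊓ E1.L : Subgroup G) := by
    have h1 : C.map (MulAut.conj d).toMonoidHom ≤ P ⊓ E1.L := by
      rintro _ ⟨x, hx, rfl⟩
      simpa using hdC x hx
    have h2 := Subgroup.card_le_of_le h1
    rwa [card_conj, hCcard] at h2
  -- pull back to `L0`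
  set Q : Subgroup L0 := (P ⊓ E1.L).comap E1.ι with hQ
  have hmap : Q.map E1.ι = P ⊓ E1.L := by
    rw [hQ, Subgroup.map_comap_eq]
    exact inf_eq_right.mpr inf_le_right
  have hQcard : Nat.card Q = Nat.card (P ⊓ E1.L : Subgroup G) := by
    rw [← hmap]
    exact Nat.card_congr (Q.equivMapOfInjective E1.ι E1.inj).toEquiv
  have hQ2 : IsPGroup 2 Q := by
    apply isPGroup_of_two
    intro x hx
    obtain ⟨n, hn⟩ := two_of_isPGroup hP.two (show E1.ι x ∈ P from hx.1)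
    exact ⟨n, E1.inj (by rw [map_pow, hn, map_one])⟩
  have hLfin : Finite L0 := Finite.of_injective E1.ι E1.inj
  obtain ⟨c, -, hc⟩ := isSyl_S0.exists_conj_mem (Q := Q) le_top hQ2
  have h1 : Q.map (MulAut.conj c).toMonoidHom ≤ S0 := by
    rintro _ ⟨x, hx, rfl⟩
    simpa using hc x hx
  have h2 : Q.map (MulAut.conj c).toMonoidHom = S0 := by
    apply Subgroup.eq_of_le_of_card_ge h1
    rw [card_conj, hQcard, Facts1.card_S0]
    exact hcard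
  refine ⟨c⁻¹, ?_⟩
  rw [← hmap]
  ext x
  rw [Subgroup.mem_map, Subgroup.mem_map]
  constructor
  · rintro ⟨y, hy, rfl⟩
    refine ⟨c * y * c⁻¹, hc y hy, ?_⟩
    rw [conj_ι_ι]
    congr 1
    group
  · rintro ⟨s, hs, rfl⟩
    rw [← h2] at hs
    obtain ⟨y, hy, rfl⟩ := hs
    refine ⟨y, hy, ?_⟩
    rw [conj_ι_ι]
    congr 1
    simp [mul_assoc]

/-- **Existence of the configuration.** -/
theorem exists_cf [Finite G] (E : SEmb G) (hK : 2 ∣ Nat.card E.K) (hSC : ¬ SC E) :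
    ∃ (E1 E2 : SEmb G) (P : Subgroup G), (∃ a, E1 = E.conj a) ∧ Cf E1 E2 P := by
  obtain ⟨E1, E2, ⟨a, ha⟩, hpr, h12, h21⟩ := exists_good E hK hSC
  obtain ⟨P, hP, -⟩ := exists_isSyl (Q := (⊥ : Subgroup G)) (H := E1.M ⊓ E2.M) bot_le IsPGroup.of_bot
  obtain ⟨m1, hm1⟩ := exists_std_sylow hpr hP h12
  obtain ⟨m2, hm2⟩ := exists_std_sylow hpr.symm (by rw [inf_comm]; exact hP) h21
  have ev1 : 2 ∣ Nat.card (E1.K ⊓ E2.M : Subgroup G) := by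
    obtain ⟨r, hr, hr1, hr2, l, hl⟩ := h21
    exact two_dvd_card_of_invol (H := E1.K ⊓ E2.M) ⟨hr, hl.mem_M⟩ hr1 hr2
  have ev2 : 2 ∣ Nat.card (E2.K ⊓ E1.M : Subgroup G) := by
    obtain ⟨r, hr, hr1, hr2, l, hl⟩ := h12
    exact two_dvd_card_of_invol (H := E2.K ⊓ E1.M) ⟨hr, hl.mem_M⟩ hr1 hr2
  refine ⟨E1.conj (E1.ι m1), E2.conj (E2.ι m2), P, ⟨E1.ι m1 * a, by rw [ha, conj_conj]⟩, ?_⟩
  refine ⟨hpr.reparam (ι_mem_M _) (ι_mem_M _), ?_, ?_, ?_, ?_, ?_⟩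
  · rw [conj_M (ι_mem_M _), conj_M (ι_mem_M _)]; exact hP
  · rw [conj_L (ι_mem_M _)]; exact hm1
  · rw [conj_L (ι_mem_M _)]; exact hm2
  · rw [conj_K (ι_mem_M _), conj_M (ι_mem_M _)]; exact ev1
  · rw [conj_K (ι_mem_M _), conj_M (ι_mem_M _)]; exact ev2

end Cfsg.Agent.StdLThreeFour.Red2b
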