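import Cfsg.Agent.StdLThreeFour.Red2b

/-!
# Standard `L3(4)`: maximal elementary abelian subgroups of the common Sylow 2-subgroup
-/

set_option autoImplicit false

namespace Cfsg.Agent.StdLThreeFour.Red2c

open Cfsg.Agent.StdLThreeFour.Base Cfsg.Agent.StdLThreeFour.Syl Cfsg.Agent.StdLThreeFour.Emb
open Cfsg.Agent.StdLThreeFour.Emb.SEmb Cfsg.Agent.StdLThreeFour.Red1 Cfsg.Agent.StdLThreeFour.Red2a
open Cfsg.Agent.StdLThreeFour.Red2b

/-- all squares trivial -/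
def El {H : Type*} [Group H] (X : Subgroup H) : Prop := ∀ x ∈ X, x * x = 1

theorem El.comm {H : Type*} [Group H] {X : Subgroup H} (h : El X) {x y : H} (hx : x ∈ X) (hy : y ∈ X) :
    x * y = y * x := by
  have h1 := inv_eq_of_mul_eq_one_left (h _ (X.mul_mem hx hy))
  have h2 := inv_eq_of_mul_eq_one_left (h _ hx)
  have h3 := inv_eq_of_mul_eq_one_left (h _ hy)
  rw [mul_inv_rev, h2, h3] at h1
  exact h1.symm

theorem El.isPGroup {H : Type*} [Group H] {X : Subgroup H} (h : El X) : IsPGroup 2 X :=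
  isPGroup_of_two fun x hx => ⟨1, by rw [pow_one, pow_two, h x hx]⟩

variable {G : Type*} [Group G] {E E1 E2 : SEmb G} {P : Subgroup G}

theorem mem_prod {R : Subgroup G} (hR : R ≤ E.K) {B : Subgroup L0} {x : G} :
    x ∈ R ⊔ B.map E.ι ↔ ∃ r ∈ R, ∃ b ∈ B, r * E.ι b = x := by
  constructor
  · intro hx
    let Q : Subgroup G :=
      { carrier := {x | ∃ r ∈ R, ∃ b ∈ B, r * E.ι b = x}
        mul_mem' := by
          rintro _ _ ⟨r, hr, b, hb, rfl⟩ ⟨r', hr', b', hb', rfl⟩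
          refine ⟨r * r', R.mul_mem hr hr', b * b', B.mul_mem hb hb', ?_⟩
          rw [map_mul]
          have := (commute_ι (hR hr') b).eq
          calc r * r' * (E.ι b * E.ι b') = r * (r' * E.ι b) * E.ι b' := by group
            _ = _ := by rw [this]; group
        one_mem' := ⟨1, R.one_mem, 1, B.one_mem, by simp⟩
        inv_mem' := by
          rintro _ ⟨r, hr, b, hb, rfl⟩
          refine ⟨r⁻¹, R.inv_mem hr, b⁻¹, B.inv_mem hb, ?_⟩
          rw [map_inv]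
          have := (commute_ι (R.inv_mem hr |> fun h => hR h) b⁻¹).eq
          rw [map_inv] at this
          rw [this]; group }
    have h1 : R ⊔ B.map E.ι ≤ Q := by
      refine sup_le ?_ ?_
      · intro r hr; exact ⟨r, hr, 1, B.one_mem, by simp⟩
      · rintro _ ⟨b, hb, rfl⟩; exact ⟨1, R.one_mem, b, hb, by simp⟩
    exact h1 hx
  · rintro ⟨r, hr, b, hb, rfl⟩
    exact Subgroup.mul_mem _ (Subgroup.mem_sup_left hr) (Subgroup.mem_sup_right ⟨b, hb, rfl⟩)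

theorem decomp_unique {r r' : G} (hr : r ∈ E.K) (hr' : r' ∈ E.K) {b b' : L0}
    (h : r * E.ι b = r' * E.ι b') : r = r' ∧ b = b' := by
  have h1 : r'⁻¹ * r = E.ι (b' * b⁻¹) := by
    rw [map_mul, map_inv, eq_mul_inv_iff_mul_eq, mul_assoc, h, inv_mul_cancel_left]
  have h2 : r'⁻¹ * r ∈ E.K ⊓ E.L := ⟨E.K.mul_mem (E.K.inv_mem hr') hr, _, h1.symm⟩
  rw [K_inf_L, Subgroup.mem_bot] at h2
  have h3 : r = r' := (inv_mul_eq_one.mp h2).symm
  refine ⟨h3, ?_⟩
  rw [h3] at h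
  exact E.inj (mul_left_cancel h)

theorem card_prod {R : Subgroup G} (hR : R ≤ E.K) {B : Subgroup L0} :
    Nat.card (R ⊔ B.map E.ι : Subgroup G) = Nat.card R * Nat.card B := by
  rw [← Nat.card_prod]
  symm
  refine Nat.card_congr (Equiv.ofBijective
    (fun p : R × B => (⟨p.1 * E.ι p.2, (mem_prod hR).mpr ⟨p.1, p.1.2, p.2, p.2.2, rfl⟩⟩ :
      (R ⊔ B.map E.ι : Subgroup G))) ⟨?_, ?_⟩)
  · rintro ⟨r, b⟩ ⟨r', b'⟩ h
    obtain ⟨h1, h2⟩ := decomp_unique (hR r.2) (hR r'.2) (congrArg Subtype.val h)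
    exact Prod.ext (Subtype.ext h1) (Subtype.ext h2)
  · rintro ⟨x, hx⟩
    obtain ⟨r, hr, b, hb, rfl⟩ := (mem_prod hR).mp hx
    exact ⟨⟨⟨r, hr⟩, ⟨b, hb⟩⟩, rfl⟩

theorem el_prod {R : Subgroup G} (hR : R ≤ E.K) {B : Subgroup L0} (h1 : El R) (h2 : El B) :
    El (R ⊔ B.map E.ι) := by
  intro x hx
  obtain ⟨r, hr, b, hb, rfl⟩ := (mem_prod hR).mp hx
  have := (commute_ι (hR hr) b).eq
  calc r * E.ι b * (r * E.ι b) = r * (E.ι b * r) * E.ι b := by group
    _ = (r * r) * (E.ι b * E.ι b) := by rw [← this]; group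
    _ = 1 := by rw [h1 r hr, ← map_mul, h2 b hb, map_one, one_mul]

/-- inner elements of `P` -/
theorem mem_of_inner (h : Cf E1 E2 P) {p : G} (hp : p ∈ P) {l : L0} (hl : E1.Act p (MulAut.conj l)) :
    l ∈ S0 ∧ p * (E1.ι l)⁻¹ ∈ P ⊓ E1.K := by
  have hι : ∀ s, s ∈ S0 ↔ E1.ι s ∈ P := by
    intro s
    constructor
    · intro hs
      have : E1.ι s ∈ P ⊓ E1.L := by rw [h.s1]; exact ⟨s, hs, rfl⟩
      exact this.1
    · intro hs
      have : E1.ι s ∈ P ⊓ E1.L := ⟨hs, ι_mem_L s⟩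
      rw [h.s1] at this
      obtain ⟨s', hs', he⟩ := this
      rwa [← E1.inj he]
  obtain ⟨n, hn⟩ := two_of_isPGroup h.syl.two hp
  have h1 : l ∈ S0 := by
    apply Facts1.mem_S0_of_norm (n := n)
    · intro s
      rw [hι, hι, ← MulAut.conj_apply, ← hl s]
      constructor
      · intro hs; exact P.mul_mem (P.mul_mem hp hs) (P.inv_mem hp)
      · intro hs
        have := P.mul_mem (P.mul_mem (P.inv_mem hp) hs) hp
        simpa [mul_assoc] using this
    · apply Facts1.conj_inj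
      rw [map_pow]
      exact (hl.pow (2 ^ n)).unique (by rw [hn]; exact Act.one)
  refine ⟨h1, P.mul_mem hp (P.inv_mem ((hι l).mp h1)), ?_⟩
  show p * (E1.ι l)⁻¹ ∈ E1.K
  rw [← act_one_iff]
  have := hl.mul (act_ι (E := E1) l).inv
  rwa [mul_inv_cancel] at this

/-- the image of a subgroup of `M` in the automorphism group -/
theorem exists_image [Finite G] {F : Subgroup G} (hF : F ≤ E.M) :
    ∃ Q : Subgroup (MulAut L0), (∀ α, α ∈ Q ↔ ∃ x ∈ F, E.Act x α) ∧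
      Nat.card F = Nat.card (F ⊓ E.K : Subgroup G) * Nat.card Q := by
  classical
  let f : F →* MulAut L0 :=
    { toFun := fun x => (hF x.2).choose
      map_one' := (hF (1 : F).2).choose_spec.unique Act.one
      map_mul' := fun x y => (hF (x * y).2).choose_spec.unique
        ((hF x.2).choose_spec.mul (hF y.2).choose_spec) }
  have hf : ∀ x : F, E.Act x (f x) := fun x => (hF x.2).choose_spec
  refine ⟨f.range, fun α => ⟨?_, ?_⟩, ?_⟩
  · rintro ⟨x, rfl⟩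
    exact ⟨x, x.2, hf x⟩
  · rintro ⟨x, hx, h⟩
    exact ⟨⟨x, hx⟩, (hf ⟨x, hx⟩).unique h⟩
  · rw [← Subgroup.card_mul_index f.ker, Subgroup.index_ker]
    congr 1
    refine Nat.card_congr ⟨fun x => ⟨x.1.1, x.1.2, ?_⟩, fun x => ⟨⟨x.1, x.2.1⟩, ?_⟩, fun x => rfl,
      fun x => rfl⟩
    · show (x.1.1 : G) ∈ E.K
      rw [← act_one_iff]
      have := hf x.1
      rwa [MonoidHom.mem_ker.mp x.2] at this
    · rw [MonoidHom.mem_ker]
      exact (hf ⟨x.1, x.2.1⟩).unique (act_one_iff.mpr x.2.2)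

/-- maximal elementary abelian subgroups -/
theorem exists_max [Finite G] (R : Subgroup G) :
    ∃ X ≤ R, El X ∧ ∀ Y ≤ R, El Y → Nat.card Y ≤ Nat.card X := by
  obtain ⟨X, ⟨hX1, hX2⟩, hX3⟩ := Set.exists_max_image {X : Subgroup G | X ≤ R ∧ El X}
    (fun X => Nat.card X) (Set.toFinite _) ⟨⊥, bot_le, fun x hx => by
      rw [Subgroup.mem_bot] at hx; rw [hx, one_mul]⟩
  exact ⟨X, hX1, hX2, fun Y h1 h2 => hX3 Y ⟨h1, h2⟩⟩

/-- A common elementary abelian subgroup with standard decompositions on both sides. -/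
structure Mx (E1 E2 : SEmb G) (P F : Subgroup G) (j i : Bool) : Prop where
  le : F ≤ P
  el : El F
  a1 : (A j).map E1.ι ≤ F
  a2 : (A i).map E2.ι ≤ F
  d1 : ∀ x ∈ F, ∃ r ∈ E1.K ⊓ F, ∃ a ∈ A j, r * E1.ι a = x
  d2 : ∀ x ∈ F, ∃ r ∈ E2.K ⊓ F, ∃ a ∈ A i, r * E2.ι a = x

theorem Mx.symm {F : Subgroup G} {i j : Bool} (h : Mx E1 E2 P F j i) : Mx E2 E1 P F i j :=
  ⟨h.le, h.el, h.a2, h.a1, h.d2, h.d1⟩

theorem el_A (j : Bool) : El (A j) := fun _ h => Facts1.sq_of_mem_A h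

theorem map_A_le (h : Cf E1 E2 P) (j : Bool) : (A j).map E1.ι ≤ P := by
  have h1 : (A j).map E1.ι ≤ S0.map E1.ι := Subgroup.map_mono (Facts1.A_le j)
  rw [← h.s1] at h1
  exact h1.trans inf_le_left

theorem P_le1 (h : Cf E1 E2 P) : P ≤ E1.M := h.syl.le.trans inf_le_left

theorem El.mono {H : Type*} [Group H] {X Y : Subgroup H} (h : El Y) (hXY : X ≤ Y) : El X :=
  fun x hx => h x (hXY hx)

/-- order comparison -/
theorem card_le [Finite G] (h : Cf E1 E2 P) {X : Subgroup G} (hX : X ≤ P ⊓ E2.K) (hel : El X) (i : Bool) :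
    ∃ Q : Subgroup (MulAut L0), (∀ α, α ∈ Q ↔ ∃ x ∈ X ⊔ (A i).map E2.ι, E1.Act x α) ∧
      Nat.card X * 16 = Nat.card ((X ⊔ (A i).map E2.ι) ⊓ E1.K : Subgroup G) * Nat.card Q ∧
      (∀ α ∈ Q, α * α = 1) ∧ Nat.card Q ≤ 16 := by
  have hF : X ⊔ (A i).map E2.ι ≤ P := sup_le (hX.trans inf_le_left) (map_A_le h.symm i)
  have hFel : El (X ⊔ (A i).map E2.ι) := el_prod (hX.trans inf_le_right) hel (el_A i)
  obtain ⟨Q, hQ, hc⟩ := exists_image (E := E1) (hF.trans (P_le1 h))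
  have hQ2 : ∀ α ∈ Q, α * α = 1 := by
    intro α hα
    obtain ⟨x, hx, hxα⟩ := (hQ α).mp hα
    exact (hxα.mul hxα).unique (by rw [hFel x hx]; exact Act.one)
  refine ⟨Q, hQ, ?_, hQ2, Facts3.aut_elem_card hQ2⟩
  rw [← hc, card_prod (hX.trans inf_le_right), Facts1.card_A]

theorem card_le' [Finite G] (h : Cf E1 E2 P) {X Rm : Subgroup G} (hX : X ≤ P ⊓ E2.K) (hel : El X)
    (hRm : ∀ Y ≤ P ⊓ E1.K, El Y → Nat.card Y ≤ Nat.card Rm) : Nat.card X ≤ Nat.card Rm := by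
  obtain ⟨Q, -, h1, -, h3⟩ := card_le h hX hel false
  have hF : X ⊔ (A false).map E2.ι ≤ P := sup_le (hX.trans inf_le_left) (map_A_le h.symm false)
  have hFel : El (X ⊔ (A false).map E2.ι) := el_prod (hX.trans inf_le_right) hel (el_A false)
  have h4 := hRm _ (inf_le_inf_right E1.K hF) (hFel.mono inf_le_left)
  have h5 := Nat.mul_le_mul h4 h3
  rw [← h1] at h5
  omega

/-- **The common elementary abelian subgroups.** -/
theorem exists_mx [Finite G] (h : Cf E1 E2 P) (i : Bool) : ∃ F j, Mx E1 E2 P F j i := by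
  obtain ⟨Rm, hRm, hRel, hRmax⟩ := exists_max (P ⊓ E1.K)
  obtain ⟨Ym, hYm, hYel, hYmax⟩ := exists_max (P ⊓ E2.K)
  have hRY : Nat.card Rm ≤ Nat.card Ym := card_le' h.symm hRm hRel hYmax
  obtain ⟨Q, hQ, hc, hQ2, hQ16⟩ := card_le h hYm hYel i
  set F : Subgroup G := Ym ⊔ (A i).map E2.ι with hFdef
  have hF : F ≤ P := sup_le (hYm.trans inf_le_left) (map_A_le h.symm i)
  have hFel : El F := el_prod (hYm.trans inf_le_right) hYel (el_A i)
  have h4 := hRmax _ (inf_le_inf_right E1.K hF) (hFel.mono inf_le_left)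
  have hpos : 0 < Nat.card Rm := Nat.card_pos
  have hQc : Nat.card Q = 16 := by
    by_contra hne
    have h5 : Nat.card Q ≤ 15 := by omega
    have h6 := Nat.mul_le_mul h4 h5
    omega
  have hFK : Nat.card (F ⊓ E1.K : Subgroup G) = Nat.card Ym := by
    rw [hQc] at hc; omega
  have hle : Nat.card Rm ≤ Nat.card (F ⊓ E1.K : Subgroup G) := by rw [hFK]; exact hRY
  have hinn := Facts3.aut_elem_inner hQ2 (by rw [hQc])
  -- the subgroup `V` of `S0`
  set V : Subgroup L0 := Q.comap MulAut.conj with hV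
  have hconj : Function.Injective (MulAut.conj : L0 → MulAut L0) := by
    intro a b hab
    have : MulAut.conj (a⁻¹ * b) = 1 := by rw [map_mul, map_inv, hab, inv_mul_cancel]
    exact inv_mul_eq_one.mp (Facts1.conj_inj this)
  have hVQ : V.map MulAut.conj = Q := by
    rw [hV, Subgroup.map_comap_eq]
    refine inf_eq_right.mpr fun α hα => ?_
    obtain ⟨l, rfl⟩ := hinn α hα
    exact ⟨l, rfl⟩
  have hVc : Nat.card V = 16 := by
    rw [← hQc, ← hVQ]
    exact Nat.card_congr (V.equivMapOfInjective _ hconj).toEquiv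
  have hVS : V ≤ S0 := by
    intro s hs
    obtain ⟨x, hx, hxs⟩ := (hQ _).mp hs
    exact (mem_of_inner h (hF hx) hxs).1
  have hV2 : ∀ v ∈ V, v * v = 1 := by
    intro v hv
    apply Facts1.conj_inj
    rw [map_mul]
    exact hQ2 _ hv
  obtain ⟨j, hj⟩ := Facts1.eq_A_of_card hVS hV2 (by rw [hVc])
  -- projections to `K1`
  let R2 : Subgroup G :=
    { carrier := {r | r ∈ P ⊓ E1.K ∧ ∃ a ∈ A j, r * E1.ι a ∈ F}
      mul_mem' := by
        rintro r r' ⟨h1, a, ha, h2⟩ ⟨h1', a', ha', h2'⟩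
        refine ⟨Subgroup.mul_mem _ h1 h1', a * a', Subgroup.mul_mem _ ha ha', ?_⟩
        have e : r * r' * E1.ι (a * a') = r * E1.ι a * (r' * E1.ι a') := by
          have := (commute_ι h1'.2 a).eq
          rw [map_mul]
          calc r * r' * (E1.ι a * E1.ι a') = r * (r' * E1.ι a) * E1.ι a' := by group
            _ = _ := by rw [this]; group
        rw [e]
        exact F.mul_mem h2 h2'
      one_mem' := ⟨Subgroup.one_mem _, 1, Subgroup.one_mem _, by simp⟩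
      inv_mem' := by
        rintro r ⟨h1, a, ha, h2⟩
        refine ⟨Subgroup.inv_mem _ h1, a⁻¹, Subgroup.inv_mem _ ha, ?_⟩
        have e : r⁻¹ * E1.ι a⁻¹ = (r * E1.ι a)⁻¹ := by
          have := (commute_ι h1.2 a).eq
          rw [map_inv, this, mul_inv_rev]
        rw [e]
        exact F.inv_mem h2 }
  have hR2P : R2 ≤ P ⊓ E1.K := fun r hr => hr.1
  have hR2el : El R2 := by
    rintro r ⟨h1, a, ha, h2⟩
    have h3 := hFel _ h2
    have h5 := (commute_ι h1.2 a).eq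
    have h6 : E1.ι a * E1.ι a = 1 := by rw [← map_mul, Facts1.sq_of_mem_A ha, map_one]
    calc r * r = r * r * (E1.ι a * E1.ι a) := by rw [h6, mul_one]
      _ = r * (r * E1.ι a) * E1.ι a := by group
      _ = r * (E1.ι a * r) * E1.ι a := by rw [h5]
      _ = r * E1.ι a * (r * E1.ι a) := by group
      _ = 1 := h3
  have hle2 : F ⊓ E1.K ≤ R2 := by
    rintro x ⟨hx1, hx2⟩
    exact ⟨⟨hF hx1, hx2⟩, 1, Subgroup.one_mem _, by simpa using hx1⟩
  have heq : F ⊓ E1.K = R2 :=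
    Subgroup.eq_of_le_of_card_ge hle2 ((hRmax _ hR2P hR2el).trans hle)
  have hdec : ∀ x ∈ F, ∀ l, E1.Act x (MulAut.conj l) → l ∈ A j ∧ x * (E1.ι l)⁻¹ ∈ F ⊓ E1.K := by
    intro x hx l hl
    have h1 : l ∈ V := (hQ _).mpr ⟨x, hx, hl⟩
    have h2 := mem_of_inner h (hF hx) hl
    have h3 : l ∈ A j := by rw [← hj]; exact h1
    refine ⟨h3, ?_⟩
    rw [heq]
    exact ⟨h2.2, l, h3, by simpa using hx⟩
  refine ⟨F, j, hF, hFel, ?_, le_sup_right, ?_, ?_⟩
  · rintro _ ⟨a, ha, rfl⟩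
    rw [← hj] at ha
    obtain ⟨x, hx, hxa⟩ := (hQ _).mp ha
    have h1 := (hdec x hx a hxa).2.1
    have h2 := F.mul_mem (F.inv_mem h1) hx
    simpa using h2
  · intro x hx
    obtain ⟨α, hα⟩ := (P_le1 h) (hF hx)
    obtain ⟨l, rfl⟩ := hinn α ((hQ α).mpr ⟨x, hx, hα⟩)
    obtain ⟨h1, h2⟩ := hdec x hx l hα
    exact ⟨_, ⟨h2.2, h2.1⟩, l, h1, by simp⟩
  · intro x hx
    obtain ⟨r, hr, b, hb, he⟩ := (mem_prod (hYm.trans inf_le_right)).mp hx
    exact ⟨r, ⟨(hYm hr).2, Subgroup.mem_sup_left hr⟩, b, hb, he⟩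

end Cfsg.Agent.StdLThreeFour.Red2c
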