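import Cfsg.Agent.StdLThreeFour.Red2c

/-!
# Standard `L3(4)`: the centres of the two Sylow 2-subgroups
-/

set_option autoImplicit false
set_option linter.constructorNameAsVariable false

namespace Cfsg.Agent.StdLThreeFour.Red2d

open Cfsg.Agent.StdLThreeFour.Base Cfsg.Agent.StdLThreeFour.Syl Cfsg.Agent.StdLThreeFour.Emb
open Cfsg.Agent.StdLThreeFour.Emb.SEmb Cfsg.Agent.StdLThreeFour.Red1 Cfsg.Agent.StdLThreeFour.Red2a
open Cfsg.Agent.StdLThreeFour.Red2b Cfsg.Agent.StdLThreeFour.Red2c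
open Cfsg.Agent.SporadicA.FieldFour
open Cfsg.Agent.ONType.Psl

variable {G : Type*} [Group G] {E E1 E2 : SEmb G} {P F : Subgroup G} {i j : Bool}

theorem x0_mem : (t 0 2 1 : L0) ∈ Z0 := ⟨1, (e_02 1).symm⟩

theorem Z0_le_S0 : Z0 ≤ S0 := (Facts1.Z0_le false).trans (Facts1.A_le false)

theorem x0_sq : (t 0 2 1 : L0) * t 0 2 1 = 1 := by
  rw [t_add 0 2 _ _ (by decide), add_self, t_zero]

theorem t01_mem (a : F4) : (t 0 1 a : L0) ∈ S0 := ⟨a, 0, 0, (e_01 a).symm⟩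

theorem t12_mem (a : F4) : (t 1 2 a : L0) ∈ S0 := ⟨0, a, 0, (e_12 a).symm⟩

theorem t02_mem (a : F4) : (t 0 2 a : L0) ∈ S0 := ⟨0, 0, a, (e_02 a).symm⟩

theorem ι_mem_P (h : Cf E1 E2 P) {s : L0} (hs : s ∈ S0) : E1.ι s ∈ P := by
  have : E1.ι s ∈ P ⊓ E1.L := by rw [h.s1]; exact ⟨s, hs, rfl⟩
  exact this.1

theorem P_le2 (h : Cf E1 E2 P) : P ≤ E2.M := h.syl.le.trans inf_le_right

theorem K_L_eq_one {x : G} (h1 : x ∈ E.K) (h2 : x ∈ E.L) : x = 1 := by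
  have : x ∈ E.K ⊓ E.L := ⟨h1, h2⟩
  rwa [K_inf_L, Subgroup.mem_bot] at this

theorem nn_conj (i j k l : Fin 3) (u : F4) (h : i ≠ j) (h' : k ≠ l) :
    (nn i j)⁻¹ * t k l u * nn i j = t (Equiv.swap i j k) (Equiv.swap i j l) u := by
  rw [mul_assoc, t_n i j k l u h h', inv_mul_cancel_left]

/-- the Sylow 2-subgroup of one component does not centralise the other component -/
theorem not_S0_le (h : Pr E1 E2) : ¬ ∀ s ∈ S0, E1.ι s ∈ E2.K := by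
  intro hS
  set X : Subgroup L0 := E2.K.comap E1.ι with hX
  have hmem : ∀ x, x ∈ X ↔ E1.ι x ∈ E2.K := fun x => Iff.rfl
  have key : ∀ n : L0, n * t 0 2 1 * n⁻¹ ∈ X → ∀ x ∈ X, n * x * n⁻¹ ∈ X := by
    intro n hn x hx
    rw [hmem, map_mul, map_mul, map_inv]
    apply conj_mem_K _ hx
    apply mem_M_of_conj (k := E1.ι (t 0 2 1))
    · intro h1
      exact x0_ne (E1.inj (by rw [h1, map_one]))
    · rw [← map_mul, x0_sq, map_one]
    · exact hS _ (Z0_le_S0 x0_mem)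
    · have := (hmem _).mp hn
      rwa [map_mul, map_mul, map_inv] at this
  have k1 : ∀ x ∈ X, (nn 1 2)⁻¹ * x * nn 1 2 ∈ X := by
    have h1 := key (nn 1 2)⁻¹ (by
      rw [inv_inv, nn_conj 1 2 0 2 1 (by decide) (by decide)]
      exact hS _ (t01_mem 1))
    intro x hx
    have := h1 x hx
    rwa [inv_inv] at this
  have k2 : ∀ x ∈ X, (nn 0 1)⁻¹ * x * nn 0 1 ∈ X := by
    have h1 := key (nn 0 1)⁻¹ (by
      rw [inv_inv, nn_conj 0 1 0 2 1 (by decide) (by decide)]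
      exact hS _ (t12_mem 1))
    intro x hx
    have := h1 x hx
    rwa [inv_inv] at this
  have m01 : ∀ u, t 0 1 u ∈ X := fun u => hS _ (t01_mem u)
  have m12 : ∀ u, t 1 2 u ∈ X := fun u => hS _ (t12_mem u)
  have m02 : ∀ u, t 0 2 u ∈ X := fun u => hS _ (t02_mem u)
  have m21 : ∀ u, t 2 1 u ∈ X := by
    intro u
    have := k1 _ (m12 u)
    rwa [nn_conj 1 2 1 2 u (by decide) (by decide)] at this
  have m10 : ∀ u, t 1 0 u ∈ X := by
    intro u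
    have := k2 _ (m01 u)
    rwa [nn_conj 0 1 0 1 u (by decide) (by decide)] at this
  have m20 : ∀ u, t 2 0 u ∈ X := by
    intro u
    have := k1 _ (m10 u)
    rwa [nn_conj 1 2 1 0 u (by decide) (by decide)] at this
  have htop : X = ⊤ := by
    rw [eq_top_iff, ← Cfsg.Agent.ONType.PslCard.closure_t, Subgroup.closure_le]
    rintro _ ⟨k, l, hkl, c, rfl⟩
    show t k l c ∈ X
    fin_cases k <;> fin_cases l
    · exact absurd rfl hkl
    · exact m01 c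
    · exact m02 c
    · exact m10 c
    · exact absurd rfl hkl
    · exact m12 c
    · exact m20 c
    · exact m21 c
    · exact absurd rfl hkl
  apply h.nc
  rintro _ ⟨y, rfl⟩
  have : y ∈ X := by rw [htop]; exact Subgroup.mem_top y
  exact this

theorem card_A_lt (j : Bool) : ∃ a ∈ A j, a ∉ Z0 := by
  by_contra hcon
  push Not at hcon
  have h1 := Subgroup.card_le_of_le (show A j ≤ Z0 from hcon)
  rw [Facts1.card_A, Facts1.card_Z0] at h1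
  omega

/-- the dichotomy -/
theorem dich (h : Cf E1 E2 P) (hF : Mx E1 E2 P F j i) :
    (∀ z ∈ Z0, E1.ι z ∈ E2.K) ∨ (∀ z ∈ Z0, E1.ι z ∈ E2.L) := by
  by_cases hc : ∀ y ∈ E2.K ⊓ F, ∀ r ∈ E1.K ⊓ F, ∀ a ∈ A j, r * E1.ι a = y → a ∈ Z0
  · right
    intro z hz
    obtain ⟨a, ha, haZ⟩ := card_A_lt j
    obtain ⟨s, hs, hsz⟩ := Facts1.exists_comm (Facts1.A_le j ha) haZ hz
    have haF : E1.ι a ∈ F := hF.a1 ⟨a, ha, rfl⟩
    obtain ⟨y, hy, b, hb, hyb⟩ := hF.d2 _ haF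
    -- `y` is centralised by `ι s`
    obtain ⟨r, hr, a', ha', hra⟩ := hF.d1 y hy.2
    have ha'Z := hc y hy r hr a' ha' hra
    have hsy : E1.ι s * y = y * E1.ι s := by
      rw [← hra]
      have h1 := (commute_ι hr.1 s).eq
      have h2 : s * a' = a' * s := Facts1.Z0_comm ha'Z hs
      calc E1.ι s * (r * E1.ι a') = (r * E1.ι s) * E1.ι a' := by rw [h1]; group
        _ = r * E1.ι (s * a') := by rw [map_mul]; group
        _ = r * E1.ι a' * E1.ι s := by rw [h2, map_mul]; group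
    have hbL : E1.ι s * E2.ι b * (E1.ι s)⁻¹ ∈ E2.L :=
      conj_mem_L (P_le2 h (ι_mem_P h hs)) (ι_mem_L b)
    have e1 : E1.ι z = y * (E1.ι s * E2.ι b * (E1.ι s)⁻¹ * (E2.ι b)⁻¹) * y⁻¹ := by
      have h1 : E1.ι z = E1.ι s * (y * E2.ι b) * (E1.ι s)⁻¹ * (y * E2.ι b)⁻¹ := by
        rw [hyb, ← hsz]; simp only [map_mul, map_inv]
      rw [h1]
      calc E1.ι s * (y * E2.ι b) * (E1.ι s)⁻¹ * (y * E2.ι b)⁻¹
          = (E1.ι s * y) * E2.ι b * (E1.ι s)⁻¹ * (E2.ι b)⁻¹ * y⁻¹ := by group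
        _ = _ := by rw [hsy]; group
    rw [e1]
    exact conj_mem_L (E2.K_le hy.1) (E2.L.mul_mem hbL (E2.L.inv_mem (ι_mem_L b)))
  · left
    push Not at hc
    obtain ⟨y, hy, r, hr, a, ha, hra, haZ⟩ := hc
    intro z hz
    obtain ⟨s, hs, hsz⟩ := Facts1.exists_comm (Facts1.A_le j ha) haZ hz
    have hsK : E1.ι s * y * (E1.ι s)⁻¹ ∈ E2.K := conj_mem_K (P_le2 h (ι_mem_P h hs)) hy.1
    have e1 : E1.ι z = E1.ι s * y * (E1.ι s)⁻¹ * y⁻¹ := by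
      have h1 := (commute_ι hr.1 s).eq
      rw [← hra, ← hsz]
      simp only [map_mul, map_inv]
      calc E1.ι s * E1.ι a * (E1.ι s)⁻¹ * (E1.ι a)⁻¹
          = r * E1.ι s * E1.ι a * (E1.ι s)⁻¹ * (E1.ι a)⁻¹ * r⁻¹ * (r * r⁻¹) := by
            have h2 : Commute r (E1.ι s * E1.ι a * (E1.ι s)⁻¹ * (E1.ι a)⁻¹) := by
              have := commute_ι hr.1 (s * a * s⁻¹ * a⁻¹)
              simpa only [map_mul, map_inv] using this
            have h3 : r * E1.ι s * E1.ι a * (E1.ι s)⁻¹ * (E1.ι a)⁻¹ * r⁻¹ * (r * r⁻¹)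
                = r * (E1.ι s * E1.ι a * (E1.ι s)⁻¹ * (E1.ι a)⁻¹) * r⁻¹ := by group
            rw [h3, h2.eq, mul_inv_cancel_right]
        _ = E1.ι s * (r * E1.ι a) * (E1.ι s)⁻¹ * (r * E1.ι a)⁻¹ := by rw [h1]; group
    rw [e1]
    exact E2.K.mul_mem hsK (E2.K.inv_mem hy.1)

theorem hh_conj (u : F4) : hh⁻¹ * t 0 2 u * hh = t 0 2 (kap 0 2 * u) := by
  rw [mul_assoc, t_h 0 2 u (by decide), inv_mul_cancel_left]

theorem hh_fixed {z : L0} (hz : z ∈ Z0) (h : hh⁻¹ * z * hh * z⁻¹ = 1) : z = 1 := by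
  obtain ⟨c, rfl⟩ := hz
  rw [e_02] at h ⊢
  rw [hh_conj] at h
  have h1 := mul_inv_eq_one.mp h
  rw [← e_02, ← e_02] at h1
  have h2 := (e_inj h1).2.2
  have h3 : ∀ c : F4, kap 0 2 * c = c → c = 0 := by decide
  rw [h3 c h2, t_zero]

theorem hh_Z0 {z : L0} (hz : z ∈ Z0) : hh⁻¹ * z * hh ∈ Z0 := by
  obtain ⟨c, rfl⟩ := hz
  rw [e_02, hh_conj, ← e_02]
  exact ⟨_, rfl⟩

/-- the torus element normalises the other component -/
theorem hh_mem (hZ : ∀ z ∈ Z0, E1.ι z ∈ E2.K) : E1.ι hh ∈ E2.M := by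
  have h1 : E1.ι hh⁻¹ ∈ E2.M := by
    apply mem_M_of_conj (k := E1.ι (t 0 2 1))
    · intro h1
      exact x0_ne (E1.inj (by rw [h1, map_one]))
    · rw [← map_mul, x0_sq, map_one]
    · exact hZ _ x0_mem
    · have := hZ _ (hh_Z0 x0_mem)
      rw [map_mul, map_mul, map_inv] at this
      rwa [map_inv, inv_inv]
  have := E2.M.inv_mem h1
  rwa [map_inv, inv_inv] at this

theorem case_two (h : Cf E1 E2 P) (hF : Mx E1 E2 P F j i) (hZ : ∀ z ∈ Z0, E1.ι z ∈ E2.K) :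
    ∀ b ∈ A i, E2.ι b ∈ E1.K := by
  intro b hb
  have hbF : E2.ι b ∈ F := hF.a2 ⟨b, hb, rfl⟩
  obtain ⟨r, hr, a, ha, hra⟩ := hF.d1 _ hbF
  -- `a ∈ Z0`
  have haZ : a ∈ Z0 := by
    by_contra haZ
    obtain ⟨s, hs, hsz⟩ := Facts1.exists_comm (Facts1.A_le j ha) haZ x0_mem
    have hsL : E1.ι s * E2.ι b * (E1.ι s)⁻¹ * (E2.ι b)⁻¹ ∈ E2.L :=
      E2.L.mul_mem (conj_mem_L (P_le2 h (ι_mem_P h hs)) (ι_mem_L b)) (E2.L.inv_mem (ι_mem_L b))
    have e1 : E1.ι s * E2.ι b * (E1.ι s)⁻¹ * (E2.ι b)⁻¹ = E1.ι (t 0 2 1) := by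
      have h1 := (commute_ι hr.1 s).eq
      have h2 : Commute r (E1.ι s * E1.ι a * (E1.ι s)⁻¹ * (E1.ι a)⁻¹) := by
        have := commute_ι hr.1 (s * a * s⁻¹ * a⁻¹)
        simpa only [map_mul, map_inv] using this
      rw [← hra, ← hsz]
      simp only [map_mul, map_inv]
      calc E1.ι s * (r * E1.ι a) * (E1.ι s)⁻¹ * (r * E1.ι a)⁻¹
          = (E1.ι s * r) * E1.ι a * (E1.ι s)⁻¹ * (E1.ι a)⁻¹ * r⁻¹ := by group
        _ = r * (E1.ι s * E1.ι a * (E1.ι s)⁻¹ * (E1.ι a)⁻¹) * r⁻¹ := by rw [← h1]; group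
        _ = _ := by rw [h2.eq, mul_inv_cancel_right]
    rw [e1] at hsL
    have h3 := K_L_eq_one (hZ _ x0_mem) hsL
    exact x0_ne (E1.inj (by rw [h3, map_one]))
  -- the torus element
  have hτ := hh_mem hZ
  have h1 : (E1.ι hh)⁻¹ * E2.ι b * E1.ι hh ∈ E2.L := by
    have := conj_mem_L (E2.M.inv_mem hτ) (ι_mem_L b)
    rwa [inv_inv] at this
  have h2 : (E1.ι hh)⁻¹ * E2.ι b * E1.ι hh * (E2.ι b)⁻¹ = E1.ι (hh⁻¹ * a * hh * a⁻¹) := by
    have h3 := (commute_ι hr.1 hh).eq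
    have h4 : Commute r (E1.ι (hh⁻¹ * a * hh * a⁻¹)) := commute_ι hr.1 _
    have h5 : (E1.ι hh)⁻¹ * r = r * (E1.ι hh)⁻¹ := by
      rw [inv_mul_eq_iff_eq_mul, ← mul_assoc, ← h3, mul_inv_cancel_right]
    rw [← hra]
    calc (E1.ι hh)⁻¹ * (r * E1.ι a) * E1.ι hh * (r * E1.ι a)⁻¹
        = ((E1.ι hh)⁻¹ * r) * E1.ι a * E1.ι hh * (E1.ι a)⁻¹ * r⁻¹ := by group
      _ = r * E1.ι (hh⁻¹ * a * hh * a⁻¹) * r⁻¹ := by
          rw [h5]; simp only [map_mul, map_inv]; group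
      _ = _ := by rw [h4.eq, mul_inv_cancel_right]
  have h3 : E1.ι (hh⁻¹ * a * hh * a⁻¹) = 1 := by
    apply K_L_eq_one (E := E2)
    · exact hZ _ (Z0.mul_mem (hh_Z0 haZ) (Z0.inv_mem haZ))
    · rw [← h2]
      exact E2.L.mul_mem h1 (E2.L.inv_mem (ι_mem_L b))
  have h4 := hh_fixed haZ (E1.inj (by rw [h3, map_one]))
  rw [← hra, h4, map_one, mul_one]
  exact hr.1

theorem hh_comm01 (u : F4) : ∃ v, t 0 1 u = hh⁻¹ * t 0 1 v * hh * (t 0 1 v)⁻¹ := by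
  have h1 : ∀ u : F4, ∃ v, kap 0 1 * v + v = u := by decide
  obtain ⟨v, hv⟩ := h1 u
  refine ⟨v, ?_⟩
  rw [mul_assoc hh⁻¹, t_h 0 1 v (by decide), inv_mul_cancel_left, ← hv,
    ← t_add 0 1 _ _ (by decide)]
  congr 1
  rw [eq_inv_iff_mul_eq_one, t_add 0 1 _ _ (by decide), add_self, t_zero]

theorem hh_comm12 (u : F4) : ∃ v, t 1 2 u = hh⁻¹ * t 1 2 v * hh * (t 1 2 v)⁻¹ := by
  have h1 : ∀ u : F4, ∃ v, kap 1 2 * v + v = u := by decide
  obtain ⟨v, hv⟩ := h1 u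
  refine ⟨v, ?_⟩
  rw [mul_assoc hh⁻¹, t_h 1 2 v (by decide), inv_mul_cancel_left, ← hv,
    ← t_add 1 2 _ _ (by decide)]
  congr 1
  rw [eq_inv_iff_mul_eq_one, t_add 1 2 _ _ (by decide), add_self, t_zero]

theorem case_two_false (h : Cf E1 E2 P) (hF : Mx E1 E2 P F j i)
    (hZ : ∀ z ∈ Z0, E1.ι z ∈ E2.K) : False := by
  have h2 := case_two h hF hZ
  have h1 : ∀ b ∈ A j, E1.ι b ∈ E2.K :=
    case_two h.symm hF.symm (fun z hz => h2 z (Facts1.Z0_le i hz))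
  -- `hh` acts trivially on the other component
  have hτ := hh_mem hZ
  have hcent : ∀ n : L0, E1.ι n ∈ E2.M → ∃ b ∈ A i, E2.Act (E1.ι n) (MulAut.conj b) := by
    rintro n ⟨β, hβ⟩
    obtain ⟨b, hb, rfl⟩ := Facts3.aut_cent_A (j := i) (α := β) (fun s hs => by
      rw [← hβ.commute_iff]
      exact (commute_ι (h2 s hs) n).symm)
    exact ⟨b, hb, hβ⟩
  have hhK : E1.ι hh ∈ E2.K := by
    obtain ⟨b, hb, hβ⟩ := hcent hh hτ
    have h3 : b ^ 3 = 1 := by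
      apply Facts1.conj_inj
      rw [map_pow]
      refine (hβ.pow 3).unique ?_
      rw [← map_pow, hh_pow, map_one]
      exact Act.one
    have h4 : b = 1 := by
      have h5 := Facts1.sq_of_mem_A hb
      calc b = b ^ 3 * (b * b)⁻¹ := by group
        _ = 1 := by rw [h3, h5]; group
    rw [h4, map_one] at hβ
    exact act_one_iff.mp hβ
  have hcomm : ∀ n ∈ S0, E1.ι (hh⁻¹ * n * hh * n⁻¹) ∈ E2.K := by
    intro n hn
    have hnM : E1.ι n ∈ E2.M := P_le2 h (ι_mem_P h hn)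
    have e : E1.ι (hh⁻¹ * n * hh * n⁻¹) = (E1.ι hh)⁻¹ * (E1.ι n * E1.ι hh * (E1.ι n)⁻¹) := by
      simp only [map_mul, map_inv]; group
    rw [e]
    exact E2.K.mul_mem (E2.K.inv_mem hhK) (conj_mem_K hnM hhK)
  apply not_S0_le h.pr
  rintro s ⟨a, b, c, rfl⟩
  have e1 : E1.ι (t 0 1 a) ∈ E2.K := by
    obtain ⟨v, hv⟩ := hh_comm01 a
    rw [hv]; exact hcomm _ (t01_mem v)
  have e2 : E1.ι (t 1 2 b) ∈ E2.K := by
    obtain ⟨v, hv⟩ := hh_comm12 b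
    rw [hv]; exact hcomm _ (t12_mem v)
  have e3 : E1.ι (t 0 2 c) ∈ E2.K := hZ _ ⟨c, (e_02 c).symm⟩
  unfold e
  rw [map_mul, map_mul]
  exact E2.K.mul_mem (E2.K.mul_mem e1 e2) e3

/-- **The centres.** -/
theorem Z_mem [Finite G] (h : Cf E1 E2 P) {z : L0} (hz : z ∈ Z0) : E1.ι z ∈ E2.L := by
  obtain ⟨F, j, hF⟩ := exists_mx h false
  rcases dich h hF with h1 | h1
  · exact (case_two_false h hF h1).elim
  · exact h1 z hz

end Cfsg.Agent.StdLThreeFour.Red2d
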