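import Cfsg.Agent.StdLThreeFour.Red2d

/-!
# Standard `L3(4)`: the result of the pair analysis

Either the strongly closed case holds, or a Sylow 2-subgroup `R` of `K` is elementary abelian of order 2
or 4 and `N_G(R × S0)` is not contained in `M`.
-/

set_option autoImplicit false
set_option linter.constructorNameAsVariable false

namespace Cfsg.Agent.StdLThreeFour.Red2e

open Cfsg.Agent.StdLThreeFour.Base Cfsg.Agent.StdLThreeFour.Syl Cfsg.Agent.StdLThreeFour.Emb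
open Cfsg.Agent.StdLThreeFour.Emb.SEmb Cfsg.Agent.StdLThreeFour.Red1 Cfsg.Agent.StdLThreeFour.Red2a
open Cfsg.Agent.StdLThreeFour.Red2b Cfsg.Agent.StdLThreeFour.Red2c Cfsg.Agent.StdLThreeFour.Red2d
open Cfsg.Agent.SporadicA.FieldFour
open Cfsg.Agent.ONType.Psl

variable {G : Type*} [Group G] {E E1 E2 : SEmb G} {P : Subgroup G}

/-- the group `R × S0` -/
def T0 (E : SEmb G) (R : Subgroup G) : Subgroup G := R ⊔ S0.map E.ι

theorem mem_T0 {R : Subgroup G} (hR : R ≤ E.K) {x : G} :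
    x ∈ T0 E R ↔ ∃ r ∈ R, ∃ s ∈ S0, r * E.ι s = x := mem_prod hR

theorem S0_K2 [Finite G] (h : Cf E1 E2 P) {s : L0} (hs : s ∈ S0) (hK : E1.ι s ∈ E2.K) : s = 1 := by
  by_cases hZ : s ∈ Z0
  · have := K_L_eq_one hK (Z_mem h hZ)
    exact E1.inj (by rw [this, map_one])
  · obtain ⟨s', hs', he⟩ := Facts1.exists_comm hs hZ x0_mem
    have h1 : E1.ι (t 0 2 1) ∈ E2.K := by
      rw [← he]
      simp only [map_mul, map_inv]
      exact E2.K.mul_mem (conj_mem_K (P_le2 h (ι_mem_P h hs')) hK) (E2.K.inv_mem hK)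
    have h2 := K_L_eq_one h1 (Z_mem h x0_mem)
    exact (x0_ne (E1.inj (by rw [h2, map_one]))).elim

theorem ι_of_mem (h : Cf E1 E2 P) {x : G} (h1 : x ∈ P) (h2 : x ∈ E1.L) : ∃ s ∈ S0, E1.ι s = x := by
  have : x ∈ P ⊓ E1.L := ⟨h1, h2⟩
  rw [h.s1] at this
  exact this

theorem Y_le [Finite G] (h : Cf E1 E2 P) {y : G} (hy : y ∈ P ⊓ E2.K) :
    ∃ r ∈ P ⊓ E1.K, ∃ z ∈ Z0, r * E1.ι z = y := by
  obtain ⟨α, hα⟩ := P_le1 h hy.1
  obtain ⟨z, hz, rfl⟩ := Facts3.aut_cent_S0 (α := α) (fun s hs => by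
    rw [← hα.commute_iff]
    have h1 : y * E1.ι s * y⁻¹ * (E1.ι s)⁻¹ ∈ E1.L :=
      E1.L.mul_mem (conj_mem_L (P_le1 h hy.1) (ι_mem_L s)) (E1.L.inv_mem (ι_mem_L s))
    have h2 : y * E1.ι s * y⁻¹ * (E1.ι s)⁻¹ ∈ P := P.mul_mem (P.mul_mem (P.mul_mem hy.1
      (ι_mem_P h hs)) (P.inv_mem hy.1)) (P.inv_mem (ι_mem_P h hs))
    have h3 : y * E1.ι s * y⁻¹ * (E1.ι s)⁻¹ ∈ E2.K := by
      have e : y * E1.ι s * y⁻¹ * (E1.ι s)⁻¹ = y * (E1.ι s * y⁻¹ * (E1.ι s)⁻¹) := by group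
      rw [e]
      exact E2.K.mul_mem hy.2 (conj_mem_K (P_le2 h (ι_mem_P h hs)) (E2.K.inv_mem hy.2))
    obtain ⟨s', hs', he⟩ := ι_of_mem h h2 h1
    have h4 := S0_K2 h hs' (by rw [he]; exact h3)
    rw [h4, map_one] at he
    have h5 : y * E1.ι s = E1.ι s * y := by
      rw [eq_comm, mul_inv_eq_one, mul_inv_eq_iff_eq_mul] at he
      exact he
    exact h5)
  exact ⟨_, (mem_of_inner h hy.1 hα).2, z, hz, by simp⟩

theorem el_R [Finite G] (h : Cf E1 E2 P) : El (P ⊓ E1.K) := by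
  intro r hr
  obtain ⟨y, hy, z, hz, he⟩ := Y_le h.symm hr
  have h1 : r * r = y * y := by
    rw [← he]
    have h2 := (commute_ι hy.2 z).eq
    have h3 : E2.ι z * E2.ι z = 1 := by
      rw [← map_mul, Facts1.sq_of_mem_A (Facts1.Z0_le false hz), map_one]
    calc y * E2.ι z * (y * E2.ι z) = y * (E2.ι z * y) * E2.ι z := by group
      _ = y * y * (E2.ι z * E2.ι z) := by rw [← h2]; group
      _ = y * y := by rw [h3, mul_one]
  obtain ⟨n, hn⟩ := two_of_isPGroup h.syl.two (P.mul_mem hr.1 hr.1)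
  refine h.pr.sep_two hn (E1.K.mul_mem hr.2 hr.2) ?_
  rw [h1]
  exact E2.K.mul_mem hy.2 hy.2

theorem card_R [Finite G] (h : Cf E1 E2 P) : Nat.card (P ⊓ E1.K : Subgroup G) ≤ 4 := by
  classical
  rw [← Facts1.card_Z0]
  have hLfin : Finite L0 := Finite.of_injective E1.ι E1.inj
  choose f hf using fun r : (P ⊓ E1.K : Subgroup G) => Y_le h.symm r.2
  choose hf1 g hg hfg using hf
  apply Nat.card_le_card_of_injective (fun r : (P ⊓ E1.K : Subgroup G) => (⟨g r, hg r⟩ : Z0))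
  intro r r' hrr
  have h1 : g r = g r' := congrArg Subtype.val hrr
  have h2 := hfg r
  have h3 := hfg r'
  rw [h1] at h2
  have h4 : (r : G) * (r' : G)⁻¹ = f r * (f r')⁻¹ := by
    rw [← h2, ← h3]; group
  have h5 : (r : G) * (r' : G)⁻¹ ∈ E1.K := E1.K.mul_mem r.2.2 (E1.K.inv_mem r'.2.2)
  have h6 : (r : G) * (r' : G)⁻¹ ∈ E2.K := by
    rw [h4]; exact E2.K.mul_mem (hf1 r).2 (E2.K.inv_mem (hf1 r').2)
  obtain ⟨n, hn⟩ := two_of_isPGroup h.syl.two (P.mul_mem r.2.1 (P.inv_mem r'.2.1))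
  exact Subtype.ext (mul_inv_eq_one.mp (h.pr.sep_two hn h5 h6))

theorem S2_le [Finite G] (h : Cf E1 E2 P) {s : L0} (hs : s ∈ S0) :
    E2.ι s ∈ T0 E1 (P ⊓ E1.K) := by
  have h1 : ∀ i, ∀ a ∈ A i, E2.ι a ∈ T0 E1 (P ⊓ E1.K) := by
    intro i a ha
    obtain ⟨F, j, hF⟩ := exists_mx h i
    obtain ⟨r, hr, a', ha', he⟩ := hF.d1 _ (hF.a2 ⟨a, ha, rfl⟩)
    rw [mem_T0 inf_le_right]
    exact ⟨r, ⟨hF.le hr.2, hr.1⟩, a', Facts1.A_le j ha', he⟩
  have h2 : S0 ≤ (T0 E1 (P ⊓ E1.K)).comap E2.ι := by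
    rw [← Facts1.A_sup]
    exact sup_le (fun a ha => h1 false a ha) (fun a ha => h1 true a ha)
  exact h2 hs

theorem Z_eq [Finite G] (h : Cf E1 E2 P) {z : L0} (hz : z ∈ Z0) : ∃ z' ∈ Z0, E1.ι z' = E2.ι z := by
  obtain ⟨s, hs, hsZ⟩ := card_A_lt false
  obtain ⟨s', hs', he⟩ := Facts1.exists_comm (Facts1.A_le false hs) hsZ hz
  obtain ⟨r, hr, p, hp, h1⟩ := (mem_T0 inf_le_right).mp (S2_le h (Facts1.A_le false hs))
  obtain ⟨r', hr', p', hp', h2⟩ := (mem_T0 inf_le_right).mp (S2_le h hs')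
  refine ⟨p' * p * p'⁻¹ * p⁻¹, Facts1.comm_mem_Z0 hp' hp, ?_⟩
  rw [← he]
  simp only [map_mul, map_inv]
  rw [← h1, ← h2]
  have c1 := (el_R h).comm hr hr'
  have c2 : Commute r (E1.ι p') := commute_ι hr.2 p'
  have c3 : Commute r' (E1.ι p) := commute_ι hr'.2 p
  have c4 : Commute r (E1.ι p) := commute_ι hr.2 p
  have c5 : Commute r' (E1.ι p') := commute_ι hr'.2 p'
  have e1 : r' * E1.ι p' * (r * E1.ι p) = (r * r') * (E1.ι p' * E1.ι p) := by
    calc r' * E1.ι p' * (r * E1.ι p) = r' * (E1.ι p' * r) * E1.ι p := by group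
      _ = (r' * r) * (E1.ι p' * E1.ι p) := by rw [← c2.eq]; group
      _ = _ := by rw [c1]
  have e2 : r * E1.ι p * (r' * E1.ι p') = (r * r') * (E1.ι p * E1.ι p') := by
    calc r * E1.ι p * (r' * E1.ι p') = r * (E1.ι p * r') * E1.ι p' := by group
      _ = _ := by rw [← c3.eq]; group
  calc E1.ι p' * E1.ι p * (E1.ι p')⁻¹ * (E1.ι p)⁻¹
      = E1.ι p' * E1.ι p * (E1.ι p * E1.ι p')⁻¹ := by group
    _ = ((r * r') * (E1.ι p' * E1.ι p)) * ((r * r') * (E1.ι p * E1.ι p'))⁻¹ := by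
        have c6 : Commute (r * r') (E1.ι p' * E1.ι p * (E1.ι p * E1.ι p')⁻¹) :=
          (((c2.mul_left c5).mul_right (c4.mul_left c3)).mul_right
            (((c4.mul_left c3).mul_right (c2.mul_left c5)).inv_right))
        have : (r * r') * (E1.ι p' * E1.ι p) * ((r * r') * (E1.ι p * E1.ι p'))⁻¹ =
          (r * r') * (E1.ι p' * E1.ι p * (E1.ι p * E1.ι p')⁻¹) * (r * r')⁻¹ := by group
        rw [this, c6.eq, mul_inv_cancel_right]
    _ = (r' * E1.ι p' * (r * E1.ι p)) * (r * E1.ι p * (r' * E1.ι p'))⁻¹ := by rw [e1, e2]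
    _ = _ := by group

theorem exists_u [Finite G] (h : Cf E1 E2 P) {r : G} (hr : r ∈ P ⊓ E1.K) :
    ∃ z ∈ Z0, r * E1.ι z ∈ P ⊓ E2.K := by
  obtain ⟨y, hy, z, hz, he⟩ := Y_le h.symm hr
  obtain ⟨z', hz', he'⟩ := Z_eq h hz
  refine ⟨z'⁻¹, Z0.inv_mem hz', ?_⟩
  rw [map_inv, he', ← he, mul_inv_cancel_right]
  exact hy

theorem T0_le [Finite G] (h : Cf E1 E2 P) : T0 E2 (P ⊓ E2.K) ≤ T0 E1 (P ⊓ E1.K) := by
  refine sup_le ?_ ?_
  · intro y hy
    obtain ⟨r, hr, z, hz, he⟩ := Y_le h hy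
    rw [mem_T0 inf_le_right]
    exact ⟨r, hr, z, Z0_le_S0 hz, he⟩
  · rintro _ ⟨s, hs, rfl⟩
    exact S2_le h hs

theorem T0_eq [Finite G] (h : Cf E1 E2 P) : T0 E2 (P ⊓ E2.K) = T0 E1 (P ⊓ E1.K) :=
  le_antisymm (T0_le h) (T0_le h.symm)

theorem syl_inf [Finite G] (h : Cf E1 E2 P) : IsSyl (P ⊓ E1.K) (E1.K ⊓ E2.M) := by
  have h1 := h.syl.inf_normal (N := E1.K ⊓ E2.M) (inf_le_inf_right _ E1.K_le) (by
    rintro d ⟨hd1, hd2⟩ n ⟨hn1, hn2⟩
    exact ⟨conj_mem_K hd1 hn1, E2.M.mul_mem (E2.M.mul_mem hd2 hn2) (E2.M.inv_mem hd2)⟩)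
  have e : P ⊓ (E1.K ⊓ E2.M) = P ⊓ E1.K := by
    rw [inf_comm E1.K, ← inf_assoc, inf_eq_left.mpr (P_le2 h)]
  rwa [e] at h1

theorem R_ne [Finite G] (h : Cf E1 E2 P) : P ⊓ E1.K ≠ ⊥ := by
  intro h0
  have h1 := (syl_inf h).card_eq
  rw [h0, Subgroup.card_bot] at h1
  have h2 : (Nat.card (E1.K ⊓ E2.M : Subgroup G)).factorization 2 ≠ 0 :=
    (Nat.Prime.factorization_pos_of_dvd Nat.prime_two Nat.card_pos.ne' h.ev1).ne'
  have h3 : 2 ∣ 2 ^ (Nat.card (E1.K ⊓ E2.M : Subgroup G)).factorization 2 := dvd_pow_self 2 h2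
  rw [← h1] at h3
  exact absurd h3 (by decide)

theorem syl_K [Finite G] (h : Cf E1 E2 P) : IsSyl (P ⊓ E1.K) E1.K := by
  refine isSyl_of_norm inf_le_right (h.syl.two.to_le inf_le_left) ?_
  rintro x hx ⟨n, hn⟩ hnorm
  -- a fixed involution
  obtain ⟨r, hr, hr1, hr2, hrx⟩ := exists_invol_commute (Q := Subgroup.zpowers x) (H := P ⊓ E1.K)
    (isPGroup_zpowers hn) (by
      intro q hq y hy
      have h1 : Subgroup.zpowers x ≤ Subgroup.normalizer ((P ⊓ E1.K : Subgroup G) : Set G) := by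
        rw [Subgroup.zpowers_le, Subgroup.mem_normalizer_iff]
        exact hnorm
      exact (Subgroup.mem_normalizer_iff.mp (h1 hq) y).mp hy) (by
      obtain ⟨r, hr, hr1, hr2⟩ := exists_invol_of_two (h.syl.two.to_le inf_le_left) (R_ne h)
      exact two_dvd_card_of_invol hr hr1 hr2)
  obtain ⟨z, hz, hu⟩ := exists_u h hr
  have hx2 : x ∈ E2.M := by
    apply mem_M_of_commute (k := r * E1.ι z)
    · intro h1
      have h2 : E1.ι z = r⁻¹ := (inv_eq_of_mul_eq_one_right h1).symm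
      have h3 : E1.ι z = 1 := K_L_eq_one (by rw [h2]; exact E1.K.inv_mem hr.2) (ι_mem_L z)
      rw [h3, mul_one] at h1
      exact hr1 h1
    · exact el_R h.symm _ hu
    · exact hu.2
    · exact (hrx x (Subgroup.mem_zpowers x)).mul_right (commute_ι hx z)
  exact mem_of_norm (syl_inf h) ⟨hx, hx2⟩ hn hnorm

theorem card_R' [Finite G] (h : Cf E1 E2 P) :
    Nat.card (P ⊓ E1.K : Subgroup G) = 2 ∨ Nat.card (P ⊓ E1.K : Subgroup G) = 4 := by
  have h1 := card_R h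
  obtain ⟨r, hr, hr1, hr2⟩ := exists_invol_of_two (h.syl.two.to_le inf_le_left) (R_ne h)
  have h2 := two_dvd_card_of_invol hr hr1 hr2
  have h3 : 0 < Nat.card (P ⊓ E1.K : Subgroup G) := Nat.card_pos
  omega

/-- **The output of the pair analysis.** -/
structure Out (E : SEmb G) (R : Subgroup G) (h : G) : Prop where
  syl : IsSyl R E.K
  el : El R
  card : Nat.card R = 2 ∨ Nat.card R = 4
  nm : h ∉ E.M
  norm : ∀ x, x ∈ T0 E R ↔ h * x * h⁻¹ ∈ T0 E R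

theorem exists_out_of_cf [Finite G] (h : Cf E1 E2 P) : ∃ R n, Out E1 R n := by
  obtain ⟨g, rfl⟩ := h.pr.conj
  have hY := syl_K h.symm
  -- the conjugate of `R`
  have hRg : IsSyl ((P ⊓ E1.K).map (MulAut.conj g).toMonoidHom) (E1.conj g).K := by
    have h1 := syl_K h
    apply isSyl_of_card
    · rintro _ ⟨x, hx, rfl⟩
      have : g * x * g⁻¹ ∈ (E1.conj g).K := conj_conj_mem_K.mpr hx.2
      simpa using this
    · rw [card_conj, card_conj_K]
      exact h1.card_eq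
  obtain ⟨k, hk, hkk⟩ := hY.exists_conj hRg
  have hkg : ∀ x, x ∈ P ⊓ E1.K ↔ (k * g) * x * (k * g)⁻¹ ∈ P ⊓ (E1.conj g).K := by
    intro x
    have h1 : g * x * g⁻¹ ∈ (P ⊓ E1.K).map (MulAut.conj g).toMonoidHom ↔ x ∈ P ⊓ E1.K := by
      constructor
      · rintro ⟨y, hy, he⟩
        have h2 : g * y * g⁻¹ = g * x * g⁻¹ := by simpa using he
        have h3 : y = x := mul_left_cancel (mul_right_cancel h2)
        rwa [← h3]
      · intro hx
        exact ⟨x, hx, by simp⟩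
    rw [← h1, hkk]
    have e : k * (g * x * g⁻¹) * k⁻¹ = k * g * x * (k * g)⁻¹ := by group
    rw [e]
  have hι : ∀ s, (k * g) * E1.ι s * (k * g)⁻¹ = (E1.conj g).ι s := by
    intro s
    have h1 : Commute k ((E1.conj g).ι s) := commute_ι hk s
    rw [conj_ι] at h1 ⊢
    calc (k * g) * E1.ι s * (k * g)⁻¹ = k * (g * E1.ι s * g⁻¹) * k⁻¹ := by group
      _ = _ := by rw [h1.eq, mul_inv_cancel_right]
  refine ⟨P ⊓ E1.K, k * g, syl_K h, el_R h, card_R' h, ?_, ?_⟩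
  · intro hM
    obtain ⟨r, hr, hr1, hr2⟩ := exists_invol_of_two (h.syl.two.to_le inf_le_left) (R_ne h)
    have h1 := (hkg r).mp hr
    have h2 : (k * g) * r * (k * g)⁻¹ ∈ E1.K := conj_mem_K hM hr.2
    refine h.pr.sep _ ?_ ?_ h2 h1.2
    · intro h3
      apply hr1
      have : r = (k * g)⁻¹ * ((k * g) * r * (k * g)⁻¹) * (k * g) := by group
      rw [this, h3]; group
    · calc (k * g) * r * (k * g)⁻¹ * ((k * g) * r * (k * g)⁻¹) = (k * g) * (r * r) * (k * g)⁻¹ := by group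
        _ = 1 := by rw [hr2]; group
  · intro x
    constructor
    · intro hx
      obtain ⟨r, hr, s, hs, rfl⟩ := (mem_T0 inf_le_right).mp hx
      have h1 := (hkg r).mp hr
      have e : k * g * (r * E1.ι s) * (k * g)⁻¹ = (k * g * r * (k * g)⁻¹) * (E1.conj g).ι s := by
        rw [← hι s]; group
      rw [e, ← T0_eq h, mem_T0 inf_le_right]
      exact ⟨_, h1, s, hs, rfl⟩
    · intro hx
      rw [← T0_eq h, mem_T0 inf_le_right] at hx
      obtain ⟨y, hy, s, hs, he⟩ := hx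
      have h1 : (k * g)⁻¹ * y * (k * g) ∈ P ⊓ E1.K := by
        rw [hkg]
        have e : k * g * ((k * g)⁻¹ * y * (k * g)) * (k * g)⁻¹ = y := by group
        rwa [e]
      rw [mem_T0 inf_le_right]
      refine ⟨_, h1, s, hs, ?_⟩
      have h2 : x = (k * g)⁻¹ * (y * (E1.conj g).ι s) * (k * g) := by rw [he]; group
      rw [h2, ← hι s]
      group

theorem conj_out {E : SEmb G} {R : Subgroup G} {h : G} [Finite G] (ho : Out E R h) (g : G) :
    Out (E.conj g) (R.map (MulAut.conj g).toMonoidHom) (g * h * g⁻¹) := by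
  have hT : ∀ x, x ∈ T0 (E.conj g) (R.map (MulAut.conj g).toMonoidHom) ↔ g⁻¹ * x * g ∈ T0 E R := by
    intro x
    have hR : R.map (MulAut.conj g).toMonoidHom ≤ (E.conj g).K := by
      rintro _ ⟨x, hx, rfl⟩
      have : g * x * g⁻¹ ∈ (E.conj g).K := conj_conj_mem_K.mpr (ho.syl.le hx)
      simpa using this
    rw [mem_T0 hR, mem_T0 ho.syl.le]
    constructor
    · rintro ⟨_, ⟨r, hr, rfl⟩, s, hs, rfl⟩
      refine ⟨r, hr, s, hs, ?_⟩
      rw [conj_ι]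
      simp only [MulEquiv.toMonoidHom_eq_coe, MonoidHom.coe_coe, MulAut.conj_apply]
      group
    · rintro ⟨r, hr, s, hs, he⟩
      refine ⟨_, ⟨r, hr, rfl⟩, s, hs, ?_⟩
      have : x = g * (r * E.ι s) * g⁻¹ := by rw [he]; group
      rw [this, conj_ι]
      simp only [MulEquiv.toMonoidHom_eq_coe, MonoidHom.coe_coe, MulAut.conj_apply]
      group
  refine ⟨?_, ?_, ?_, ?_, ?_⟩
  · apply isSyl_of_card
    · rintro _ ⟨x, hx, rfl⟩
      have : g * x * g⁻¹ ∈ (E.conj g).K := conj_conj_mem_K.mpr (ho.syl.le hx)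
      simpa using this
    · rw [card_conj, card_conj_K]
      exact ho.syl.card_eq
  · rintro _ ⟨x, hx, rfl⟩
    rw [← map_mul, ho.el x hx, map_one]
  · rw [card_conj]; exact ho.card
  · rw [conj_conj_mem_M]; exact ho.nm
  · intro x
    rw [hT, hT, ho.norm]
    have e : h * (g⁻¹ * x * g) * h⁻¹ = g⁻¹ * (g * h * g⁻¹ * x * (g * h * g⁻¹)⁻¹) * g := by group
    rw [e]

/-- **Reduction.** -/
theorem exists_out [Finite G] (E : SEmb G) (hK : 2 ∣ Nat.card E.K) (hSC : ¬ SC E) :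
    ∃ R h, Out E R h := by
  obtain ⟨E1, E2, P, ⟨a, ha⟩, hc⟩ := exists_cf E hK hSC
  obtain ⟨R, n, ho⟩ := exists_out_of_cf hc
  have h1 := conj_out ho a⁻¹
  rw [ha, conj_inv_conj] at h1
  exact ⟨_, _, h1⟩

end Cfsg.Agent.StdLThreeFour.Red2e
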