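import Cfsg.Agent.StdLThreeFour.Red2e
import Cfsg.Agent.Lib.SylowNormalInf

/-!
# Standard `L3(4)`: odd cores

`W` is the subgroup generated by the elements of odd order of `C_K(r)`, `1 ≠ r ∈ R`. It has odd order and is
normalised by `N_G(T0)`, `N_G(R)` and `C_G(r)`.
-/

set_option autoImplicit false
set_option linter.constructorNameAsVariable false

namespace Cfsg.Agent.StdLThreeFour.Red3

open Cfsg.Agent.StdLThreeFour.Base Cfsg.Agent.StdLThreeFour.Syl Cfsg.Agent.StdLThreeFour.Emb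
open Cfsg.Agent.StdLThreeFour.Emb.SEmb Cfsg.Agent.StdLThreeFour.Red1 Cfsg.Agent.StdLThreeFour.Red2a
open Cfsg.Agent.StdLThreeFour.Red2b Cfsg.Agent.StdLThreeFour.Red2c Cfsg.Agent.StdLThreeFour.Red2d
open Cfsg.Agent.StdLThreeFour.Red2e
open Cfsg.Agent.SporadicA.FieldFour
open Cfsg.Agent.ONType.Psl

variable {G : Type*} [Group G] {E : SEmb G} {R : Subgroup G} {n : G}

/-- `R` is an elementary abelian Sylow 2-subgroup of `K`, of order 2 or 4 -/
structure Bs (E : SEmb G) (R : Subgroup G) : Prop where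
  syl : IsSyl R E.K
  el : El R
  card : Nat.card R = 2 ∨ Nat.card R = 4

theorem bs_of_out {h : G} (ho : Out E R h) : Bs E R := ⟨ho.syl, ho.el, ho.card⟩

theorem Bs.le (hB : Bs E R) : R ≤ E.K := hB.syl.le

/-- `n` normalises `T0` -/
def NT (E : SEmb G) (R : Subgroup G) (n : G) : Prop := ∀ x, x ∈ T0 E R ↔ n * x * n⁻¹ ∈ T0 E R

theorem NT.inv (h : NT E R n) : NT E R n⁻¹ := by
  intro x
  rw [h (n⁻¹ * x * n⁻¹⁻¹)]
  have e : n * (n⁻¹ * x * n⁻¹⁻¹) * n⁻¹ = x := by group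
  rw [e]

theorem NT.mul {m : G} (h : NT E R n) (h' : NT E R m) : NT E R (n * m) := by
  intro x
  rw [h' x, h]
  have e : n * (m * x * m⁻¹) * n⁻¹ = n * m * x * (n * m)⁻¹ := by group
  rw [e]

theorem R_le_T0 : R ≤ T0 E R := le_sup_left

theorem ι_mem_T0 {s : L0} (hs : s ∈ S0) : E.ι s ∈ T0 E R := Subgroup.mem_sup_right ⟨s, hs, rfl⟩

theorem T0_le_M (hB : Bs E R) : T0 E R ≤ E.M := by
  refine sup_le (hB.le.trans E.K_le) ?_
  rintro _ ⟨s, _, rfl⟩
  exact ι_mem_M s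

theorem comm_eq (hB : Bs E R) {r r' : G} (hr : r ∈ R) (hr' : r' ∈ R) (s s' : L0) :
    (r * E.ι s) * (r' * E.ι s') * (r * E.ι s)⁻¹ * (r' * E.ι s')⁻¹ = E.ι (s * s' * s⁻¹ * s'⁻¹) := by
  have c1 := hB.el.comm hr hr'
  have c2 : Commute r (E.ι s') := commute_ι (hB.le hr) s'
  have c3 : Commute r' (E.ι s) := commute_ι (hB.le hr') s
  have c4 : Commute r (E.ι s) := commute_ι (hB.le hr) s
  have c5 : Commute r' (E.ι s') := commute_ι (hB.le hr') s'
  simp only [map_mul, map_inv]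
  have e1 : r * E.ι s * (r' * E.ι s') = (r * r') * (E.ι s * E.ι s') := by
    calc r * E.ι s * (r' * E.ι s') = r * (E.ι s * r') * E.ι s' := by group
      _ = _ := by rw [← c3.eq]; group
  have e2 : r' * E.ι s' * (r * E.ι s) = (r * r') * (E.ι s' * E.ι s) := by
    calc r' * E.ι s' * (r * E.ι s) = r' * (E.ι s' * r) * E.ι s := by group
      _ = (r' * r) * (E.ι s' * E.ι s) := by rw [← c2.eq]; group
      _ = _ := by rw [c1]
  have c6 : Commute (r * r') (E.ι s * E.ι s' * (E.ι s' * E.ι s)⁻¹) :=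
    (((c4.mul_left c3).mul_right (c2.mul_left c5)).mul_right
      (((c2.mul_left c5).mul_right (c4.mul_left c3)).inv_right))
  calc (r * E.ι s) * (r' * E.ι s') * (r * E.ι s)⁻¹ * (r' * E.ι s')⁻¹
      = (r * E.ι s * (r' * E.ι s')) * (r' * E.ι s' * (r * E.ι s))⁻¹ := by group
    _ = ((r * r') * (E.ι s * E.ι s')) * ((r * r') * (E.ι s' * E.ι s))⁻¹ := by rw [e1, e2]
    _ = (r * r') * (E.ι s * E.ι s' * (E.ι s' * E.ι s)⁻¹) * (r * r')⁻¹ := by group
    _ = E.ι s * E.ι s' * (E.ι s' * E.ι s)⁻¹ := by rw [c6.eq, mul_inv_cancel_right]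
    _ = _ := by group

/-- elements of `T0` and their action -/
theorem act_T0 (hB : Bs E R) {r : G} (hr : r ∈ R) (s : L0) : E.Act (r * E.ι s) (MulAut.conj s) := by
  have := (act_one_iff.mpr (hB.le hr)).mul (act_ι (E := E) s)
  rwa [one_mul] at this

theorem R_central (hB : Bs E R) {r x : G} (hr : r ∈ R) (hx : x ∈ T0 E R) : Commute r x := by
  obtain ⟨r', hr', s, hs, rfl⟩ := (mem_T0 hB.le).mp hx
  exact (show Commute r r' from hB.el.comm hr hr').mul_right (commute_ι (hB.le hr) s)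

theorem mem_Z0_of_central {s : L0} (hs : s ∈ S0) (h : ∀ s' ∈ S0, s' * s = s * s') : s ∈ Z0 := by
  by_contra hZ
  obtain ⟨s', hs', he⟩ := Facts1.exists_comm hs hZ x0_mem
  rw [h s' hs'] at he
  apply x0_ne
  rw [← he]; group

theorem mem_of_central (hB : Bs E R) {x : G} (hx : x ∈ T0 E R) (h : ∀ s ∈ S0, Commute x (E.ι s)) :
    ∃ r ∈ R, ∃ z ∈ Z0, r * E.ι z = x := by
  obtain ⟨r, hr, s, hs, rfl⟩ := (mem_T0 hB.le).mp hx
  refine ⟨r, hr, s, mem_Z0_of_central hs ?_, rfl⟩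
  intro s' hs'
  have h1 := (act_T0 hB hr s).commute_iff s'
  have h2 := h1.mp (h s' hs')
  rw [MulAut.conj_apply] at h2
  exact (mul_inv_eq_iff_eq_mul.mp h2).symm

theorem conj_Z0 (hB : Bs E R) (hn : NT E R n) {z : L0} (hz : z ∈ Z0) :
    ∃ z' ∈ Z0, n * E.ι z * n⁻¹ = E.ι z' := by
  obtain ⟨s, hs, hsZ⟩ := card_A_lt false
  have hs := Facts1.A_le false hs
  obtain ⟨s', hs', he⟩ := Facts1.exists_comm hs hsZ hz
  obtain ⟨r, hr, p, hp, h1⟩ := (mem_T0 hB.le).mp ((hn _).mp (ι_mem_T0 (R := R) hs))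
  obtain ⟨r', hr', p', hp', h2⟩ := (mem_T0 hB.le).mp ((hn _).mp (ι_mem_T0 (R := R) hs'))
  refine ⟨_, Facts1.comm_mem_Z0 hp' hp, ?_⟩
  rw [← comm_eq hB hr' hr, h1, h2, ← he]
  simp only [map_mul, map_inv]
  group

theorem conj_R (hB : Bs E R) (hn : NT E R n) {r : G} (hr : r ∈ R) :
    ∃ r' ∈ R, ∃ z ∈ Z0, r' * E.ι z = n * r * n⁻¹ := by
  apply mem_of_central hB ((hn r).mp (R_le_T0 hr))
  intro s hs
  have h1 : n⁻¹ * E.ι s * n ∈ T0 E R := by
    have := (hn.inv _).mp (ι_mem_T0 (R := R) hs)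
    rwa [inv_inv] at this
  have h2 := (R_central hB hr h1).conj n
  have e : n * (n⁻¹ * E.ι s * n) * n⁻¹ = E.ι s := by group
  simpa [e, mul_assoc] using h2

theorem R_Z0 (hB : Bs E R) {r : G} (hr : r ∈ R) {z : L0} (h : r = E.ι z) : r = 1 :=
  K_L_eq_one (hB.le hr) ⟨z, h.symm⟩

theorem conj_R_ne (hB : Bs E R) (hn : NT E R n) {r r' : G} (hr : r ∈ R) (hr' : r' ∈ R) {z : L0}
    (_hz : z ∈ Z0) (he : r' * E.ι z = n * r * n⁻¹) (h1 : r ≠ 1) : r' ≠ 1 := by
  rintro rfl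
  rw [one_mul] at he
  obtain ⟨z', hz', he'⟩ := conj_Z0 hB hn.inv _hz
  rw [he, inv_inv] at he'
  have e : n⁻¹ * (n * r * n⁻¹) * n = r := by group
  rw [e] at he'
  exact h1 (R_Z0 hB hr he')

theorem conj_R_ne' (hB : Bs E R) (hnM : n ∉ E.M) {r r' : G} (hr : r ∈ R)
    (hr' : r' ∈ R) {z : L0} (he : r' * E.ι z = n * r * n⁻¹) (h1 : r ≠ 1) : z ≠ 1 := by
  rintro rfl
  rw [map_one, mul_one] at he
  exact hnM (mem_M_of_conj h1 (hB.el r hr) (hB.le hr) (by rw [← he]; exact hB.le hr'))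

theorem exists_conj_R [Finite G] (hB : Bs E R) (hn : NT E R n) {r : G} (hr : r ∈ R) :
    ∃ r0 ∈ R, ∃ z ∈ Z0, r * E.ι z = n * r0 * n⁻¹ := by
  classical
  choose f hf g hg hfg using fun r : R => conj_R hB hn r.2
  have hinj : Function.Injective (fun r : R => (⟨f r, hf r⟩ : R)) := by
    intro r1 r2 h12
    have h1 : f r1 = f r2 := congrArg Subtype.val h12
    have h2 := hfg r1
    have h3 := hfg r2
    rw [h1] at h2
    have h4 : n * ((r2 : G)⁻¹ * r1) * n⁻¹ = 1 * E.ι ((g r2)⁻¹ * g r1) := by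
      have : n * ((r2 : G)⁻¹ * r1) * n⁻¹ = (n * r2 * n⁻¹)⁻¹ * (n * r1 * n⁻¹) := by group
      rw [this, ← h2, ← h3, map_mul, map_inv]; group
    by_contra hne
    have h5 : (r2 : G)⁻¹ * r1 ≠ 1 := fun h => hne (Subtype.ext (inv_mul_eq_one.mp h).symm)
    exact conj_R_ne hB hn (R.mul_mem (R.inv_mem r2.2) r1.2) R.one_mem
      (Z0.mul_mem (Z0.inv_mem (hg r2)) (hg r1)) h4.symm h5 rfl
  have hsurj := Finite.surjective_of_injective hinj
  obtain ⟨r0, h0⟩ := hsurj ⟨r, hr⟩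
  refine ⟨r0, r0.2, g r0, hg r0, ?_⟩
  rw [← hfg r0]
  congr 1
  exact (congrArg Subtype.val h0).symm

theorem T0_inf_K (hB : Bs E R) {x : G} (h1 : x ∈ T0 E R) (h2 : x ∈ E.K) : x ∈ R := by
  obtain ⟨r, hr, s, hs, rfl⟩ := (mem_T0 hB.le).mp h1
  have h3 : E.ι s ∈ E.K := by
    have := E.K.mul_mem (E.K.inv_mem (hB.le hr)) h2
    rwa [inv_mul_cancel_left] at this
  rw [K_L_eq_one h3 (ι_mem_L s), mul_one]
  exact hr

/-- an odd order element of `C_K(r)` centralises the conjugate component -/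
theorem mem_conj_K_of_odd [Finite G] (hB : Bs E R) (hn : NT E R n) {x r : G}
    (hx : x ∈ E.K) (hodd : Odd (orderOf x)) (hr : r ∈ R) (hr1 : r ≠ 1) (hxr : Commute x r) :
    x ∈ (E.conj n).K := by
  obtain ⟨r0, hr0, z, hz, he⟩ := exists_conj_R hB hn hr
  have hr01 : r0 ≠ 1 := by
    rintro rfl
    rw [mul_one, mul_inv_cancel] at he
    have h1 : r = E.ι z⁻¹ := by rw [map_inv]; exact eq_inv_of_mul_eq_one_left he
    exact hr1 (R_Z0 hB hr h1)
  have hu1 : r * E.ι z ≠ 1 := by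
    rw [he]
    intro h
    apply hr01
    have : r0 = n⁻¹ * (n * r0 * n⁻¹) * n := by group
    rw [this, h]; group
  have hu2 : (r * E.ι z) * (r * E.ι z) = 1 := by
    rw [he]
    calc n * r0 * n⁻¹ * (n * r0 * n⁻¹) = n * (r0 * r0) * n⁻¹ := by group
      _ = 1 := by rw [hB.el r0 hr0]; group
  have hxM : x ∈ (E.conj n).M := by
    apply mem_M_of_commute hu1 hu2
    · rw [he]; exact conj_conj_mem_K.mpr (hB.le hr0)
    · exact hxr.mul_right (commute_ι hx z)
  obtain ⟨α, hα⟩ := hxM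
  -- the subgroup centralised by `x`
  set N1 : Subgroup G := Subgroup.zpowers r ⊔ S0.map E.ι with hN1
  have hzr : Subgroup.zpowers r ≤ R := (Subgroup.zpowers_le).mpr hr
  have hcomm : ∀ y ∈ N1, Commute x y := by
    intro y hy
    obtain ⟨r', hr', s, hs, rfl⟩ := (mem_prod (hzr.trans hB.le)).mp hy
    obtain ⟨k, rfl⟩ := Subgroup.mem_zpowers_iff.mp hr'
    exact (hxr.zpow_right k).mul_right (commute_ι hx s)
  have hLfin : Finite L0 := Finite.of_injective E.ι E.inj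
  have hN1le : N1 ≤ T0 E R := sup_le (hzr.trans R_le_T0) le_sup_right
  have hcN1 : Nat.card N1 = 128 := by
    rw [hN1, card_prod (hzr.trans hB.le), Facts1.card_S0, Nat.card_zpowers]
    have : orderOf r = 2 := by
      apply orderOf_eq_prime
      · rw [pow_two]; exact hB.el r hr
      · exact hr1
    rw [this]
  have hcT0 : Nat.card (T0 E R) ≤ 256 := by
    unfold T0
    rw [card_prod hB.le, Facts1.card_S0]
    rcases hB.card with h | h
    · rw [h]; norm_num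
    · rw [h]
  have hrel : N1.relIndex (T0 E R) ≤ 2 := by
    have h1 := Subgroup.card_mul_index (N1.subgroupOf (T0 E R))
    have h2 : Nat.card (N1.subgroupOf (T0 E R)) = Nat.card N1 :=
      Nat.card_congr (Subgroup.subgroupOfEquivOfLe hN1le).toEquiv
    rw [h2, hcN1] at h1
    have h3 : N1.relIndex (T0 E R) = (N1.subgroupOf (T0 E R)).index := rfl
    rw [h3]
    omega
  set S' : Subgroup G := S0.map (E.conj n).ι with hS'
  have hS'le : S' ≤ T0 E R := by
    rintro _ ⟨s, hs, rfl⟩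
    rw [conj_ι]
    exact (hn _).mp (ι_mem_T0 hs)
  have hcS' : Nat.card S' = 64 := by
    rw [hS', ← Facts1.card_S0]
    exact (Nat.card_congr (S0.equivMapOfInjective _ (E.conj n).inj).toEquiv).symm
  have hrel' : N1.relIndex S' ≤ 2 :=
    (Subgroup.relIndex_le_of_le_right hS'le Subgroup.index_ne_zero_of_finite).trans hrel
  have hcard : 32 ≤ Nat.card (N1 ⊓ S' : Subgroup G) := by
    have h1 := Cfsg.Agent.Lib.SylowNormalInf.card_inf_mul_relIndex N1 S'
    rw [hcS'] at h1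
    have h2 : Nat.card (N1 ⊓ S' : Subgroup G) * N1.relIndex S' ≤
      Nat.card (N1 ⊓ S' : Subgroup G) * 2 := Nat.mul_le_mul_left _ hrel'
    omega
  set T : Subgroup L0 := (N1 ⊓ S').comap (E.conj n).ι with hT
  have hTmap : T.map (E.conj n).ι = N1 ⊓ S' := by
    rw [hT, Subgroup.map_comap_eq]
    refine inf_eq_right.mpr ?_
    rintro x ⟨-, s, -, rfl⟩
    exact ⟨s, rfl⟩
  have hTcard : 32 ≤ Nat.card T := by
    have h1 : Nat.card T = Nat.card (N1 ⊓ S' : Subgroup G) := by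
      rw [← hTmap]
      exact Nat.card_congr (T.equivMapOfInjective _ (E.conj n).inj).toEquiv
    rw [h1]; exact hcard
  have hTS : T ≤ S0 := by
    rintro s ⟨-, s', hs', he'⟩
    rwa [← (E.conj n).inj he']
  have hα1 : α ^ orderOf x = 1 := (hα.pow (orderOf x)).unique (by
    rw [pow_orderOf_eq_one]; exact Act.one)
  have h2 : ¬ 2 ∣ orderOf x := by
    intro h
    rw [← Nat.not_even_iff_odd] at hodd
    exact hodd (even_iff_two_dvd.mpr h)
  have := Facts3.aut_odd h2 hα1 hTS hTcard (fun s hs => by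
    rw [← hα.commute_iff]
    exact hcomm _ hs.1)
  rw [this] at hα
  exact act_one_iff.mp hα

/-- the subgroup generated by the elements of odd order of the `C_K(r)`, `1 ≠ r ∈ R` -/
def W (E : SEmb G) (R : Subgroup G) : Subgroup G :=
  Subgroup.closure {x | x ∈ E.K ∧ Odd (orderOf x) ∧ ∃ r ∈ R, r ≠ 1 ∧ Commute x r}

theorem mem_W {x r : G} (hx : x ∈ E.K) (hodd : Odd (orderOf x)) (hr : r ∈ R) (hr1 : r ≠ 1)
    (hxr : Commute x r) : x ∈ W E R := Subgroup.subset_closure ⟨hx, hodd, r, hr, hr1, hxr⟩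

theorem W_le_K : W E R ≤ E.K := (Subgroup.closure_le _).mpr fun _ h => h.1

theorem W_le_conj_K [Finite G] (hB : Bs E R) (hn : NT E R n) :
    W E R ≤ (E.conj n).K := by
  refine (Subgroup.closure_le _).mpr ?_
  rintro x ⟨hx, hodd, r, hr, hr1, hxr⟩
  exact mem_conj_K_of_odd hB hn hx hodd hr hr1 hxr

theorem W_odd [Finite G] (hB : Bs E R) (hn : NT E R n) (hnM : n ∉ E.M) :
    Odd (Nat.card (W E R)) := by
  rw [← Nat.not_even_iff_odd, even_iff_two_dvd]
  intro h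
  obtain ⟨x, hx, hx1, hx2⟩ := exists_invol h
  exact (Pr.of_not_mem hnM).sep x hx1 hx2 (W_le_K hx) (W_le_conj_K hB hn hx)

/-- conjugation that preserves `K` and `R` preserves `W` -/
theorem conj_W_of {m : G} (hm : m ∈ E.M) (hR : ∀ r ∈ R, m * r * m⁻¹ ∈ R) :
    ∀ x ∈ W E R, m * x * m⁻¹ ∈ W E R := by
  intro x hx
  have h1 : W E R ≤ (W E R).comap (MulAut.conj m).toMonoidHom := by
    refine (Subgroup.closure_le _).mpr ?_
    rintro x ⟨hx, hodd, r, hr, hr1, hxr⟩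
    show (MulAut.conj m) x ∈ W E R
    rw [MulAut.conj_apply]
    refine mem_W (r := m * r * m⁻¹) (conj_mem_K hm hx) ?_ (hR r hr) ?_ ?_
    · rw [← MulAut.conj_apply, MulEquiv.orderOf_eq]; exact hodd
    · intro h
      apply hr1
      have : r = m⁻¹ * (m * r * m⁻¹) * m := by group
      rw [this, h]; group
    · exact hxr.conj m
  exact h1 hx

theorem NT.conj_R_mem (hB : Bs E R) (hn : NT E R n) (hnM : n ∈ E.M) {r : G} (hr : r ∈ R) :
    n * r * n⁻¹ ∈ R :=
  T0_inf_K hB ((hn r).mp (R_le_T0 hr)) (conj_mem_K hnM (hB.le hr))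

/-- `N(T0)` normalises `W` -/
theorem NT.conj_W [Finite G] (hB : Bs E R) (hn : NT E R n) :
    ∀ x ∈ W E R, n * x * n⁻¹ ∈ W E R := by
  by_cases hnM : n ∈ E.M
  · exact conj_W_of hnM (fun r hr => hn.conj_R_mem hB hnM hr)
  intro x hx
  have h1 : W E R ≤ (W E R).comap (MulAut.conj n).toMonoidHom := by
    refine (Subgroup.closure_le _).mpr ?_
    rintro x ⟨hx, hodd, r, hr, hr1, hxr⟩
    show (MulAut.conj n) x ∈ W E R
    rw [MulAut.conj_apply]
    have h2 := mem_conj_K_of_odd hB hn.inv hx hodd hr hr1 hxr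
    rw [mem_conj_K, inv_inv] at h2
    obtain ⟨r', hr', z, hz, he⟩ := conj_R hB hn hr
    refine mem_W (r := r') h2 ?_ hr' (conj_R_ne hB hn hr hr' hz he hr1) ?_
    · rw [← MulAut.conj_apply, MulEquiv.orderOf_eq]; exact hodd
    · have h3 : Commute (n * x * n⁻¹) (r' * E.ι z) := by rw [he]; exact hxr.conj n
      have h4 : Commute (n * x * n⁻¹) (E.ι z) := commute_ι h2 z
      have h5 := h3.mul_right h4.inv_right
      rwa [mul_inv_cancel_right] at h5
  exact h1 hx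

/-- `N(R)` normalises `W` -/
theorem normR_conj_W (hB : Bs E R) {m : G} (hm : ∀ r ∈ R, m * r * m⁻¹ ∈ R) :
    m ∈ E.M ∧ ∀ x ∈ W E R, m * x * m⁻¹ ∈ W E R := by
  have hR : R ≠ ⊥ := by
    intro h0
    have := hB.card
    rw [h0, Subgroup.card_bot] at this
    omega
  have h1 : m ∈ E.M := mem_M_of_normalize hB.le hB.syl.two hR hm
  exact ⟨h1, conj_W_of h1 hm⟩

/-- `C_K(r) ≤ W R` -/
theorem cent_K_le [Finite G] (hB : Bs E R) (hn : NT E R n) (hnM : n ∉ E.M) {r c : G} (hr : r ∈ R)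
    (hr1 : r ≠ 1) (hc : c ∈ E.K) (hcr : Commute c r) :
    ∃ w ∈ W E R, Commute w r ∧ ∃ ρ ∈ R, c = w * ρ := by
  set V : Subgroup G := E.K ⊓ Subgroup.centralizer ({r} : Set G) with hV
  have hRV : R ≤ V := by
    intro x hx
    exact ⟨hB.le hx, Subgroup.mem_centralizer_singleton_iff.mpr (hB.el.comm hx hr)⟩
  have hsyl : IsSyl R V := hB.syl.mono hRV inf_le_left
  obtain ⟨S, hS⟩ := isSyl_iff.mp hsyl
  set Wr : Subgroup V := (W E R).subgroupOf V with hWr
  have hodd : ∀ x : V, x ∈ Wr ↔ Odd (orderOf x) := by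
    intro x
    rw [hWr, Subgroup.mem_subgroupOf, ← Subgroup.orderOf_coe]
    constructor
    · intro hx
      have h1 : orderOf (⟨x, hx⟩ : W E R) ∣ Nat.card (W E R) := orderOf_dvd_natCard _
      rw [Subgroup.orderOf_mk] at h1
      exact Odd.of_dvd_nat (W_odd hB hn hnM) h1
    · intro hx
      exact mem_W x.2.1 hx hr hr1 (Subgroup.mem_centralizer_singleton_iff.mp x.2.2)
  have hnormal : Wr.Normal := by
    refine ⟨fun x hx g => ?_⟩
    rw [hodd] at hx ⊢
    rwa [← MulAut.conj_apply, MulEquiv.orderOf_eq]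
  have key := Cfsg.Agent.Lib.SylowNormalInf.le_sup_inf S (⊤ : Subgroup V) Wr (by
    intro x _
    obtain ⟨k, m, hm, he⟩ := Nat.exists_eq_two_pow_mul_odd (n := orderOf x) (orderOf_pos x).ne'
    refine ⟨k, ?_⟩
    rw [hodd]
    apply Odd.of_dvd_nat hm
    rw [orderOf_dvd_iff_pow_eq_one, ← pow_mul, ← he, pow_orderOf_eq_one])
  have hcV : (⟨c, hc, Subgroup.mem_centralizer_singleton_iff.mpr hcr.eq⟩ : V) ∈
      Wr ⊔ ((S : Subgroup V) ⊓ ⊤) := key (Subgroup.mem_top _)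
  rw [inf_top_eq, Subgroup.mem_sup_of_normal_left] at hcV
  obtain ⟨w, hw, ρ, hρ, he⟩ := hcV
  refine ⟨w, hw, Subgroup.mem_centralizer_singleton_iff.mp w.2.2, ρ, ?_, (congrArg Subtype.val he).symm⟩
  rw [← hS]
  exact ⟨ρ, hρ, rfl⟩

/-- `C(r) = W_r N_{C(r)}(R)` and `C(r)` normalises `W` -/
theorem cent_r [Finite G] (hB : Bs E R) (hn : NT E R n) (hnM : n ∉ E.M) {r c : G} (hr : r ∈ R)
    (hr1 : r ≠ 1) (hcr : Commute c r) :
    ∃ w ∈ W E R, Commute w r ∧ ∃ m, (∀ x, x ∈ R ↔ m * x * m⁻¹ ∈ R) ∧ Commute m r ∧ c = w * m := by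
  have hcM : c ∈ E.M := mem_M_of_commute hr1 (hB.el r hr) (hB.le hr) hcr
  set V : Subgroup G := E.K ⊓ Subgroup.centralizer ({r} : Set G) with hV
  have hRV : R ≤ V := by
    intro x hx
    exact ⟨hB.le hx, Subgroup.mem_centralizer_singleton_iff.mpr (hB.el.comm hx hr)⟩
  have hsyl : IsSyl R V := hB.syl.mono hRV inf_le_left
  have hRc : IsSyl (R.map (MulAut.conj c).toMonoidHom) V := by
    apply isSyl_of_card
    · rintro _ ⟨x, hx, rfl⟩
      have h1 : Commute (c * x * c⁻¹) r := by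
        have h2 : Commute (c * x * c⁻¹) (c * r * c⁻¹) :=
          (show Commute x r from hB.el.comm hx hr).conj c
        have h3 : c * r * c⁻¹ = r := by rw [hcr.eq, mul_inv_cancel_right]
        rwa [h3] at h2
      have : c * x * c⁻¹ ∈ V :=
        ⟨conj_mem_K hcM (hB.le hx), Subgroup.mem_centralizer_singleton_iff.mpr h1.eq⟩
      simpa using this
    · rw [card_conj]; exact hsyl.card_eq
  obtain ⟨k, hk, hkk⟩ := hsyl.exists_conj hRc
  have hkr : Commute k r := Subgroup.mem_centralizer_singleton_iff.mp hk.2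
  -- `m0 = k c` normalises `R`
  have hm0 : ∀ x, x ∈ R ↔ (k * c) * x * (k * c)⁻¹ ∈ R := by
    intro x
    have h1 : c * x * c⁻¹ ∈ R.map (MulAut.conj c).toMonoidHom ↔ x ∈ R := by
      constructor
      · rintro ⟨y, hy, he⟩
        have h2 : c * y * c⁻¹ = c * x * c⁻¹ := by simpa using he
        have h3 : y = x := mul_left_cancel (mul_right_cancel h2)
        rwa [← h3]
      · intro hx
        exact ⟨x, hx, by simp⟩
    rw [← h1, hkk]
    have e : k * (c * x * c⁻¹) * k⁻¹ = k * c * x * (k * c)⁻¹ := by group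
    rw [e]
  obtain ⟨w, hw, hwr, ρ, hρ, he⟩ := cent_K_le hB hn hnM hr hr1 (E.K.inv_mem hk.1) hkr.inv_left
  refine ⟨w, hw, hwr, ρ * (k * c), ?_, ?_, ?_⟩
  · intro x
    rw [hm0 x]
    have e : ρ * (k * c) * x * (ρ * (k * c))⁻¹ = ρ * (k * c * x * (k * c)⁻¹) * ρ⁻¹ := by group
    rw [e]
    constructor
    · intro h; exact R.mul_mem (R.mul_mem hρ h) (R.inv_mem hρ)
    · intro h
      have := R.mul_mem (R.mul_mem (R.inv_mem hρ) h) hρ
      simpa [mul_assoc] using this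
  · exact (show Commute ρ r from hB.el.comm hρ hr).mul_left (hkr.mul_left hcr)
  · calc c = k⁻¹ * (k * c) := by group
      _ = w * ρ * (k * c) := by rw [he]
      _ = w * (ρ * (k * c)) := by group

theorem cent_conj_W [Finite G] (hB : Bs E R) (hn : NT E R n) (hnM : n ∉ E.M) {r c : G} (hr : r ∈ R)
    (hr1 : r ≠ 1) (hcr : Commute c r) : ∀ x ∈ W E R, c * x * c⁻¹ ∈ W E R := by
  intro x hx
  obtain ⟨w, hw, -, m, hm, -, he⟩ := cent_r hB hn hnM hr hr1 hcr
  have h1 := (normR_conj_W hB (fun r hr => (hm r).mp hr)).2 x hx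
  have e : c * x * c⁻¹ = w * (m * x * m⁻¹) * w⁻¹ := by rw [he]; group
  rw [e]
  exact (W E R).mul_mem ((W E R).mul_mem hw h1) ((W E R).inv_mem hw)

end Cfsg.Agent.StdLThreeFour.Red3
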