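import Cfsg.Agent.StdLThreeFour.RFourAm
import Cfsg.Agent.StdLThreeFour.SRel
import Cfsg.Agent.StdLThreeFour.Carm

/-!
# Standard `L3(4)`, case `|R| = 4`: the relations of `w = p q p`
-/

set_option autoImplicit false
set_option linter.unusedVariables false
set_option linter.unusedSectionVars false
set_option linter.constructorNameAsVariable false

namespace Cfsg.Agent.StdLThreeFour.RhoSRel

open Matrix
open Cfsg.Agent.StdLThreeFour.Base Cfsg.Agent.StdLThreeFour.RFourDefs Cfsg.Agent.StdLThreeFour.RFourU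
open Cfsg.Agent.StdLThreeFour.RFourRho Cfsg.Agent.StdLThreeFour.RFourRhoA
open Cfsg.Agent.StdLThreeFour.RFourRhoB Cfsg.Agent.StdLThreeFour.RFourAm
open Cfsg.Agent.SporadicA.FieldFour
open Cfsg.Agent.ONType.Psl

/-- the involution `w = p q p` inverting `ρ` -/
def ww {X : Type*} [Group X] (ι : L0 →* X) (n : F4 → X) : X := P1 ι n 1 * P2 ι n ω * P1 ι n 1

variable {X : Type*} [Group X] {ι : L0 →* X} {r n : F4 → X} {ρ : X}

theorem ww_sq (R : Rho ι r n ρ) : ww ι n * ww ι n = 1 :=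
  Carm.pqp2 (P1_sq R.hyp.t 1) (P2_sq R.hyp.t ω)

theorem ww_z (R : Rho ι r n ρ) (c : F4) : Commute (ww ι n) (zz ι c) :=
  ((P1_z R.hyp.t 1 c).mul_left (P2_z R.hyp.t ω c)).mul_left (P1_z R.hyp.t 1 c)

theorem P1_n (R : Rho ι r n ρ) (a l : F4) : P1 ι n a * n l * P1 ι n a =
    n l * ι (t 0 1 (ω2 * (l * a * a))) * zz ι (ω2 * (l * l * a)) := by
  have h1 : n l * P1 ι n a = P1 ι n a * n l * ι (t 0 1 (ω2 * (l * a * a))) *
    ι (t 0 2 (ω2 * (l * l * a))) := R.hyp.u.np₁ l a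
  rw [mul_assoc, h1, ← mul_assoc, ← mul_assoc, ← mul_assoc, P1_sq R.hyp.t, one_mul]; rfl

theorem P1_12 (R : Rho ι r n ρ) (a b : F4) : P1 ι n a * ι (t 1 2 b) * P1 ι n a =
    n (a * b) * r (ω2 * (a * a * b)) * ι (t 0 1 (ω2 * (a * a * a * b))) * ι (t 1 2 b) := by
  have h1 : ι (t 1 2 b) * P1 ι n a * (ι (t 1 2 b))⁻¹ = P1 ι n a * n (a * b) *
    r (ω2 * (a * a * b)) * ι (t 0 1 (ω2 * (a * a * a * b))) := R.hyp.u.u₁ a b
  have h2 : ι (t 1 2 b) * P1 ι n a = P1 ι n a * n (a * b) *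
    r (ω2 * (a * a * b)) * ι (t 0 1 (ω2 * (a * a * a * b))) * ι (t 1 2 b) := by
    rw [← h1]; group
  rw [mul_assoc, h2]
  simp only [← mul_assoc]
  rw [P1_sq R.hyp.t, one_mul]

theorem P2_01 (R : Rho ι r n ρ) (a b : F4) : P2 ι n a * ι (t 0 1 b) * P2 ι n a =
    n (a * b) * r (ω * (a * a * b)) * ι (t 1 2 (ω * (a * a * a * b))) * ι (t 0 1 b) := by
  have h1 : ι (t 0 1 b) * P2 ι n a * (ι (t 0 1 b))⁻¹ = P2 ι n a * n (a * b) *
    r (ω * (a * a * b)) * ι (t 1 2 (ω * (a * a * a * b))) := R.hyp.u.u₂ a b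
  have h2 : ι (t 0 1 b) * P2 ι n a = P2 ι n a * n (a * b) *
    r (ω * (a * a * b)) * ι (t 1 2 (ω * (a * a * a * b))) * ι (t 0 1 b) := by
    rw [← h1]; group
  rw [mul_assoc, h2]
  simp only [← mul_assoc]
  rw [P2_sq R.hyp.t, one_mul]

theorem P1_r' (R : Rho ι r n ρ) (m a : F4) : P1 ι n a * r m * P1 ι n a = r m * ι (t 0 1 (a * m)) := by
  have h1 := P1_r R.hyp.t m a
  rwa [inv_eq_of_mul_eq_one_right (P1_sq R.hyp.t a)] at h1

theorem P2_r' (R : Rho ι r n ρ) (m a : F4) : P2 ι n a * r m * P2 ι n a = r m * ι (t 1 2 (a * m)) := by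
  have h1 := P2_r R.hyp.t m a
  rwa [inv_eq_of_mul_eq_one_right (P2_sq R.hyp.t a)] at h1

/-- conjugation by an involution is multiplicative -/
theorem cmul {P x y : X} (hP : P * P = 1) : P * (x * y) * P = (P * x * P) * (P * y * P) := by
  calc P * (x * y) * P = P * x * (P * P) * y * P := by rw [hP]; group
    _ = _ := by group

/-- **`R → Y13`** -/
theorem ww_r (R : Rho ι r n ρ) (m : F4) : ww ι n * r m * ww ι n = n (ω * m) := by
  have h := R.hyp.t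
  have p2 := P1_sq h 1
  have q2 := P2_sq h ω
  have e1 : ∀ m : F4, ω * m * m + ω2 * (ω * m * (ω * m) * 1) = 0 := by decide
  have e2 : ∀ m : F4, ω * (ω * ω * m) = m := by decide
  have e3 : ∀ m : F4, ω * (ω * ω * ω * m) = ω * m := by decide
  have e4 : ∀ m : F4, ω2 * (ω * m * 1 * 1) = m := by decide
  have s1 : P1 ι n 1 * r m * P1 ι n 1 = r m * ι (t 0 1 m) := by rw [P1_r' R, one_mul]
  have s2 : P2 ι n ω * (r m * ι (t 0 1 m)) * P2 ι n ω = n (ω * m) * (zz ι (ω * m * m) * ι (t 0 1 m)) := by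
    rw [cmul q2, P2_r' R, P2_01 R, e2, e3]
    have c1 : Commute (ι (t 1 2 (ω * m))) (n (ω * m) * r m) :=
      ((n_12 h (ω * m) (ω * m)).symm).mul_right ((h.r_L m _).symm)
    have a12 : ι (t 1 2 (ω * m)) * ι (t 1 2 (ω * m)) = 1 := by
      rw [← map_mul, t_add 1 2 _ _ (by decide), RFourCocyc.add_self, t_zero, map_one]
    have r2 : r m * r m = 1 := by rw [← h.r_add, RFourCocyc.add_self, r_zero h]
    calc r m * ι (t 1 2 (ω * m)) * (n (ω * m) * r m * ι (t 1 2 (ω * m)) * ι (t 0 1 m))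
        = r m * (ι (t 1 2 (ω * m)) * (n (ω * m) * r m)) * ι (t 1 2 (ω * m)) * ι (t 0 1 m) := by group
      _ = r m * (n (ω * m) * r m) * (ι (t 1 2 (ω * m)) * ι (t 1 2 (ω * m))) * ι (t 0 1 m) := by
        rw [c1.eq]; group
      _ = r m * n (ω * m) * r m * ι (t 0 1 m) := by rw [a12]; group
      _ = n (ω * m) * r m * (zz ι (ω * m * m) * r m) * ι (t 0 1 m) := by
        rw [h.rn]; unfold zz; group
      _ = n (ω * m) * (r m * r m) * zz ι (ω * m * m) * ι (t 0 1 m) := by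
        rw [← (r_z h m (ω * m * m)).eq]; group
      _ = _ := by rw [r2]; group
  have s3 : P1 ι n 1 * (n (ω * m) * (zz ι (ω * m * m) * ι (t 0 1 m))) * P1 ι n 1 = n (ω * m) := by
    rw [cmul p2, cmul p2, P1_n R, (P1_z h 1 (ω * m * m)).eq, (P1_01 h 1 m).eq, e4]
    have a01 : ι (t 0 1 m) * ι (t 0 1 m) = 1 := by
      rw [← map_mul, t_add 0 1 _ _ (by decide), RFourCocyc.add_self, t_zero, map_one]
    calc n (ω * m) * ι (t 0 1 m) * zz ι (ω2 * (ω * m * (ω * m) * 1)) *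
          (zz ι (ω * m * m) * P1 ι n 1 * P1 ι n 1 * (ι (t 0 1 m) * P1 ι n 1 * P1 ι n 1))
        = n (ω * m) * ι (t 0 1 m) * (zz ι (ω2 * (ω * m * (ω * m) * 1)) * zz ι (ω * m * m)) *
          (P1 ι n 1 * P1 ι n 1) * ι (t 0 1 m) * (P1 ι n 1 * P1 ι n 1) := by group
      _ = n (ω * m) := by
        rw [p2, ← zz_add, add_comm, e1, zz_zero, mul_one, mul_one, mul_one, mul_assoc, a01, mul_one]
  unfold ww
  calc P1 ι n 1 * P2 ι n ω * P1 ι n 1 * r m * (P1 ι n 1 * P2 ι n ω * P1 ι n 1)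
      = P1 ι n 1 * (P2 ι n ω * (P1 ι n 1 * r m * P1 ι n 1) * P2 ι n ω) * P1 ι n 1 := by group
    _ = _ := by rw [s1, s2, s3]

/-- **`X12 → X23`** -/
theorem ww_01 (R : Rho ι r n ρ) (b : F4) : ww ι n * ι (t 0 1 b) * ww ι n =
    ι (t 1 2 (ω * b)) * zz ι (ω * b * b) := by
  have h := R.hyp.t
  have p2 := P1_sq h 1
  have q2 := P2_sq h ω
  have e2 : ∀ m : F4, ω * (ω * ω * m) = m := by decide
  have e3 : ∀ m : F4, ω * (ω * ω * ω * m) = ω * m := by decide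
  have e4 : ∀ m : F4, ω2 * (ω * m * 1 * 1) = m := by decide
  have e5 : ∀ m : F4, ω2 * (1 * 1 * (ω * m)) = m := by decide
  have e6 : ∀ m : F4, ω2 * (1 * 1 * 1 * (ω * m)) = m := by decide
  have e7 : ∀ m : F4, ω2 * (ω * m * (ω * m) * 1) = ω * m * m := by decide
  have s1 : P1 ι n 1 * ι (t 0 1 b) * P1 ι n 1 = ι (t 0 1 b) := by
    rw [(P1_01 h 1 b).eq, mul_assoc, p2, mul_one]
  have s2 : P2 ι n ω * ι (t 0 1 b) * P2 ι n ω =
      n (ω * b) * (r b * (ι (t 1 2 (ω * b)) * ι (t 0 1 b))) := by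
    rw [P2_01 R, e2, e3]; group
  have a01 : ι (t 0 1 b) * ι (t 0 1 b) = 1 := by
    rw [← map_mul, t_add 0 1 _ _ (by decide), RFourCocyc.add_self, t_zero, map_one]
  have r2 : r b * r b = 1 := by rw [← h.r_add, RFourCocyc.add_self, r_zero h]
  have n2 : n (ω * b) * n (ω * b) = 1 := by rw [h.nn_sq, zero_mul, t_zero, map_one]
  have s3 : P1 ι n 1 * (n (ω * b) * (r b * (ι (t 1 2 (ω * b)) * ι (t 0 1 b)))) * P1 ι n 1 =
      ι (t 1 2 (ω * b)) * zz ι (ω * b * b) := by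
    rw [cmul p2, cmul p2, cmul p2, P1_n R, P1_r' R, P1_12 R, s1, e4, e5, e6, e7, one_mul]
    have c1 : Commute (ι (t 0 1 b)) (r b) := (h.r_L b _).symm
    have c2 : Commute (ι (t 0 1 b)) (n (ω * b)) := (n_01 h (ω * b) b).symm
    have cz1 : ∀ c, Commute (zz ι c) (r b) := fun c => (r_z h b c).symm
    have cz2 : ∀ c, Commute (zz ι c) (n (ω * b)) := fun c => (n_z h (ω * b) c).symm
    have cz3 : ∀ c, Commute (zz ι c) (ι (t 0 1 b)) := fun c => (z_01 h b c).symm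
    have cz4 : ∀ c, Commute (zz ι c) (ι (t 1 2 (ω * b))) := fun c => (z_12 h (ω * b) c).symm
    have rn : r b * n (ω * b) * r b = n (ω * b) * zz ι (ω * b * b) := by
      rw [h.rn]
      calc n (ω * b) * r b * ι (t 0 2 (ω * b * b)) * r b =
          n (ω * b) * (r b * (zz ι (ω * b * b) * r b)) := by unfold zz; group
        _ = n (ω * b) * ((r b * r b) * zz ι (ω * b * b)) := by rw [(cz1 _).eq]; group
        _ = _ := by rw [r2, one_mul]
    have sw : ι (t 1 2 (ω * b)) * ι (t 0 1 b) = ι (t 0 1 b) * ι (t 1 2 (ω * b)) * zz ι (ω * b * b) := by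
      have h2 : t 1 2 (ω * b) * t 0 1 b = t 0 1 b * t 1 2 (ω * b) * t 0 2 (b * (ω * b)) :=
        Base.swap b (ω * b)
      have e8 : b * (ω * b) = ω * b * b := by ring
      unfold zz
      rw [← map_mul, h2, map_mul, map_mul, e8]
    set z := zz ι (ω * b * b) with hz
    set x := ι (t 0 1 b) with hx
    set y := ι (t 1 2 (ω * b)) with hy
    set N := n (ω * b) with hN
    have z2 : z * z = 1 := by rw [hz, ← zz_add, RFourCocyc.add_self, zz_zero]
    -- `N x z (r x (N r x y x)) = y z`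
    calc N * x * z * (r b * x * (N * r b * x * y * x))
        = N * x * (z * (r b * x * N * r b * x)) * (y * x) := by group
      _ = N * x * ((r b * x * N * r b * x) * z) * (y * x) := by
          rw [((((cz1 _).mul_right (cz3 _)).mul_right (cz2 _)).mul_right (cz1 _)).mul_right (cz3 _)
            |>.eq]
      _ = N * x * ((r b * (x * N) * r b * x) * z) * (x * y * z) := by rw [sw]; group
      _ = N * x * ((r b * N * (x * r b) * x) * z) * (x * y * z) := by rw [c2.eq]; group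
      _ = N * x * ((r b * N * r b) * (x * x) * z) * (x * y * z) := by rw [c1.eq]; group
      _ = N * x * (N * (z * z)) * (x * y * z) := by rw [rn, a01]; group
      _ = N * (x * N) * x * y * z := by rw [z2]; group
      _ = (N * N) * (x * x) * y * z := by rw [c2.eq]; group
      _ = y * z := by rw [n2, a01]; group
  unfold ww
  calc P1 ι n 1 * P2 ι n ω * P1 ι n 1 * ι (t 0 1 b) * (P1 ι n 1 * P2 ι n ω * P1 ι n 1)
      = P1 ι n 1 * (P2 ι n ω * (P1 ι n 1 * ι (t 0 1 b) * P1 ι n 1) * P2 ι n ω) * P1 ι n 1 := by group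
    _ = _ := by rw [s1, s2, s3]

theorem ww_12 (R : Rho ι r n ρ) (b : F4) : ww ι n * ι (t 1 2 b) * ww ι n =
    ι (t 0 1 (ω2 * b)) * zz ι (ω2 * b * b) := by
  have h1 := ww_01 R (ω2 * b)
  have e1 : ∀ b : F4, ω * (ω2 * b) = b := by decide
  have e2 : ∀ b : F4, b * (ω2 * b) = ω2 * b * b := by decide
  rw [e1, e2] at h1
  have w2 := ww_sq R
  have hz : ww ι n * zz ι (ω2 * b * b) * ww ι n = zz ι (ω2 * b * b) := by
    rw [(ww_z R _).eq, mul_assoc, w2, mul_one]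
  have z2 : zz ι (ω2 * b * b) * zz ι (ω2 * b * b) = 1 := by
    rw [← zz_add, RFourCocyc.add_self, zz_zero]
  have h2 : ι (t 1 2 b) = (ww ι n * ι (t 0 1 (ω2 * b)) * ww ι n) * zz ι (ω2 * b * b) := by
    rw [h1, mul_assoc, z2, mul_one]
  rw [h2, cmul w2, hz]
  calc ww ι n * (ww ι n * ι (t 0 1 (ω2 * b)) * ww ι n) * ww ι n * zz ι (ω2 * b * b)
      = (ww ι n * ww ι n) * ι (t 0 1 (ω2 * b)) * (ww ι n * ww ι n) * zz ι (ω2 * b * b) := by group
    _ = _ := by rw [w2]; group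

theorem ww_θ (R : Rho ι r n ρ) : Commute (ww ι n) (ι hh * ρ) :=
  ((R.θ_P1 1).mul_left (R.θ_P2 ω)).mul_left (R.θ_P1 1)

theorem ww_ρ (R : Rho ι r n ρ) : ww ι n * ρ * (ww ι n * ρ) = 1 := R.pqpρ

theorem srel (R : Rho ι r n ρ) : SRel.SRel (ι (nn 0 1)) (ι (nn 1 2)) (ι (t 0 2 1)) (ι (t 0 2 ω))
    (ι hh) ρ (ww ι n) := by
  have h := R.hyp.t
  have A := am R
  have w2 := ww_sq R
  have z2 : ∀ c, zz ι c * zz ι c = 1 := fun c => by rw [← zz_add, RFourCocyc.add_self, zz_zero]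
  have z2' : ∀ c, ι (t 0 2 c) * ι (t 0 2 c) = 1 := z2
  have nni : ∀ (i j : Fin 3) (_ : i ≠ j), (ι (nn i j))⁻¹ = ι (nn i j) := fun i j hij => by
    rw [← map_inv, nn_inv i j hij]
  have zi : ∀ c, (ι (t 0 2 c))⁻¹ = ι (t 0 2 c) := fun c => inv_eq_of_mul_eq_one_right (z2' c)
  have cn : ∀ u, ι (nn 1 2) * ι (t 0 2 u) * ι (nn 1 2) = ι (t 0 1 u) := fun u => by
    rw [← cj_n, ← cj_map]; unfold cj; rw [nni 1 2 (by decide)]
  have cmm : ∀ u, ι (nn 0 1) * ι (t 0 2 u) * ι (nn 0 1) = ι (t 1 2 u) := fun u => by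
    rw [← cj_m, ← cj_map]; unfold cj; rw [nni 0 1 (by decide)]
  have i01 : ∀ u, (ι (t 0 1 u))⁻¹ = ι (t 0 1 u) := fun u => by rw [← map_inv, t_inv 0 1 (by decide)]
  have i12 : ∀ u, (ι (t 1 2 u))⁻¹ = ι (t 1 2 u) := fun u => by rw [← map_inv, t_inv 1 2 (by decide)]
  have s01 : ∀ u, ι (t 0 1 u) * ι (t 0 1 u) = 1 := fun u => by
    rw [← map_mul, t_add 0 1 _ _ (by decide), RFourCocyc.add_self, t_zero, map_one]
  have s12 : ∀ u, ι (t 1 2 u) * ι (t 1 2 u) = 1 := fun u => by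
    rw [← map_mul, t_add 1 2 _ _ (by decide), RFourCocyc.add_self, t_zero, map_one]
  have e1 : (1 : F4) + ω = ω2 := by decide
  have caz : ι (t 0 2 1) * ι (t 0 2 ω) = ι (t 0 2 ω2) := by
    rw [← map_mul, t_add 0 2 _ _ (by decide), e1]
  have cm1 : ∀ u v, ι (t 0 1 u) * ι (t 1 2 v) * ι (t 0 1 u) * ι (t 1 2 v) = ι (t 0 2 (u * v)) := by
    intro u v
    have := cm_swap u v
    unfold cm at this
    rw [t_inv 0 1 (by decide), t_inv 1 2 (by decide)] at this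
    rw [← this, map_mul, map_mul, map_mul]
  have z01 : ∀ a c, ι (t 0 2 c) * ι (t 0 1 a) = ι (t 0 1 a) * ι (t 0 2 c) := fun a c =>
    (z_01 h a c).symm.eq
  have z12 : ∀ a c, ι (t 0 2 c) * ι (t 1 2 a) = ι (t 1 2 a) * ι (t 0 2 c) := fun a c =>
    (z_12 h a c).symm.eq
  have n2 := A.n2
  have m2 := A.m2
  have can : ι (nn 1 2) * ι (t 0 2 1) * ι (t 0 2 ω) * ι (nn 1 2) = ι (t 0 1 ω2) := by
    rw [mul_assoc (ι (nn 1 2)), caz, cn]
  have cam : ι (nn 0 1) * ι (t 0 2 1) * ι (t 0 2 ω) * ι (nn 0 1) = ι (t 1 2 ω2) := by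
    rw [mul_assoc (ι (nn 0 1)), caz, cmm]
  refine
    { m2 := m2
      n2 := n2
      c2 := A.c2
      a2 := A.a2
      w2 := w2
      t3 := A.t3
      r3 := A.r3
      mn3 := A.mn3
      tm := A.tm2
      tn := A.tn2
      act := A.act
      ct3 := A.ct3
      ca := ?_
      ccn := ?_
      acn := ?_
      ccm := ?_
      acm := ?_
      cncm := ?_
      ancm := ?_
      cnam := ?_
      anam := ?_
      cmnm := A.cmnm
      rm := R.comm _
      rn := R.comm _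
      rc := R.comm _
      rt := R.comm _
      wr := ?_
      wc := (ww_z R 1).eq
      wa := (ww_z R ω).eq
      wcn := ?_
      wan := ?_
      wcm := ?_
      wam := ?_
      wt := ?_
      www := ?_ }
  · rw [← map_mul, ← map_mul, t_add 0 2 _ _ (by decide), t_add 0 2 _ _ (by decide), add_comm]
  · rw [cn, z01, ← cn 1]
  · rw [cn, z01, ← cn 1]
  · rw [cmm, z12, ← cmm 1]
  · rw [cmm, z12, ← cmm 1]
  · rw [cn, cmm, cm1, mul_one]; exact z2' 1
  · rw [cn, cmm, cm1, mul_one]; exact z2' ω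
  · rw [cn, cmm, cm1, one_mul]; exact z2' ω
  · rw [cn, cmm, cm1]
    have e : (ω : F4) * ω = ω2 := by decide
    rw [e, mul_assoc, caz]; exact z2' ω2
  · rw [← ww_ρ R]; group
  · rw [cn, cmm, ww_01 R]
    have e : zz ι (ω * 1 * 1) = ι (t 0 2 ω) := by rw [mul_one, mul_one]; rfl
    rw [e, mul_one]
    calc ι (t 1 2 ω) * ι (t 0 2 ω) * ι (t 0 2 ω) * ι (t 1 2 ω) =
        ι (t 1 2 ω) * (ι (t 0 2 ω) * ι (t 0 2 ω)) * ι (t 1 2 ω) := by group
      _ = 1 := by rw [z2', mul_one, s12]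
  · rw [cn, cam, ww_01 R]
    have e : zz ι (ω * ω * ω) = ι (t 0 2 1) := by
      have : (ω * ω * ω : F4) = 1 := by decide
      rw [this]; rfl
    have e' : (ω : F4) * ω = ω2 := by decide
    rw [e, e']
    calc ι (t 1 2 ω2) * ι (t 0 2 1) * ι (t 0 2 1) * ι (t 1 2 ω2) =
        ι (t 1 2 ω2) * (ι (t 0 2 1) * ι (t 0 2 1)) * ι (t 1 2 ω2) := by group
      _ = 1 := by rw [z2', mul_one, s12]
  · rw [cmm, can, ww_12 R, caz]
    have e : zz ι (ω2 * 1 * 1) = ι (t 0 2 ω2) := by rw [mul_one, mul_one]; rfl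
    rw [e, mul_one]
    calc ι (t 0 1 ω2) * ι (t 0 2 ω2) * ι (t 0 2 ω2) * ι (t 0 1 ω2) =
        ι (t 0 1 ω2) * (ι (t 0 2 ω2) * ι (t 0 2 ω2)) * ι (t 0 1 ω2) := by group
      _ = 1 := by rw [z2', mul_one, s01]
  · rw [cmm, cn, ww_12 R]
    have e : zz ι (ω2 * ω * ω) = ι (t 0 2 ω) := by
      have : (ω2 * ω * ω : F4) = ω := by decide
      rw [this]; rfl
    have e' : (ω2 : F4) * ω = 1 := by decide
    rw [e, e']
    calc ι (t 0 1 1) * ι (t 0 2 ω) * ι (t 0 2 ω) * ι (t 0 1 1) =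
        ι (t 0 1 1) * (ι (t 0 2 ω) * ι (t 0 2 ω)) * ι (t 0 1 1) := by group
      _ = 1 := by rw [z2', mul_one, s01]
  · have c1 := (ww_θ R).eq
    have c2 := (R.comm hh).eq
    have wi : (ww ι n)⁻¹ = ww ι n := inv_eq_of_mul_eq_one_right w2
    have r1 : ww ι n * ρ * ww ι n = ρ⁻¹ := by
      rw [eq_inv_iff_mul_eq_one, ← ww_ρ R]; group
    have r2 : ww ι n * (ι hh * ρ) * ww ι n = ι hh * ρ := by rw [c1, mul_assoc, w2, mul_one]
    have r3 : ww ι n * ι hh * ww ι n = ι hh * ρ * ρ := by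
      calc ww ι n * ι hh * ww ι n = (ww ι n * (ι hh * ρ) * ww ι n) * (ww ι n * ρ * ww ι n)⁻¹ := by
            rw [_root_.mul_inv_rev, _root_.mul_inv_rev, wi]
            calc ww ι n * ι hh * ww ι n = ww ι n * (ι hh * ρ) * (ρ⁻¹ * ww ι n) := by group
              _ = ww ι n * (ι hh * ρ) * (ww ι n * ww ι n) * (ρ⁻¹ * ww ι n) := by rw [w2, mul_one]
              _ = _ := by group
        _ = _ := by rw [r2, r1, inv_inv]
    have cube := R.cube
    calc ww ι n * ι hh * ww ι n * ρ * (ι hh)⁻¹ = ι hh * ρ * ρ * ρ * (ι hh)⁻¹ := by rw [r3]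
      _ = ι hh * (ρ * ρ * ρ) * (ι hh)⁻¹ := by group
      _ = 1 := by rw [cube]; group
  · have hq : ρ * ι (nn 0 1) * ι (nn 1 2) * P1 ι n 1 * (ρ * ι (nn 0 1) * ι (nn 1 2))⁻¹ = P2 ι n ω := by
      have e2 := R.ρ_P2 1
      rw [mul_one] at e2
      rw [← e2]
      unfold P1 P2
      rw [nni 0 1 (by decide), nni 1 2 (by decide), _root_.mul_inv_rev, _root_.mul_inv_rev, nni 0 1 (by decide),
        nni 1 2 (by decide)]
      calc ρ * ι (nn 0 1) * ι (nn 1 2) * (ι (nn 1 2) * n 1 * ι (nn 1 2)) *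
            (ι (nn 1 2) * (ι (nn 0 1) * ρ⁻¹))
          = ρ * ι (nn 0 1) * (ι (nn 1 2) * ι (nn 1 2)) * n 1 * (ι (nn 1 2) * ι (nn 1 2)) *
            ι (nn 0 1) * ρ⁻¹ := by group
        _ = _ := by rw [n2]; group
    have rp : ρ * P1 ι n 1 * (ρ * P1 ι n 1) * (ρ * P1 ι n 1) = 1 := by
      have e := A.ry3
      have e2 : P1 ι n 1 = ι (nn 1 2) * n 1 * ι (nn 1 2) := by
        unfold P1; rw [nni 1 2 (by decide)]
      have c1 := (R.comm (nn 1 2)).eq
      have e3 : ρ * P1 ι n 1 = ι (nn 1 2) * (ρ * n 1) * ι (nn 1 2) := by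
        rw [e2]
        calc ρ * (ι (nn 1 2) * n 1 * ι (nn 1 2)) = (ρ * ι (nn 1 2)) * n 1 * ι (nn 1 2) := by group
          _ = _ := by rw [c1]; group
      rw [e3]
      calc ι (nn 1 2) * (ρ * n 1) * ι (nn 1 2) * (ι (nn 1 2) * (ρ * n 1) * ι (nn 1 2)) *
            (ι (nn 1 2) * (ρ * n 1) * ι (nn 1 2))
          = ι (nn 1 2) * (ρ * n 1) * (ι (nn 1 2) * ι (nn 1 2)) * (ρ * n 1) *
            (ι (nn 1 2) * ι (nn 1 2)) * (ρ * n 1) * ι (nn 1 2) := by group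
        _ = ι (nn 1 2) * ((ρ * n 1) * (ρ * n 1) * (ρ * n 1)) * ι (nn 1 2) := by rw [n2]; group
        _ = 1 := by rw [e, mul_one, n2]
    exact Carm.www m2 n2 A.mn3 (R.comm _).eq (R.comm _).eq R.cube (P1_sq h 1) rp (ww_ρ R) hq

end Cfsg.Agent.StdLThreeFour.RhoSRel
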