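import Cfsg.Agent.SporadicRecognition.CosetCertHyp

/-!
# Packed tables over a coset certificate

A certified coset table (`CosetCert`) is turned into permutations of `n` points packed in natural numbers; words acting
trivially lie in every conjugate of the subgroup.
-/

set_option autoImplicit false
set_option linter.unusedSectionVars false
set_option linter.unusedVariables false

namespace Cfsg.Agent.StdLThreeFour.SRelLoop

open Cfsg.Agent.SporadicRecognition.CosetCert

/-- entry `i` of a packed table with `10` bits per entry -/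
noncomputable def app (T i : Nat) : Nat := Nat.land (Nat.shiftRight T (Nat.mul 10 i)) 1023

/-- entry `i` of a packed table with `11` bits per entry -/
noncomputable def lv (T i : Nat) : Nat := Nat.land (Nat.shiftRight T (Nat.mul 11 i)) 2047

/-- `f 0`, ..., `f (n-1)` all true -/
noncomputable def allB (f : Nat → Bool) (n : Nat) : Bool :=
  Nat.rec (motive := fun _ => Bool) true (fun i ih => f i && ih) n

/-- apply a list of tables -/
noncomputable def fold (Ts : List Nat) : Nat → Nat :=
  List.rec (motive := fun _ => Nat → Nat) (fun j => j)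
    (fun T _ ih j => Nat.rec (motive := fun _ => Nat) 0 (fun i _ => ih i) (Nat.succ (app T j))) Ts

/-- apply a list of tables `n` times -/
noncomputable def iter (Ts : List Nat) (n : Nat) : Nat → Nat :=
  Nat.rec (motive := fun _ => Nat → Nat) (fun j => j)
    (fun _ ih j => Nat.rec (motive := fun _ => Nat) 0 (fun i _ => ih i) (Nat.succ (fold Ts j))) n

/-- the column of a word in the letters of the certificate -/
noncomputable def colOK (C : Cert) (τ LV K T : Nat) (w : List Nat) (n : Nat) : Bool :=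
  allB (fun j => Nat.rec (motive := fun _ => Bool) false (fun c _ =>
    Nat.rec (motive := fun _ => Bool) false (fun i _ =>
      Nat.blt c C.N && Nat.blt i K && Nat.beq (walkS C τ w c) (Nat.succ (lv LV i))) (Nat.succ (app T j)))
    (Nat.succ (lv LV j))) n

/-- the table of a word -/
noncomputable def sameOK (T : Nat) (Ts : List Nat) (n : Nat) : Bool :=
  allB (fun j => Nat.beq (fold Ts j) (app T j)) n

/-- a word whose `k`-th power acts trivially -/
noncomputable def powOK (Ts : List Nat) (k n : Nat) : Bool :=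
  allB (fun j => Nat.beq (iter Ts k j) j) n

/-- two words with the same action -/
noncomputable def eqOK (Ts Us : List Nat) (n : Nat) : Bool :=
  allB (fun j => Nat.beq (fold Ts j) (fold Us j)) n

theorem allB_sound {f : Nat → Bool} {n : Nat} (h : allB f n = true) : ∀ i, i < n → f i = true := by
  induction n with
  | zero => intro i hi; omega
  | succ n ih =>
    have h' : (f n && allB f n) = true := h
    rw [Bool.and_eq_true] at h'
    intro i hi
    rcases Nat.lt_succ_iff_lt_or_eq.mp hi with h1 | h1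
    · exact ih h'.2 i h1
    · subst h1; exact h'.1

theorem fold_nil (j : Nat) : fold [] j = j := rfl
theorem fold_cons (T : Nat) (Ts : List Nat) (j : Nat) : fold (T :: Ts) j = fold Ts (app T j) := rfl
theorem iter_zero (Ts : List Nat) (j : Nat) : iter Ts 0 j = j := rfl
theorem iter_succ (Ts : List Nat) (k j : Nat) : iter Ts (k + 1) j = iter Ts k (fold Ts j) := rfl

section sound

variable {G : Type*} [Group G] (H : Subgroup G) (v : Nat → G) (K : Nat)

/-- the table `T` describes right multiplication by `a` on the cosets `H v_j`, `j < K` -/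
def Act (T : Nat) (a : G) : Prop := ∀ j, j < K → app T j < K ∧ Rel H (v j * a) (v (app T j))

variable {H v K}

theorem act_of_colOK {C : Cert} {g t : Nat → G} (hyp : Hyp C H g) (ht : IsTrans C g t)
    (hall : ∀ i x, i < C.N → x ≤ C.k → look C i x = C.mask ∨ ∃ q, main C i x q = true)
    {τ LV T : Nat} {w : List Nat} (hτ : τ < C.mask) (hw : ∀ y ∈ w, y ≤ C.k)
    (h : colOK C τ LV K T w K = true) : Act H (fun j => t (lv LV j)) K T (ev g w) := by
  intro j hj
  have h1 := allB_sound h j hj
  have h2 : (Nat.blt (lv LV j) C.N && Nat.blt (app T j) K &&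
    Nat.beq (walkS C τ w (lv LV j)) (Nat.succ (lv LV (app T j)))) = true := h1
  rw [Bool.and_eq_true, Bool.and_eq_true] at h2
  obtain ⟨⟨h3, h4⟩, h5⟩ := h2
  have h3 : lv LV j < C.N := Nat.le_of_ble_eq_true h3
  have h4 : app T j < K := Nat.le_of_ble_eq_true h4
  have h5 : walkS C τ w (lv LV j) = lv LV (app T j) + 1 := Nat.eq_of_beq_eq_true h5
  refine ⟨h4, ?_⟩
  have hgood := good_of_checks C H g t hyp ht hall
  refine (walkS_sound C H g t hyp.hk τ ?_ w hw _ _ h3 h5).2
  intro i x hi hx hle
  rcases hall i x hi hx with h6 | h6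
  · omega
  · exact hgood i x hi hx h6

theorem Act.congr {T : Nat} {a : G} (h : Act H v K T a) {b : G} (hb : a = b) : Act H v K T b := hb ▸ h

theorem fold_act {Ts : List Nat} {as : List G} (h : List.Forall₂ (Act H v K) Ts as) :
    ∀ j, j < K → fold Ts j < K ∧ Rel H (v j * as.prod) (v (fold Ts j)) := by
  induction h with
  | nil =>
    intro j hj
    refine ⟨hj, ?_⟩
    rw [List.prod_nil, mul_one]
    exact Rel.refl _
  | @cons T a Ts as h1 _ ih =>
    intro j hj
    obtain ⟨h2, h3⟩ := h1 j hj
    obtain ⟨h4, h5⟩ := ih _ h2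
    refine ⟨h4, ?_⟩
    rw [List.prod_cons, ← mul_assoc]
    exact (h3.mul _).trans h5

theorem act_of_sameOK {T : Nat} {Ts : List Nat} {as : List G} (h : List.Forall₂ (Act H v K) Ts as)
    (hs : sameOK T Ts K = true) : Act H v K T as.prod := by
  intro j hj
  have h1 := Nat.eq_of_beq_eq_true (allB_sound hs j hj)
  obtain ⟨h2, h3⟩ := fold_act h j hj
  rw [h1] at h2 h3
  exact ⟨h2, h3⟩

theorem iter_act {Ts : List Nat} {as : List G} (h : List.Forall₂ (Act H v K) Ts as) (k : Nat) :
    ∀ j, j < K → iter Ts k j < K ∧ Rel H (v j * as.prod ^ k) (v (iter Ts k j)) := by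
  induction k with
  | zero =>
    intro j hj
    refine ⟨hj, ?_⟩
    rw [pow_zero, mul_one]
    exact Rel.refl _
  | succ k ih =>
    intro j hj
    obtain ⟨h2, h3⟩ := fold_act h j hj
    obtain ⟨h4, h5⟩ := ih _ h2
    refine ⟨h4, ?_⟩
    rw [pow_succ', ← mul_assoc]
    exact (h3.mul _).trans h5

/-- the element `a` lies in all `H^{v_j}` -/
def Inn (H : Subgroup G) (v : Nat → G) (K : Nat) (a : G) : Prop := ∀ j, j < K → v j * a * (v j)⁻¹ ∈ H

theorem inn_of_powOK {Ts : List Nat} {as : List G} (h : List.Forall₂ (Act H v K) Ts as) {k : Nat}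
    (hs : powOK Ts k K = true) : Inn H v K (as.prod ^ k) := by
  intro j hj
  have h1 : iter Ts k j = j := Nat.eq_of_beq_eq_true (allB_sound hs j hj)
  have h2 := (iter_act h k j hj).2
  rw [h1] at h2
  exact h2

theorem inn_of_eqOK {Ts Us : List Nat} {as bs : List G} (h : List.Forall₂ (Act H v K) Ts as)
    (h' : List.Forall₂ (Act H v K) Us bs) (hs : eqOK Ts Us K = true) :
    Inn H v K (as.prod * bs.prod⁻¹) := by
  intro j hj
  have h1 : fold Ts j = fold Us j := Nat.eq_of_beq_eq_true (allB_sound hs j hj)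
  have h2 := (fold_act h j hj).2
  have h3 := (fold_act h' j hj).2
  rw [← h1] at h3
  have h4 := h2.trans h3.symm
  have h5 : v j * as.prod * (v j * bs.prod)⁻¹ ∈ H := h4
  rw [show v j * (as.prod * bs.prod⁻¹) * (v j)⁻¹ = v j * as.prod * (v j * bs.prod)⁻¹ by group]
  exact h5

theorem covered {S : Set G} (h0 : v 0 = 1) (hK : 0 < K) (hS : ∀ x ∈ S, ∃ T, Act H v K T x)
    (hS' : ∀ x ∈ S, ∃ T, Act H v K T x⁻¹) {s : G} (hs : s ∈ Subgroup.closure S) :
    ∃ j, j < K ∧ Rel H s (v j) := by
  refine Subgroup.closure_induction_right (p := fun a _ => ∃ j, j < K ∧ Rel H a (v j)) ?_ ?_ ?_ hs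
  · exact ⟨0, hK, by rw [h0]; exact Rel.refl _⟩
  · rintro a _ b hb ⟨j, hj, h1⟩
    obtain ⟨T, hT⟩ := hS b hb
    exact ⟨_, (hT j hj).1, (h1.mul _).trans (hT j hj).2⟩
  · rintro a _ b hb ⟨j, hj, h1⟩
    obtain ⟨T, hT⟩ := hS' b hb
    exact ⟨_, (hT j hj).1, (h1.mul _).trans (hT j hj).2⟩

/-- an element in all `H^{v_j}` is trivial as soon as the core is -/
theorem eq_one_of_inn {S : Set G} (h0 : v 0 = 1) (hK : 0 < K) (hS : ∀ x ∈ S, ∃ T, Act H v K T x)
    (hS' : ∀ x ∈ S, ∃ T, Act H v K T x⁻¹)
    (core : ∀ N : Subgroup G, N ≤ H → (∀ x ∈ S, ∀ y ∈ N, x * y * x⁻¹ ∈ N) → N = ⊥) {a : G}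
    (ha : Inn H v K a) : a = 1 := by
  set N : Subgroup G :=
    { carrier := {y | ∀ s ∈ Subgroup.closure S, s * y * s⁻¹ ∈ H}
      mul_mem' := by
        intro x y hx hy s hs
        rw [show s * (x * y) * s⁻¹ = (s * x * s⁻¹) * (s * y * s⁻¹) by group]
        exact H.mul_mem (hx s hs) (hy s hs)
      one_mem' := by
        intro s hs
        rw [mul_one, mul_inv_cancel]
        exact H.one_mem
      inv_mem' := by
        intro x hx s hs
        rw [show s * x⁻¹ * s⁻¹ = (s * x * s⁻¹)⁻¹ by group]
        exact H.inv_mem (hx s hs) } with hN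
  have hbot : N = ⊥ := by
    apply core
    · intro y hy
      have h1 := hy 1 (Subgroup.one_mem _)
      simpa using h1
    · intro x hx y hy s hs
      rw [show s * (x * y * x⁻¹) * s⁻¹ = (s * x) * y * (s * x)⁻¹ by group]
      exact hy _ (Subgroup.mul_mem _ hs (Subgroup.subset_closure hx))
  have h1 : a ∈ N := by
    intro s hs
    obtain ⟨j, hj, h2⟩ := covered h0 hK hS hS' hs
    have h3 : s * (v j)⁻¹ ∈ H := h2
    have h4 := H.mul_mem (H.mul_mem h3 (ha j hj)) (H.inv_mem h3)
    rw [show s * (v j)⁻¹ * (v j * a * (v j)⁻¹) * (s * (v j)⁻¹)⁻¹ = s * a * s⁻¹ by group] at h4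
    exact h4
  rw [hbot] at h1
  exact Subgroup.mem_bot.mp h1

end sound

end Cfsg.Agent.StdLThreeFour.SRelLoop
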