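import Cfsg.Agent.StdLThreeFour.SRelTab

/-!
# The subgroup `3.U4(3):2 = ⟨L, ρ, w⟩`: all relations of `Suz` which do not involve the fifth letter
-/

set_option autoImplicit false
set_option maxRecDepth 100000

namespace Cfsg.Agent.StdLThreeFour.SRelOut

open Cfsg.Agent.SporadicRecognition.CosetCert Cfsg.Agent.SporadicRecognition.CosetCertHyp
open Cfsg.Agent.StdLThreeFour.SRelLoop Cfsg.Agent.StdLThreeFour.SRelCData Cfsg.Agent.StdLThreeFour.SRel
open Cfsg.Agent.StdLThreeFour.SRelTab

variable {X : Type*} [Group X] {m n c a t r w : X}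

theorem hrel (S : SRel m n c a t r w) : ∀ s ∈ rels, ev (gg m n c a t r w) s = 1 := by
  have hm : m⁻¹ = m := inv_eq_of_mul_eq_one_right S.m2
  have hn : n⁻¹ = n := inv_eq_of_mul_eq_one_right S.n2
  have hc : c⁻¹ = c := inv_eq_of_mul_eq_one_right S.c2
  have ha : a⁻¹ = a := inv_eq_of_mul_eq_one_right S.a2
  have hw : w⁻¹ = w := inv_eq_of_mul_eq_one_right S.w2

  have e0 : ev (gg m n c a t r w) [5,5,5] = 1 := by
    have key := S.t3
    show t * (t * (t * 1)) = 1
    simpa only [mul_assoc, mul_inv_rev, inv_inv, hm, hn, hc, ha, hw, mul_one] using key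

  have e1 : ev (gg m n c a t r w) [7,7,7] = 1 := by
    have key := S.r3
    show r * (r * (r * 1)) = 1
    simpa only [mul_assoc, mul_inv_rev, inv_inv, hm, hn, hc, ha, hw, mul_one] using key

  have e2 : ev (gg m n c a t r w) [5,0,5,0] = 1 := by
    have key := S.tm
    show t * (m * (t * (m * 1))) = 1
    simpa only [mul_assoc, mul_inv_rev, inv_inv, hm, hn, hc, ha, hw, mul_one] using key

  have e3 : ev (gg m n c a t r w) [5,1,5,1] = 1 := by
    have key := S.tn
    show t * (n * (t * (n * 1))) = 1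
    simpa only [mul_assoc, mul_inv_rev, inv_inv, hm, hn, hc, ha, hw, mul_one] using key

  have e4 : ev (gg m n c a t r w) [3,5,2,6] = 1 := by
    have key := S.act
    show a * (t * (c * (t⁻¹ * 1))) = 1
    simpa only [mul_assoc, mul_inv_rev, inv_inv, hm, hn, hc, ha, hw, mul_one] using key

  have e5 : ev (gg m n c a t r w) [2,3,2,3] = 1 := by
    have key := (mul_inv_eq_one.mpr S.ca)
    show c * (a * (c * (a * 1))) = 1
    simpa only [mul_assoc, mul_inv_rev, inv_inv, hm, hn, hc, ha, hw, mul_one] using key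

  have e6 : ev (gg m n c a t r w) [7,0,8,0] = 1 := by
    have key := (mul_inv_eq_one.mpr S.rm)
    show r * (m * (r⁻¹ * (m * 1))) = 1
    simpa only [mul_assoc, mul_inv_rev, inv_inv, hm, hn, hc, ha, hw, mul_one] using key

  have e7 : ev (gg m n c a t r w) [7,1,8,1] = 1 := by
    have key := (mul_inv_eq_one.mpr S.rn)
    show r * (n * (r⁻¹ * (n * 1))) = 1
    simpa only [mul_assoc, mul_inv_rev, inv_inv, hm, hn, hc, ha, hw, mul_one] using key

  have e8 : ev (gg m n c a t r w) [7,2,8,2] = 1 := by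
    have key := (mul_inv_eq_one.mpr S.rc)
    show r * (c * (r⁻¹ * (c * 1))) = 1
    simpa only [mul_assoc, mul_inv_rev, inv_inv, hm, hn, hc, ha, hw, mul_one] using key

  have e9 : ev (gg m n c a t r w) [7,5,8,6] = 1 := by
    have key := (mul_inv_eq_one.mpr S.rt)
    show r * (t * (r⁻¹ * (t⁻¹ * 1))) = 1
    simpa only [mul_assoc, mul_inv_rev, inv_inv, hm, hn, hc, ha, hw, mul_one] using key

  have e10 : ev (gg m n c a t r w) [4,7,4,7] = 1 := by
    have key := S.wr
    show w * (r * (w * (r * 1))) = 1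
    simpa only [mul_assoc, mul_inv_rev, inv_inv, hm, hn, hc, ha, hw, mul_one] using key

  have e11 : ev (gg m n c a t r w) [4,2,4,2] = 1 := by
    have key := (mul_inv_eq_one.mpr S.wc)
    show w * (c * (w * (c * 1))) = 1
    simpa only [mul_assoc, mul_inv_rev, inv_inv, hm, hn, hc, ha, hw, mul_one] using key

  have e12 : ev (gg m n c a t r w) [4,3,4,3] = 1 := by
    have key := (mul_inv_eq_one.mpr S.wa)
    show w * (a * (w * (a * 1))) = 1
    simpa only [mul_assoc, mul_inv_rev, inv_inv, hm, hn, hc, ha, hw, mul_one] using key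

  have e13 : ev (gg m n c a t r w) [4,5,4,7,6] = 1 := by
    have key := S.wt
    show w * (t * (w * (r * (t⁻¹ * 1)))) = 1
    simpa only [mul_assoc, mul_inv_rev, inv_inv, hm, hn, hc, ha, hw, mul_one] using key

  have e14 : ev (gg m n c a t r w) [0,1,0,1,0,1] = 1 := by
    have key := S.mn3
    show m * (n * (m * (n * (m * (n * 1))))) = 1
    simpa only [mul_assoc, mul_inv_rev, inv_inv, hm, hn, hc, ha, hw, mul_one] using key

  have e15 : ev (gg m n c a t r w) [2,5,2,5,2,5] = 1 := by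
    have key := S.ct3
    show c * (t * (c * (t * (c * (t * 1))))) = 1
    simpa only [mul_assoc, mul_inv_rev, inv_inv, hm, hn, hc, ha, hw, mul_one] using key

  have e16 : ev (gg m n c a t r w) [2,1,2,1,2,1,2,1] = 1 := by
    have key := (mul_inv_eq_one.mpr S.ccn)
    show c * (n * (c * (n * (c * (n * (c * (n * 1))))))) = 1
    simpa only [mul_assoc, mul_inv_rev, inv_inv, hm, hn, hc, ha, hw, mul_one] using key

  have e17 : ev (gg m n c a t r w) [3,1,2,1,3,1,2,1] = 1 := by
    have key := (mul_inv_eq_one.mpr S.acn)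
    show a * (n * (c * (n * (a * (n * (c * (n * 1))))))) = 1
    simpa only [mul_assoc, mul_inv_rev, inv_inv, hm, hn, hc, ha, hw, mul_one] using key

  have e18 : ev (gg m n c a t r w) [2,0,2,0,2,0,2,0] = 1 := by
    have key := (mul_inv_eq_one.mpr S.ccm)
    show c * (m * (c * (m * (c * (m * (c * (m * 1))))))) = 1
    simpa only [mul_assoc, mul_inv_rev, inv_inv, hm, hn, hc, ha, hw, mul_one] using key

  have e19 : ev (gg m n c a t r w) [3,0,2,0,3,0,2,0] = 1 := by
    have key := (mul_inv_eq_one.mpr S.acm)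
    show a * (m * (c * (m * (a * (m * (c * (m * 1))))))) = 1
    simpa only [mul_assoc, mul_inv_rev, inv_inv, hm, hn, hc, ha, hw, mul_one] using key

  have e20 : ev (gg m n c a t r w) [4,1,2,1,4,3,0,3,0] = 1 := by
    have key := S.wcn
    show w * (n * (c * (n * (w * (a * (m * (a * (m * 1)))))))) = 1
    simpa only [mul_assoc, mul_inv_rev, inv_inv, hm, hn, hc, ha, hw, mul_one] using key

  have e21 : ev (gg m n c a t r w) [4,0,3,0,4,3,1,2,1] = 1 := by
    have key := S.wam
    show w * (m * (a * (m * (w * (a * (n * (c * (n * 1)))))))) = 1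
    simpa only [mul_assoc, mul_inv_rev, inv_inv, hm, hn, hc, ha, hw, mul_one] using key

  have e22 : ev (gg m n c a t r w) [4,1,3,1,4,2,0,2,3,0] = 1 := by
    have key := S.wan
    show w * (n * (a * (n * (w * (c * (m * (c * (a * (m * 1))))))))) = 1
    simpa only [mul_assoc, mul_inv_rev, inv_inv, hm, hn, hc, ha, hw, mul_one] using key

  have e23 : ev (gg m n c a t r w) [4,0,2,0,4,2,3,1,2,3,1] = 1 := by
    have key := S.wcm
    show w * (m * (c * (m * (w * (c * (a * (n * (c * (a * (n * 1)))))))))) = 1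
    simpa only [mul_assoc, mul_inv_rev, inv_inv, hm, hn, hc, ha, hw, mul_one] using key

  have e24 : ev (gg m n c a t r w) [2,0,1,0,2,0,1,0,2,0,1,0] = 1 := by
    have key := S.cmnm
    show c * (m * (n * (m * (c * (m * (n * (m * (c * (m * (n * (m * 1))))))))))) = 1
    simpa only [mul_assoc, mul_inv_rev, inv_inv, hm, hn, hc, ha, hw, mul_one] using key

  have e25 : ev (gg m n c a t r w) [4,1,0,4,0,1,4,0,1,4,1,0] = 1 := by
    have key := S.www
    show w * (n * (m * (w * (m * (n * (w * (m * (n * (w * (n * (m * 1))))))))))) = 1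
    simpa only [mul_assoc, mul_inv_rev, inv_inv, hm, hn, hc, ha, hw, mul_one] using key

  have e26 : ev (gg m n c a t r w) [1,2,1,0,2,0,1,2,1,0,2,0,2] = 1 := by
    have key := S.cncm
    show n * (c * (n * (m * (c * (m * (n * (c * (n * (m * (c * (m * (c * 1)))))))))))) = 1
    simpa only [mul_assoc, mul_inv_rev, inv_inv, hm, hn, hc, ha, hw, mul_one] using key

  have e27 : ev (gg m n c a t r w) [1,3,1,0,2,0,1,3,1,0,2,0,3] = 1 := by
    have key := S.ancm
    show n * (a * (n * (m * (c * (m * (n * (a * (n * (m * (c * (m * (a * 1)))))))))))) = 1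
    simpa only [mul_assoc, mul_inv_rev, inv_inv, hm, hn, hc, ha, hw, mul_one] using key

  have e28 : ev (gg m n c a t r w) [1,2,1,0,3,0,1,2,1,0,3,0,3] = 1 := by
    have key := S.cnam
    show n * (c * (n * (m * (a * (m * (n * (c * (n * (m * (a * (m * (a * 1)))))))))))) = 1
    simpa only [mul_assoc, mul_inv_rev, inv_inv, hm, hn, hc, ha, hw, mul_one] using key

  have e29 : ev (gg m n c a t r w) [1,3,1,0,3,0,1,3,1,0,3,0,2,3] = 1 := by
    have key := S.anam
    show n * (a * (n * (m * (a * (m * (n * (a * (n * (m * (a * (m * (c * (a * 1))))))))))))) = 1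
    simpa only [mul_assoc, mul_inv_rev, inv_inv, hm, hn, hc, ha, hw, mul_one] using key

  intro s hs
  simp only [rels, List.mem_cons, List.not_mem_nil, or_false] at hs
  rcases hs with rfl | rfl | rfl | rfl | rfl | rfl | rfl | rfl | rfl | rfl | rfl | rfl | rfl | rfl | rfl | rfl | rfl | rfl | rfl | rfl | rfl | rfl | rfl | rfl | rfl | rfl | rfl | rfl | rfl | rfl
  · exact e0
  · exact e1
  · exact e2
  · exact e3
  · exact e4
  · exact e5
  · exact e6
  · exact e7
  · exact e8
  · exact e9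
  · exact e10
  · exact e11
  · exact e12
  · exact e13
  · exact e14
  · exact e15
  · exact e16
  · exact e17
  · exact e18
  · exact e19
  · exact e20
  · exact e21
  · exact e22
  · exact e23
  · exact e24
  · exact e25
  · exact e26
  · exact e27
  · exact e28
  · exact e29

/-- the hypotheses of the certificate -/
theorem hyp (S : SRel m n c a t r w) :
    Hyp C (Subgroup.closure {m, n, c, a, t}) (gg m n c a t r w) := by
  refine hyp_of_checks _ _ C rels subw rfl ?_ (hrel S) ?_ (by decide +kernel)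
  · intro x hx
    have hx' : x < 9 := hx
    interval_cases x
    · exact ⟨by decide, S.m2⟩
    · exact ⟨by decide, S.n2⟩
    · exact ⟨by decide, S.c2⟩
    · exact ⟨by decide, S.a2⟩
    · exact ⟨by decide, S.w2⟩
    · exact ⟨by decide, mul_inv_cancel t⟩
    · exact ⟨by decide, inv_mul_cancel t⟩
    · exact ⟨by decide, mul_inv_cancel r⟩
    · exact ⟨by decide, inv_mul_cancel r⟩
  · intro s hs
    simp only [subw, List.mem_cons, List.not_mem_nil, or_false] at hs
    rcases hs with rfl | rfl | rfl | rfl | rfl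
    · show m * 1 ∈ _
      rw [mul_one]; exact Subgroup.subset_closure (by simp)
    · show n * 1 ∈ _
      rw [mul_one]; exact Subgroup.subset_closure (by simp)
    · show c * 1 ∈ _
      rw [mul_one]; exact Subgroup.subset_closure (by simp)
    · show a * 1 ∈ _
      rw [mul_one]; exact Subgroup.subset_closure (by simp)
    · show t * 1 ∈ _
      rw [mul_one]; exact Subgroup.subset_closure (by simp)


theorem k_bb : powOK [Tb] 2 972 = true := by decide +kernel

theorem k_ff : powOK [Tf] 2 972 = true := by decide +kernel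

theorem k_gg : powOK [Tg] 2 972 = true := by decide +kernel

theorem k_uu : powOK [Tu] 2 972 = true := by decide +kernel

theorem k_ab : powOK [Ta, Tb] 5 972 = true := by decide +kernel

theorem k_bc : powOK [Tb, Tc] 3 972 = true := by decide +kernel

theorem k_cu : powOK [Tc, Tu] 8 972 = true := by decide +kernel

theorem k_bf : powOK [Tb, Tf] 3 972 = true := by decide +kernel

theorem k_fg : powOK [Tf, Tg] 4 972 = true := by decide +kernel

theorem k_gb : powOK [Tg, Tb] 3 972 = true := by decide +kernel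

theorem k_abcf : powOK [Ta, Tb, Tc, Tf] 5 972 = true := by decide +kernel

theorem k_bfg : powOK [Tb, Tf, Tg] 5 972 = true := by decide +kernel

theorem k_ac : eqOK [Ta, Tc] [Tc, Ta] 972 = true := by decide +kernel

theorem k_au : eqOK [Ta, Tu] [Tu, Ta] 972 = true := by decide +kernel

theorem k_af : eqOK [Ta, Tf] [Tf, Ta] 972 = true := by decide +kernel

theorem k_ag : eqOK [Ta, Tg] [Tg, Ta] 972 = true := by decide +kernel

theorem k_bu : eqOK [Tb, Tu] [Tu, Tb] 972 = true := by decide +kernel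

theorem k_cf : eqOK [Tc, Tf] [Tf, Tc] 972 = true := by decide +kernel

theorem k_cg : eqOK [Tc, Tg] [Tg, Tc] 972 = true := by decide +kernel

theorem k_uf : eqOK [Tu, Tf] [Tf, Tu] 972 = true := by decide +kernel

theorem k_ug : eqOK [Tu, Tg] [Tg, Tu] 972 = true := by decide +kernel

theorem k_wm : eqOK [Tm] [Tf, Ta, Tb, Tc, Ta, Tb, Tg, Tb, Tc, Tb, Ta, Tb, Tf, Ta] 972 = true := by decide +kernel

theorem k_wn : eqOK [Tn] [Ta, Tb, Tf, Tg, Tb, Tc, Ta, Tb, Tg, Tf, Tb, Ta] 972 = true := by decide +kernel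

theorem k_wt : eqOK [Tt] [Tb, Ta, Tb, Tc, Ta, Tb] 972 = true := by decide +kernel

theorem k_ww : eqOK [Tw] [Tf, Tb, Tg, Tf, Tb, Tu, Tc, Tu, Tc, Tb, Tf, Tg, Tb, Tc, Tu, Tc, Ta, Tb, Tg, Tc, Tb, Ta, Tb, Tf, Tc, Tb] 972 = true := by decide +kernel

theorem k_wr : eqOK [Tr] [Tc, Tb, Tu, Tc, Tb, Ta, Tb, Ta, Tu, Tc, Tb, Tu, Tc, Tu, Tc, Tb, Ta, Tb, Ta] 972 = true := by decide +kernel

theorem k_acu : eqOK [Ta] [Tc, Tu, Tc, Tu, Tc, Tu, Tc, Tu] 972 = true := by decide +kernel

theorem k_afg : eqOK [Ta] [Tf, Tg, Tf, Tg] 972 = true := by decide +kernel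

theorem k_bcucu : eqOK [Tr, Tr] [Tb, Tc, Tu, Tc, Tu, Tb, Tc, Tu, Tc, Tu, Tb, Tc, Tu, Tc, Tu, Tb, Tc, Tu, Tc, Tu, Tb, Tc, Tu, Tc, Tu] 972 = true := by decide +kernel

theorem k_ue : eqOK [Tm, Tw, Tc, Tm, Tc, Tn, Tt, Tu] [Tw, Tm, Tw, Tc, Tm, Tc, Tn, Tt] 972 = true := by decide +kernel

/-- the relations of `Suz` which do not involve the fifth letter, and the letters of the amalgam in terms of the
letters of `Suz` -/
structure Out {X : Type*} [Group X] (m n c a t r w b f g u : X) : Prop where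
  bb : b * b = 1
  ff : f * f = 1
  gg : g * g = 1
  uu : u * u = 1
  ab : (a * b) ^ 5 = 1
  bc : (b * c) ^ 3 = 1
  cu : (c * u) ^ 8 = 1
  bf : (b * f) ^ 3 = 1
  fg : (f * g) ^ 4 = 1
  gb : (g * b) ^ 3 = 1
  abcf : (a * b * c * f) ^ 5 = 1
  bfg : (b * f * g) ^ 5 = 1
  ac : a * c = c * a
  au : a * u = u * a
  af : a * f = f * a
  ag : a * g = g * a
  bu : b * u = u * b
  cf : c * f = f * c
  cg : c * g = g * c
  uf : u * f = f * u
  ug : u * g = g * u
  acu : a = (c * u) ^ 4
  afg : a = (f * g) ^ 2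
  bcucu : r * r = (b * c * u * c * u) ^ 5
  ue : m * w * c * m * c * n * t * u = w * m * w * c * m * c * n * t
  wm : m = f * a * b * c * a * b * g * b * c * b * a * b * f * a
  wn : n = a * b * f * g * b * c * a * b * g * f * b * a
  wt : t = b * a * b * c * a * b
  ww : w = f * b * g * f * b * u * c * u * c * b * f * g * b * c * u * c * a * b * g * c * b * a * b * f * c * b
  wr : r = c * b * u * c * b * a * b * a * u * c * b * u * c * u * c * b * a * b * a

/-- **Output of the coset table of `⟨L, ρ, w⟩` over `L`.** -/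
theorem out (S : SRel m n c a t r w)
    (core : ∀ N : Subgroup X, N ≤ Subgroup.closure {m, n, c, a, t} →
      (∀ x ∈ ({m, n, c, a, t, r, w} : Set X), ∀ y ∈ N, x * y * x⁻¹ ∈ N) → N = ⊥) :
    Out m n c a t r w (m * n * m * c * m * n * m) (n * c * n * c) (c * m * a * m) (c * m * c * n * c * w * n * r * w * r⁻¹ * n * w * c * n * c * m * c) := by
  have hyp := hyp S
  have ht := trans_isTrans C (gg m n c a t r w)
  set H : Subgroup X := Subgroup.closure {m, n, c, a, t} with hH
  set v : ℕ → X := fun j => trans C (gg m n c a t r w) (lv LV j) with hv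
  have hτ : 33554430 < C.mask := by decide
  have Am : Act H v 972 Tm (m) :=
    (act_of_colOK hyp ht hall hτ (by decide) ok_Tm).congr (by show m * 1 = _; rw [mul_one])
  have An : Act H v 972 Tn (n) :=
    (act_of_colOK hyp ht hall hτ (by decide) ok_Tn).congr (by show n * 1 = _; rw [mul_one])
  have Ac : Act H v 972 Tc (c) :=
    (act_of_colOK hyp ht hall hτ (by decide) ok_Tc).congr (by show c * 1 = _; rw [mul_one])
  have Aa : Act H v 972 Ta (a) :=
    (act_of_colOK hyp ht hall hτ (by decide) ok_Ta).congr (by show a * 1 = _; rw [mul_one])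
  have Aw : Act H v 972 Tw (w) :=
    (act_of_colOK hyp ht hall hτ (by decide) ok_Tw).congr (by show w * 1 = _; rw [mul_one])
  have At : Act H v 972 Tt (t) :=
    (act_of_colOK hyp ht hall hτ (by decide) ok_Tt).congr (by show t * 1 = _; rw [mul_one])
  have Ati : Act H v 972 Tti (t⁻¹) :=
    (act_of_colOK hyp ht hall hτ (by decide) ok_Tti).congr (by show t⁻¹ * 1 = _; rw [mul_one])
  have Ar : Act H v 972 Tr (r) :=
    (act_of_colOK hyp ht hall hτ (by decide) ok_Tr).congr (by show r * 1 = _; rw [mul_one])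
  have Ari : Act H v 972 Tri (r⁻¹) :=
    (act_of_colOK hyp ht hall hτ (by decide) ok_Tri).congr (by show r⁻¹ * 1 = _; rw [mul_one])
  have Ab : Act H v 972 Tb (m * n * m * c * m * n * m) :=
    (act_of_sameOK (as := [m, n, m, c, m, n, m]) (.cons Am (.cons An (.cons Am (.cons Ac (.cons Am (.cons An (.cons Am .nil))))))) ok_Tb).congr
      (by simp only [List.prod_cons, List.prod_nil, mul_one, mul_assoc])
  have Af : Act H v 972 Tf (n * c * n * c) :=
    (act_of_sameOK (as := [n, c, n, c]) (.cons An (.cons Ac (.cons An (.cons Ac .nil)))) ok_Tf).congr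
      (by simp only [List.prod_cons, List.prod_nil, mul_one, mul_assoc])
  have Ag : Act H v 972 Tg (c * m * a * m) :=
    (act_of_sameOK (as := [c, m, a, m]) (.cons Ac (.cons Am (.cons Aa (.cons Am .nil)))) ok_Tg).congr
      (by simp only [List.prod_cons, List.prod_nil, mul_one, mul_assoc])
  have Au : Act H v 972 Tu (c * m * c * n * c * w * n * r * w * r⁻¹ * n * w * c * n * c * m * c) :=
    (act_of_sameOK (as := [c, m, c, n, c, w, n, r, w, r⁻¹, n, w, c, n, c, m, c]) (.cons Ac (.cons Am (.cons Ac (.cons An (.cons Ac (.cons Aw (.cons An (.cons Ar (.cons Aw (.cons Ari (.cons An (.cons Aw (.cons Ac (.cons An (.cons Ac (.cons Am (.cons Ac .nil))))))))))))))))) ok_Tu).congr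
      (by simp only [List.prod_cons, List.prod_nil, mul_one, mul_assoc])
  generalize m * n * m * c * m * n * m = b at Ab ⊢
  generalize n * c * n * c = f at Af ⊢
  generalize c * m * a * m = g at Ag ⊢
  generalize c * m * c * n * c * w * n * r * w * r⁻¹ * n * w * c * n * c * m * c = u at Au ⊢
  have hLV : lv LV 0 = 0 := by decide +kernel
  have h0 : v 0 = 1 := by
    show trans C (gg m n c a t r w) (lv LV 0) = 1
    rw [hLV]
    exact ht.1
  have hS : ∀ x ∈ ({m, n, c, a, t, r, w} : Set X), ∃ T, Act H v 972 T x := by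
    rintro x (rfl | rfl | rfl | rfl | rfl | rfl | rfl)
    exacts [⟨_, Am⟩, ⟨_, An⟩, ⟨_, Ac⟩, ⟨_, Aa⟩, ⟨_, At⟩, ⟨_, Ar⟩, ⟨_, Aw⟩]
  have hS' : ∀ x ∈ ({m, n, c, a, t, r, w} : Set X), ∃ T, Act H v 972 T x⁻¹ := by
    rintro x (rfl | rfl | rfl | rfl | rfl | rfl | rfl)
    · exact ⟨_, Am.congr (inv_eq_of_mul_eq_one_right S.m2).symm⟩
    · exact ⟨_, An.congr (inv_eq_of_mul_eq_one_right S.n2).symm⟩
    · exact ⟨_, Ac.congr (inv_eq_of_mul_eq_one_right S.c2).symm⟩
    · exact ⟨_, Aa.congr (inv_eq_of_mul_eq_one_right S.a2).symm⟩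
    · exact ⟨_, Ati⟩
    · exact ⟨_, Ari⟩
    · exact ⟨_, Aw.congr (inv_eq_of_mul_eq_one_right S.w2).symm⟩
  have one : ∀ x : X, Inn H v 972 x → x = 1 := fun x hx => eq_one_of_inn h0 (by decide) hS hS' core hx
  have f_bb := one _ (inn_of_powOK (as := [b]) (.cons Ab .nil) k_bb)
  simp only [List.prod_cons, List.prod_nil, mul_one, ← mul_assoc, pow_two] at f_bb
  have f_ff := one _ (inn_of_powOK (as := [f]) (.cons Af .nil) k_ff)
  simp only [List.prod_cons, List.prod_nil, mul_one, ← mul_assoc, pow_two] at f_ff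
  have f_gg := one _ (inn_of_powOK (as := [g]) (.cons Ag .nil) k_gg)
  simp only [List.prod_cons, List.prod_nil, mul_one, ← mul_assoc, pow_two] at f_gg
  have f_uu := one _ (inn_of_powOK (as := [u]) (.cons Au .nil) k_uu)
  simp only [List.prod_cons, List.prod_nil, mul_one, ← mul_assoc, pow_two] at f_uu
  have f_ab := one _ (inn_of_powOK (as := [a, b]) (.cons Aa (.cons Ab .nil)) k_ab)
  simp only [List.prod_cons, List.prod_nil, mul_one, ← mul_assoc] at f_ab
  have f_bc := one _ (inn_of_powOK (as := [b, c]) (.cons Ab (.cons Ac .nil)) k_bc)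
  simp only [List.prod_cons, List.prod_nil, mul_one, ← mul_assoc] at f_bc
  have f_cu := one _ (inn_of_powOK (as := [c, u]) (.cons Ac (.cons Au .nil)) k_cu)
  simp only [List.prod_cons, List.prod_nil, mul_one, ← mul_assoc] at f_cu
  have f_bf := one _ (inn_of_powOK (as := [b, f]) (.cons Ab (.cons Af .nil)) k_bf)
  simp only [List.prod_cons, List.prod_nil, mul_one, ← mul_assoc] at f_bf
  have f_fg := one _ (inn_of_powOK (as := [f, g]) (.cons Af (.cons Ag .nil)) k_fg)
  simp only [List.prod_cons, List.prod_nil, mul_one, ← mul_assoc] at f_fg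
  have f_gb := one _ (inn_of_powOK (as := [g, b]) (.cons Ag (.cons Ab .nil)) k_gb)
  simp only [List.prod_cons, List.prod_nil, mul_one, ← mul_assoc] at f_gb
  have f_abcf := one _ (inn_of_powOK (as := [a, b, c, f]) (.cons Aa (.cons Ab (.cons Ac (.cons Af .nil)))) k_abcf)
  simp only [List.prod_cons, List.prod_nil, mul_one, ← mul_assoc] at f_abcf
  have f_bfg := one _ (inn_of_powOK (as := [b, f, g]) (.cons Ab (.cons Af (.cons Ag .nil))) k_bfg)
  simp only [List.prod_cons, List.prod_nil, mul_one, ← mul_assoc] at f_bfg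
  have f_ac := mul_inv_eq_one.mp (one _ (inn_of_eqOK (as := [a, c]) (bs := [c, a]) (.cons Aa (.cons Ac .nil))
    (.cons Ac (.cons Aa .nil)) k_ac))
  simp only [List.prod_cons, List.prod_nil, mul_one, ← mul_assoc] at f_ac
  have f_au := mul_inv_eq_one.mp (one _ (inn_of_eqOK (as := [a, u]) (bs := [u, a]) (.cons Aa (.cons Au .nil))
    (.cons Au (.cons Aa .nil)) k_au))
  simp only [List.prod_cons, List.prod_nil, mul_one, ← mul_assoc] at f_au
  have f_af := mul_inv_eq_one.mp (one _ (inn_of_eqOK (as := [a, f]) (bs := [f, a]) (.cons Aa (.cons Af .nil))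
    (.cons Af (.cons Aa .nil)) k_af))
  simp only [List.prod_cons, List.prod_nil, mul_one, ← mul_assoc] at f_af
  have f_ag := mul_inv_eq_one.mp (one _ (inn_of_eqOK (as := [a, g]) (bs := [g, a]) (.cons Aa (.cons Ag .nil))
    (.cons Ag (.cons Aa .nil)) k_ag))
  simp only [List.prod_cons, List.prod_nil, mul_one, ← mul_assoc] at f_ag
  have f_bu := mul_inv_eq_one.mp (one _ (inn_of_eqOK (as := [b, u]) (bs := [u, b]) (.cons Ab (.cons Au .nil))
    (.cons Au (.cons Ab .nil)) k_bu))
  simp only [List.prod_cons, List.prod_nil, mul_one, ← mul_assoc] at f_bu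
  have f_cf := mul_inv_eq_one.mp (one _ (inn_of_eqOK (as := [c, f]) (bs := [f, c]) (.cons Ac (.cons Af .nil))
    (.cons Af (.cons Ac .nil)) k_cf))
  simp only [List.prod_cons, List.prod_nil, mul_one, ← mul_assoc] at f_cf
  have f_cg := mul_inv_eq_one.mp (one _ (inn_of_eqOK (as := [c, g]) (bs := [g, c]) (.cons Ac (.cons Ag .nil))
    (.cons Ag (.cons Ac .nil)) k_cg))
  simp only [List.prod_cons, List.prod_nil, mul_one, ← mul_assoc] at f_cg
  have f_uf := mul_inv_eq_one.mp (one _ (inn_of_eqOK (as := [u, f]) (bs := [f, u]) (.cons Au (.cons Af .nil))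
    (.cons Af (.cons Au .nil)) k_uf))
  simp only [List.prod_cons, List.prod_nil, mul_one, ← mul_assoc] at f_uf
  have f_ug := mul_inv_eq_one.mp (one _ (inn_of_eqOK (as := [u, g]) (bs := [g, u]) (.cons Au (.cons Ag .nil))
    (.cons Ag (.cons Au .nil)) k_ug))
  simp only [List.prod_cons, List.prod_nil, mul_one, ← mul_assoc] at f_ug
  have f_wm := mul_inv_eq_one.mp (one _ (inn_of_eqOK (as := [m]) (bs := [f, a, b, c, a, b, g, b, c, b, a, b, f, a]) (.cons Am .nil)
    (.cons Af (.cons Aa (.cons Ab (.cons Ac (.cons Aa (.cons Ab (.cons Ag (.cons Ab (.cons Ac (.cons Ab (.cons Aa (.cons Ab (.cons Af (.cons Aa .nil)))))))))))))) k_wm))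
  simp only [List.prod_cons, List.prod_nil, mul_one, ← mul_assoc] at f_wm
  have f_wn := mul_inv_eq_one.mp (one _ (inn_of_eqOK (as := [n]) (bs := [a, b, f, g, b, c, a, b, g, f, b, a]) (.cons An .nil)
    (.cons Aa (.cons Ab (.cons Af (.cons Ag (.cons Ab (.cons Ac (.cons Aa (.cons Ab (.cons Ag (.cons Af (.cons Ab (.cons Aa .nil)))))))))))) k_wn))
  simp only [List.prod_cons, List.prod_nil, mul_one, ← mul_assoc] at f_wn
  have f_wt := mul_inv_eq_one.mp (one _ (inn_of_eqOK (as := [t]) (bs := [b, a, b, c, a, b]) (.cons At .nil)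
    (.cons Ab (.cons Aa (.cons Ab (.cons Ac (.cons Aa (.cons Ab .nil)))))) k_wt))
  simp only [List.prod_cons, List.prod_nil, mul_one, ← mul_assoc] at f_wt
  have f_ww := mul_inv_eq_one.mp (one _ (inn_of_eqOK (as := [w]) (bs := [f, b, g, f, b, u, c, u, c, b, f, g, b, c, u, c, a, b, g, c, b, a, b, f, c, b]) (.cons Aw .nil)
    (.cons Af (.cons Ab (.cons Ag (.cons Af (.cons Ab (.cons Au (.cons Ac (.cons Au (.cons Ac (.cons Ab (.cons Af (.cons Ag (.cons Ab (.cons Ac (.cons Au (.cons Ac (.cons Aa (.cons Ab (.cons Ag (.cons Ac (.cons Ab (.cons Aa (.cons Ab (.cons Af (.cons Ac (.cons Ab .nil)))))))))))))))))))))))))) k_ww))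
  simp only [List.prod_cons, List.prod_nil, mul_one, ← mul_assoc] at f_ww
  have f_wr := mul_inv_eq_one.mp (one _ (inn_of_eqOK (as := [r]) (bs := [c, b, u, c, b, a, b, a, u, c, b, u, c, u, c, b, a, b, a]) (.cons Ar .nil)
    (.cons Ac (.cons Ab (.cons Au (.cons Ac (.cons Ab (.cons Aa (.cons Ab (.cons Aa (.cons Au (.cons Ac (.cons Ab (.cons Au (.cons Ac (.cons Au (.cons Ac (.cons Ab (.cons Aa (.cons Ab (.cons Aa .nil))))))))))))))))))) k_wr))
  simp only [List.prod_cons, List.prod_nil, mul_one, ← mul_assoc] at f_wr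
  have f_acu := mul_inv_eq_one.mp (one _ (inn_of_eqOK (as := [a]) (bs := [c, u, c, u, c, u, c, u]) (.cons Aa .nil)
    (.cons Ac (.cons Au (.cons Ac (.cons Au (.cons Ac (.cons Au (.cons Ac (.cons Au .nil)))))))) k_acu))
  simp only [List.prod_cons, List.prod_nil, mul_one, ← mul_assoc] at f_acu
  have f_afg := mul_inv_eq_one.mp (one _ (inn_of_eqOK (as := [a]) (bs := [f, g, f, g]) (.cons Aa .nil)
    (.cons Af (.cons Ag (.cons Af (.cons Ag .nil)))) k_afg))
  simp only [List.prod_cons, List.prod_nil, mul_one, ← mul_assoc] at f_afg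
  have f_bcucu := mul_inv_eq_one.mp (one _ (inn_of_eqOK (as := [r, r]) (bs := [b, c, u, c, u, b, c, u, c, u, b, c, u, c, u, b, c, u, c, u, b, c, u, c, u]) (.cons Ar (.cons Ar .nil))
    (.cons Ab (.cons Ac (.cons Au (.cons Ac (.cons Au (.cons Ab (.cons Ac (.cons Au (.cons Ac (.cons Au (.cons Ab (.cons Ac (.cons Au (.cons Ac (.cons Au (.cons Ab (.cons Ac (.cons Au (.cons Ac (.cons Au (.cons Ab (.cons Ac (.cons Au (.cons Ac (.cons Au .nil))))))))))))))))))))))))) k_bcucu))
  simp only [List.prod_cons, List.prod_nil, mul_one, ← mul_assoc] at f_bcucu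
  have f_ue := mul_inv_eq_one.mp (one _ (inn_of_eqOK (as := [m, w, c, m, c, n, t, u]) (bs := [w, m, w, c, m, c, n, t]) (.cons Am (.cons Aw (.cons Ac (.cons Am (.cons Ac (.cons An (.cons At (.cons Au .nil))))))))
    (.cons Aw (.cons Am (.cons Aw (.cons Ac (.cons Am (.cons Ac (.cons An (.cons At .nil)))))))) k_ue))
  simp only [List.prod_cons, List.prod_nil, mul_one, ← mul_assoc] at f_ue
  have g_acu : a = (c * u) ^ 4 := by rw [f_acu]; simp only [pow_succ, pow_zero, one_mul, ← mul_assoc]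
  have g_afg : a = (f * g) ^ 2 := by rw [f_afg]; simp only [pow_succ, pow_zero, one_mul, ← mul_assoc]
  have g_bcucu : r * r = (b * c * u * c * u) ^ 5 := by
    rw [f_bcucu]; simp only [pow_succ, pow_zero, one_mul, ← mul_assoc]
  exact ⟨f_bb, f_ff, f_gg, f_uu, f_ab, f_bc, f_cu, f_bf, f_fg, f_gb, f_abcf, f_bfg, f_ac, f_au, f_af, f_ag, f_bu, f_cf, f_cg, f_uf, f_ug, g_acu, g_afg, g_bcucu, f_ue, f_wm, f_wn, f_wt, f_ww, f_wr⟩

end Cfsg.Agent.StdLThreeFour.SRelOut
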